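import Cfsg.Agent.Cam.Spor.Lem_m3
import Cfsg.Agent.SignalizersComponents.Components
import Cfsg.Agent.SignalizersComponents.ComponentExists
import Cfsg.Agent.H786.KW.Count_m3
import Cfsg.Agent.Involutions.BaerSuzuki
import Cfsg.Agent.SolvableStructure.HallConverse
import Cfsg.Agent.Cam.Ex.SL2
import Cfsg.Agent.DS.Cl.Inv_m3
import Cfsg.Prelude.Def_LieTypeChar
import Cfsg.Agent.KFacts.RgdLieCharP
import Cfsg.Agent.ClassicalGeometry.OrthSemiForms
import Cfsg.Agent.DS.Cl.Vec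
import Cfsg.Agent.S0144
import Cfsg.Agent.S0249
import Cfsg.Agent.S0283
import Cfsg.Agent.Cam.Ex.Basic
import Cfsg.Agent.S0244
import Cfsg.Agent.S0270
import Cfsg.Agent.LieClassical.OrthThreeOmega
import Cfsg.Agent.LieClassical.OrthFourMinus
import Cfsg.Agent.LieClassical.OrthFourPlus
import Cfsg.Agent.H76.PermFour
import Cfsg.Agent.S0204
import Cfsg.Agent.H931.KC.Alcove
import Cfsg.Agent.ChevFast.E7
import Cfsg.Agent.Lib.ListFast
import Cfsg.Agent.FastGrp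
import Cfsg.Agent.Prune
set_option linter.all false

section
prune_inst 0x7ff0a8f80bb821dedfff7e7fa698cffc09901fffe6dff9433fe021ff0b9f030009c52b8d09e000fe0ec6601410b87813b97ec67fe06bd87ffffd1ff41ffbee0fa5e6350051d080240f3c0ff603f0778e7f3fffffffffffffffffffffffffffbeffbdffffffff

-- part: Cam/Red/Basic
section
set_option linter.all false
open scoped Cfsg.Agent.FastGrp

/-!
# S3689, S3690: the reduction, part 1 (helper53)

Calculus of `cj`; `redNorm : RedNorm` (R1) and `redSolv : RedSolv` (R2).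
-/

set_option autoImplicit false

namespace Cfsg.Agent.Cam.Rd

open Subgroup Cfsg.Agent.Cam Cfsg.Agent.Cam.Spor

section cj
variable {G : Type} [Group G]

theorem cj_mul (a b : G) (Y : Subgroup G) : cj (a * b) Y = cj b (cj a Y) := by
  ext x
  simp only [mem_cj, mul_inv_rev, mul_assoc]

theorem cj_one (Y : Subgroup G) : cj (1 : G) Y = Y := by
  ext x
  simp [mem_cj]

theorem cj_inv_cj (a : G) (Y : Subgroup G) : cj a⁻¹ (cj a Y) = Y := by
  rw [← cj_mul, mul_inv_cancel, cj_one]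

theorem cj_cj_inv (a : G) (Y : Subgroup G) : cj a (cj a⁻¹ Y) = Y := by
  rw [← cj_mul, inv_mul_cancel, cj_one]

theorem cj_mono (a : G) {Y Z : Subgroup G} (h : Y ≤ Z) : cj a Y ≤ cj a Z := fun _ hx => mem_cj.2 (h (mem_cj.1 hx))

theorem mem_cj_inv {a x : G} {Y : Subgroup G} : x ∈ cj a⁻¹ Y ↔ a⁻¹ * x * a ∈ Y := by
  rw [mem_cj, inv_inv]

theorem conj_mem_cj' {a y : G} {Y : Subgroup G} (hy : y ∈ Y) : a⁻¹ * y * a ∈ cj a Y := by
  rw [mem_cj]
  simpa [mul_assoc] using hy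

theorem conj_mem_cj_inv {a y : G} {Y : Subgroup G} (hy : y ∈ Y) : a * y * a⁻¹ ∈ cj a⁻¹ Y := by
  rw [mem_cj]
  simpa [mul_assoc] using hy

theorem cj_eq_iff {a : G} {Y : Subgroup G} : cj a Y = Y ↔ a ∈ normalizer (Y : Set G) := by
  rw [mem_normalizer_iff]
  constructor
  · intro h y
    rw [← mem_cj, h]
  · intro h
    ext y
    rw [mem_cj, ← h]

theorem cj_inf (a : G) (Y Z : Subgroup G) : cj a (Y ⊓ Z) = cj a Y ⊓ cj a Z := by
  ext x
  simp only [mem_cj, mem_inf]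

theorem cj_sSup_le {a : G} {s : Set (Subgroup G)} {Z : Subgroup G} (h : ∀ T ∈ s, cj a T ≤ Z) : cj a (sSup s) ≤ Z := by
  have : sSup s ≤ cj a⁻¹ Z := sSup_le fun T hT => by
    rw [← cj_inv_cj a T]
    exact cj_mono _ (h T hT)
  rw [← cj_cj_inv a Z]
  exact cj_mono _ this

theorem normalizer_cj (a : G) (Y : Subgroup G) :
    normalizer ((cj a Y : Subgroup G) : Set G) = cj a (normalizer (Y : Set G)) := by
  ext x
  rw [mem_cj, ← cj_eq_iff, ← cj_eq_iff, cj_mul, cj_mul]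
  constructor
  · intro h
    rw [h, cj_inv_cj]
  · intro h
    have := congrArg (cj a) h
    rwa [cj_cj_inv] at this

theorem centralizer_cj (a : G) (Y : Subgroup G) :
    centralizer ((cj a Y : Subgroup G) : Set G) = cj a (centralizer (Y : Set G)) := by
  ext x
  rw [mem_cj, mem_centralizer_iff, mem_centralizer_iff]
  constructor
  · intro h y hy
    have := h _ (conj_mem_cj' (a := a) hy)
    calc y * (a * x * a⁻¹) = a * (a⁻¹ * y * a * x) * a⁻¹ := by group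
      _ = _ := by rw [this]; group
  · intro h y hy
    have := h _ (mem_cj.1 hy)
    calc y * x = a⁻¹ * (a * y * a⁻¹ * (a * x * a⁻¹)) * a := by group
      _ = _ := by rw [this]; group

/-- `Y ≃ a⁻¹ Y a` -/
noncomputable def cjEquiv (a : G) (Y : Subgroup G) : Y ≃* cj a Y :=
  Y.equivMapOfInjective (MulAut.conj a⁻¹).toMonoidHom (MulAut.conj a⁻¹).injective

theorem card_cj (a : G) (Y : Subgroup G) : Nat.card (cj a Y) = Nat.card Y :=
  (Nat.card_congr (cjEquiv a Y).toEquiv).symm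

theorem simple_cj (a : G) {Y : Subgroup G} (h : IsSimpleGroup Y) : IsSimpleGroup (cj a Y) :=
  (MulEquiv.isSimpleGroup_congr (cjEquiv a Y)).1 h

theorem noncomm_of_equiv {U V : Type*} [Group U] [Group V] (e : U ≃* V) (h : ¬ IsMulCommutative U) :
    ¬ IsMulCommutative V := fun h' =>
  h ⟨⟨fun a b => e.injective (by rw [map_mul, map_mul]; exact h'.is_comm.comm _ _)⟩⟩

theorem noncomm_cj (a : G) {Y : Subgroup G} (h : ¬ IsMulCommutative Y) : ¬ IsMulCommutative (cj a Y) :=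
  noncomm_of_equiv (cjEquiv a Y) h

theorem cj_normal {S : Subgroup G} (hS : S.Normal) (a : G) : cj a S = S :=
  cj_eq_iff.2 (by rw [normalizer_eq_top]; exact mem_top a)

theorem cj_N0 (H : Subgroup G) (g : G) : cj g (N0 H g) = H ⊓ cj g H := by
  rw [N0, cj_inf, cj_cj_inv, inf_comm]

theorem cj_N0_le (H : Subgroup G) (g : G) : cj g (N0 H g) ≤ H := by
  rw [cj_N0]
  exact inf_le_left

theorem N0_le (H : Subgroup G) (g : G) : N0 H g ≤ H := inf_le_left

/-- transport of subnormality along conjugation -/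
theorem subnormal_cj (a : G) {T N : Subgroup G} (h : (T.subgroupOf N).IsSubnormal) :
    ((cj a T).subgroupOf (cj a N)).IsSubnormal := by
  have h1 := h.map (f := (cjEquiv a N).toMonoidHom) (cjEquiv a N).surjective
  convert h1 using 1
  ext ⟨x, hx⟩
  rw [mem_subgroupOf, mem_map]
  constructor
  · intro h2
    refine ⟨⟨a * x * a⁻¹, mem_cj.1 hx⟩, mem_subgroupOf.2 (mem_cj.1 h2), Subtype.ext ?_⟩
    change a⁻¹ * (a * x * a⁻¹) * a⁻¹⁻¹ = x
    group
  · rintro ⟨y, hy, e⟩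
    have e' : a⁻¹ * (y : G) * a⁻¹⁻¹ = x := congrArg Subtype.val e
    change x ∈ cj a T
    rw [← e', inv_inv]
    exact conj_mem_cj' (mem_subgroupOf.1 hy)

end cj

/-- [R1] -/
theorem redNorm : RedNorm := by
  intro G _ _ S H c Y hY hS hH
  rcases eq_or_lt_of_le hH with h | h
  · exact h.symm
  exfalso
  have hn : Y.Normal := normalizer_eq_top_iff.1 (c.coatom.2 _ h)
  have := c.normal
  rcases eq_bot_or_eq (T := S) (N := Y ⊓ S) c.simple inf_le_right
    (fun t ht n hn' => mem_inf.2 ⟨hn.conj_mem _ hn'.1 t, S.mul_mem (S.mul_mem ht hn'.2) (S.inv_mem ht)⟩) with h1 | h1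
  · apply hY
    rw [eq_bot_iff, ← c.cent, ← commutator_eq_bot_iff_le_centralizer, eq_bot_iff, ← h1]
    exact commutator_le_inf Y S
  · exact hS (h1.ge.trans inf_le_left)

section conf
variable {G : Type} [Group G] [Finite G] {S H : Subgroup G} {g : G}

omit [Finite G] in
theorem H_ne_bot (c : Conf S H g) : H ≠ ⊥ := fun h => c.ne_bot (eq_bot_iff.2 (h ▸ N0_le H g))

theorem H_norm_N0 (c : Conf S H g) : H ≤ normalizer ((N0 H g : Subgroup G) : Set G) := fun h hh =>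
  mem_normalizer_of fun n hn => c.nrm h hh n hn

theorem cj_N0_eq (c : Conf S H g) {h : G} (hh : h ∈ H) : cj h (N0 H g) = N0 H g := cj_eq_iff.2 (H_norm_N0 c hh)

theorem norm_eq (c : Conf S H g) {Y : Subgroup G} (hY : Y ≠ ⊥) (hle : Y ≤ H) (hH : H ≤ normalizer (Y : Set G)) :
    normalizer (Y : Set G) = H :=
  redNorm G S H c.toSetup Y hY (fun h => c.not_le (h.trans hle)) hH

theorem cj_ne (c : Conf S H g) : cj g H ≠ H := fun h =>
  c.not_mem (norm_eq c (H_ne_bot c) le_rfl le_normalizer ▸ cj_eq_iff.1 h)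

/-- a non-trivial normal subgroup `Y` of `H` is not contained in `g⁻¹ Y g` -/
theorem not_le_cj (c : Conf S H g) {Y : Subgroup G} (hY : Y ≠ ⊥) (hle : Y ≤ H) (hH : H ≤ normalizer (Y : Set G)) :
    ¬ Y ≤ cj g Y := by
  intro h
  have h1 : Y = cj g Y := eq_of_le_of_card_ge h (card_cj g Y).le
  have h2 := norm_eq c hY hle hH
  apply cj_ne c
  rw [← h2, ← normalizer_cj, ← h1]

theorem pgroup_eq_bot (c : Conf S H g) {p : ℕ} [Fact p.Prime] {Y : Subgroup G} (hY : Y ≤ N0 H g)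
    (hn : N0 H g ≤ normalizer (Y : Set G)) (hp : IsPGroup p Y) : Y = ⊥ := by
  obtain ⟨P, hP⟩ := Set.Finite.exists_maximal
    (s := {Y : Subgroup G | Y ≤ N0 H g ∧ N0 H g ≤ normalizer (Y : Set G) ∧ IsPGroup p Y}) (Set.toFinite _)
    ⟨Y, hY, hn, hp⟩
  obtain ⟨h1, h2, h3⟩ := hP.prop
  have hmax : ∀ Z : Subgroup G, Z ≤ N0 H g → N0 H g ≤ normalizer (Z : Set G) → IsPGroup p Z → Z ≤ P := by
    intro Z a b d
    refine le_sup_left.trans (hP.le_of_ge (y := Z ⊔ P) ⟨sup_le a h1, fun n hn => norm_sup (b hn) (h2 hn), ?_⟩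
      le_sup_right)
    exact IsPGroup.to_sup_of_normal_right' d h3 (a.trans h2)
  have hcj : ∀ (a : G) {Z : Subgroup G}, IsPGroup p Z → IsPGroup p (cj a Z) := fun a Z h => h.map _
  have hH : H ≤ normalizer (P : Set G) := by
    intro h hh
    refine mem_normalizer_of fun y hy => hmax (cj h⁻¹ P) ?_ ?_ (hcj _ h3) (conj_mem_cj_inv hy)
    · rw [← cj_N0_eq c (inv_mem hh)]
      exact cj_mono _ h1
    · rw [normalizer_cj, ← cj_N0_eq c (inv_mem hh)]
      exact cj_mono _ h2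
  by_contra hne
  have hP0 : P ≠ ⊥ := fun h => hne (eq_bot_iff.2 (h ▸ hmax Y hY hn hp))
  have hPH : P ≤ H := h1.trans (N0_le H g)
  have hN := norm_eq c hP0 hPH hH
  have hP'H : cj g P ≤ H := (cj_mono g h1).trans (cj_N0_le H g)
  apply not_le_cj c hP0 hPH hH
  -- `P ⊓ N(g⁻¹ P g) ≤ g⁻¹ P g`
  have key : P ⊓ normalizer ((cj g P : Subgroup G) : Set G) ≤ cj g P := by
    rw [normalizer_cj, hN]
    have : cj g⁻¹ (P ⊓ cj g H) ≤ P := by
      refine hmax _ ?_ ?_ (hcj _ (h3.to_le inf_le_left))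
      · rw [← cj_inv_cj g (N0 H g), cj_N0]
        exact cj_mono _ (inf_le_inf_right _ hPH)
      · rw [normalizer_cj, ← cj_inv_cj g (N0 H g), cj_N0]
        refine cj_mono _ fun x hx => norm_inf (hH hx.1) (le_normalizer hx.2)
    rw [← cj_cj_inv g (P ⊓ cj g H)]
    exact cj_mono _ this
  -- normalizer condition in the `p`-group `(g⁻¹ P g) P`
  have hQ : IsPGroup p (cj g P ⊔ P : Subgroup G) := IsPGroup.to_sup_of_normal_right' (hcj g h3) h3 (hP'H.trans hH)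
  have hnil : Group.IsNilpotent (cj g P ⊔ P : Subgroup G) := hQ.isNilpotent
  have hnc := Group.normalizerCondition_of_isNilpotent (G := (cj g P ⊔ P : Subgroup G))
  rw [normalizerCondition_iff_only_full_group_self_normalizing] at hnc
  have := hnc ((cj g P).subgroupOf (cj g P ⊔ P)) (by
    rw [← subgroupOf_normalizer_eq le_sup_left]
    refine le_antisymm (fun x hx => ?_) (subgroupOf_mono _ le_normalizer)
    rw [mem_subgroupOf] at hx ⊢
    have hx2 : (x : G) ∈ ((cj g P ⊔ P : Subgroup G) : Set G) := x.2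
    rw [coe_mul_of_left_le_normalizer_right _ _ (hP'H.trans hH)] at hx2
    obtain ⟨a, ha, b, hb, e⟩ := hx2
    have hb' : b ∈ normalizer ((cj g P : Subgroup G) : Set G) := by
      have : b = a⁻¹ * x := by rw [← e]; group
      rw [this]
      exact mul_mem (inv_mem (le_normalizer ha)) hx
    rw [← e]
    exact mul_mem ha (key ⟨hb, hb'⟩))
  exact le_sup_right.trans (subgroupOf_eq_top.1 this)

end conf

/-- [R2] -/
theorem redSolv : RedSolv := by
  intro G _ _ S H g c Y hY hn hs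
  by_contra hne
  obtain ⟨Z, hZ⟩ := Set.Finite.exists_minimal
    (s := {Z : Subgroup G | Z ≤ Y ∧ N0 H g ≤ normalizer (Z : Set G) ∧ Z ≠ ⊥}) (Set.toFinite _) ⟨Y, le_rfl, hn, hne⟩
  obtain ⟨h1, h2, h3⟩ := hZ.prop
  have hZs : Group.IsSolvable Z := Group.isSolvable_of_isSolvable_injective (inclusion_injective h1)
  have hcomm : ⁅Z, Z⁆ = ⊥ := by
    by_contra h4
    have h5 : Z ≤ ⁅Z, Z⁆ := hZ.le_of_le (y := ⁅Z, Z⁆) ⟨(commutator_le_self Z).trans h1, fun n hn' => by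
      have := cj_eq_iff.2 (h2 hn')
      rw [← cj_eq_iff]
      unfold cj at this ⊢
      rw [map_commutator, this], h4⟩ (commutator_le_self Z)
    exact h3 (TwoFusion.PerfCore.eq_bot_of_perfect_of_solvable (le_antisymm (commutator_le_self Z) h5) hZs)
  have hab : ∀ a ∈ Z, ∀ b ∈ Z, Commute a b := fun a ha b hb =>
    (mem_centralizer_iff.1 (commutator_eq_bot_iff_le_centralizer.1 hcomm hb) a ha)
  have hcard : Nat.card Z ≠ 1 := fun h => h3 (card_eq_one.1 h)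
  obtain ⟨p, hp, hd⟩ := Nat.exists_prime_and_dvd hcard
  have : Fact p.Prime := ⟨hp⟩
  obtain ⟨z, hz⟩ := exists_prime_orderOf_dvd_card' p hd
  let W : Subgroup G :=
    { carrier := {y | y ∈ Z ∧ y ^ p = 1}
      one_mem' := ⟨one_mem _, one_pow _⟩
      mul_mem' := fun {a b} ha hb => ⟨mul_mem ha.1 hb.1, by rw [(hab a ha.1 b hb.1).mul_pow, ha.2, hb.2, mul_one]⟩
      inv_mem' := fun {a} ha => ⟨inv_mem ha.1, by rw [inv_pow, ha.2, inv_one]⟩ }
  have hW : W = ⊥ := pgroup_eq_bot (p := p) c (fun y hy => hY (h1 hy.1))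
    (fun n hn' => mem_normalizer_of fun y hy => ⟨conj_mem_of_norm (h2 hn') hy.1, by rw [conj_pow, hy.2]; group⟩)
    (fun y => ⟨1, Subtype.ext (by simpa using y.2.2)⟩)
  have hzW : (z : G) ∈ W := ⟨z.2, by
    have := pow_orderOf_eq_one z
    rw [hz] at this
    exact congrArg Subtype.val this⟩
  rw [hW, mem_bot] at hzW
  have : z = 1 := Subtype.ext hzW
  rw [this, orderOf_one] at hz
  exact hp.one_lt.ne hz

end Cfsg.Agent.Cam.Rd

private theorem dce_1482f5a11b7c : _root_.True := by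
  try have : _root_.True := by simp only [_root_.Cfsg.Agent.Cam.N0.eq_1]
  exact _root_.True.intro
end

-- part: Cam/Red/Comp
section
set_option linter.all false
open scoped Cfsg.Agent.FastGrp

/-!
# S3689, S3690: the reduction, part 2 (helper53)

Components of `N0 H g`: `redCls : RedCls` (R3), `redCent : RedCent` (R7); `inner_of_perfect` (Schreier).
-/

set_option autoImplicit false

namespace Cfsg.Agent.Cam.Rd

open Subgroup Cfsg.Agent.Cam Cfsg.Agent.Cam.Spor Cfsg.Agent.SignalizersComponents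

section schreier
variable {G : Type} [Group G] [Finite G]

/-- a perfect subgroup normalizing a simple subgroup `T` acts on it by inner automorphisms -/
theorem inner_of_perfect (big : Big) {T Y : Subgroup G} (hs : IsSimpleGroup T) (hY : ⁅Y, Y⁆ = Y)
    (hn : Y ≤ normalizer (T : Set G)) {y : G} (hy : y ∈ Y) :
    ∃ t ∈ T, t⁻¹ * y ∈ centralizer (T : Set G) := by
  have hsol := big.sch T
  let f : normalizer (T : Set G) →* Cfsg.Out T := (QuotientGroup.mk' (Cfsg.Inn T)).comp T.normalizerMonoidHom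
  have hp : ⁅Y.subgroupOf (normalizer (T : Set G)), Y.subgroupOf (normalizer (T : Set G))⁆ =
      Y.subgroupOf (normalizer (T : Set G)) := by
    apply map_injective (normalizer (T : Set G)).subtype_injective
    rw [map_commutator, map_subgroupOf_eq_of_le hn, hY]
  have h1 := TwoFusion.PerfCore.le_ker_of_perfect hp f inferInstance (x := ⟨y, hn hy⟩) (mem_subgroupOf.2 hy)
  rw [MonoidHom.mem_ker] at h1
  have h2 : T.normalizerMonoidHom ⟨y, hn hy⟩ ∈ Cfsg.Inn T := (QuotientGroup.eq_one_iff _).1 h1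
  obtain ⟨t, ht⟩ := h2
  refine ⟨t, t.2, mem_centralizer_iff.2 fun v hv => ?_⟩
  have h3 : (t : G) * v * (t : G)⁻¹ = y * v * y⁻¹ := by
    have := congrArg (fun φ : MulAut T => ((φ ⟨v, hv⟩ : T) : G)) ht
    simpa using this
  calc v * ((t : G)⁻¹ * y) = (t : G)⁻¹ * (t * v * (t : G)⁻¹) * y := by group
    _ = _ := by rw [h3]; group

end schreier

section comp
variable {G : Type} [Group G]

/-- `T` is a component of `N` -/
def Cmp (N T : Subgroup G) : Prop := T ≤ N ∧ IsComponent (T.subgroupOf N)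

theorem Cmp.quasi {N T : Subgroup G} (h : Cmp N T) : IsQuasisimple T :=
  Components.isQuasisimple_of_mulEquiv (subgroupOfEquivOfLe h.1) h.2.2

theorem Cmp.of {N T : Subgroup G} (h : T ≤ N) (hs : (T.subgroupOf N).IsSubnormal) (hq : IsQuasisimple T) : Cmp N T :=
  ⟨h, hs, Components.isQuasisimple_of_mulEquiv (subgroupOfEquivOfLe h).symm hq⟩

theorem Cmp.cj {N T : Subgroup G} (h : Cmp N T) (a : G) : Cmp (cj a N) (cj a T) :=
  Cmp.of (cj_mono a h.1) (subnormal_cj a h.2.1) (Components.isQuasisimple_of_mulEquiv (cjEquiv a T) h.quasi)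

theorem Cmp.of_map {N : Subgroup G} {K : Subgroup N} (h : IsComponent K) : Cmp N (K.map N.subtype) := by
  refine ⟨map_subtype_le K, ?_⟩
  rwa [subgroupOf, comap_map_eq_self_of_injective N.subtype_injective]

theorem Cmp.comm {N T₁ T₂ : Subgroup G} (h₁ : Cmp N T₁) (h₂ : Cmp N T₂) (hne : T₁ ≠ T₂) :
    ∀ a ∈ T₁, ∀ b ∈ T₂, a * b = b * a := by
  intro a ha b hb
  have h := Components.component_le_centralizer_of_ne h₁.2 h₂.2 fun e => hne (by
    rw [← map_subgroupOf_eq_of_le h₁.1, e, map_subgroupOf_eq_of_le h₂.1])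
  have h2 := mem_centralizer_iff.1 (h (x := ⟨a, h₁.1 ha⟩) (mem_subgroupOf.2 ha)) ⟨b, h₂.1 hb⟩ (mem_subgroupOf.2 hb)
  exact (congrArg Subtype.val h2).symm

variable [Finite G] {S H : Subgroup G} {g : G}

theorem normal_solv_eq_bot (c : Conf S H g) {K : Subgroup (N0 H g)} (hK : K.Normal) (hs : Group.IsSolvable K) :
    K = ⊥ := by
  have h := redSolv G S H g c (K.map (N0 H g).subtype) (map_subtype_le K)
    (fun n hn => mem_normalizer_of (by
      rintro _ ⟨y, hy, rfl⟩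
      exact ⟨_, hK.conj_mem y hy ⟨n, hn⟩, rfl⟩)) (ComponentExists.isSolvable_map hs _)
  exact (map_eq_bot_iff_of_injective _ (N0 H g).subtype_injective).1 h

theorem fitting_eq_bot (c : Conf S H g) : fittingSubgroup (N0 H g) = ⊥ := by
  rw [eq_bot_iff, fittingSubgroup]
  refine sSup_le fun K hK => ?_
  have := hK.2
  exact (normal_solv_eq_bot c hK.1 inferInstance).le

/-- every non-trivial normal subgroup of `N0 H g` contains a component -/
theorem exists_comp_le (c : Conf S H g) {K : Subgroup (N0 H g)} (hK : K.Normal) (h : K ≠ ⊥) :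
    ∃ L : Subgroup (N0 H g), IsComponent L ∧ L ≤ K :=
  ComponentExists.exists_isComponent_le hK.isSubnormal (fun hs => h (normal_solv_eq_bot c hK hs)) (by
    rw [fitting_eq_bot c]
    intro x _
    rw [mem_centralizer_iff]
    intro y hy
    rw [SetLike.mem_coe, mem_bot] at hy
    rw [hy, one_mul, mul_one])

theorem exists_cmp (c : Conf S H g) : ∃ T, Cmp (N0 H g) T := by
  have : Nontrivial (N0 H g) := (nontrivial_iff_ne_bot _).2 c.ne_bot
  obtain ⟨L, hL, -⟩ := exists_comp_le c (K := ⊤) inferInstance top_ne_bot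
  exact ⟨_, Cmp.of_map hL⟩

theorem Cmp.simple (c : Conf S H g) {T : Subgroup G} (h : Cmp (N0 H g) T) : IsSimpleGroup T := by
  set K := T.subgroupOf (N0 H g)
  have hZ : center K = ⊥ := by
    have h1 : ((center K).map K.subtype).IsSubnormal := (inferInstance : (center K).Normal).isSubnormal.trans' h.2.1
    obtain ⟨M, hM, hs, hle⟩ := ComponentExists.exists_normal_isSolvable_of_isSubnormal h1
      (ComponentExists.isSolvable_map (Group.isSolvable_of_comm fun a b =>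
        Subtype.ext (mem_center_iff.1 b.2 a)) _)
    rw [normal_solv_eq_bot c hM hs, le_bot_iff] at hle
    exact (map_eq_bot_iff_of_injective _ K.subtype_injective).1 hle
  have h2 := h.2.2.2
  have e : (K ⧸ center K) ≃* K := (QuotientGroup.quotientMulEquivOfEq hZ).trans QuotientGroup.quotientBot
  exact (MulEquiv.isSimpleGroup_congr (e.trans (subgroupOfEquivOfLe h.1))).1 h2

omit [Finite G] in
theorem Cmp.noncomm {N T : Subgroup G} (h : Cmp N T) : ¬ IsMulCommutative T :=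
  Components.quasisimple_not_isMulCommutative h.quasi

theorem Cmp.inv (c : Conf S H g) {T : Subgroup G} (h : Cmp (N0 H g) T) {a : G} (ha : a ∈ H) :
    Cmp (N0 H g) (Cam.cj a T) := by
  have := h.cj a
  rwa [cj_N0_eq c ha] at this

theorem perfect_le_S (big : Big) (c : Setup S H) {Y : Subgroup G} (hY : ⁅Y, Y⁆ = Y) : Y ≤ S := by
  intro y hy
  have := c.normal
  obtain ⟨t, ht, h⟩ := inner_of_perfect big c.simple hY (by rw [normalizer_eq_top]; exact le_top) hy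
  rw [c.cent, mem_bot, inv_mul_eq_one] at h
  exact h ▸ ht

end comp

/-- [R3] -/
theorem redCls : RedCls := by
  intro big G _ _ S H g c
  obtain ⟨T₀, h₀⟩ := exists_cmp c
  refine ⟨{T | Cmp (N0 H g) T ∧ ∃ γ : G, T = cj γ T₀},
    { toConf := c
      nonempty := ⟨T₀, h₀, 1, (cj_one _).symm⟩
      tsimple := fun T hT => hT.1.simple c
      tnoncomm := fun T hT => hT.1.noncomm
      le_N0 := fun T hT => hT.1.1
      le_S := fun T hT => perfect_le_S big c.toSetup (perfect_of_simple (hT.1.simple c) hT.1.noncomm)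
      comm := fun T₁ h₁ T₂ h₂ hne => h₁.1.comm h₂.1 hne
      inv := ?_
      conj := ?_
      closed := ?_ }⟩
  · rintro h hh T ⟨hT, γ, rfl⟩
    exact ⟨hT.inv c hh, γ * h, (cj_mul _ _ _).symm⟩
  · rintro T₁ ⟨-, γ₁, rfl⟩ T₂ ⟨-, γ₂, rfl⟩
    exact ⟨γ₁⁻¹ * γ₂, by rw [← cj_mul, mul_inv_cancel_left]⟩
  · rintro T ⟨hT, γ₁, rfl⟩ γ hle hs
    exact ⟨Cmp.of hle hs (Components.isQuasisimple_of_mulEquiv (cjEquiv γ _) hT.quasi), γ₁ * γ, (cj_mul _ _ _).symm⟩

/-- [R7] -/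
theorem redCent : RedCent := by
  intro G _ _ S H g c h hh hc
  set E : Subgroup G := sSup {T | Cmp (N0 H g) T} with hE
  have hEN : E ≤ N0 H g := sSup_le fun T hT => hT.1
  obtain ⟨T₀, h₀⟩ := exists_cmp c
  have hE0 : E ≠ ⊥ := fun e => by
    have h1 : T₀ = ⊥ := eq_bot_iff.2 (e ▸ le_sSup h₀)
    have := h₀.simple c
    exact (nontrivial_iff_ne_bot T₀).1 inferInstance h1
  have hH : H ≤ normalizer (E : Set G) := fun a ha => mem_normalizer_of fun y hy =>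
    cj_sSup_le (a := a⁻¹) (fun T hT => le_sSup (Cmp.inv c hT (inv_mem ha))) (conj_mem_cj_inv hy)
  have hN := norm_eq c hE0 (hEN.trans (N0_le H g)) hH
  have h1 : ∀ T, Cmp (N0 H g) T → g * h * g⁻¹ ∈ centralizer (T : Set G) := fun T hT => by
    have := hc T hT.1 hT.2
    rwa [centralizer_cj, mem_cj] at this
  have h2 : g * h * g⁻¹ ∈ centralizer (E : Set G) := by
    have : E ≤ centralizer ({g * h * g⁻¹} : Set G) := sSup_le fun T hT t ht =>
      mem_centralizer_singleton_iff.2 (mem_centralizer_iff.1 (h1 T hT) t ht)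
    exact mem_centralizer_iff.2 fun y hy => mem_centralizer_singleton_iff.1 (this hy)
  have h3 : g * h * g⁻¹ ∈ N0 H g := mem_N0.2 ⟨hN ▸ centralizer_le_normalizer _ h2, by simpa [mul_assoc] using hh⟩
  have := Components.layer_normal (N0 H g)
  have h4 : centralizer (layer (N0 H g) : Set (N0 H g)) = ⊥ := by
    by_contra hne
    obtain ⟨L, hL, hle⟩ := exists_comp_le c inferInstance hne
    apply Components.quasisimple_not_isMulCommutative hL.2
    exact ⟨⟨fun a b => Subtype.ext (mem_centralizer_iff.1 (hle b.2) a (Components.component_le_layer hL a.2))⟩⟩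
  have h5 : (⟨_, h3⟩ : N0 H g) ∈ centralizer (layer (N0 H g) : Set (N0 H g)) := by
    have : layer (N0 H g) ≤ centralizer {(⟨_, h3⟩ : N0 H g)} := Components.layer_le_iff.2 fun K hK k hk =>
      mem_centralizer_singleton_iff.2 (Subtype.ext (mem_centralizer_iff.1 (h1 _ (Cmp.of_map hK)) k ⟨k, hk, rfl⟩))
    exact mem_centralizer_iff.2 fun y hy => mem_centralizer_singleton_iff.1 (this hy)
  rw [h4, mem_bot] at h5
  have h6 : g * h * g⁻¹ = 1 := congrArg Subtype.val h5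
  simpa using h6

end Cfsg.Agent.Cam.Rd
end

-- part: Cam/Red/Count
section
prune_inst 0xd56013401d6202000000059651003f46fe000190006b8c00dde00f460786f7630d022f61fdc01e13193aa264003c8468131000e90050000024008600410101a08caab2c2f1c9b10427009fc0f887180c00000000000000000000000000041004000000000
set_option linter.all false
open scoped Cfsg.Agent.FastGrp

-- part: Cam/Red/Diag
section
/-!
# S3689, S3690: the reduction, part 3 (helper53)

Projections onto a component, twisted diagonals; `redDiag : RedDiag` (R5).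
-/

set_option autoImplicit false

namespace Cfsg.Agent.Cam.Rd

open Subgroup Cfsg.Agent.Cam Cfsg.Agent.Cam.Spor

section proj
variable {G : Type} [Group G]

theorem eq_one_of_mem_cent {T : Subgroup G} (hs : IsSimpleGroup T) (hn : ¬ IsMulCommutative T) {t : G} (ht : t ∈ T)
    (h : t ∈ centralizer (T : Set G)) : t = 1 :=
  eq_one_of_comm' hs hn ht fun v hv => (mem_centralizer_iff.1 h v hv).symm

theorem mul_cent {T : Subgroup G} {t₁ t₂ y₁ y₂ : G} (ht : t₂ ∈ T) (h₁ : t₁⁻¹ * y₁ ∈ centralizer (T : Set G)) :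
    (t₁ * t₂)⁻¹ * (y₁ * y₂) = t₁⁻¹ * y₁ * (t₂⁻¹ * y₂) := by
  have := mem_centralizer_iff.1 h₁ _ (inv_mem ht)
  calc (t₁ * t₂)⁻¹ * (y₁ * y₂) = t₂⁻¹ * (t₁⁻¹ * y₁) * y₂ := by group
    _ = _ := by rw [this]; group

theorem le_cent_symm {A B : Subgroup G} (h : A ≤ centralizer (B : Set G)) : B ≤ centralizer (A : Set G) :=
  fun b hb => mem_centralizer_iff.2 fun _ ha => (mem_centralizer_iff.1 (h ha) b hb).symm

theorem mem_cent_sSup {s : Set (Subgroup G)} {y : G} (h : ∀ T ∈ s, y ∈ centralizer (T : Set G)) :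
    y ∈ centralizer ((sSup s : Subgroup G) : Set G) := by
  have : sSup s ≤ centralizer ({y} : Set G) := sSup_le fun T hT t ht =>
    mem_centralizer_singleton_iff.2 (mem_centralizer_iff.1 (h T hT) t ht)
  exact mem_centralizer_iff.2 fun x hx => mem_centralizer_singleton_iff.1 (this hx)

variable [Finite G]

/-- a simple group `Y` of the order of `T` which normalizes but does not centralize `T` projects onto `T` -/
theorem exists_proj (big : Big) {T Y : Subgroup G} (hT : IsSimpleGroup T) (hT' : ¬ IsMulCommutative T)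
    (hY : IsSimpleGroup Y) (hY' : ¬ IsMulCommutative Y) (hcard : Nat.card Y = Nat.card T)
    (hn : Y ≤ normalizer (T : Set G)) (hc : ¬ Y ≤ centralizer (T : Set G)) :
    ∃ σ : T ≃* Y, ∀ t : T, (t : G)⁻¹ * σ t ∈ centralizer (T : Set G) := by
  choose p hp hp' using fun y : Y => inner_of_perfect big hT (perfect_of_simple hY hY') hn y.2
  have huniq : ∀ (y : Y) (t : G), t ∈ T → t⁻¹ * y ∈ centralizer (T : Set G) → p y = t := by
    intro y t ht h
    have h1 := mul_mem h (inv_mem (hp' y))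
    have h2 : t⁻¹ * y * ((p y)⁻¹ * y)⁻¹ = t⁻¹ * p y := by group
    rw [h2] at h1
    exact (inv_mul_eq_one.1 (eq_one_of_mem_cent hT hT' (mul_mem (inv_mem ht) (hp y)) h1)).symm
  let π : Y →* T := MonoidHom.mk' (fun y => ⟨p y, hp y⟩) fun a b => Subtype.ext (huniq _ _ (mul_mem (hp a) (hp b)) (by
    change (p a * p b)⁻¹ * ((a : G) * b) ∈ _
    rw [mul_cent (hp b) (hp' a)]
    exact mul_mem (hp' a) (hp' b)))
  have hinj : Function.Injective π := by
    rw [← MonoidHom.ker_eq_bot_iff]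
    rcases hY.eq_bot_or_eq_top_of_normal π.ker inferInstance with h | h
    · exact h
    · exfalso
      apply hc
      intro y hy
      have h1 : π ⟨y, hy⟩ = 1 := by
        rw [← MonoidHom.mem_ker, h]
        exact mem_top _
      have h2 : p ⟨y, hy⟩ = 1 := congrArg Subtype.val h1
      have h3 := hp' ⟨y, hy⟩
      rwa [h2, inv_one, one_mul] at h3
  have hbij : Function.Bijective π := (Nat.bijective_iff_injective_and_card π).2 ⟨hinj, hcard⟩
  refine ⟨(MulEquiv.ofBijective π hbij).symm, fun t => ?_⟩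
  have h1 := hp' ((MulEquiv.ofBijective π hbij).symm t)
  have h2 : p ((MulEquiv.ofBijective π hbij).symm t) = t :=
    congrArg Subtype.val ((MulEquiv.ofBijective π hbij).apply_symm_apply t)
  rwa [h2] at h1

omit [Finite G] in
/-- two commuting groups cannot both project onto `T` -/
theorem not_two_proj {T Y Y' : Subgroup G} (hT : IsSimpleGroup T) (hT' : ¬ IsMulCommutative T)
    (hc : ∀ a ∈ Y, ∀ b ∈ Y', a * b = b * a) (σ : T ≃* Y) (σ' : T ≃* Y')
    (h : ∀ t : T, (t : G)⁻¹ * σ t ∈ centralizer (T : Set G))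
    (h' : ∀ t : T, (t : G)⁻¹ * σ' t ∈ centralizer (T : Set G)) : False := by
  refine hT' ⟨⟨fun a b => Subtype.ext ?_⟩⟩
  have h1 := mul_mem (h a) (h' b)
  have h2 := mul_mem (h' b) (h a)
  rw [← mul_cent b.2 (h a)] at h1
  rw [← mul_cent a.2 (h' b), ← hc _ (σ a).2 _ (σ' b).2] at h2
  have h3 := mul_mem h2 (inv_mem h1)
  have e : ((b : G) * a)⁻¹ * (σ a * σ' b) * (((a : G) * b)⁻¹ * (σ a * σ' b))⁻¹ = ((b : G) * a)⁻¹ * (a * b) := by group
  rw [e] at h3
  exact (inv_mul_eq_one.1 (eq_one_of_mem_cent hT hT' (mul_mem (inv_mem (mul_mem b.2 a.2)) (mul_mem a.2 b.2)) h3)).symm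

/-- the twisted diagonal -/
theorem exists_diag {T Y : Subgroup G} (hT : IsSimpleGroup T) (hne : Y ≠ T) (σ : T ≃* Y)
    (h : ∀ t : T, (t : G)⁻¹ * σ t ∈ centralizer (T : Set G)) :
    ∃ ψ : T →* G, Diag T ψ Y ∧ ∀ t : T, ψ t = (t : G)⁻¹ * σ t := by
  let ψ : T →* G := MonoidHom.mk' (fun t => (t : G)⁻¹ * σ t) fun a b => by
    rw [map_mul, coe_mul, coe_mul, mul_cent b.2 (h a)]
  have hψ : ∀ t : T, ψ t = (t : G)⁻¹ * σ t := fun _ => rfl
  refine ⟨ψ, ⟨?_, fun a ha t => mem_centralizer_iff.1 (h t) a ha, fun y => ⟨fun hy => ⟨σ.symm ⟨y, hy⟩, ?_⟩, ?_⟩⟩, hψ⟩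
  · rw [← MonoidHom.ker_eq_bot_iff]
    rcases hT.eq_bot_or_eq_top_of_normal ψ.ker inferInstance with h1 | h1
    · exact h1
    · exfalso
      apply hne
      refine (eq_of_le_of_card_ge (fun t ht => ?_) (Nat.card_congr σ.toEquiv).ge).symm
      have h2 : ψ ⟨t, ht⟩ = 1 := by
        rw [← MonoidHom.mem_ker, h1]
        exact mem_top _
      rw [hψ, inv_mul_eq_one] at h2
      change ((⟨t, ht⟩ : T) : G) ∈ Y
      rw [h2]
      exact (σ _).2
  · rw [hψ, MulEquiv.apply_symm_apply]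
    group
  · rintro ⟨t, rfl⟩
    rw [hψ, mul_inv_cancel_left]
    exact (σ t).2

end proj

section cls
variable {G : Type} [Group G] {S H : Subgroup G} {g : G} {𝒯 : Set (Subgroup G)}

theorem T_le_H (c : Cls S H g 𝒯) {T : Subgroup G} (hT : T ∈ 𝒯) : T ≤ H := (c.le_N0 T hT).trans (N0_le H g)

theorem T'_le_H (c : Cls S H g 𝒯) {T : Subgroup G} (hT : T ∈ 𝒯) : cj g T ≤ H :=
  (cj_mono g (c.le_N0 T hT)).trans (cj_N0_le H g)

theorem T'_le_S (c : Cls S H g 𝒯) {T : Subgroup G} (hT : T ∈ 𝒯) : cj g T ≤ S := by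
  rw [← cj_normal c.normal g]
  exact cj_mono g (c.le_S T hT)

theorem T_ne_bot' (c : Cls S H g 𝒯) {T : Subgroup G} (hT : T ∈ 𝒯) : T ≠ ⊥ := by
  have := c.tsimple T hT
  exact (nontrivial_iff_ne_bot T).1 inferInstance

theorem card_T' (c : Cls S H g 𝒯) {T₁ T₂ : Subgroup G} (h₁ : T₁ ∈ 𝒯) (h₂ : T₂ ∈ 𝒯) :
    Nat.card (cj g T₂) = Nat.card T₁ := by
  obtain ⟨γ, rfl⟩ := c.conj T₁ h₁ T₂ h₂
  rw [card_cj, card_cj]

theorem comm_T' (c : Cls S H g 𝒯) {T₁ T₂ : Subgroup G} (h₁ : T₁ ∈ 𝒯) (h₂ : T₂ ∈ 𝒯) (hne : T₁ ≠ T₂) :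
    ∀ a ∈ cj g T₁, ∀ b ∈ cj g T₂, a * b = b * a := by
  intro a ha b hb
  have := c.comm T₁ h₁ T₂ h₂ hne _ (mem_cj.1 ha) _ (mem_cj.1 hb)
  calc a * b = g⁻¹ * (g * a * g⁻¹ * (g * b * g⁻¹)) * g := by group
    _ = _ := by rw [this]; group

theorem X_le_H' (c : Cls S H g 𝒯) : sSup 𝒯 ≤ H := sSup_le fun _ hT => T_le_H c hT

theorem X_ne_bot (c : Cls S H g 𝒯) : sSup 𝒯 ≠ ⊥ := by
  obtain ⟨T, hT⟩ := c.nonempty
  exact fun h => T_ne_bot' c hT (eq_bot_iff.2 (h ▸ le_sSup hT))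

theorem X_norm_T (c : Cls S H g 𝒯) {T : Subgroup G} (hT : T ∈ 𝒯) : sSup 𝒯 ≤ normalizer (T : Set G) := by
  refine sSup_le fun A hA => ?_
  by_cases h : A = T
  · rw [h]
    exact le_normalizer
  · exact fun a ha => centralizer_le_normalizer _ (mem_centralizer_iff.2 fun t ht => (c.comm A hA T hT h a ha t ht).symm)

variable [Finite G]

theorem H_norm_X' (c : Cls S H g 𝒯) : H ≤ normalizer ((sSup 𝒯 : Subgroup G) : Set G) := fun a ha =>
  mem_normalizer_of fun _ hy =>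
    cj_sSup_le (a := a⁻¹) (fun T hT => le_sSup (c.inv _ (inv_mem ha) T hT)) (conj_mem_cj_inv hy)

theorem norm_X' (c : Cls S H g 𝒯) : normalizer ((sSup 𝒯 : Subgroup G) : Set G) = H :=
  norm_eq c.toConf (X_ne_bot c) (X_le_H' c) (H_norm_X' c)

/-- the members of `𝒯` are subnormal in every subgroup of `H` -/
theorem T_subnormal (c : Cls S H g 𝒯) {T M : Subgroup G} (hT : T ∈ 𝒯) (hM : M ≤ H) :
    (T.subgroupOf M).IsSubnormal := by
  have h1 : ((sSup 𝒯).subgroupOf M).Normal := normal_subgroupOf_of_le_normalizer (hM.trans (H_norm_X' c))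
  refine IsSubnormal.step _ _ (subgroupOf_mono M (le_sSup hT)) h1.isSubnormal ⟨fun t ht x => ?_⟩
  rw [mem_subgroupOf, mem_subgroupOf] at ht ⊢
  exact conj_mem_of_norm (X_norm_T c hT (mem_subgroupOf.1 x.2)) ht

/-- no member of `𝒯` centralizes `g⁻¹ X g` -/
theorem not_cent (c : Cls S H g 𝒯) {T : Subgroup G} (hT : T ∈ 𝒯) :
    ¬ T ≤ centralizer ((cj g (sSup 𝒯) : Subgroup G) : Set G) := by
  intro h
  have h1 : T ≤ cj g (N0 H g) := by
    rw [cj_N0]
    refine le_inf (T_le_H c hT) (h.trans ((centralizer_le_normalizer _).trans ?_))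
    rw [normalizer_cj, norm_X' c]
  have h2 := subnormal_cj g⁻¹ (T_subnormal c hT (cj_N0_le H g))
  have h3 := cj_mono g⁻¹ h1
  rw [cj_inv_cj] at h2 h3
  have h4 : T ≤ cj g (sSup 𝒯) := by
    rw [← cj_cj_inv g T]
    exact cj_mono g (le_sSup (c.closed T hT g⁻¹ h3 h2))
  exact c.tnoncomm T hT ⟨⟨fun a b => Subtype.ext (mem_centralizer_iff.1 (h b.2) a (h4 a.2))⟩⟩

theorem exists_cover (c : Cls S H g 𝒯) {T : Subgroup G} (hT : T ∈ 𝒯) :
    ∃ T₂ ∈ 𝒯, ¬ cj g T₂ ≤ centralizer (T : Set G) := by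
  by_contra h
  push Not at h
  exact not_cent c hT (le_cent_symm (cj_sSup_le h))

theorem proj_T' (big : Big) (c : Cls S H g 𝒯) {T₁ T₂ : Subgroup G} (h₁ : T₁ ∈ 𝒯) (h₂ : T₂ ∈ 𝒯)
    (hn : cj g T₂ ≤ normalizer (T₁ : Set G)) (hc : ¬ cj g T₂ ≤ centralizer (T₁ : Set G)) :
    ∃ σ : T₁ ≃* cj g T₂, ∀ t : T₁, (t : G)⁻¹ * σ t ∈ centralizer (T₁ : Set G) :=
  exists_proj big (c.tsimple _ h₁) (c.tnoncomm _ h₁) (simple_cj g (c.tsimple _ h₂)) (noncomm_cj g (c.tnoncomm _ h₂))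
    (card_T' c h₁ h₂) hn hc

/-- disjoint supports -/
theorem supp_unique (big : Big) (c : Cls S H g 𝒯) {T T₂ T₃ : Subgroup G} (hT : T ∈ 𝒯) (h₂ : T₂ ∈ 𝒯) (h₃ : T₃ ∈ 𝒯)
    (n₂ : cj g T₂ ≤ normalizer (T : Set G)) (n₃ : cj g T₃ ≤ normalizer (T : Set G))
    (c₂ : ¬ cj g T₂ ≤ centralizer (T : Set G)) (c₃ : ¬ cj g T₃ ≤ centralizer (T : Set G)) : T₂ = T₃ := by
  by_contra hne
  obtain ⟨σ, hσ⟩ := proj_T' big c hT h₂ n₂ c₂
  obtain ⟨σ', hσ'⟩ := proj_T' big c hT h₃ n₃ c₃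
  exact not_two_proj (c.tsimple _ hT) (c.tnoncomm _ hT) (comm_T' c h₂ h₃ hne) σ σ' hσ hσ'

/-- a perfect group normalizing all members of `𝒯` lies in `X C(X)` -/
theorem le_sup_cent (big : Big) (c : Cls S H g 𝒯) {Y : Subgroup G} (hY : ⁅Y, Y⁆ = Y)
    (hn : ∀ T ∈ 𝒯, Y ≤ normalizer (T : Set G)) :
    Y ≤ sSup 𝒯 ⊔ centralizer ((sSup 𝒯 : Subgroup G) : Set G) := by
  intro y hy
  have key : ∀ F : Set (Subgroup G), F.Finite → F ⊆ 𝒯 →
      ∃ x ∈ sSup F, ∀ T ∈ F, x⁻¹ * y ∈ centralizer (T : Set G) := by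
    intro F hF
    induction F, hF using Set.Finite.induction_on with
    | empty => exact fun _ => ⟨1, one_mem _, fun _ h => h.elim⟩
    | @insert T F hTF _ ih =>
      intro hsub
      have hT : T ∈ 𝒯 := hsub (Set.mem_insert _ _)
      have hF' : F ⊆ 𝒯 := fun A hA => hsub (Set.mem_insert_of_mem _ hA)
      obtain ⟨x, hx, hx'⟩ := ih hF'
      obtain ⟨t, ht, ht'⟩ := inner_of_perfect big (c.tsimple T hT) hY (hn T hT) hy
      have hxT : x ∈ centralizer (T : Set G) := by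
        refine (sSup_le fun A hA a ha => mem_centralizer_iff.2 fun v hv => ?_ : sSup F ≤ _) hx
        exact c.comm T hT A (hF' hA) (fun e => hTF (e ▸ hA)) v hv a ha
      have e1 : sSup F ≤ sSup (insert T F) := sSup_le_sSup (Set.subset_insert _ _)
      have e2 : T ≤ sSup (insert T F) := le_sSup (Set.mem_insert _ _)
      refine ⟨x * t, mul_mem (e1 hx) (e2 ht), ?_⟩
      rintro A (rfl | hA)
      · rw [← mem_centralizer_iff.1 hxT t ht, mul_inv_rev, mul_assoc]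
        exact mul_mem (inv_mem hxT) ht'
      · rw [mul_inv_rev, mul_assoc]
        refine mul_mem (inv_mem (mem_centralizer_iff.2 fun a ha => ?_)) (hx' A hA)
        exact c.comm A (hF' hA) T hT (fun e => hTF (e ▸ hA)) a ha t ht
  obtain ⟨x, hx, hx'⟩ := key 𝒯 (Set.toFinite _) le_rfl
  have : y = x * (x⁻¹ * y) := by group
  rw [this]
  exact mul_mem (mem_sup_left hx) (mem_sup_right (mem_cent_sSup hx'))

/-- some `g⁻¹ T₂ g` projects onto some `T₁` and is different from it -/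
theorem exists_proper (c : Cls S H g 𝒯) :
    ∃ T₁ ∈ 𝒯, ∃ T₂ ∈ 𝒯, ¬ cj g T₂ ≤ centralizer (T₁ : Set G) ∧ cj g T₂ ≠ T₁ := by
  by_contra h
  push Not at h
  refine not_le_cj c.toConf (X_ne_bot c) (X_le_H' c) (H_norm_X' c) (sSup_le fun T hT => ?_)
  obtain ⟨T₂, h₂, h₃⟩ := exists_cover c hT
  rw [← h T hT T₂ h₂ h₃]
  exact cj_mono g (le_sSup h₂)

end cls

/-- [R5] -/
theorem redDiag : RedDiag := by
  intro big G _ _ S H g 𝒯 c hn
  refine ⟨cj_sSup_le fun T hT => le_sup_cent big c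
    (perfect_of_simple (simple_cj g (c.tsimple T hT)) (noncomm_cj g (c.tnoncomm T hT))) fun A hA => hn A hA T hT,
    fun T hT => not_cent c hT, ?_⟩
  obtain ⟨T₁, h₁, T₂, h₂, hc, hne⟩ := exists_proper c
  obtain ⟨σ, hσ⟩ := proj_T' big c h₁ h₂ (hn T₁ h₁ T₂ h₂) hc
  obtain ⟨ψ, hψ, e⟩ := exists_diag (c.tsimple _ h₁) hne σ hσ
  refine ⟨T₁, h₁, T₂, h₂, ψ, hψ, fun t => ?_⟩
  rw [e]
  exact mem_inf.2 ⟨mul_mem (inv_mem (T_le_H c h₁ t.2)) (T'_le_H c h₂ (σ t).2),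
    mul_mem (inv_mem (c.le_S _ h₁ t.2)) (T'_le_S c h₂ (σ t).2)⟩

end Cfsg.Agent.Cam.Rd
end

-- part: Cam/Red/Count
section
/-!
# S3689, S3690: the reduction, part 4 (helper53)

Counting orbits on the components: `redCopy : RedCopy` (R4), `redRank : RedRank` (R6) and `red : Red`.
-/

set_option autoImplicit false

namespace Cfsg.Agent.Cam.Rd

open Subgroup Cfsg.Agent.Cam Cfsg.Agent.Cam.Spor
open scoped commutatorElement

section tools

/-- pairwise commuting copies of a non-abelian simple group generate their direct product -/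
theorem pi_inj {U K ι : Type*} [Group U] [Group K] [Fintype ι] (hs : IsSimpleGroup U) (hn : ¬ IsMulCommutative U)
    (φ : ι → (U →* K)) (hinj : ∀ i, Function.Injective (φ i))
    (hc : Pairwise fun i j => ∀ x y, Commute (φ i x) (φ j y)) :
    Function.Injective (MonoidHom.noncommPiCoprod (N := fun _ => U) φ hc) := by
  classical
  rw [injective_iff_map_eq_one]
  intro x hx
  funext j
  refine eq_one_of_comm hs hn fun v => ?_
  have h1 : ⁅x, (Pi.mulSingle j v : ι → U)⁆ = Pi.mulSingle j ⁅x j, v⁆ := by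
    funext i
    by_cases h : i = j
    · subst h
      simp [commutatorElement_def]
    · simp [commutatorElement_def, Pi.mulSingle_eq_of_ne h]
  have h2 := congrArg (MonoidHom.noncommPiCoprod (N := fun _ => U) φ hc) h1
  rw [map_commutatorElement, hx, commutatorElement_one_left, MonoidHom.noncommPiCoprod_mulSingle] at h2
  exact commutatorElement_eq_one_iff_mul_comm.1 (hinj j (h2.symm.trans (map_one _).symm))

/-- the permutations preserving the fibres of `f` -/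
def fib {α β : Type*} (f : α → β) : Subgroup (Equiv.Perm α) where
  carrier := {σ | f ∘ σ = f}
  one_mem' := rfl
  mul_mem' := fun {a b} ha hb => by
    funext x
    exact (congrFun ha (b x)).trans (congrFun hb x)
  inv_mem' := fun {a} ha => by
    funext x
    have := congrFun ha (a⁻¹ x)
    simpa using this.symm

theorem fib_count {α β : Type*} [Fintype α] [DecidableEq β] (f : α → β) {r a : ℕ} (hr : r.Prime)
    (h : r ^ a ∣ Nat.card (fib f)) : (r - 1) * a + (Finset.univ.image f).card ≤ Fintype.card α := by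
  classical
  have : Fact r.Prime := ⟨hr⟩
  have h1 : Nat.card (fib f) = ∏ i ∈ Finset.univ.image f, (Fintype.card {x // f x = i}).factorial := by
    rw [← DomMulAct.stabilizer_card' f, ← Nat.card_eq_fintype_card]
    rfl
  rw [h1] at h
  have h0 : ∀ i ∈ Finset.univ.image f, (Fintype.card {x // f x = i}).factorial ≠ 0 := fun i _ => Nat.factorial_ne_zero _
  have h2 := (hr.pow_dvd_iff_le_factorization (Finset.prod_ne_zero_iff.2 h0)).1 h
  rw [Nat.factorization_prod h0, Finset.sum_apply'] at h2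
  have h3 : Fintype.card α = ∑ i ∈ Finset.univ.image f, Fintype.card {x // f x = i} := by
    rw [← Finset.card_univ, Finset.card_eq_sum_card_image f]
    exact Finset.sum_congr rfl fun i _ => by rw [Fintype.card_subtype]
  rw [h3, Finset.card_eq_sum_ones]
  refine (Nat.add_le_add_right (Nat.mul_le_mul_left _ h2) _).trans ?_
  rw [Finset.mul_sum, ← Finset.sum_add_distrib]
  refine Finset.sum_le_sum fun i hi => ?_
  obtain ⟨x, -, hx⟩ := Finset.mem_image.1 hi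
  have h4 : Fintype.card {x // f x = i} ≠ 0 := by
    have : Nonempty {x // f x = i} := ⟨⟨x, hx⟩⟩
    exact Fintype.card_ne_zero
  have h5 := sub_one_mul_padicValNat_factorial_lt_of_ne_zero r h4
  rw [Nat.factorization_def _ hr]
  exact h5

end tools

section cls
variable {G : Type} [Group G] {S H : Subgroup G} {g : G} {𝒯 : Set (Subgroup G)}

/-- the action of `H` on `𝒯` -/
def act (c : Cls S H g 𝒯) : H →* Equiv.Perm 𝒯 :=
  MonoidHom.mk' (fun h =>
    { toFun := fun T => ⟨cj (h : G)⁻¹ T, c.inv _ (inv_mem h.2) _ T.2⟩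
      invFun := fun T => ⟨cj (h : G) T, c.inv _ h.2 _ T.2⟩
      left_inv := fun T => Subtype.ext (cj_cj_inv _ _)
      right_inv := fun T => Subtype.ext (cj_inv_cj _ _) }) fun a b => by
    ext T : 2
    change cj ((a : G) * b)⁻¹ T = cj (a : G)⁻¹ (cj (b : G)⁻¹ T)
    rw [mul_inv_rev, cj_mul]

theorem iso_T (c : Cls S H g 𝒯) {T₁ T₂ : Subgroup G} (h₁ : T₁ ∈ 𝒯) (h₂ : T₂ ∈ 𝒯) : Nonempty (T₁ ≃* T₂) := by
  obtain ⟨γ, rfl⟩ := c.conj T₁ h₁ T₂ h₂
  exact ⟨cjEquiv γ T₁⟩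

theorem iso_T' (c : Cls S H g 𝒯) {T₁ T₂ : Subgroup G} (h₁ : T₁ ∈ 𝒯) (h₂ : T₂ ∈ 𝒯) : Nonempty (T₁ ≃* cj g T₂) := by
  obtain ⟨e⟩ := iso_T c h₁ h₂
  exact ⟨e.trans (cjEquiv g T₂)⟩

variable (g 𝒯)

/-- the members `T₂` such that `g⁻¹ T₂ g` moves a member of `𝒯` -/
def Mov : Set (Subgroup G) := {T₂ | T₂ ∈ 𝒯 ∧ ¬ ∀ T ∈ 𝒯, cj g T₂ ≤ normalizer (T : Set G)}

/-- the members `T₂` such that `g⁻¹ T₂ g` centralizes all members of `𝒯` -/
def Cen : Set (Subgroup G) := {T₂ | T₂ ∈ 𝒯 ∧ ∀ T ∈ 𝒯, cj g T₂ ≤ centralizer (T : Set G)}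

/-- the others -/
def Cov : Set (Subgroup G) := {T₂ | T₂ ∈ 𝒯 ∧ (∀ T ∈ 𝒯, cj g T₂ ≤ normalizer (T : Set G)) ∧
  ¬ ∀ T ∈ 𝒯, cj g T₂ ≤ centralizer (T : Set G)}

variable {g 𝒯} [Finite G]

theorem ncard_le : 𝒯.ncard ≤ (Mov g 𝒯).ncard + (Cov g 𝒯).ncard + (Cen g 𝒯).ncard := by
  refine le_trans (Set.ncard_le_ncard (t := Mov g 𝒯 ∪ Cov g 𝒯 ∪ Cen g 𝒯) fun T hT => ?_)
    ((Set.ncard_union_le _ _).trans (Nat.add_le_add_right (Set.ncard_union_le _ _) _))
  by_cases h1 : ∀ A ∈ 𝒯, cj g T ≤ normalizer (A : Set G)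
  · by_cases h2 : ∀ A ∈ 𝒯, cj g T ≤ centralizer (A : Set G)
    · exact Or.inr ⟨hT, h2⟩
    · exact Or.inl (Or.inr ⟨hT, h1, h2⟩)
  · exact Or.inl (Or.inl ⟨hT, h1⟩)

theorem count (big : Big) (c : Cls S H g 𝒯) :
    4 * (Mov g 𝒯).ncard + (Cov g 𝒯).ncard ≤ 𝒯.ncard ∧ 4 * (Mov g 𝒯).ncard + 1 ≤ 𝒯.ncard := by
  classical
  obtain ⟨T₀, h₀⟩ := c.nonempty
  have hs := c.tsimple T₀ h₀
  obtain ⟨r, hr, h5, hd⟩ := H786.KW.exists_prime_ge_five (c.tnoncomm T₀ h₀)
  have : Fintype 𝒯 := Fintype.ofFinite _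
  have : Fintype (Mov g 𝒯) := Fintype.ofFinite _
  let f : 𝒯 → Set (Subgroup G) := fun T => {T₂ | T₂ ∈ Cov g 𝒯 ∧ ¬ cj g T₂ ≤ centralizer ((T : Subgroup G) : Set G)}
  let e : ∀ i : Mov g 𝒯, T₀ ≃* cj g i := fun i => (iso_T' c h₀ i.2.1).some
  let φ : Mov g 𝒯 → (T₀ →* Equiv.Perm 𝒯) := fun i =>
    (act c).comp ((inclusion (T'_le_H c i.2.1)).comp (e i).toMonoidHom)
  have hφ : ∀ i t (T : 𝒯), (φ i t T : Subgroup G) = cj ((e i t : G))⁻¹ T := fun _ _ _ => rfl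
  have hinj : ∀ i, Function.Injective (φ i) := by
    intro i
    rw [← MonoidHom.ker_eq_bot_iff]
    rcases hs.eq_bot_or_eq_top_of_normal (φ i).ker inferInstance with h | h
    · exact h
    · exfalso
      refine i.2.2 fun T hT y hy => ?_
      have h1 : φ i ((e i).symm ⟨y, hy⟩) = 1 := by
        rw [← MonoidHom.mem_ker, h]
        exact mem_top _
      have h2 := hφ i ((e i).symm ⟨y, hy⟩) ⟨T, hT⟩
      rw [h1, MulEquiv.apply_symm_apply] at h2
      exact inv_mem_iff.1 (cj_eq_iff.1 h2.symm)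
  have hc : Pairwise fun i j => ∀ x y, Commute (φ i x) (φ j y) := by
    intro i j hij x y
    refine Commute.map (Subtype.ext ?_) (act c)
    exact comm_T' c i.2.1 j.2.1 (fun h => hij (Subtype.ext h)) _ (e i x).2 _ (e j y).2
  have hle : (MonoidHom.noncommPiCoprod (N := fun _ => T₀) φ hc).range ≤ fib f := by
    rw [MonoidHom.noncommPiCoprod_range]
    refine iSup_le fun i => ?_
    rintro _ ⟨t, rfl⟩
    funext T
    ext T₃
    change (T₃ ∈ Cov g 𝒯 ∧ ¬ cj g T₃ ≤ centralizer ((φ i t T : Subgroup G) : Set G)) ↔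
      (T₃ ∈ Cov g 𝒯 ∧ ¬ cj g T₃ ≤ centralizer ((T : Subgroup G) : Set G))
    refine and_congr_right fun h₃ => not_congr ?_
    rw [hφ, centralizer_cj]
    have hne : (i : Subgroup G) ≠ T₃ := fun h => i.2.2 (h ▸ h₃.2.1)
    refine forall₂_congr fun z hz => ?_
    rw [mem_cj_inv, mul_assoc, ← comm_T' c i.2.1 h₃.1 hne _ (e i t).2 z hz, inv_mul_cancel_left]
  have h1 : r ^ (Mov g 𝒯).ncard ∣ Nat.card (fib f) := by
    refine dvd_trans ?_ (card_dvd_of_le hle)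
    rw [← Nat.card_congr (MonoidHom.ofInjective (pi_inj hs (c.tnoncomm T₀ h₀) φ hinj hc)).toEquiv, Nat.card_fun]
    exact pow_dvd_pow_of_dvd hd _
  have h2 := fib_count f hr h1
  rw [← Nat.card_eq_fintype_card, Nat.card_coe_set_eq] at h2
  have h3 : 4 * (Mov g 𝒯).ncard ≤ (r - 1) * (Mov g 𝒯).ncard := Nat.mul_le_mul_right _ (by omega)
  have h4 : (Cov g 𝒯).ncard ≤ (Finset.univ.image f).card := by
    rw [← Set.ncard_coe_finset]
    refine Set.ncard_le_ncard_of_injOn (fun T₂ => {T₂}) (fun T₂ h₂ => ?_) (fun _ _ _ _ h => Set.singleton_injective h)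
    obtain ⟨T, hT⟩ := not_forall.1 h₂.2.2
    obtain ⟨hT, hT'⟩ := Classical.not_imp.1 hT
    refine Finset.mem_coe.2 (Finset.mem_image.2 ⟨⟨T, hT⟩, Finset.mem_univ _, ?_⟩)
    ext T₃
    exact ⟨fun h₃ => supp_unique big c hT h₃.1.1 h₂.1 (h₃.1.2.1 T hT) (h₂.2.1 T hT) h₃.2 hT',
      fun h₃ => by rw [Set.mem_singleton_iff.1 h₃]; exact ⟨h₂, hT'⟩⟩
  have h6 : 1 ≤ (Finset.univ.image f).card :=
    Finset.card_pos.2 ⟨_, Finset.mem_image_of_mem f (Finset.mem_univ ⟨T₀, h₀⟩)⟩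
  omega

theorem three_le (big : Big) (c : Cls S H g 𝒯) (h : (Mov g 𝒯).Nonempty) : 5 ≤ 𝒯.ncard ∧ 3 ≤ (Cen g 𝒯).ncard := by
  have h1 := count big c
  have h2 := ncard_le (g := g) (𝒯 := 𝒯)
  have h3 := (Set.ncard_pos (Set.toFinite _)).2 h
  omega

/-- if no `g⁻¹ T g` moves a member of `𝒯` or centralizes `X`, all supports have one element -/
theorem supp_single (big : Big) (c : Cls S H g 𝒯) (hn : ∀ T₁ ∈ 𝒯, ∀ T₂ ∈ 𝒯, cj g T₂ ≤ normalizer (T₁ : Set G))
    (hC : Cen g 𝒯 = ∅) {T₁ T₂ T₃ : Subgroup G} (h₁ : T₁ ∈ 𝒯) (h₂ : T₂ ∈ 𝒯) (h₃ : T₃ ∈ 𝒯)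
    (c₁ : ¬ cj g T₂ ≤ centralizer (T₁ : Set G)) (c₃ : ¬ cj g T₂ ≤ centralizer (T₃ : Set G)) : T₁ = T₃ := by
  have hex : ∀ A : 𝒯, ∃ B : 𝒯, ¬ cj g A ≤ centralizer ((B : Subgroup G) : Set G) := by
    intro A
    by_contra h
    push Not at h
    have : (A : Subgroup G) ∈ Cen g 𝒯 := ⟨A.2, fun T hT => h ⟨T, hT⟩⟩
    rw [hC] at this
    exact this
  choose f hf using hex
  have hu : ∀ (A : 𝒯) (B : Subgroup G), B ∈ 𝒯 → ¬ cj g B ≤ centralizer ((f A : Subgroup G) : Set G) →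
      (A : Subgroup G) = B :=
    fun A B hB h => supp_unique big c (f A).2 A.2 hB (hn _ (f A).2 _ A.2) (hn _ (f A).2 _ hB) (hf A) h
  have hinj : Function.Injective f := fun A B h => Subtype.ext (hu A B B.2 (h ▸ hf B))
  have hsurj := Finite.surjective_of_injective hinj
  obtain ⟨A, hA⟩ := hsurj ⟨T₁, h₁⟩
  obtain ⟨B, hB⟩ := hsurj ⟨T₃, h₃⟩
  have e1 := hu A T₂ h₂ (by rw [hA]; exact c₁)
  have e2 := hu B T₂ h₂ (by rw [hB]; exact c₃)
  have e3 : A = B := Subtype.ext (e1.trans e2.symm)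
  rw [e3, hB] at hA
  exact (congrArg Subtype.val hA).symm

end cls

/-- [R4] -/
theorem redCopy : RedCopy := by
  intro big G _ _ S H g 𝒯 c T hT
  rcases (Cen g 𝒯).eq_empty_or_nonempty with hC | ⟨T₂, h₂, h₂'⟩
  · have hn : ∀ T₁ ∈ 𝒯, ∀ T₂ ∈ 𝒯, cj g T₂ ≤ normalizer (T₁ : Set G) := by
      intro T₁ h₁ T₂ h₂
      by_contra h
      have := (three_le big c ⟨T₂, h₂, fun h' => h (h' T₁ h₁)⟩).2
      rw [hC, Set.ncard_empty] at this
      omega
    obtain ⟨T₁, h₁, T₂, h₂, hc, hne⟩ := exists_proper c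
    obtain ⟨σ, hσ⟩ := proj_T' big c h₁ h₂ (hn T₁ h₁ T₂ h₂) hc
    obtain ⟨ψ, hψ, e⟩ := exists_diag (c.tsimple _ h₁) hne σ hσ
    obtain ⟨ε⟩ := iso_T c hT h₁
    refine ⟨ψ.comp ε.toMonoidHom, hψ.inj.comp ε.injective, fun t => ?_⟩
    change ψ (ε t) ∈ S ∧ ψ (ε t) ∈ _
    rw [e]
    refine ⟨mul_mem (inv_mem (c.le_S _ h₁ (ε t).2)) (T'_le_S c h₂ (σ _).2), mem_cent_sSup fun A hA => ?_⟩
    by_cases h : A = T₁
    · rw [h]
      exact hσ _
    · refine mul_mem (inv_mem (mem_centralizer_iff.2 fun a ha => c.comm A hA T₁ h₁ h a ha _ (ε t).2)) ?_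
      by_contra h'
      exact h (supp_single big c hn hC hA h₂ h₁ (fun h'' => h' (h'' (σ _).2)) hc)
  · obtain ⟨ε⟩ := iso_T' c hT h₂
    exact ⟨(cj g T₂).subtype.comp ε.toMonoidHom, (cj g T₂).subtype_injective.comp ε.injective,
      fun t => ⟨T'_le_S c h₂ (ε t).2, mem_cent_sSup fun A hA => h₂' A hA (ε t).2⟩⟩

/-- [R6] -/
theorem redRank : RedRank := by
  intro big G _ _ S H g 𝒯 c hr T₁ h₁ T₂ h₂
  by_contra h
  obtain ⟨h5, h3⟩ := three_le big c ⟨T₂, h₂, fun h' => h (h' T₁ h₁)⟩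
  have hs := c.tsimple T₁ h₁
  have : Fintype 𝒯 := Fintype.ofFinite _
  have : Fintype (Cen g 𝒯) := Fintype.ofFinite _
  obtain ⟨a⟩ : Nonempty (Fin 5 ↪ 𝒯) := Function.Embedding.nonempty_of_card_le (by
    rwa [Fintype.card_fin, ← Nat.card_eq_fintype_card, Nat.card_coe_set_eq])
  obtain ⟨b⟩ : Nonempty (Fin 3 ↪ Cen g 𝒯) := Function.Embedding.nonempty_of_card_le (by
    rwa [Fintype.card_fin, ← Nat.card_eq_fintype_card, Nat.card_coe_set_eq])
  let Y : Fin 5 ⊕ Fin 3 → Subgroup G := Sum.elim (fun i => a i) fun j => cj g (b j)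
  have hYS : ∀ i, Y i ≤ S := by
    rintro (i | j)
    · exact c.le_S _ (a i).2
    · exact T'_le_S c (b j).2.1
  have hiso : ∀ i, Nonempty (T₁ ≃* Y i) := by
    rintro (i | j)
    · exact iso_T c h₁ (a i).2
    · exact iso_T' c h₁ (b j).2.1
  have hcomm : ∀ i j, i ≠ j → ∀ x ∈ Y i, ∀ y ∈ Y j, x * y = y * x := by
    rintro (i | i) (j | j) hij x hx y hy
    · exact c.comm _ (a i).2 _ (a j).2 (fun e => hij (by rw [a.injective (Subtype.ext e)])) x hx y hy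
    · exact mem_centralizer_iff.1 ((b j).2.2 _ (a i).2 hy) x hx
    · exact (mem_centralizer_iff.1 ((b i).2.2 _ (a j).2 hx) y hy).symm
    · exact comm_T' c (b i).2.1 (b j).2.1 (fun e => hij (by rw [b.injective (Subtype.ext e)])) x hx y hy
  let ι : Fin 8 ≃ Fin 5 ⊕ Fin 3 := (finSumFinEquiv (m := 5) (n := 3)).symm
  let φ : Fin 8 → (T₁ →* S) := fun i => (inclusion (hYS (ι i))).comp (hiso (ι i)).some.toMonoidHom
  exact hr T₁ (c.tnoncomm T₁ h₁) _ (pi_inj hs (c.tnoncomm T₁ h₁) φ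
    (fun i => (inclusion_injective (hYS (ι i))).comp (hiso (ι i)).some.injective)
    fun i j hij x y => Subtype.ext (hcomm _ _ (fun e => hij (ι.injective e)) _ ((hiso (ι i)).some x).2 _
      ((hiso (ι j)).some y).2))

/-- **The reduction.** -/
theorem red : Red := ⟨redNorm, redSolv, redCls, redCopy, redDiag, redRank, redCent⟩

end Cfsg.Agent.Cam.Rd
end
end

-- part: Cam/Ex/E2A
section
set_option linter.all false
open scoped Cfsg.Agent.FastGrp

/-!
# S3689, S3690, `E₇` in characteristic two: the group theory (helper53)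
-/

set_option autoImplicit false
set_option linter.unusedVariables false
set_option linter.unusedSectionVars false

namespace Cfsg.Agent.Cam.Ex.E2

open Subgroup Cfsg.Agent.Cam.Spor Cfsg.Agent.TwoFusion.PerfCore
open scoped commutatorElement Pointwise

variable {L : Type} [Group L] [Finite L]

theorem eq_bot_of_pgroup {P : Subgroup L} (hP : ⁅P, P⁆ = P) {p : ℕ} [Fact p.Prime] (h : IsPGroup p P) : P = ⊥ := by
  have := h.isNilpotent
  exact eq_bot_of_perfect_of_solvable hP inferInstance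

theorem exists_five {P : Subgroup L} (hP : ⁅P, P⁆ = P) (h0 : P ≠ ⊥) : ∃ r : ℕ, r.Prime ∧ 5 ≤ r ∧ ∃ w ∈ P, orderOf w = r := by
  by_contra h
  refine h0 (eq_bot_of_perfect_of_solvable hP
    (SolvableStructure.HallConverse.isSolvable_of_no_three_primes (le_trans (Finset.card_le_card
      (t := ({2, 3} : Finset ℕ)) fun r hr => ?_) Finset.card_le_two)))
  have h1 := Nat.prime_of_mem_primeFactors hr
  have := Fact.mk h1
  obtain ⟨w, hw⟩ := exists_prime_orderOf_dvd_card' r (Nat.dvd_of_mem_primeFactors hr)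
  have h3 : r < 5 := by
    by_contra h4
    exact h ⟨r, h1, by omega, w, w.2, by rw [Subgroup.orderOf_coe, hw]⟩
  have h5 := h1.two_le
  interval_cases r
  · simp
  · simp
  · exact absurd h1 (by norm_num)

/-- Baer–Suzuki for an element normalizing a simple group -/
theorem exists_pair {T : Subgroup L} (hs : IsSimpleGroup T) (hn : ¬ IsMulCommutative T) {p : ℕ} [Fact p.Prime] {u : L}
    (hu : u ∈ normalizer (T : Set L)) (hc : ¬ ∀ t ∈ T, u * t = t * u) :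
    ∃ t ∈ T, ¬ IsPGroup p (closure {u, t * u * t⁻¹} : Subgroup L) := by
  by_contra h
  push Not at h
  have hH : ∀ g ∈ T ⊔ zpowers u, ∃ t ∈ T, ∃ a ∈ zpowers u, g = t * a := by
    intro g hg
    have h1 : ((T ⊔ zpowers u : Subgroup L) : Set L) = (T : Set L) * (zpowers u : Set L) :=
      coe_mul_of_right_le_normalizer_left T (zpowers u) (by rwa [zpowers_le])
    have h2 : g ∈ (T : Set L) * (zpowers u : Set L) := h1 ▸ hg
    obtain ⟨t, ht, a, ha, rfl⟩ := h2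
    exact ⟨t, ht, a, ha, rfl⟩
  have hu' : u ∈ T ⊔ zpowers u := mem_sup_right (mem_zpowers u)
  have h1 := Involutions.BaerSuzuki.baer_suzuki_element (p := p) (⟨u, hu'⟩ : ↥(T ⊔ zpowers u)) fun g => by
    obtain ⟨t, ht, a, ha, e⟩ := hH g.1 g.2
    have e2 : a * u = u * a := by
      obtain ⟨n, rfl⟩ := ha
      exact (Commute.zpow_self u n).eq
    refine ((h t ht).comap_of_injective (T ⊔ zpowers u).subtype (T ⊔ zpowers u).subtype_injective).to_le ?_
    rw [closure_le]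
    rintro _ (rfl | rfl)
    · exact subset_closure (Or.inl rfl)
    · refine subset_closure (Or.inr ?_)
      show g.1 * u * g.1⁻¹ = t * u * t⁻¹
      rw [e, mul_assoc t a u, e2]; group
  set N := (normalClosure {(⟨u, hu'⟩ : ↥(T ⊔ zpowers u))}).map (T ⊔ zpowers u).subtype with hN
  have h2 : IsPGroup p N := h1.map _
  have h3 : ∀ t ∈ T, ∀ n ∈ N, t * n * t⁻¹ ∈ N := by
    rintro t ht _ ⟨n, hn, rfl⟩
    exact ⟨(⟨t, mem_sup_left ht⟩ * n * ⟨t, mem_sup_left ht⟩⁻¹ :), normalClosure_normal.conj_mem n hn _, rfl⟩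
  have h4 : u ∈ N := ⟨⟨u, hu'⟩, subset_normalClosure rfl, rfl⟩
  rcases eq_bot_or_eq hs (N := N ⊓ T) inf_le_right (fun t ht n hn =>
    mem_inf.2 ⟨h3 t ht n hn.1, mul_mem (mul_mem ht (mem_inf.1 hn).2) (inv_mem ht)⟩) with h5 | h5
  · refine hc fun t ht => ?_
    have h6 : t * u * t⁻¹ * u⁻¹ ∈ N ⊓ T := by
      refine mem_inf.2 ⟨mul_mem (h3 t ht u h4) (inv_mem h4), ?_⟩
      have := mul_mem ht (conj_mem_of_norm hu (inv_mem ht))
      simpa only [mul_assoc] using this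
    rw [h5, mem_bot] at h6
    calc u * t = (t * u * t⁻¹ * u⁻¹) * (u * t) := by rw [h6, one_mul]
      _ = t * u := by group
  · have h6 : T = ⊥ := eq_bot_of_pgroup (perfect_of_simple hs hn) (h2.to_le (h5.symm.le.trans inf_le_left))
    exact hc fun t ht => by rw [h6, mem_bot] at ht; rw [ht, mul_one, one_mul]

variable {U : Type} [Group U] [Finite U] {τ α β : U →* L} {R R' : Subgroup L}

theorem alpha_conj_mem (pr : Pair α R') {e : L} (he : e ∈ α.range ⊔ R') {t : L} (ht : t ∈ α.range) :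
    e * t * e⁻¹ ∈ α.range := by
  obtain ⟨x, hx, y, hy, rfl⟩ := mem_sup_of_comm (by rintro _ ⟨v, rfl⟩ y hy; exact pr.comm v y hy) he
  obtain ⟨v, rfl⟩ := ht
  have : x * y * α v * (x * y)⁻¹ = x * α v * x⁻¹ := by rw [mul_assoc x, ← pr.comm v y hy]; group
  rw [this]
  exact mul_mem (mul_mem hx ⟨v, rfl⟩) (inv_mem hx)

/-- the conjugates of `α U` under the normalizer of `α U R'` -/
theorem norm_or_comm (hs : IsSimpleGroup U) (pr : Pair α R') {n : L}
    (hn : n ∈ normalizer ((α.range ⊔ R' : Subgroup L) : Set L)) :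
    n ∈ normalizer (α.range : Set L) ∨ ∀ a ∈ α.range, ∀ b ∈ α.range, (n * a * n⁻¹) * b = b * (n * a * n⁻¹) := by
  have h1 : ∀ e ∈ α.range ⊔ R', ∀ x, n⁻¹ * x * n ∈ α.range → n⁻¹ * (e * x * e⁻¹) * n ∈ α.range := fun e he x hx => by
    have h2 := alpha_conj_mem pr (conj_mem_of_norm (inv_mem hn) he) hx
    have e1 : n⁻¹ * e * n⁻¹⁻¹ * (n⁻¹ * x * n) * (n⁻¹ * e * n⁻¹⁻¹)⁻¹ = n⁻¹ * (e * x * e⁻¹) * n := by group
    rwa [e1] at h2
  rcases eq_bot_or_eq (range_simple hs pr.inj) (N := α.range ⊓ α.range.comap (MulAut.conj n⁻¹).toMonoidHom) inf_le_left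
    (fun t ht x hx => mem_inf.2 ⟨mul_mem (mul_mem ht (mem_inf.1 hx).1) (inv_mem ht), by
      have h2 : n⁻¹ * x * n⁻¹⁻¹ ∈ α.range := hx.2
      show n⁻¹ * (t * x * t⁻¹) * n⁻¹⁻¹ ∈ α.range
      rw [inv_inv] at h2 ⊢
      exact h1 t (mem_sup_left ht) x h2⟩) with h | h
  · refine Or.inr fun a ha b hb => ?_
    have h2 : ⁅n * a * n⁻¹, b⁆ ∈ α.range ⊓ α.range.comap (MulAut.conj n⁻¹).toMonoidHom := by
      refine mem_inf.2 ⟨?_, ?_⟩
      · exact mul_mem (alpha_conj_mem pr (conj_mem_of_norm hn (mem_sup_left ha)) hb) (inv_mem hb)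
      · show n⁻¹ * ⁅n * a * n⁻¹, b⁆ * n⁻¹⁻¹ ∈ α.range
        have h3 := h1 b (mem_sup_left hb) (n * a⁻¹ * n⁻¹) (by
          have : n⁻¹ * (n * a⁻¹ * n⁻¹) * n = a⁻¹ := by group
          rw [this]; exact inv_mem ha)
        have e : n⁻¹ * ⁅n * a * n⁻¹, b⁆ * n⁻¹⁻¹ = a * (n⁻¹ * (b * (n * a⁻¹ * n⁻¹) * b⁻¹) * n) := by
          rw [commutatorElement_def]; group
        rw [e]
        exact mul_mem ha h3
    rw [h, mem_bot] at h2
    exact commutatorElement_eq_one_iff_mul_comm.1 h2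
  · refine Or.inl (inv_mem_iff.1 (mem_normalizer_of fun y hy => ?_))
    exact (h.symm.le hy).2

theorem exists_not_two (hs : IsSimpleGroup U) (hn : ¬ IsMulCommutative U) : ∃ a : U, ∀ k : ℕ, a ^ 2 ^ k ≠ 1 := by
  by_contra h
  push Not at h
  have := Fact.mk Nat.prime_two
  have h1 : IsPGroup 2 (⊤ : Subgroup U) := fun g => by
    obtain ⟨k, hk⟩ := h g.1
    exact ⟨k, Subtype.ext hk⟩
  have h2 := eq_bot_of_pgroup (commutator_top hs hn) h1
  refine hn ⟨⟨fun a b => ?_⟩⟩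
  have ha : a ∈ (⊥ : Subgroup U) := h2 ▸ mem_top a
  rw [mem_bot.1 ha, one_mul, mul_one]

/-- the centralizer of all the images of `A` under the stabilizer of `E` -/
def orbC (E A : Subgroup L) : Subgroup L where
  carrier := {x | ∀ θ : MulAut L, E.map θ.toMonoidHom = E → ∀ a ∈ A, θ a * x = x * θ a}
  one_mem' := fun θ _ a _ => by rw [mul_one, one_mul]
  mul_mem' := fun {x y} hx hy θ h a ha => by rw [← mul_assoc, hx θ h a ha, mul_assoc, hy θ h a ha, mul_assoc]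
  inv_mem' := fun {x} hx θ h a ha => by
    rw [mul_inv_eq_iff_eq_mul, mul_assoc, hx θ h a ha, inv_mul_cancel_left]

theorem stab_one (E : Subgroup L) : E.map (1 : MulAut L).toMonoidHom = E := map_id E

theorem stab_mul {E : Subgroup L} {θ θ' : MulAut L} (h : E.map θ.toMonoidHom = E) (h' : E.map θ'.toMonoidHom = E) :
    E.map (θ * θ').toMonoidHom = E := by
  have : (θ * θ').toMonoidHom = θ.toMonoidHom.comp θ'.toMonoidHom := rfl
  rw [this, ← map_map, h', h]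

theorem stab_inv {E : Subgroup L} {θ : MulAut L} (h : E.map θ.toMonoidHom = E) : E.map θ⁻¹.toMonoidHom = E := by
  conv_lhs => rw [← h]
  rw [map_map]
  have : θ⁻¹.toMonoidHom.comp θ.toMonoidHom = MonoidHom.id L := MonoidHom.ext fun x => θ.symm_apply_apply x
  rw [this, map_id]

theorem stab_mem {E : Subgroup L} {θ : MulAut L} (h : E.map θ.toMonoidHom = E) {x : L} (hx : x ∈ E) : θ x ∈ E :=
  h ▸ mem_map_of_mem θ.toMonoidHom hx

theorem orbC_mem {E A : Subgroup L} {θ : MulAut L} (h : E.map θ.toMonoidHom = E) {x : L} (hx : x ∈ orbC E A) :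
    θ x ∈ orbC E A := fun θ' h' a ha => by
  have h1 := congrArg θ (hx (θ⁻¹ * θ') (stab_mul (stab_inv h) h') a ha)
  rwa [map_mul, map_mul, MulAut.mul_apply, MulAut.apply_inv_self] at h1

/-- `max` for `α U R'` -/
theorem orbC_le (c : Core τ α β R R') (hL : IsSimpleGroup L) (hL' : ¬ IsMulCommutative L) {A : Subgroup L} (hA : A ≠ ⊥) :
    orbC (α.range ⊔ R') A ≤ normalizer ((α.range ⊔ R' : Subgroup L) : Set L) := by
  obtain ⟨θ₀, h₀⟩ := c.hconj
  have h1 := (c.map θ₀).max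
  rw [range_comp_equiv, ← Subgroup.map_sup, ← h₀] at h1
  refine h1 _ (fun h => hA (eq_bot_iff.2 fun a ha => ?_)) fun θ hθ => le_antisymm ?_ fun x hx => ?_
  · refine mem_bot.2 (eq_one_of_comm hL hL' fun x => ?_)
    have h2 : x ∈ orbC (α.range ⊔ R') A := h ▸ mem_top x
    exact h2 1 (stab_one _) a ha
  · rintro _ ⟨x, hx, rfl⟩
    exact orbC_mem hθ hx
  · exact ⟨θ⁻¹ x, orbC_mem (stab_inv hθ) hx, MulAut.apply_inv_self L θ x⟩

/-- `E` lies in the direct product of `K` and `C` -/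
structure Sp (E K C : Subgroup L) : Prop where
  perf : ⁅E, E⁆ = E
  dec : ∀ e ∈ E, ∃ k ∈ K, k⁻¹ * e ∈ C
  disj : ∀ x ∈ K, x ∈ C → x = 1
  comm : ∀ k ∈ K, ∀ c ∈ C, k * c = c * k
  two : ∀ A B : Subgroup L, A ≤ E → B ≤ E → ⁅A, A⁆ = A → (∀ a ∈ A, ∀ b ∈ B, a * b = b * a) → A ≤ C ∨ B ≤ C
  norm : K ≤ normalizer (E : Set L)

variable {E K C K' C' : Subgroup L}

theorem Sp.map (h : Sp E K C) {θ : MulAut L} (hθ : E.map θ.toMonoidHom = E) :
    Sp E (K.map θ.toMonoidHom) (C.map θ.toMonoidHom) where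
  perf := h.perf
  dec e he := by
    obtain ⟨k, hk, h1⟩ := h.dec _ (stab_mem (stab_inv hθ) he)
    refine ⟨θ k, mem_map_of_mem _ hk, k⁻¹ * θ⁻¹ e, h1, ?_⟩
    show θ (k⁻¹ * θ⁻¹ e) = _
    rw [map_mul, map_inv, MulAut.apply_inv_self]
  disj := by
    rintro _ ⟨x, hx, rfl⟩ hx'
    rw [h.disj x hx ((mem_map_equiv' θ).1 hx'), map_one]
  comm := by
    rintro _ ⟨x, hx, rfl⟩ _ ⟨y, hy, rfl⟩
    rw [← map_mul, h.comm x hx y hy, map_mul]
  two A B hA hB hp hc := by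
    have key : ∀ X : Subgroup L, X.map θ⁻¹.toMonoidHom ≤ C → X ≤ C.map θ.toMonoidHom := fun X hX x hx =>
      ⟨θ⁻¹ x, hX (mem_map_of_mem _ hx), MulAut.apply_inv_self L θ x⟩
    refine (h.two (A.map θ⁻¹.toMonoidHom) (B.map θ⁻¹.toMonoidHom) ((map_mono hA).trans (stab_inv hθ).le)
      ((map_mono hB).trans (stab_inv hθ).le) (map_perfect hp _) ?_).imp (key A) (key B)
    rintro _ ⟨x, hx, rfl⟩ _ ⟨y, hy, rfl⟩
    rw [← map_mul, hc x hx y hy, map_mul]
  norm := by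
    rintro _ ⟨x, hx, rfl⟩
    have := (mem_normalizer_equiv θ).2 (h.norm hx)
    rwa [hθ] at this

theorem Sp.le_sup (h : Sp E K C) : E ≤ C ⊔ K ⊓ E := by
  conv_lhs => rw [← h.perf]
  rw [commutator_le]
  intro e he e' he'
  obtain ⟨k, hk, hc⟩ := h.dec e he
  obtain ⟨k', hk', hc'⟩ := h.dec e' he'
  obtain ⟨c, rfl⟩ : ∃ c, e = k * c := ⟨k⁻¹ * e, by group⟩
  obtain ⟨c', rfl⟩ : ∃ c', e' = k' * c' := ⟨k'⁻¹ * e', by group⟩
  rw [inv_mul_cancel_left] at hc hc'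
  have c1 : Commute k c := h.comm k hk c hc
  have c2 : Commute k c' := h.comm k hk c' hc'
  have c3 : Commute k' c := h.comm k' hk' c hc
  have c4 : Commute k' c' := h.comm k' hk' c' hc'
  have hcc : ⁅c, c'⁆ ∈ C := mul_mem (mul_mem (mul_mem hc hc') (inv_mem hc)) (inv_mem hc')
  have hkk : ⁅k, k'⁆ ∈ K := mul_mem (mul_mem (mul_mem hk hk') (inv_mem hk)) (inv_mem hk')
  have e1 : ⁅k, k' * c'⁆ = ⁅k, k'⁆ := by
    rw [commutatorElement_def, commutatorElement_def, mul_assoc k, mul_assoc k', c2.inv_left.symm.eq]; group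
  have e2 : ⁅k * c, k' * c'⁆ = ⁅k, k'⁆ * ⁅c, c'⁆ := by
    have d1 : Commute k' ⁅c, c'⁆ := h.comm k' hk' _ hcc
    have d2 : Commute k ⁅c, c'⁆ := h.comm k hk _ hcc
    calc ⁅k * c, k' * c'⁆ = k * (c * k') * (c' * c⁻¹ * k⁻¹ * c'⁻¹) * k'⁻¹ := by rw [commutatorElement_def]; group
      _ = k * k' * (⁅c, c'⁆ * k⁻¹) * k'⁻¹ := by
        rw [← c3.eq, mul_assoc (c' * c⁻¹), c2.inv_inv.eq, commutatorElement_def]; group
      _ = k * k' * k⁻¹ * (⁅c, c'⁆ * k'⁻¹) := by rw [← d2.inv_left.eq]; group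
      _ = _ := by rw [← d1.inv_left.eq, commutatorElement_def k k']; group
  rw [e2]
  refine mul_mem (mem_sup_right (mem_inf.2 ⟨hkk, ?_⟩)) (mem_sup_left hcc)
  rw [← e1]
  exact mul_mem (conj_mem_of_norm (h.norm hk) he') (inv_mem he')

theorem Sp.comm' (h : Sp E K C) : ∀ x ∈ C, ∀ a ∈ K ⊓ E, x * a = a * x := fun x hx a ha => (h.comm a ha.1 x hx).symm

theorem Sp.perfect (h : Sp E K C) : ⁅K ⊓ E, K ⊓ E⁆ = K ⊓ E := by
  have h0 : ⁅K ⊓ E, K ⊓ E⁆ ≤ K ⊓ E := commutator_le.2 fun a ha b hb =>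
    mul_mem (mul_mem (mul_mem ha hb) (inv_mem ha)) (inv_mem hb)
  refine le_antisymm h0 fun x hx => ?_
  have h1 : E ≤ C ⊔ ⁅K ⊓ E, K ⊓ E⁆ :=
    h.perf.symm.le.trans ((commutator_mono h.le_sup h.le_sup).trans (commutator_sup_le h.comm'))
  obtain ⟨c, hc, y, hy, rfl⟩ := mem_sup_of_comm (fun x hx a ha => h.comm' x hx a (h0 ha)) (h1 hx.2)
  have h2 : c ∈ K := by simpa using mul_mem (mem_inf.1 hx).1 (inv_mem (mem_inf.1 (h0 hy)).1)
  rwa [h.disj c h2 hc, one_mul]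

theorem Sp.ne_bot (h : Sp E K C) (hE : ¬ E ≤ C) : K ⊓ E ≠ ⊥ := fun h0 => hE (by
  have := h.le_sup
  rwa [h0, sup_bot_eq] at this)

theorem Sp.le_of (h : Sp E K C) (h' : Sp E K' C') (h1 : C ⊓ E ≤ C') (h2 : C' ⊓ E ≤ C) : K ⊓ E ≤ K' ⊓ E := by
  have hc : ∀ x ∈ K' ⊓ E, ∀ a ∈ C' ⊓ E ⊓ centralizer ((C' ⊓ E : Subgroup L) : Set L), x * a = a * x :=
    fun x hx a ha => h'.comm x hx.1 a ha.1.1
  have h3 : K ⊓ E ≤ K' ⊓ E ⊔ C' ⊓ E ⊓ centralizer ((C' ⊓ E : Subgroup L) : Set L) := fun x hx => by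
    obtain ⟨c, hc, y, hy, rfl⟩ := mem_sup_of_comm h'.comm' (h'.le_sup hx.2)
    have h4 : c ∈ E := by simpa using mul_mem (mem_inf.1 hx).2 (inv_mem (mem_inf.1 hy).2)
    refine mul_mem (mem_sup_right ⟨⟨hc, h4⟩, mem_centralizer_iff.2 fun z hz => ?_⟩) (mem_sup_left hy)
    have e1 := h.comm _ hx.1 z (h2 hz)
    have e2 := h'.comm _ hy.1 z hz.1
    rw [mul_assoc, e2, ← mul_assoc, ← mul_assoc] at e1
    exact (mul_right_cancel e1).symm
  refine h.perfect.symm.le.trans ((commutator_mono h3 h3).trans ((commutator_sup_le hc).trans (sup_le le_rfl ?_)))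
  rw [commutator_le]
  intro a ha b hb
  rw [commutatorElement_eq_one_iff_mul_comm.2 (mem_centralizer_iff.1 hb.2 a ha.1)]
  exact one_mem _

/-- two factors are equal or commute -/
theorem Sp.eq_or_comm (h : Sp E K C) (h' : Sp E K' C') :
    K ⊓ E = K' ⊓ E ∨ ∀ a ∈ K ⊓ E, ∀ b ∈ K' ⊓ E, a * b = b * a := by
  rcases h.two (K' ⊓ E) (C' ⊓ E) inf_le_right inf_le_right h'.perfect (fun a ha b hb => h'.comm a ha.1 b hb.1) with
    h1 | h1
  · exact Or.inr fun a ha b hb => h.comm a ha.1 b (h1 hb)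
  rcases h'.two (K ⊓ E) (C ⊓ E) inf_le_right inf_le_right h.perfect (fun a ha b hb => h.comm a ha.1 b hb.1) with
    h2 | h2
  · exact Or.inr fun a ha b hb => (h'.comm b hb.1 a (h2 ha)).symm
  exact Or.inl (le_antisymm (h.le_of h' h2 h1) (h'.le_of h h1 h2))

theorem Sp.orb (h : Sp E K C) {θ θ' : MulAut L} (hθ : E.map θ.toMonoidHom = E) (hθ' : E.map θ'.toMonoidHom = E) :
    (K ⊓ E).map θ.toMonoidHom = (K ⊓ E).map θ'.toMonoidHom ∨
      ∀ a ∈ (K ⊓ E).map θ.toMonoidHom, ∀ b ∈ (K ⊓ E).map θ'.toMonoidHom, a * b = b * a := by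
  rw [map_inf _ _ _ θ.injective, map_inf _ _ _ θ'.injective, hθ, hθ']
  exact (h.map hθ).eq_or_comm (h.map hθ')

end Cfsg.Agent.Cam.Ex.E2
end

-- part: Cam/Ex/PGrp
section
prune_inst 0xf5707f445de210000018059471003f46fe00019200688c010ce00f4607c8ef4024430961bdb0151318aa2644683c0468139800f0426000000e000000011c058118289000d0c90008000090000084000000000000000000000000000000000004200000000
set_option linter.all false
open scoped Cfsg.Agent.FastGrp

/-!
# Exceptional rows, `BoxP`: group theory (helper65)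

* `perf_le` : a perfect subgroup of `C(R)` lies in `T`;
* `comm_of` : if `J ≤ C(R)` is normalized by `α C_U(Q)`, `Q` commutative, then `J ∩ T` is abelian;
* `sgm`, `fixG` : a twisted Frobenius map of `SL₂(k)` and its fixed points (`fix_mem`, `fixG_perfect`).
-/

set_option autoImplicit false
set_option linter.unusedVariables false

namespace Cfsg.Agent.Cam.Ex.P

open Subgroup Cfsg.Agent.Cam.Spor Cfsg.Agent.Cam.Ex.S2
open Cfsg.Agent.ChevalleyStructure.SL2Hom (up lo)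
open Cfsg.Agent.Nodes.RGDFoldSL (hS wS)
open scoped commutatorElement

section grp

variable {L U : Type} [Group L] [Group U] [Finite L] {τ α β : U →* L} {R R' : Subgroup L}

/-- a perfect subgroup of `C(R)` lies in `T` -/
theorem perf_le (big : Big) (c : Core τ α β R R') {X : Subgroup L} (hX : ⁅X, X⁆ = X)
    (hc : X ≤ centralizer (R : Set L)) : X ≤ τ.range := by
  intro y hy
  obtain ⟨t, ⟨u, rfl⟩, h⟩ := Rd.inner_of_perfect big (range_simple c.simple c.pair.inj) hX (hc.trans c.pair.cnorm) hy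
  have h1 : (τ u)⁻¹ * y = 1 := c.pair.cfaith _ (mul_mem (inv_mem (c.pair.tau_mem_cent u)) (hc hy))
    fun v => (mem_centralizer_iff.1 h _ ⟨v, rfl⟩).symm
  exact ⟨u, inv_mul_eq_one.1 h1⟩

/-- `J ∩ T` centralizes the elements `d` such that `α d` normalizes `J` -/
theorem comm_of_norm (c : Core τ α β R R') {J : Subgroup L} (hJ : J ≤ centralizer (R : Set L)) {d v : U}
    (hn : ∀ y ∈ J, α d * y * (α d)⁻¹ ∈ J) (hv : τ v ∈ J) : v * d = d * v := by
  refine c.sp (centralizer_le_normalizer _ (hJ ?_))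
  have e : τ v * α d * (τ v)⁻¹ * (α d)⁻¹ = τ v * (α d * (τ v)⁻¹ * (α d)⁻¹) := by group
  rw [e]
  exact mul_mem hv (hn _ (inv_mem hv))

/-- **`J ∩ T` is abelian.** -/
theorem comm_of (c : Core τ α β R R') {J : Subgroup L} (hJ : J ≤ centralizer (R : Set L)) {Q : Set U}
    (hQ : ∀ u ∈ Q, ∀ u' ∈ Q, u * u' = u' * u)
    (hn : ∀ d, (∀ u ∈ Q, u * d = d * u) → ∀ y ∈ J, α d * y * (α d)⁻¹ ∈ J) {v v' : U} (hv : τ v ∈ J) (hv' : τ v' ∈ J) :
    v * v' = v' * v :=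
  comm_of_norm c hJ (hn v' fun u hu => (comm_of_norm c hJ (hn u fun u' hu' => hQ u' hu' u hu) hv').symm) hv

/-- a perfect subgroup of `J` is trivial -/
theorem eq_bot_of (big : Big) (c : Core τ α β R R') {J : Subgroup L} (hJ : J ≤ centralizer (R : Set L)) {Q : Set U}
    (hQ : ∀ u ∈ Q, ∀ u' ∈ Q, u * u' = u' * u)
    (hn : ∀ d, (∀ u ∈ Q, u * d = d * u) → ∀ y ∈ J, α d * y * (α d)⁻¹ ∈ J) {X : Subgroup L} (hX : ⁅X, X⁆ = X)
    (hle : X ≤ J) : X = ⊥ := by
  rw [← hX, commutator_eq_bot_iff_le_centralizer]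
  intro x hx
  refine mem_centralizer_iff.2 fun y hy => ?_
  obtain ⟨u, rfl⟩ := perf_le big c hX (hle.trans hJ) hx
  obtain ⟨v, rfl⟩ := perf_le big c hX (hle.trans hJ) hy
  rw [← map_mul, ← map_mul, comm_of c hJ hQ hn (hle hy) (hle hx)]

end grp

section sl

variable {k : Type*} [Field k] (f : k →+* k) {κ : k} (hκ : κ ≠ 0)

/-- the map `f` followed by the conjugation with `diag (κ, 1)` -/
def sgf (f : k →+* k) {κ : k} (hκ : κ ≠ 0) (A : SL k) : SL k :=
  ⟨!![f (A.1 0 0), κ * f (A.1 0 1); κ⁻¹ * f (A.1 1 0), f (A.1 1 1)], by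
    have h := congrArg f (det_e A)
    rw [map_sub, map_mul, map_mul, map_one] at h
    rw [Matrix.det_fin_two_of]
    have h1 := mul_inv_cancel₀ hκ
    linear_combination h - f (A.1 0 1) * f (A.1 1 0) * h1⟩

theorem sgf00 (A : SL k) : (sgf f hκ A).1 0 0 = f (A.1 0 0) := rfl
theorem sgf01 (A : SL k) : (sgf f hκ A).1 0 1 = κ * f (A.1 0 1) := rfl
theorem sgf10 (A : SL k) : (sgf f hκ A).1 1 0 = κ⁻¹ * f (A.1 1 0) := rfl
theorem sgf11 (A : SL k) : (sgf f hκ A).1 1 1 = f (A.1 1 1) := rfl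

/-- `sgf` as a homomorphism -/
def sgm (f : k →+* k) {κ : k} (hκ : κ ≠ 0) : SL k →* SL k :=
  MonoidHom.mk' (sgf f hκ) fun A B => by
    have h1 := mul_inv_cancel₀ hκ
    apply ext4 <;> simp only [mul_e, sgf00, sgf01, sgf10, sgf11, map_add, map_mul]
    · linear_combination (-(f (A.1 0 1) * f (B.1 1 0))) * h1
    · ring
    · ring
    · linear_combination (-(f (A.1 1 0) * f (B.1 0 1))) * h1

theorem sgm00 (A : SL k) : (sgm f hκ A).1 0 0 = f (A.1 0 0) := rfl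
theorem sgm01 (A : SL k) : (sgm f hκ A).1 0 1 = κ * f (A.1 0 1) := rfl
theorem sgm10 (A : SL k) : (sgm f hκ A).1 1 0 = κ⁻¹ * f (A.1 1 0) := rfl
theorem sgm11 (A : SL k) : (sgm f hκ A).1 1 1 = f (A.1 1 1) := rfl

theorem sgm_up (t : k) : sgm f hκ (up t) = up (κ * f t) := by
  apply ext4 <;> simp only [sgm00, sgm01, sgm10, sgm11, up00, up01, up10, up11, map_one, map_zero, mul_zero]

theorem sgm_lo (t : k) : sgm f hκ (lo t) = lo (κ⁻¹ * f t) := by
  apply ext4 <;> simp only [sgm00, sgm01, sgm10, sgm11, lo00, lo01, lo10, lo11, map_one, map_zero, mul_zero]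

theorem sgm_hS {t : k} (ht : t ≠ 0) : sgm f hκ (hS t) = hS (f t) := by
  have h1 : f t ≠ 0 := (map_ne_zero f).2 ht
  apply ext4 <;> simp only [sgm00, sgm01, sgm10, sgm11, hS00 ht, hS01 ht, hS10 ht, hS11 ht, hS00 h1, hS01 h1, hS10 h1,
    hS11 h1, map_zero, mul_zero, map_inv₀]

/-- the fixed points -/
def fixG : Subgroup (SL k) := (sgm f hκ).eqLocus (MonoidHom.id _)

variable {f hκ}

theorem mem_fixG {A : SL k} : A ∈ fixG f hκ ↔ sgm f hκ A = A := Iff.rfl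

theorem up_mem_fixG {t : k} (h : κ * f t = t) : up t ∈ fixG f hκ := by rw [mem_fixG, sgm_up, h]

theorem lo_mem_fixG {t : k} (h : κ⁻¹ * f t = t) : lo t ∈ fixG f hκ := by rw [mem_fixG, sgm_lo, h]

theorem hS_mem_fixG {t : k} (ht : t ≠ 0) (h : f t = t) : hS t ∈ fixG f hκ := by rw [mem_fixG, sgm_hS f hκ ht, h]

/-- the fixed points are generated by the fixed elementary matrices -/
theorem fix_mem {K : Subgroup (SL k)} {v : k} (hv0 : v ≠ 0) (hv : κ * f v = v) (h1 : ∀ t, κ * f t = t → up t ∈ K)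
    (h2 : ∀ t, κ⁻¹ * f t = t → lo t ∈ K) {A : SL k} (hA : A ∈ fixG f hκ) : A ∈ K := by
  have key : ∀ A ∈ fixG f hκ, A.1 1 0 ≠ 0 → A ∈ K := by
    intro A hA hc
    have a00 : f (A.1 0 0) = A.1 0 0 := congrArg (fun x : SL k => x.1 0 0) hA
    have a10 : κ⁻¹ * f (A.1 1 0) = A.1 1 0 := congrArg (fun x : SL k => x.1 1 0) hA
    have a11 : f (A.1 1 1) = A.1 1 1 := congrArg (fun x : SL k => x.1 1 1) hA
    have a10' : f (A.1 1 0) = κ * A.1 1 0 := by rw [← a10, ← mul_assoc, mul_inv_cancel₀ hκ, one_mul, a10]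
    have hd := det_e A
    have e : A = up ((A.1 0 0 - 1) / A.1 1 0) * lo (A.1 1 0) * up ((A.1 1 1 - 1) / A.1 1 0) := by
      apply ext4 <;> simp only [mul_e, up00, up01, up10, up11, lo00, lo01, lo10, lo11] <;> field_simp
      · ring
      · linear_combination (-1 : k) * hd
      · ring
      · ring
    rw [e]
    refine mul_mem (mul_mem (h1 _ ?_) (h2 _ a10)) (h1 _ ?_)
    · rw [map_div₀, map_sub, map_one, a00, a10']; field_simp
    · rw [map_div₀, map_sub, map_one, a11, a10']; field_simp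
  by_cases hc : A.1 1 0 = 0
  · have h3 : κ⁻¹ * f v⁻¹ = v⁻¹ := by rw [map_inv₀, ← mul_inv, hv]
    have h4 : A.1 0 0 ≠ 0 := by
      intro h
      have hd := det_e A
      rw [h, hc, zero_mul, mul_zero, sub_zero] at hd
      exact zero_ne_one hd
    have h5 := key _ (mul_mem (lo_mem_fixG h3) hA) (by
      rw [mul_e, lo10, lo11, hc, mul_zero, add_zero]
      exact mul_ne_zero (inv_ne_zero hv0) h4)
    exact (K.mul_mem_cancel_left (h2 _ h3)).1 h5
  · exact key A hA hc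

theorem fixG_perfect {v : k} (hv0 : v ≠ 0) (hv : κ * f v = v) {a : k} (ha0 : a ≠ 0) (ha : f a = a) (ha2 : a ^ 2 ≠ 1) :
    ⁅fixG f hκ, fixG f hκ⁆ = fixG f hκ := by
  refine le_antisymm (commutator_le_self _) fun A hA => fix_mem hv0 hv (fun t ht => ?_) (fun t ht => ?_) hA
  · have h1 : a ^ 2 - 1 ≠ 0 := sub_ne_zero.2 ha2
    have e : (up t : SL k) = ⁅hS a, up (t / (a ^ 2 - 1))⁆ := by
      rw [commutatorElement_def, hS_up ha0, up_inv, ← up_add]
      congr 1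
      field_simp
      ring
    rw [e]
    refine commutator_mem_commutator (hS_mem_fixG ha0 ha) (up_mem_fixG ?_)
    rw [map_div₀, map_sub, map_pow, map_one, ha, ← mul_div_assoc, ht]
  · have h1 : (a ^ 2)⁻¹ - 1 ≠ 0 := sub_ne_zero.2 fun h => ha2 (inv_eq_one.1 h)
    have e : (lo t : SL k) = ⁅hS a, lo (t / ((a ^ 2)⁻¹ - 1))⁆ := by
      rw [commutatorElement_def, hS_lo ha0, lo_inv, ← lo_add]
      congr 1
      rw [← sub_eq_add_neg, ← sub_one_mul, mul_div_cancel₀ _ h1]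
    rw [e]
    refine commutator_mem_commutator (hS_mem_fixG ha0 ha) (lo_mem_fixG ?_)
    rw [map_div₀, map_sub, map_inv₀, map_pow, map_one, ha, ← mul_div_assoc, ht]

/-- `up s` and `lo t` do not commute modulo the centre -/
theorem not_comm {Y : Type*} [Group Y] {ψ : SL k →* Y} (h : CK ψ) {s t : k} (hs : s ≠ 0) (ht : t ≠ 0) :
    ψ (up s) * ψ (lo t) ≠ ψ (lo t) * ψ (up s) := fun e => by
  have h1 := comm_of_tr (tr_lo t) (h.cmt e)
  have h2 := congrArg (fun x : SL k => x.1 0 0) h1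
  simp only [mul_e, up00, up01, lo00, lo01, lo10, up10] at h2
  exact mul_ne_zero hs ht (by linear_combination h2)

/-- `(x(s) y(-1/s) x(s)) ^ 2 = -1` -/
theorem n_sq {s : k} (hs : s ≠ 0) : (up s * lo (-s⁻¹) * up s : SL k) * (up s * lo (-s⁻¹) * up s) = hS (-1) := by
  have h1 : (-1 : k) ≠ 0 := neg_ne_zero.2 one_ne_zero
  apply ext4 <;> simp only [mul_e, up00, up01, up10, up11, lo00, lo01, lo10, lo11, hS00 h1, hS01 h1, hS10 h1, hS11 h1] <;>
    field_simp <;> ring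

theorem center_cases {z : SL k} (hz : z ∈ center (SL k)) : z = 1 ∨ z = hS (-1) := by
  have h1 : (-1 : k) ≠ 0 := neg_ne_zero.2 one_ne_zero
  obtain ⟨h2, h3, h4⟩ := mem_center_iff'.1 hz
  rcases mul_self_eq_one_iff.1 (center_sq hz) with h | h
  · exact Or.inl (eq_one_of_center hz h)
  · refine Or.inr (ext4 ?_ ?_ ?_ ?_)
    · rw [h, hS00 h1]
    · rw [h2, hS01 h1]
    · rw [h3, hS10 h1]
    · rw [← h4, h, hS11 h1, inv_neg, inv_one]

theorem hS_one : (hS 1 : SL k) = 1 := by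
  have h1 : (1 : k) ≠ 0 := one_ne_zero
  apply ext4
  · rw [hS00 h1]; rfl
  · rw [hS01 h1]; rfl
  · rw [hS10 h1]; rfl
  · rw [hS11 h1, inv_one]; rfl

theorem hS_mul {a b : k} (ha : a ≠ 0) (hb : b ≠ 0) : (hS a * hS b : SL k) = hS (a * b) := by
  have h := mul_ne_zero ha hb
  apply ext4 <;> simp only [mul_e, hS00 ha, hS01 ha, hS10 ha, hS11 ha, hS00 hb, hS01 hb, hS10 hb, hS11 hb, hS00 h, hS01 h,
    hS10 h, hS11 h] <;> ring

theorem hS_pow {a : k} (ha : a ≠ 0) (n : ℕ) : (hS a : SL k) ^ n = hS (a ^ n) := by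
  induction n with
  | zero => rw [pow_zero, pow_zero, hS_one]
  | succ n ih => rw [pow_succ, ih, hS_mul (pow_ne_zero n ha) ha, pow_succ]

theorem exists_fix [IsAlgClosed k] (hκ : κ ≠ 0) {Q : ℕ} (hQ : 2 ≤ Q) : ∃ v : k, v ≠ 0 ∧ κ * v ^ Q = v := by
  obtain ⟨v, hv⟩ := IsAlgClosed.exists_pow_nat_eq κ⁻¹ (n := Q - 1) (by omega)
  have hv0 : v ≠ 0 := by
    rintro rfl
    rw [zero_pow (by omega)] at hv
    exact inv_ne_zero hκ hv.symm
  refine ⟨v, hv0, ?_⟩
  have e1 : v ^ Q = v ^ (Q - 1) * v := by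
    rw [← pow_succ]
    congr 1
    omega
  rw [e1, hv, ← mul_assoc, mul_inv_cancel₀ hκ, one_mul]

end sl

end Cfsg.Agent.Cam.Ex.P

private theorem dce_c29d717455c6 : _root_.True := by
  try have : _root_.True := by simp only [_root_.Cfsg.Agent.Cam.Ex.P.sgf.congr_simp]
  try have : _root_.True := by simp only [_root_.Cfsg.Agent.Cam.Ex.P.sgm.congr_simp]
  exact _root_.True.intro
end

-- part: Cam/Cl/J1
section
prune_inst 0xd56039445de212000018058471001f46fe000192004b880018c00c4404cefe4000030e61f4c0191210380c4420340028121000a00060000004000000011901a098009000d089a00c06000f802882000000000000000000000000000000041004000000000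
set_option linter.all false
open scoped Cfsg.Agent.FastGrp

-- part: Cam/Cl/Iface
section
/-!
# S3689, S3690, classical groups: interface (helper65)

The frame is the finite star-simple ring `A` with form structure `F : FR A` of `DS/Cl/Defs.lean`; the route is the one of
`notes/Cam/cl70.md` (no automorphism groups, potentials), with the simplifications of `notes/Cam/cl65.md`.
All groups are subgroups of `Aˣ`: `Dr F = [Iso, Iso]` covers the simple group, `Hh` is the preimage of `H ⊓ S`, the members of `𝒯`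
are the perfect preimages of the components, `Y` is the perfect preimage of the perfect core of `C_S(X)`.
Left ideals are subspaces: `FixI T` is the fixed space and `ImI T` is `[V, T]`.
-/

set_option autoImplicit false

namespace Cfsg.Agent.Cam.Cl

open Cfsg Cfsg.Agent.DS.Cl

section grp

variable {G : Type} [Group G]

/-- `S` centralizes `T` -/
def Cm (S T : Subgroup G) : Prop := ∀ s ∈ S, ∀ t ∈ T, s * t = t * s

/-- `S` normalizes `T` -/
def Nm (S T : Subgroup G) : Prop := ∀ s ∈ S, ∀ t ∈ T, s * t * s⁻¹ ∈ T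

/-- `T` is quasisimple -/
structure QS (T : Subgroup G) : Prop where
  perf : T ≤ ⁅T, T⁆
  nc : ¬ Cm T T
  dich : ∀ N : Subgroup G, N ≤ T → Nm T N → N = T ∨ Cm N T

/-- `T` has trivial centre -/
def NoCen (T : Subgroup G) : Prop := ∀ t ∈ T, (∀ s ∈ T, t * s = s * t) → t = 1

end grp

section defs

variable {A : Type} [Ring A] [StarRing A]

/-- the commutator group of the isometry group -/
def Dr (F : FR A) : Subgroup Aˣ := ⁅F.Iso, F.Iso⁆

omit [StarRing A] in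
/-- central units -/
def Cen (u : Aˣ) : Prop := (u : A) ∈ Subring.center A

omit [StarRing A] in
/-- unipotent units -/
def Uni (v : Aˣ) : Prop := IsNilpotent ((v : A) - 1)

omit [StarRing A] in
/-- `T` has a non-trivial unipotent element -/
def HasUni (T : Subgroup Aˣ) : Prop := ∃ v ∈ T, v ≠ 1 ∧ Uni v

omit [StarRing A] in
/-- the subring generated by the centre and `T` (`F.Span` says `Bd (Dr F) = ⊤`) -/
def Bd (T : Subgroup Aˣ) : Subring A :=
  Subring.closure ((Subring.center A : Set A) ∪ ((fun u : Aˣ => (u : A)) '' T))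

omit [StarRing A] in
/-- the fixed space -/
def FixI (T : Subgroup Aˣ) : Ideal A where
  carrier := {a | ∀ t ∈ T, a * (t : A) = a}
  add_mem' := fun {a b} ha hb t ht => by rw [add_mul, ha t ht, hb t ht]
  zero_mem' := fun t _ => zero_mul _
  smul_mem' := fun c a ha t ht => by rw [smul_eq_mul, mul_assoc, ha t ht]

omit [StarRing A] in
/-- the commutator space -/
def ImI (T : Subgroup Aˣ) : Ideal A := Ideal.span {x | ∃ t ∈ T, x = (t : A) - 1}

/-! ### types of components (`e` is the support) -/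

omit [StarRing A] in
/-- the centralizer of `T` is commutative on the support -/
def TyA (T : Subgroup Aˣ) (e : A) : Prop :=
  ∀ z z' : A, (∀ t ∈ T, z * t = t * z) → (∀ t ∈ T, z' * t = t * z') → z * z' * e = z' * z * e

omit [StarRing A] in
/-- a unipotent element with a Jordan block of size one on the support -/
def TyR (T : Subgroup Aˣ) (e : A) : Prop :=
  ∃ v ∈ T, v ≠ 1 ∧ Uni v ∧ ∃ a f : A, a * ((v : A) - 1) = 0 ∧ ((v : A) - 1) * f = 0 ∧ a * e * f ≠ 0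

omit [StarRing A] in
/-- a unipotent element whose largest Jordan block has size prime to the characteristic -/
def TyN (T : Subgroup Aˣ) : Prop :=
  ∃ v ∈ T, ∃ j : ℕ, 1 ≤ j ∧ ((v : A) - 1) ^ (j + 1) = 0 ∧ ((v : A) - 1) ^ j ≠ 0 ∧ IsUnit ((j + 1 : ℕ) : A)

omit [StarRing A] in
/-- dimension two -/
def TyI (T : Subgroup Aˣ) : Prop :=
  ∀ s ∈ T, ∀ t ∈ T, (s : A) * ((t : A) + (t⁻¹ : Aˣ)) = ((t : A) + (t⁻¹ : Aˣ)) * s

omit [StarRing A] in
/-- `Ω₃(q)`, `q` odd: four-groups have no fixed vectors on the support -/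
def TyII (T : Subgroup Aˣ) (e : A) : Prop :=
  IsUnit (2 : A) ∧ NoCen T ∧ ∀ a ∈ T, ∀ b ∈ T, a * a = 1 → b * b = 1 → a * b = b * a → a ≠ 1 → b ≠ 1 → a ≠ b →
    (1 + (a : A)) * (1 + (b : A)) * e = 0

omit [StarRing A] in
/-- `Sp₄(2)'`: elements of order `5` have no fixed vectors on the support, and one is conjugate to its square -/
def TyIV (T : Subgroup Aˣ) (e : A) : Prop :=
  (2 : A) = 0 ∧ NoCen T ∧
    (∀ w ∈ T, w ^ 5 = 1 → w ≠ 1 → (1 + (w : A) + (w : A) ^ 2 + (w : A) ^ 3 + (w : A) ^ 4) * e = 0) ∧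
    ∃ t ∈ T, t ^ 5 = 1 ∧ t ≠ 1 ∧ ∃ s ∈ Subring.closure (insert e ((fun u : Aˣ => (u : A)) '' T)),
      ∃ s' : A, s' * s = e ∧ s * t = (t : A) ^ 2 * s

omit [StarRing A] in
/-- the types that come from `BoxQS` -/
def Ty (T : Subgroup Aˣ) (e : A) : Prop := TyR T e ∨ TyN T ∨ TyI T ∨ TyII T e ∨ TyIV T e

/-- `T` is supported on `D.e`, and `D` is the star-simple ring generated by `T` there -/
structure Sh (T : Subgroup Aˣ) (D : Blk A) : Prop where
  ss : SS D.T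
  mem : ∀ t ∈ T, (t : A) - 1 ∈ D.car
  sub : ∀ x ∈ D.car, x ∈ Bd T

/-- semisimple shape -/
def ShS (T : Subgroup Aˣ) : Prop := ∃ D : Blk A, Sh T D ∧ HasUni T ∧ (TyA T D.e ∨ Ty T D.e)

/-- shape `Ω_{2m+1}(2^a)` -/
structure ShB (F : FR A) (T : Subgroup Aˣ) : Prop where
  rad : ∃ a ∈ ImI T, a ∈ FixI T ∧ a ≠ 0
  triv : ∀ P : Subgroup Aˣ, P ≤ F.Iso → P ≤ ⁅P, P⁆ → Cm P T → ∀ c ∈ P, ∀ a ∈ ImI T, a * (c : A) = a

/-- the perfect preimage of a non-abelian simple subgroup of the simple group -/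
structure Mem (F : FR A) (T : Subgroup Aˣ) : Prop where
  qs : QS T
  le : T ≤ F.Iso
  zc : ∀ t ∈ T, (∀ s ∈ T, t * s = s * t) → Cen t

/-- `T'` is a proper twisted diagonal over `T` -/
def UDiag (F : FR A) (T T' : Subgroup Aˣ) : Prop :=
  ∃ (U : Type) (_ : Group U) (α β : U →* Aˣ), commutator U = ⊤ ∧ α.range = T ∧ (∀ u, β u ∈ F.Iso) ∧
    (∀ u u', α u * β u' = β u' * α u) ∧ (∀ w, w ∈ T' ↔ ∃ u, w = α u * β u) ∧ (∀ u, Cen (α u) ↔ Cen (β u)) ∧
      ∀ u, Cen (α u * β u) → Cen (α u)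

/-- the local configuration -/
structure Loc (F : FR A) (Hh Y : Subgroup Aˣ) (𝒯 : Set (Subgroup Aˣ)) : Prop where
  ss : SS A
  le : Hh ≤ Dr F
  mem : ∀ T ∈ 𝒯, Mem F T
  t_le : ∀ T ∈ 𝒯, T ≤ Hh
  comm : ∀ T₁ ∈ 𝒯, ∀ T₂ ∈ 𝒯, T₁ ≠ T₂ → Cm T₁ T₂
  inv : ∀ h ∈ Hh, ∀ T ∈ 𝒯, Cam.cj h T ∈ 𝒯
  y_perf : Y ≤ ⁅Y, Y⁆
  y_le : Y ≤ Hh
  y_nm : Nm Hh Y
  y_comm : ∀ T ∈ 𝒯, Cm Y T
  cY : ∀ u ∈ Dr F, (∀ y ∈ Y, u * y = y * u) → u ∈ Hh
  cX : ∀ u ∈ Dr F, (∀ T ∈ 𝒯, ∀ t ∈ T, u * t = t * u) → u ∈ Hh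
  op : ∀ P : Subgroup Aˣ, P ≤ Hh → Nm Hh P → (∀ u ∈ P, Uni u) → P = ⊥

omit [StarRing A] in
/-- at most one other member of `𝒯` is supported on `e` -/
def AtMost (𝒯 : Set (Subgroup Aˣ)) (T : Subgroup Aˣ) (e : A) : Prop :=
  ∀ T₁ ∈ 𝒯, ∀ T₂ ∈ 𝒯, (∀ t ∈ T₁, ((t : A) - 1) * e = t - 1) → (∀ t ∈ T₂, ((t : A) - 1) * e = t - 1) →
    T₁ ≠ T → T₂ ≠ T → T₁ = T₂

/-- the structure theorem for one member -/
def Out (F : FR A) (Hh : Subgroup Aˣ) (𝒯 : Set (Subgroup Aˣ)) (T : Subgroup Aˣ) : Prop :=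
  (ShS T ∨ ShB F T) ∧ (Nm Hh T ∨ ∃ D : Blk A, Sh T D ∧ AtMost 𝒯 T D.e)

/-- unipotent isometries lie in the commutator group -/
def UP (F : FR A) : Prop := F.L = Lmax A ∧ ∀ u ∈ F.Iso, Uni u → u ∈ Dr F

/-- orthogonal groups in characteristic two -/
def O2 (F : FR A) : Prop :=
  ∃ (K V : Type) (_ : Field K) (_ : Finite K) (_ : AddCommGroup V) (_ : Module K V) (_ : Finite V)
    (Q : QuadraticForm K V) (e : A ≃+* Module.End K V), Cfsg.Agent.LieClassical.OrthTrans.Good Q ∧ (2 : K) = 0 ∧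
      F.L = Lmin A ∧ (∀ a u v, QuadraticMap.polar Q (e a u) v = QuadraticMap.polar Q u (e (star a) v)) ∧
        ∀ v, QuadraticMap.polar Q v (e F.l v) = Q v

end defs

/-- `T` is the group of a form ring of characteristic `p` -/
def Top (T : Type) [Group T] : Prop :=
  ∃ (p : ℕ) (A : Type) (_ : Ring A) (_ : StarRing A) (_ : Finite A) (F : FR A) (_ : F.S ≃* T), p.Prime ∧ (p : A) = 0 ∧
    (IsPSLChar p T ∨ IsPSpChar p T ∨ IsPSUChar p T ∨ IsPOmegaOddChar p T ∨ IsPOmegaPlusChar p T ∨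
      IsPOmegaMinusChar p T) ∧ SS A ∧ (UP F ∨ O2 F)

/-! ### The boxes -/

/-- [Top] the models of the six families -/
def BoxTop : Prop := ∀ (T : Type) [Group T],
  IsPSL T ∨ IsPSp T ∨ IsPSU T ∨ IsPOmegaOdd T ∨ IsPOmegaPlus T ∨ IsPOmegaMinus T → Top T

/-- the conclusion of `BoxQS`: solvable, quasisimple, or `O₄⁺` -/
def QSC {A : Type} [Ring A] [StarRing A] (F : FR A) : Prop :=
  Group.IsSolvable (Dr F) ∨ (QS (Dr F) ∧ F.Span ∧ HasUni (Dr F) ∧ (Ty (Dr F) 1 ∨ F.L ≠ Lmax A)) ∨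
    ((F.L ≠ Lmax A ∨ (2 : A) ≠ 0) ∧ ∃ Y₁ Y₂ : Subgroup Aˣ, Y₁ ⊔ Y₂ = Dr F ∧ Cm Y₁ Y₂ ∧
      ∀ Z ∈ ({Y₁, Y₂} : Set (Subgroup Aˣ)), QS Z ∧ HasUni Z ∧ TyI Z ∧ IsSimpleRing (Bd Z))

/-- [QS] the commutator group of the isometry group of a classical space -/
def BoxQS : Prop := ∀ (A : Type) [Ring A] [StarRing A] [Finite A], SS A → ∀ F : FR A, QSC F

/-- [Pc] components are pieces of a block `D` that commutes with `Y` -/
def BoxPc : Prop := ∀ (A : Type) [Ring A] [StarRing A] [Finite A] (F : FR A) (Hh Y : Subgroup Aˣ)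
  (𝒯 : Set (Subgroup Aˣ)), Loc F Hh Y 𝒯 → ∀ (D : Blk A) (FD : FR D.T), SS D.T →
    (∀ c ∈ Subring.center A, c * D.e ∈ D.car) →
    (∀ u ∈ FD.Iso, ∀ v : Aˣ, (v : A) = D.val u + (1 - D.e) → v ∈ F.Iso) →
    (∀ y ∈ Y, ∀ x ∈ D.car, (y : A) * x = x * y) →
    (∀ T ∈ 𝒯, ∀ t ∈ T, (t : A) * D.e = D.e * t ∧ ∃ u ∈ FD.Iso, D.val u = t * D.e) →
    ∀ T ∈ 𝒯, (∃ t ∈ T, (t : A) * D.e ≠ D.e) → AtMost 𝒯 T D.e ∧ HasUni T ∧ ∃ D' : Blk A, Sh T D' ∧ D'.e = D.e ∧
      (Ty T D.e ∨ (FD.L ≠ Lmax D.T ∧ ∀ z ∈ D.car, (∀ t ∈ T, z * t = t * z) → ∀ x ∈ D.car, z * x = x * z))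

/-- [Bk] the blocks of a semisimple enveloping ring -/
def BoxBk : Prop := ∀ (A : Type) [Ring A] [StarRing A] [Finite A] (F : FR A) (Hh Y : Subgroup Aˣ)
  (𝒯 𝒯₁ : Set (Subgroup Aˣ)), Loc F Hh Y 𝒯 → 𝒯₁ ⊆ 𝒯 →
    (∀ T ∈ 𝒯, T ∉ 𝒯₁ → ∀ t ∈ T, ∀ a ∈ ImI (sSup 𝒯₁), a * (t : A) = a) → IsSemisimpleRing (Bd (sSup 𝒯₁)) →
    (∀ u : Aˣ, (u : A) ∈ Bd (sSup 𝒯₁) → (u : A) - 1 ∈ ImI (sSup 𝒯₁) → (u : A) * star (u : A) = 1 → u ∈ F.Iso) →
    ∀ T ∈ 𝒯₁, ShS T ∧ ∃ D : Blk A, Sh T D ∧ AtMost 𝒯 T D.e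

/-- [J1] the enveloping ring is semisimple (all cases but orthogonal groups in characteristic two) -/
def BoxJ1 : Prop := ∀ (A : Type) [Ring A] [StarRing A] [Finite A] (F : FR A) (Hh Y : Subgroup Aˣ)
  (𝒯 : Set (Subgroup Aˣ)), Loc F Hh Y 𝒯 → UP F → IsSemisimpleRing (Bd (sSup 𝒯))

/-- [O2] orthogonal groups in characteristic two -/
def BoxO2 : Prop := ∀ (A : Type) [Ring A] [StarRing A] [Finite A] (F : FR A) (Hh Y : Subgroup Aˣ)
  (𝒯 : Set (Subgroup Aˣ)), Loc F Hh Y 𝒯 → O2 F → ∀ T ∈ 𝒯, Out F Hh 𝒯 T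

/-- [Mov] a perfect group that moves a member has a large commutator space -/
def BoxMov : Prop := ∀ (A : Type) [Ring A] [StarRing A] [Finite A] (F : FR A) (Hh Y : Subgroup Aˣ)
  (𝒯 : Set (Subgroup Aˣ)), Loc F Hh Y 𝒯 → ∀ T ∈ 𝒯, Out F Hh 𝒯 T → ∀ P : Subgroup Aˣ, P ≤ Hh → P ≤ ⁅P, P⁆ →
    ¬ Nm P T → Nat.card (ImI T) < Nat.card (ImI P)

/-- [Cyc] there is no cycle of proper diagonals -/
def BoxCyc : Prop := ∀ (A : Type) [Ring A] [StarRing A] [Finite A] (F : FR A) (p : ℕ), SS A → p.Prime → (p : A) = 0 →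
  ∀ (ι : Type) [Finite ι] [Nonempty ι] (σ : ι → ι) (T : ι → Subgroup Aˣ), Function.Injective σ → (∀ i, Mem F (T i)) →
    (∀ i, ShS (T i) ∨ ShB F (T i)) → (∀ i, UDiag F (T i) (T (σ i))) → False

/-- the structure theorem -/
def BoxST : Prop := ∀ (A : Type) [Ring A] [StarRing A] [Finite A] (F : FR A) (Hh Y : Subgroup Aˣ)
  (𝒯 : Set (Subgroup Aˣ)), Loc F Hh Y 𝒯 → UP F ∨ O2 F → ∀ T ∈ 𝒯, Out F Hh 𝒯 T

/-- [Gen] the reduction -/
def BoxGen : Prop := BoxST → BoxMov → BoxCyc → Big → Red → Row (fun T _ => Top T)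

end Cfsg.Agent.Cam.Cl
end

-- part: Cam/Cl/Base
section
/-!
# Classical rows of S3689: shared tools (helper65)
-/

set_option autoImplicit false

namespace Cfsg.Agent.Cam.Cl

open Cfsg Cfsg.Agent.DS.Cl
open scoped commutatorElement

section grp

variable {G : Type} [Group G]

theorem Cm.symm {S T : Subgroup G} (h : Cm S T) : Cm T S := fun t ht s hs => (h s hs t ht).symm

theorem Cm.nm {S T : Subgroup G} (h : Cm S T) : Nm S T := fun s hs t ht => by
  rw [h s hs t ht, mul_inv_cancel_right]; exact ht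

theorem Cm.mono {S S' T T' : Subgroup G} (h : Cm S T) (h1 : S' ≤ S) (h2 : T' ≤ T) : Cm S' T' :=
  fun s hs t ht => h s (h1 hs) t (h2 ht)

theorem Nm.mono {S S' T : Subgroup G} (h : Nm S T) (h1 : S' ≤ S) : Nm S' T := fun s hs t ht => h s (h1 hs) t ht

theorem nm_self (T : Subgroup G) : Nm T T := fun _ hs _ ht => mul_mem (mul_mem hs ht) (inv_mem hs)

theorem Nm.inv {S T : Subgroup G} (h : Nm S T) {s t : G} (hs : s ∈ S) (ht : t ∈ T) : s⁻¹ * t * s ∈ T := by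
  have h1 := h _ (inv_mem hs) _ ht
  rwa [inv_inv] at h1

theorem Nm.inf {S T T' : Subgroup G} (h : Nm S T) (h' : Nm S T') : Nm S (T ⊓ T') :=
  fun s hs t ht => ⟨h s hs t ht.1, h' s hs t ht.2⟩

theorem cm_iff_le {S T : Subgroup G} : Cm S T ↔ S ≤ Subgroup.centralizer (T : Set G) :=
  ⟨fun h s hs t ht => (h s hs t ht).symm, fun h _ hs t ht => (h hs t ht).symm⟩

theorem cm_iff_bot {S T : Subgroup G} : Cm S T ↔ ⁅S, T⁆ = ⊥ := by
  rw [cm_iff_le, Subgroup.commutator_eq_bot_iff_le_centralizer]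

theorem nm_iff_le {S T : Subgroup G} : Nm S T ↔ S ≤ Subgroup.normalizer (T : Set G) := by
  constructor
  · intro h s hs
    rw [Subgroup.mem_normalizer_iff]
    refine fun t => ⟨h s hs t, fun ht => ?_⟩
    have h1 := h.inv hs ht
    rwa [show s⁻¹ * (s * t * s⁻¹) * s = t by group] at h1
  · exact fun h s hs t ht => (Subgroup.mem_normalizer_iff.1 (h hs) t).1 ht

theorem Cm.sup_left {S S' T : Subgroup G} (h : Cm S T) (h' : Cm S' T) : Cm (S ⊔ S') T :=
  cm_iff_le.2 (sup_le (cm_iff_le.1 h) (cm_iff_le.1 h'))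

theorem Nm.sup_left {S S' T : Subgroup G} (h : Nm S T) (h' : Nm S' T) : Nm (S ⊔ S') T :=
  nm_iff_le.2 (sup_le (nm_iff_le.1 h) (nm_iff_le.1 h'))

theorem cm_sSup_left {𝒮 : Set (Subgroup G)} {T : Subgroup G} (h : ∀ S ∈ 𝒮, Cm S T) : Cm (sSup 𝒮) T :=
  cm_iff_le.2 (sSup_le fun S hS => cm_iff_le.1 (h S hS))

theorem nm_sSup_left {𝒮 : Set (Subgroup G)} {T : Subgroup G} (h : ∀ S ∈ 𝒮, Nm S T) : Nm (sSup 𝒮) T :=
  nm_iff_le.2 (sSup_le fun S hS => nm_iff_le.1 (h S hS))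

theorem Nm.commutator {S T T' : Subgroup G} (h : Nm S T) (h' : Nm S T') : Nm S ⁅T, T'⁆ := by
  intro s hs
  have h1 : ⁅T, T'⁆ ≤ (⁅T, T'⁆ : Subgroup G).comap (MulAut.conj s).toMonoidHom := by
    rw [Subgroup.commutator_le]
    intro a ha b hb
    change s * ⁅a, b⁆ * s⁻¹ ∈ (⁅T, T'⁆ : Subgroup G)
    rw [conjugate_commutatorElement]
    exact Subgroup.commutator_mem_commutator (h s hs a ha) (h' s hs b hb)
  exact fun t ht => h1 ht

theorem Nm.commutator_le {S T : Subgroup G} (h : Nm S T) : ⁅S, T⁆ ≤ T := by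
  rw [Subgroup.commutator_le]
  intro s hs t ht
  exact mul_mem (h s hs t ht) (inv_mem ht)

/-- the three subgroups lemma -/
theorem cm_of_perf {P T : Subgroup G} (hT : T ≤ ⁅T, T⁆) (h : Cm ⁅P, T⁆ T) : Cm P T := by
  have h1 := cm_iff_bot.1 h
  have h2 : ⁅⁅T, P⁆, T⁆ = ⊥ := by rwa [Subgroup.commutator_comm T P]
  have h3 := Subgroup.commutator_commutator_eq_bot_of_rotate h2 h1
  exact ((cm_iff_bot.2 h3).mono hT le_rfl).symm

theorem perf_sSup {𝒮 : Set (Subgroup G)} (h : ∀ S ∈ 𝒮, S ≤ ⁅S, S⁆) : sSup 𝒮 ≤ ⁅sSup 𝒮, sSup 𝒮⁆ :=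
  sSup_le fun S hS => (h S hS).trans (Subgroup.commutator_mono (le_sSup hS) (le_sSup hS))

theorem perf_map {G' : Type} [Group G'] {T : Subgroup G} (h : T ≤ ⁅T, T⁆) (f : G →* G') :
    T.map f ≤ ⁅T.map f, T.map f⁆ := by
  rw [← Subgroup.map_commutator]
  exact Subgroup.map_mono h

/-- a multiplicative map with commuting values is trivial on a perfect group -/
theorem eq_one_of_perf {M : Type} [Monoid M] {T : Subgroup G} (hT : T ≤ ⁅T, T⁆) (φ : G → M) (h1 : φ 1 = 1)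
    (hm : ∀ a ∈ T, ∀ b ∈ T, φ (a * b) = φ a * φ b) (hc : ∀ a ∈ T, ∀ b ∈ T, φ a * φ b = φ b * φ a) :
    ∀ a ∈ T, φ a = 1 := by
  let K : Subgroup G :=
    { carrier := {a | a ∈ T ∧ φ a = 1}
      mul_mem' := fun {a b} ha hb => ⟨mul_mem ha.1 hb.1, by rw [hm a ha.1 b hb.1, ha.2, hb.2, mul_one]⟩
      one_mem' := ⟨one_mem _, h1⟩
      inv_mem' := fun {a} ha => ⟨inv_mem ha.1, by
        have h2 := hm a ha.1 _ (inv_mem ha.1)
        rw [mul_inv_cancel, h1, ha.2, one_mul] at h2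
        exact h2.symm⟩ }
  have h2 : ⁅T, T⁆ ≤ K := by
    rw [Subgroup.commutator_le]
    intro a ha b hb
    refine ⟨mul_mem (mul_mem (mul_mem ha hb) (inv_mem ha)) (inv_mem hb), ?_⟩
    rw [commutatorElement_def, hm _ (mul_mem (mul_mem ha hb) (inv_mem ha)) _ (inv_mem hb),
      hm _ (mul_mem ha hb) _ (inv_mem ha), hm _ ha _ hb, hc a ha b hb, mul_assoc (φ b), ← hm _ ha _ (inv_mem ha),
      mul_inv_cancel, h1, mul_one, ← hm _ hb _ (inv_mem hb), mul_inv_cancel, h1]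
  exact fun a ha => (h2 (hT ha)).2

theorem eq_bot_of_perf_cm {T : Subgroup G} (hT : T ≤ ⁅T, T⁆) (h : Cm T T) : T = ⊥ :=
  le_bot_iff.1 (hT.trans (cm_iff_bot.1 h).le)

theorem eq_bot_of_perf_solvable {T : Subgroup G} (hT : T ≤ ⁅T, T⁆) (hs : Group.IsSolvable T) : T = ⊥ := by
  obtain ⟨n, hn⟩ := hs
  have h1 : ∀ k, T ≤ dS T k := fun k => by
    induction k with
    | zero => exact le_rfl
    | succ k ih => exact hT.trans (Subgroup.commutator_mono ih ih)
  have h2 := h1 n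
  rwa [← DS.Cl.map_derivedSeries_eq, hn, Subgroup.map_bot, le_bot_iff] at h2

theorem QS.ne_bot {T : Subgroup G} (h : QS T) : T ≠ ⊥ := by
  rintro rfl
  refine h.nc fun s hs t ht => ?_
  rw [Subgroup.mem_bot.1 hs, one_mul, mul_one]

/-- a quasisimple group mapped with central kernel -/
theorem QS.map {G' : Type} [Group G'] {T : Subgroup G} (h : QS T) (f : G →* G')
    (hf : ∀ t ∈ T, f t = 1 → ∀ s ∈ T, t * s = s * t) : QS (T.map f) := by
  refine ⟨perf_map h.perf f, fun hc => h.nc ?_, fun N hN hn => ?_⟩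
  · refine cm_of_perf h.perf ?_
    rw [cm_iff_le, Subgroup.commutator_le]
    intro a ha b hb s hs
    refine (hf _ (mul_mem (mul_mem (mul_mem ha hb) (inv_mem ha)) (inv_mem hb)) ?_ s hs).symm
    rw [← commutatorElement_def, map_commutatorElement, commutatorElement_eq_one_iff_mul_comm]
    exact hc _ ⟨a, ha, rfl⟩ _ ⟨b, hb, rfl⟩
  · rcases h.dich (N.comap f ⊓ T) inf_le_right (fun s hs t ht => ⟨by
      change f (s * t * s⁻¹) ∈ N
      rw [map_mul, map_mul, map_inv]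
      exact hn _ ⟨s, hs, rfl⟩ _ ht.1, nm_self T s hs t ht.2⟩) with h1 | h1
    · left
      refine le_antisymm hN ?_
      rintro _ ⟨t, ht, rfl⟩
      rw [← h1] at ht
      exact ht.1
    · right
      rintro n hn' _ ⟨t, ht, rfl⟩
      obtain ⟨s, hs, rfl⟩ := hN hn'
      rw [← map_mul, ← map_mul, h1 s ⟨hn', hs⟩ t ht]

/-- two quasisimple groups that normalize each other are equal or commute -/
theorem QS.eq_or_cm {P T : Subgroup G} (hP : QS P) (hT : QS T) (h1 : Nm P T) (h2 : Nm T P) : T = P ∨ Cm P T := by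
  rcases hT.dich (P ⊓ T) inf_le_right (h2.inf (nm_self T)) with h3 | h3
  · left
    have h4 : T ≤ P := h3 ▸ inf_le_left
    exact (hP.dich T h4 h1).resolve_right fun h5 => hT.nc (h5.mono le_rfl h4)
  · right
    refine cm_of_perf hT.perf (h3.mono (le_inf ?_ h1.commutator_le) le_rfl)
    rw [Subgroup.commutator_comm]
    exact h2.commutator_le

theorem cj_eq_of_nm {S T : Subgroup G} (h : Nm S T) {s : G} (hs : s ∈ S) : Cam.cj s T = T := by
  ext x
  rw [mem_cj]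
  refine ⟨fun hx => ?_, h s hs x⟩
  have h1 := h.inv hs hx
  rwa [show s⁻¹ * (s * x * s⁻¹) * s = x by group] at h1

theorem nm_of_cj {S T : Subgroup G} (h : ∀ s ∈ S, Cam.cj s T = T) : Nm S T := fun s hs t ht => by
  rw [← h s hs, mem_cj] at ht
  exact ht

theorem cj_cj (a b : G) (T : Subgroup G) : Cam.cj b (Cam.cj a T) = Cam.cj (a * b) T := by
  ext x
  simp only [mem_cj, mul_inv_rev, mul_assoc]

theorem cj_one (T : Subgroup G) : Cam.cj 1 T = T := by
  ext x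
  rw [mem_cj, one_mul, inv_one, mul_one]

theorem conj_mem_cj {a t : G} {T : Subgroup G} (ht : t ∈ T) : a⁻¹ * t * a ∈ Cam.cj a T := by
  rw [mem_cj]
  rwa [show a * (a⁻¹ * t * a) * a⁻¹ = t by group]

/-- a quasisimple group that permutes a commuting family of quasisimple groups and is normalized by it -/
theorem QS.eq_or_cm_of_fam {P : Subgroup G} (hP : QS P) {𝒯 : Set (Subgroup G)} (hq : ∀ T ∈ 𝒯, QS T)
    (hc : ∀ T₁ ∈ 𝒯, ∀ T₂ ∈ 𝒯, T₁ ≠ T₂ → Cm T₁ T₂) (hi : ∀ h ∈ P, ∀ T ∈ 𝒯, Cam.cj h T ∈ 𝒯) {T : Subgroup G}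
    (hT : T ∈ 𝒯) (hn : Nm T P) : T = P ∨ Cm P T := by
  refine hP.eq_or_cm (hq T hT) ?_ hn
  by_contra h1
  obtain ⟨p, hp, h2⟩ : ∃ p ∈ P, Cam.cj p T ≠ T := by
    by_contra h2
    push Not at h2
    exact h1 (nm_of_cj h2)
  have h3 := hc _ (hi p hp T hT) T hT h2
  have h4 : T ≤ P := by
    refine (hq T hT).perf.trans ?_
    rw [Subgroup.commutator_le]
    intro s hs t ht
    have h5 : t * (p⁻¹ * t⁻¹ * p) ∈ P := by
      have h6 := mul_mem (hn t ht _ (inv_mem hp)) hp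
      rwa [show t * p⁻¹ * t⁻¹ * p = t * (p⁻¹ * t⁻¹ * p) by group] at h6
    have h6 := mul_mem (hn s hs _ h5) (inv_mem h5)
    have h7 := h3 _ (conj_mem_cj (inv_mem ht)) _ (inv_mem hs)
    rwa [mul_assoc s, mul_assoc t, h7, show s * (t * (s⁻¹ * (p⁻¹ * t⁻¹ * p))) * (t * (p⁻¹ * t⁻¹ * p))⁻¹ = ⁅s, t⁆ by
      rw [commutatorElement_def]; group] at h6
  let N : Subgroup G := sSup {Z | ∃ q ∈ P, Z = Cam.cj q T}
  have h5 : N ≤ P := sSup_le (by
    rintro _ ⟨q, hq', rfl⟩ x hx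
    rw [mem_cj] at hx
    have h6 := mul_mem (mul_mem (inv_mem hq') (h4 hx)) hq'
    rwa [show q⁻¹ * (q * x * q⁻¹) * q = x by group] at h6)
  have h6 : T ≤ N := le_sSup ⟨1, one_mem _, (cj_one T).symm⟩
  have h7 : Nm P N := by
    intro r hr
    have h8 : N ≤ N.comap (MulAut.conj r).toMonoidHom := sSup_le (by
      rintro _ ⟨q, hq', rfl⟩ x hx
      have h9 : Cam.cj (q * r⁻¹) T ≤ N := le_sSup ⟨q * r⁻¹, mul_mem hq' (inv_mem hr), rfl⟩
      refine h9 ?_
      rw [mem_cj] at hx ⊢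
      change q * r⁻¹ * (r * x * r⁻¹) * (q * r⁻¹)⁻¹ ∈ T
      rwa [show q * r⁻¹ * (r * x * r⁻¹) * (q * r⁻¹)⁻¹ = q * x * q⁻¹ by group])
    exact fun x hx => h8 hx
  have h8 : N = P := (hP.dich N h5 h7).resolve_right fun h9 => (hq T hT).nc (h9.mono h6 h4)
  refine h1 (h8 ▸ nm_sSup_left ?_)
  rintro _ ⟨q, hq', rfl⟩
  by_cases h9 : Cam.cj q T = T
  · rw [h9]; exact nm_self T
  · exact (hc _ (hi q hq' T hT) T hT h9).nm

end grp

/-- potentials -/
theorem pot {ι : Type} [Finite ι] {f : ι → ι} (hf : Function.Injective f) (φ : ι → ℕ) (h : ∀ i, φ i ≤ φ (f i)) (i : ι) :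
    φ (f i) = φ i := by
  classical
  have := Fintype.ofFinite ι
  have h1 : ∑ i, φ (f i) = ∑ i, φ i :=
    Fintype.sum_bijective f (Finite.injective_iff_bijective.1 hf) _ _ fun _ => rfl
  exact ((Finset.sum_eq_sum_iff_of_le fun i _ => h i).1 h1.symm i (Finset.mem_univ i)).symm

section ring

variable {A : Type} [Ring A]

theorem mem_Bd {T : Subgroup Aˣ} {t : Aˣ} (ht : t ∈ T) : (t : A) ∈ Bd T := Subring.subset_closure (Or.inr ⟨t, ht, rfl⟩)

theorem cen_mem_Bd (T : Subgroup Aˣ) {c : A} (hc : c ∈ Subring.center A) : c ∈ Bd T := Subring.subset_closure (Or.inl hc)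

theorem Bd_le {T : Subgroup Aˣ} {R : Subring A} (h1 : Subring.center A ≤ R) (h2 : ∀ t ∈ T, (t : A) ∈ R) : Bd T ≤ R := by
  rw [Bd, Subring.closure_le]
  rintro x (hx | ⟨t, ht, rfl⟩)
  · exact h1 hx
  · exact h2 t ht

/-- an element commuting with `T` commutes with `Bd T` -/
theorem comm_Bd {T : Subgroup Aˣ} {z : A} (hz : ∀ t ∈ T, z * t = t * z) {x : A} (hx : x ∈ Bd T) : z * x = x * z := by
  have h1 : Bd T ≤ Subring.centralizer {z} := Bd_le
    (fun c hc y hy => by rw [Set.mem_singleton_iff.1 hy]; exact Subring.mem_center_iff.1 hc z)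
    (fun t ht y hy => by rw [Set.mem_singleton_iff.1 hy]; exact hz t ht)
  exact h1 hx z rfl

theorem sub_one_mem_ImI {T : Subgroup Aˣ} {t : Aˣ} (ht : t ∈ T) : (t : A) - 1 ∈ ImI T := Ideal.subset_span ⟨t, ht, rfl⟩

theorem ImI_le {T : Subgroup Aˣ} {I : Ideal A} (h : ∀ t ∈ T, (t : A) - 1 ∈ I) : ImI T ≤ I := by
  rw [ImI, Ideal.span_le]
  rintro _ ⟨t, ht, rfl⟩
  exact h t ht

/-- right multiplication by `z` preserves a left ideal -/
def rmul (I : Ideal A) (z : A) : Ideal A where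
  carrier := {a | a * z ∈ I}
  add_mem' := fun {a b} ha hb => by
    change (a + b) * z ∈ I
    rw [add_mul]; exact I.add_mem ha hb
  zero_mem' := by
    change 0 * z ∈ I
    rw [zero_mul]; exact I.zero_mem
  smul_mem' := fun c a ha => by
    change c * a * z ∈ I
    rw [mul_assoc]; exact I.mul_mem_left c ha

theorem mem_rmul {I : Ideal A} {z a : A} : a ∈ rmul I z ↔ a * z ∈ I := Iff.rfl

/-- `ImI T` is stable under right multiplication by `Bd T` -/
theorem ImI_mul_Bd {T : Subgroup Aˣ} {a x : A} (ha : a ∈ ImI T) (hx : x ∈ Bd T) : a * x ∈ ImI T := by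
  let R : Subring A :=
    { carrier := {x | ∀ a ∈ ImI T, a * x ∈ ImI T}
      mul_mem' := fun {x y} hx hy a ha => by rw [← mul_assoc]; exact hy _ (hx a ha)
      one_mem' := fun a ha => by rwa [mul_one]
      add_mem' := fun {x y} hx hy a ha => by rw [mul_add]; exact add_mem (hx a ha) (hy a ha)
      zero_mem' := fun a _ => by rw [mul_zero]; exact zero_mem _
      neg_mem' := fun {x} hx a ha => by rw [mul_neg]; exact neg_mem (hx a ha) }
  have h1 : Bd T ≤ R := Bd_le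
    (fun c hc a ha => by rw [Subring.mem_center_iff.1 hc a]; exact Ideal.mul_mem_left _ c ha)
    (fun t ht a ha => (ImI_le (I := rmul (ImI T) t) fun s hs => by
      rw [mem_rmul, show ((s : A) - 1) * t = (((s * t : Aˣ) : A) - 1) - (t - 1) by rw [Units.val_mul]; noncomm_ring]
      exact sub_mem (sub_one_mem_ImI (mul_mem hs ht)) (sub_one_mem_ImI ht)) ha)
  exact h1 hx a ha

/-- on a fixed vector, `Bd T` acts by central elements -/
theorem FixI_mul_Bd {T : Subgroup Aˣ} {a x : A} (ha : a ∈ FixI T) (hx : x ∈ Bd T) :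
    ∃ c ∈ Subring.center A, a * x = c * a := by
  let R : Subring A :=
    { carrier := {x | ∃ c ∈ Subring.center A, a * x = c * a}
      mul_mem' := by
        rintro x y ⟨c, hc, hx⟩ ⟨d, hd, hy⟩
        exact ⟨c * d, mul_mem hc hd, by rw [← mul_assoc, hx, mul_assoc, hy, mul_assoc]⟩
      one_mem' := ⟨1, one_mem _, by rw [mul_one, one_mul]⟩
      add_mem' := by
        rintro x y ⟨c, hc, hx⟩ ⟨d, hd, hy⟩
        exact ⟨c + d, add_mem hc hd, by rw [mul_add, hx, hy, add_mul]⟩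
      zero_mem' := ⟨0, zero_mem _, by rw [mul_zero, zero_mul]⟩
      neg_mem' := by
        rintro x ⟨c, hc, hx⟩
        exact ⟨-c, neg_mem hc, by rw [mul_neg, hx, neg_mul]⟩ }
  have h1 : Bd T ≤ R := Bd_le (fun c hc => ⟨c, hc, Subring.mem_center_iff.1 hc a⟩)
    fun t ht => ⟨1, one_mem _, by rw [ha t ht, one_mul]⟩
  exact h1 hx

variable [StarRing A]

theorem star_mem_Bd {T : Subgroup Aˣ} (hT : ∀ t ∈ T, (t : A) * star (t : A) = 1) {x : A} (hx : x ∈ Bd T) :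
    star x ∈ Bd T := by
  let R : Subring A :=
    { carrier := {x | star x ∈ Bd T}
      mul_mem' := fun {x y} hx hy => by
        change star (x * y) ∈ Bd T
        rw [star_mul]; exact mul_mem hy hx
      one_mem' := by
        change star 1 ∈ Bd T
        rw [star_one]; exact one_mem _
      add_mem' := fun {x y} hx hy => by
        change star (x + y) ∈ Bd T
        rw [star_add]; exact add_mem hx hy
      zero_mem' := by
        change star 0 ∈ Bd T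
        rw [star_zero]; exact zero_mem _
      neg_mem' := fun {x} hx => by
        change star (-x) ∈ Bd T
        rw [star_neg]; exact neg_mem hx }
  have h1 : Bd T ≤ R := Bd_le (fun c hc => cen_mem_Bd _ (star_cen hc)) fun t ht => by
    change star (t : A) ∈ Bd T
    rw [← star_eq_inv (hT t ht)]
    exact mem_Bd (inv_mem ht)
  exact h1 hx

theorem Dr_le (F : FR A) : Dr F ≤ F.Iso := F.comm_le_Iso

theorem le_Dr_of_perf {F : FR A} {P : Subgroup Aˣ} (hp : P ≤ ⁅P, P⁆) (h : P ≤ F.Iso) : P ≤ Dr F :=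
  hp.trans (Subgroup.commutator_mono h h)

/-- a central unipotent unit is trivial -/
theorem SS.eq_one_of_cen_uni (h : SS A) {u : Aˣ} (hc : Cen u) (hu : Uni u) : u = 1 := by
  have h1 : (u : A) - 1 ∈ Subring.center A := sub_mem hc (one_mem _)
  have h2 := h.nil_eq_bot (two_span_cen h1) fun x hx => by
    obtain ⟨b, rfl⟩ := Ideal.mem_span_singleton'.1 hx
    exact Commute.isNilpotent_mul_left (cen_comm h1 b) hu
  rw [Ideal.span_singleton_eq_bot, sub_eq_zero] at h2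
  exact Units.ext h2

/-- `(2 : A)` is zero or a unit -/
theorem SS.natCast_cases [Finite A] (h : SS A) (n : ℕ) : (n : A) = 0 ∨ IsUnit (n : A) := by
  by_cases h0 : (n : A) = 0
  · exact Or.inl h0
  · exact Or.inr (h.isUnit_of_cen (Subring.mem_center_iff.2 fun a => (Nat.cast_comm n a).symm) (star_natCast n) h0)

/-- an element commuting with a star-simple block and killing a non-zero element whose ideal is star-closed -/
theorem Blk.kill {D : Blk A} (hD : SS D.T) {y : A} (hy : ∀ x ∈ D.car, y * x = x * y) {x : A} (hx : x ∈ D.car) (h0 : x ≠ 0)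
    (h1 : x * y = 0) (h2 : star x * y = 0) : D.e * y = 0 := by
  let I : AddSubgroup A :=
    { carrier := {z | z ∈ D.car ∧ z * y = 0 ∧ star z * y = 0}
      add_mem' := by
        rintro a b ⟨ha, ha1, ha2⟩ ⟨hb, hb1, hb2⟩
        exact ⟨add_mem ha hb, by rw [add_mul, ha1, hb1, add_zero], by rw [star_add, add_mul, ha2, hb2, add_zero]⟩
      zero_mem' := ⟨zero_mem _, zero_mul y, by rw [star_zero, zero_mul]⟩
      neg_mem' := by
        rintro a ⟨ha, ha1, ha2⟩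
        exact ⟨neg_mem ha, by rw [neg_mul, ha1, neg_zero], by rw [star_neg, neg_mul, ha2, neg_zero]⟩ }
  rcases D.ss_elim hD I (fun z hz => hz.1) (fun z hz a ha => ⟨mul_mem ha hz.1, by rw [mul_assoc, hz.2.1, mul_zero], by
      rw [star_mul, mul_assoc, ← hy _ (D.star_mem a ha), ← mul_assoc, hz.2.2, zero_mul]⟩)
    (fun z hz => ⟨D.star_mem z hz.1, hz.2.2, by rw [star_star]; exact hz.2.1⟩) with h3 | h3
  · exact absurd (AddSubgroup.mem_bot.1 (h3 ▸ (⟨hx, h1, h2⟩ : x ∈ I))) h0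
  · exact h3.2.1

namespace Sh

variable {T : Subgroup Aˣ} {D : Blk A} (h : Sh T D)
include h

theorem sub_mul {t : Aˣ} (ht : t ∈ T) : ((t : A) - 1) * D.e = t - 1 := D.mul_e _ (h.mem t ht)

theorem mul_sub {t : Aˣ} (ht : t ∈ T) : D.e * ((t : A) - 1) = t - 1 := D.e_mul _ (h.mem t ht)

theorem comm_e {t : Aˣ} (ht : t ∈ T) : (t : A) * D.e = D.e * t := by
  have h1 := (h.sub_mul ht).trans (h.mul_sub ht).symm
  rw [_root_.sub_mul, _root_.mul_sub, one_mul, mul_one] at h1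
  exact sub_left_injective h1

theorem compl_mul {t : Aˣ} (ht : t ∈ T) : (1 - D.e) * (t : A) = 1 - D.e := by
  have h1 := h.mul_sub ht
  rw [_root_.mul_sub, mul_one] at h1
  rw [_root_.sub_mul, one_mul, sub_eq_iff_eq_add.1 h1]
  abel

theorem mul_compl {t : Aˣ} (ht : t ∈ T) : (t : A) * (1 - D.e) = 1 - D.e := by
  rw [_root_.mul_sub, mul_one, h.comm_e ht, ← one_mul (t : A), ← mul_assoc, mul_one, ← _root_.sub_mul, h.compl_mul ht]

theorem e_ne_zero : D.e ≠ 0 := fun h0 => by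
  have := h.ss.nontrivial
  exact one_ne_zero (D.val_inj (D.val_one.trans (h0.trans (map_zero D.val).symm)))

theorem mul_e_mem {t : Aˣ} (ht : t ∈ T) : (t : A) * D.e ∈ D.car := by
  have h1 := add_mem (h.mem t ht) D.e_mem
  rwa [← h.sub_mul ht, _root_.sub_mul, one_mul, sub_add_cancel] at h1

theorem comm {z : A} (hz : ∀ t ∈ T, z * t = t * z) {x : A} (hx : x ∈ D.car) : z * x = x * z := comm_Bd hz (h.sub x hx)

theorem ImI_le : ImI T ≤ Ideal.span {D.e} :=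
  Cl.ImI_le fun _ ht => Ideal.mem_span_singleton'.2 ⟨_, h.sub_mul ht⟩

/-- the support lies in the commutator space -/
theorem e_mem_ImI (hT : ∀ t ∈ T, (t : A) * star (t : A) = 1) (hne : T ≠ ⊥) : D.e ∈ ImI T := by
  let I : AddSubgroup A :=
    { carrier := {z | z ∈ D.car ∧ z ∈ ImI T ∧ star z ∈ ImI T}
      add_mem' := by
        rintro a b ⟨ha, ha1, ha2⟩ ⟨hb, hb1, hb2⟩
        exact ⟨add_mem ha hb, add_mem ha1 hb1, by rw [star_add]; exact add_mem ha2 hb2⟩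
      zero_mem' := ⟨zero_mem _, zero_mem _, by rw [star_zero]; exact zero_mem _⟩
      neg_mem' := by
        rintro a ⟨ha, ha1, ha2⟩
        exact ⟨neg_mem ha, neg_mem ha1, by rw [star_neg]; exact neg_mem ha2⟩ }
  rcases D.ss_elim h.ss I (fun z hz => hz.1) (fun z hz a ha => ⟨mul_mem ha hz.1, Ideal.mul_mem_left _ a hz.2.1, by
      rw [star_mul]; exact ImI_mul_Bd hz.2.2 (h.sub _ (D.star_mem a ha))⟩)
    (fun z hz => ⟨D.star_mem z hz.1, hz.2.2, by rw [star_star]; exact hz.2.1⟩) with h3 | h3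
  · exfalso
    refine hne (eq_bot_iff.2 fun t ht => ?_)
    have h4 : (t : A) - 1 ∈ I := ⟨h.mem t ht, sub_one_mem_ImI ht, by
      rw [star_sub, star_one, ← star_eq_inv (hT t ht)]; exact sub_one_mem_ImI (inv_mem ht)⟩
    rw [h3, AddSubgroup.mem_bot, sub_eq_zero] at h4
    exact Units.ext h4
  · exact h3.2.1

/-- no fixed vectors on the support -/
theorem full (hT : ∀ t ∈ T, (t : A) * star (t : A) = 1) (hne : T ≠ ⊥) {a : A} (ha : a ∈ FixI T) : a * D.e = 0 := by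
  let I : AddSubgroup A :=
    { carrier := {z | z ∈ D.car ∧ (∀ b ∈ FixI T, b * z = 0) ∧ ∀ b ∈ FixI T, b * star z = 0}
      add_mem' := by
        rintro x y ⟨hx, hx1, hx2⟩ ⟨hy, hy1, hy2⟩
        exact ⟨add_mem hx hy, fun b hb => by rw [mul_add, hx1 b hb, hy1 b hb, add_zero],
          fun b hb => by rw [star_add, mul_add, hx2 b hb, hy2 b hb, add_zero]⟩
      zero_mem' := ⟨zero_mem _, fun b _ => mul_zero b, fun b _ => by rw [star_zero, mul_zero]⟩
      neg_mem' := by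
        rintro x ⟨hx, hx1, hx2⟩
        exact ⟨neg_mem hx, fun b hb => by rw [mul_neg, hx1 b hb, neg_zero],
          fun b hb => by rw [star_neg, mul_neg, hx2 b hb, neg_zero]⟩ }
  rcases D.ss_elim h.ss I (fun z hz => hz.1) (fun z hz x hx => ⟨mul_mem hx hz.1, fun b hb => by
      obtain ⟨c, -, hc⟩ := FixI_mul_Bd hb (h.sub x hx)
      rw [← mul_assoc, hc, mul_assoc, hz.2.1 b hb, mul_zero], fun b hb => by
      rw [star_mul, ← mul_assoc, hz.2.2 b hb, zero_mul]⟩)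
    (fun z hz => ⟨D.star_mem z hz.1, hz.2.2, by rw [star_star]; exact hz.2.1⟩) with h3 | h3
  · exfalso
    refine hne (eq_bot_iff.2 fun t ht => ?_)
    have h4 : (t : A) - 1 ∈ I := ⟨h.mem t ht, fun b hb => by rw [_root_.mul_sub, hb t ht, mul_one, sub_self], fun b hb => by
      rw [star_sub, star_one, ← star_eq_inv (hT t ht), _root_.mul_sub, hb _ (inv_mem ht), mul_one, sub_self]⟩
    rw [h3, AddSubgroup.mem_bot, sub_eq_zero] at h4
    exact Units.ext h4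
  · exact h3.2.1 a ha

end Sh

end ring

end Cfsg.Agent.Cam.Cl
end

-- part: Cam/Cl/Rad
section
/-!
# The radical of a subring and the lemma END (helper8)

* `Jp B n` : the `n`-th power of the radical of the subring `B`, as an additive subgroup of `A`; `Jr B = Jp B 1`;
* `mem_Jr`, `Jp_mul`, `Jp_star`, `exists_Jp_bot`, `exists_ann`, `semisimple_of_Jr`;
* `end_lemma` : `(t - 1) J = 0 = J (t - 1)` for a perfect group implies `J = 0`; `semisimple_of_symm`.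
-/

set_option autoImplicit false

namespace Cfsg.Agent.Cam.Cl.JB

open Cfsg Cfsg.Agent.DS.Cl
open scoped commutatorElement

variable {A : Type} [Ring A]

/-- the powers of the radical of a subring -/
def Jp (B : Subring A) (n : ℕ) : AddSubgroup A :=
  ((Ring.jacobson B ^ n : Ideal B).toAddSubgroup).map B.subtype.toAddMonoidHom

/-- the radical of a subring -/
def Jr (B : Subring A) : AddSubgroup A := Jp B 1

variable {B : Subring A}

theorem mem_Jp {n : ℕ} {x : A} : x ∈ Jp B n ↔ ∃ h : x ∈ B, (⟨x, h⟩ : B) ∈ (Ring.jacobson B ^ n : Ideal B) :=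
  ⟨by rintro ⟨y, hy, rfl⟩; exact ⟨y.2, hy⟩, fun ⟨h, h1⟩ => ⟨_, h1, rfl⟩⟩

theorem Jp_le {n : ℕ} {x : A} (h : x ∈ Jp B n) : x ∈ B := (mem_Jp.1 h).1

theorem mem_Jp_zero {x : A} : x ∈ Jp B 0 ↔ x ∈ B := by
  rw [mem_Jp, Submodule.pow_zero, Ideal.one_eq_top]
  exact ⟨fun h => h.1, fun h => ⟨h, trivial⟩⟩

theorem Jp_mul {m n : ℕ} {x y : A} (hx : x ∈ Jp B m) (hy : y ∈ Jp B n) : x * y ∈ Jp B (m + n) := by
  obtain ⟨h1, h2⟩ := mem_Jp.1 hx
  obtain ⟨h3, h4⟩ := mem_Jp.1 hy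
  refine mem_Jp.2 ⟨B.mul_mem h1 h3, ?_⟩
  rw [Ideal.IsTwoSided.pow_add]
  exact Ideal.mul_mem_mul h2 h4

theorem Jp_mul_left {n : ℕ} {b x : A} (hb : b ∈ B) (hx : x ∈ Jp B n) : b * x ∈ Jp B n := by
  simpa using Jp_mul (mem_Jp_zero.2 hb) hx

theorem Jp_mul_right {n : ℕ} {b x : A} (hx : x ∈ Jp B n) (hb : b ∈ B) : x * b ∈ Jp B n :=
  (Jp_mul hx (mem_Jp_zero.2 hb) :)

theorem Jp_anti {m n : ℕ} (h : m ≤ n) : Jp B n ≤ Jp B m := fun _ hx => by
  obtain ⟨h1, h2⟩ := mem_Jp.1 hx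
  exact mem_Jp.2 ⟨h1, Ideal.pow_le_pow_right h h2⟩

theorem mem_Jr' {x : A} : x ∈ Jr B ↔ ∃ h : x ∈ B, (⟨x, h⟩ : B) ∈ Ring.jacobson B := by
  rw [Jr, mem_Jp, Submodule.pow_one]

theorem Jr_le {x : A} (h : x ∈ Jr B) : x ∈ B := Jp_le h

theorem Jr_mul_left {b x : A} (hb : b ∈ B) (hx : x ∈ Jr B) : b * x ∈ Jr B := Jp_mul_left hb hx

theorem Jr_mul_right {b x : A} (hx : x ∈ Jr B) (hb : b ∈ B) : x * b ∈ Jr B := Jp_mul_right hx hb

theorem pow_mem_Jp {x : A} (hx : x ∈ Jr B) (n : ℕ) : x ^ n ∈ Jp B n := by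
  induction n with
  | zero => rw [pow_zero]; exact mem_Jp_zero.2 B.one_mem
  | succ n ih => rw [pow_succ]; exact Jp_mul ih hx

variable [Finite A]

theorem exists_Jp_bot (B : Subring A) : ∃ n, Jp B n = ⊥ := by
  obtain ⟨n, hn⟩ := IsArtinianRing.isNilpotent_jacobson_bot (R := B)
  rw [Ideal.jacobson_bot] at hn
  refine ⟨n, eq_bot_iff.2 fun x hx => ?_⟩
  obtain ⟨h1, h2⟩ := mem_Jp.1 hx
  rw [hn] at h2
  exact congrArg Subtype.val (show (⟨x, h1⟩ : B) = 0 from h2)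

theorem Jr_nil {x : A} (hx : x ∈ Jr B) : IsNilpotent x := by
  obtain ⟨n, hn⟩ := exists_Jp_bot B
  have h := pow_mem_Jp hx n
  rw [hn] at h
  exact ⟨n, h⟩

theorem mem_Jr {x : A} : x ∈ Jr B ↔ x ∈ B ∧ ∀ b ∈ B, IsNilpotent (b * x) := by
  refine ⟨fun h => ⟨Jr_le h, fun b hb => Jr_nil (Jr_mul_left hb h)⟩, fun ⟨h1, h2⟩ => mem_Jr'.2 ⟨h1, ?_⟩⟩
  rw [← Ideal.jacobson_bot, Ideal.mem_jacobson_iff]
  intro y
  obtain ⟨n, hn⟩ := h2 y y.2
  have h3 : IsNilpotent (y * ⟨x, h1⟩ : B) := ⟨n, Subtype.ext (by simpa only [_root_.SubmonoidClass.coe_pow, _root_.Subring.coe_mul, _root_.ZeroMemClass.coe_zero] using hn)⟩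
  obtain ⟨u, hu⟩ := h3.isUnit_add_one
  refine ⟨(u⁻¹ : Bˣ), ?_⟩
  rw [Ideal.mem_bot, mul_assoc, ← mul_add_one, ← hu, Units.inv_mul, sub_self]

theorem semisimple_of_Jr (h : ∀ x ∈ Jr B, x = 0) : IsSemisimpleRing B := by
  rw [IsArtinianRing.isSemisimpleRing_iff_jacobson, eq_bot_iff]
  intro x hx
  exact Subtype.ext (h x (mem_Jr'.2 ⟨x.2, hx⟩))

/-- the annihilator of a non-zero radical meets it -/
theorem exists_ann (h : ∃ x ∈ Jr B, x ≠ 0) : ∃ x ∈ Jr B, x ≠ 0 ∧ ∀ y ∈ Jr B, x * y = 0 ∧ y * x = 0 := by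
  classical
  obtain ⟨x0, hx0, hne⟩ := h
  have h1 := Nat.find_spec (exists_Jp_bot B)
  obtain ⟨k, hk⟩ : ∃ k, Nat.find (exists_Jp_bot B) = k + 2 := by
    refine Nat.exists_eq_add_of_le' (not_lt.1 fun h2 => hne ?_)
    have h3 := Jp_anti (Nat.lt_succ_iff.1 h2) hx0
    rwa [h1] at h3
  have h2 := Nat.find_min (exists_Jp_bot B) (show k + 1 < _ by omega)
  obtain ⟨⟨x, hx⟩, hx1⟩ := AddSubgroup.ne_bot_iff_exists_ne_zero.1 h2
  rw [hk] at h1
  refine ⟨x, Jp_anti (by omega) hx, fun e => hx1 (Subtype.ext e), fun y hy => ⟨?_, ?_⟩⟩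
  · have h3 := Jp_mul hx hy
    rwa [h1] at h3
  · have h3 := Jp_mul hy hx
    rwa [show 1 + (k + 1) = k + 2 by omega, h1] at h3

theorem Jr_map {γ : RingAut A} (h : ∀ b ∈ B, γ b ∈ B) (h' : ∀ b ∈ B, γ⁻¹ b ∈ B) {x : A} (hx : x ∈ Jr B) :
    γ x ∈ Jr B := by
  refine mem_Jr.2 ⟨h x (Jr_le hx), fun b hb => ?_⟩
  have h1 := (Jr_nil (Jr_mul_left (h' b hb) hx)).map γ
  rwa [map_mul, ra_apply_inv] at h1

section star

variable [StarRing A]

theorem Jr_star (hs : ∀ b ∈ B, star b ∈ B) {x : A} (hx : x ∈ Jr B) : star x ∈ Jr B := by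
  refine mem_Jr.2 ⟨hs x (Jr_le hx), fun b hb => ?_⟩
  obtain ⟨n, hn⟩ := Jr_nil (Jr_mul_right hx (hs b hb))
  exact ⟨n, by rw [← star_star b, ← star_mul, ← star_pow, hn, star_zero]⟩

omit [Finite A] [StarRing A] in
/-- an element fixed on the left by `T` -/
theorem Bd_mul_fix {T : Subgroup Aˣ} {m x : A} (hm : ∀ t ∈ T, (t : A) * m = m) (hx : x ∈ Bd T) :
    ∃ c ∈ Subring.center A, x * m = c * m := by
  let R : Subring A :=
    { carrier := {x | ∃ c ∈ Subring.center A, x * m = c * m}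
      mul_mem' := by
        rintro x y ⟨c, hc, h1⟩ ⟨d, hd, h2⟩
        exact ⟨c * d, mul_mem hc hd, by rw [mul_assoc, h2, ← mul_assoc, cen_comm hd, mul_assoc, h1, ← mul_assoc,
          cen_comm hc]⟩
      one_mem' := ⟨1, one_mem _, rfl⟩
      add_mem' := by
        rintro x y ⟨c, hc, h1⟩ ⟨d, hd, h2⟩
        exact ⟨c + d, add_mem hc hd, by rw [add_mul, add_mul, h1, h2]⟩
      zero_mem' := ⟨0, zero_mem _, rfl⟩
      neg_mem' := by
        rintro x ⟨c, hc, h1⟩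
        exact ⟨-c, neg_mem hc, by rw [neg_mul, neg_mul, h1]⟩ }
  have h1 : Bd T ≤ R := Bd_le (fun c hc => ⟨c, hc, rfl⟩) fun t ht => ⟨1, one_mem _, by rw [hm t ht, one_mul]⟩
  exact h1 hx

/-- **END** -/
theorem end_lemma (hA : SS A) {T : Subgroup Aˣ} (hT : T ≤ ⁅T, T⁆)
    (h : ∀ j ∈ Jr (Bd T), ∀ t ∈ T, ((t : A) - 1) * j = 0 ∧ j * ((t : A) - 1) = 0) : ∀ j ∈ Jr (Bd T), j = 0 := by
  let I : Ideal (Bd T) := Ideal.span {x | ∃ t ∈ T, (x : A) = (t : A) - 1}
  let q := Ideal.Quotient.mk (Ring.jacobson (Bd T))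
  obtain ⟨e', he', hI⟩ := IsSemisimpleRing.ideal_eq_span_idempotent (I.map q)
  obtain ⟨e, he, rfl⟩ := (Ideal.mem_map_iff_of_surjective q Ideal.Quotient.mk_surjective).1
    (hI ▸ Ideal.mem_span_singleton_self e')
  have h1 : ∀ x ∈ I, ((x : A) * (1 - e)) ∈ Jr (Bd T) := fun x hx => by
    have h2 := Ideal.mem_map_of_mem q hx
    rw [hI] at h2
    obtain ⟨b, hb⟩ := Ideal.mem_span_singleton'.1 h2
    refine mem_Jr'.2 ⟨(x * (1 - e)).2, ?_⟩
    show x * (1 - e) ∈ _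
    rw [← Ideal.Quotient.eq_zero_iff_mem]
    show q _ = 0
    rw [map_mul, map_sub, map_one, ← hb, mul_assoc, mul_sub, mul_one, he'.eq, sub_self, mul_zero]
  have h2 : ∀ t ∈ T, ((t : A) - 1) * (1 - e) ∈ Jr (Bd T) := fun t ht =>
    h1 ⟨(t : A) - 1, sub_mem (mem_Bd ht) (one_mem _)⟩ (Ideal.subset_span ⟨t, ht, rfl⟩)
  have h3 : ∀ t ∈ T, (t : A) * (1 - e) = 1 - e := fun t ht => by
    have h4 := eq_one_of_perf hT (fun t : Aˣ => Multiplicative.ofAdd (((t : A) - 1) * (1 - e))) (by simp)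
      (fun a ha b hb => by
        rw [← ofAdd_add, Units.val_mul]
        congr 1
        rw [← sub_eq_zero, ← (h _ (h2 b hb) a ha).1]
        noncomm_ring) (fun _ _ _ _ => mul_comm _ _) t ht
    rw [ofAdd_eq_one, sub_mul, one_mul, sub_eq_zero] at h4
    exact h4
  have h4 : ∀ x ∈ I, (x : A) * (1 - e) = 0 ∧ ∀ j ∈ Jr (Bd T), j * x = 0 := fun x hx => by
    induction hx using Submodule.span_induction with
    | mem x hx =>
      obtain ⟨t, ht, e1⟩ := hx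
      exact ⟨by rw [e1, sub_mul, h3 t ht, one_mul, sub_self], fun j hj => by rw [e1, (h j hj t ht).2]⟩
    | zero => simp
    | add x y _ _ hx hy =>
      exact ⟨by rw [Subring.coe_add, add_mul, hx.1, hy.1, add_zero],
        fun j hj => by rw [Subring.coe_add, mul_add, hx.2 j hj, hy.2 j hj, add_zero]⟩
    | smul b x _ hx =>
      exact ⟨by rw [smul_eq_mul, Subring.coe_mul, mul_assoc, hx.1, mul_zero],
        fun j hj => by rw [smul_eq_mul, Subring.coe_mul, ← mul_assoc, hx.2 _ (Jr_mul_right hj b.2)]⟩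
  intro j hj
  obtain ⟨c, hc, h5⟩ := Bd_mul_fix h3 (Jr_le hj)
  rw [mul_sub, mul_one, (h4 e he).2 j hj, sub_zero] at h5
  have h6 : (1 - (e : A)) * (1 - e) = 1 - e := by rw [sub_mul, one_mul, (h4 e he).1, sub_zero]
  obtain ⟨n, hn⟩ := Jr_nil hj
  obtain ⟨y, hy⟩ := hA.regular c
  have h7 : ∀ k : ℕ, j = y ^ k * j ^ (k + 1) := fun k => by
    induction k with
    | zero => simp
    | succ k ih =>
      have h8 : j = y * (j * j) := by
        rw [h5, mul_assoc c, ← mul_assoc (1 - (e : A)), cen_comm hc, mul_assoc c, h6, ← mul_assoc, ← mul_assoc,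
          cen_comm hc y, hy]
      rw [pow_succ' y, mul_assoc, pow_succ j (k + 1), ← mul_assoc (y ^ k), ← ih]
      exact h8
  rw [h7 n, pow_succ, hn, zero_mul, mul_zero]

theorem semisimple_of_end (hA : SS A) {T : Subgroup Aˣ} (hT : T ≤ ⁅T, T⁆)
    (h : ∀ j ∈ Jr (Bd T), ∀ t ∈ T, ((t : A) - 1) * j = 0 ∧ j * ((t : A) - 1) = 0) : IsSemisimpleRing (Bd T) :=
  semisimple_of_Jr (end_lemma hA hT h)

/-- a symmetric radical is zero -/
theorem semisimple_of_symm (hA : SS A) {T : Subgroup Aˣ} (hT : T ≤ ⁅T, T⁆)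
    (hu : ∀ t ∈ T, (t : A) * star (t : A) = 1) (h : ∀ j ∈ Jr (Bd T), star j = j) : IsSemisimpleRing (Bd T) := by
  have h1 : ∀ j ∈ Jr (Bd T), ∀ b ∈ Bd T, b * j = j * star b := fun j hj b hb => by
    rw [← h _ (Jr_mul_left hb hj), star_mul, h j hj]
  have h2 : ∀ j ∈ Jr (Bd T), ∀ t ∈ T, (t : A) * j = j := fun j hj => by
    let K : Subgroup Aˣ :=
      { carrier := {t | (t : A) * j = j}
        mul_mem' := fun {a b} (ha : (a : A) * j = j) (hb : (b : A) * j = j) => by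
          show ((a * b : Aˣ) : A) * j = j
          rw [Units.val_mul, mul_assoc, hb, ha]
        one_mem' := one_mul j
        inv_mem' := fun {a} (ha : (a : A) * j = j) => by
          show ((a⁻¹ : Aˣ) : A) * j = j
          conv_lhs => rw [← ha, ← mul_assoc, Units.inv_mul, one_mul] }
    have h3 : ⁅T, T⁆ ≤ K := by
      rw [Subgroup.commutator_le]
      intro a ha b hb
      have h4 : ∀ x ∈ Jr (Bd T), (a : A) * (b * x) = b * (a * x) := fun x hx => by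
        rw [h1 _ (Jr_mul_left (mem_Bd hb) hx) _ (mem_Bd ha), mul_assoc, ← h1 _ hx _ (mem_Bd ha)]
      show ((a * b * a⁻¹ * b⁻¹ : Aˣ) : A) * j = j
      rw [Units.val_mul, Units.val_mul, Units.val_mul, mul_assoc, mul_assoc, mul_assoc,
        h4 _ (Jr_mul_left (mem_Bd (inv_mem ha)) (Jr_mul_left (mem_Bd (inv_mem hb)) hj)), Units.mul_inv_cancel_left,
        Units.mul_inv_cancel_left]
    exact fun t ht => h3 (hT ht)
  refine semisimple_of_end hA hT fun j hj t ht => ⟨by rw [sub_mul, h2 j hj t ht, one_mul, sub_self], ?_⟩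
  have h3 := h1 j hj _ (mem_Bd (inv_mem ht))
  rw [h2 j hj _ (inv_mem ht), star_eq_inv (hu t ht), star_star] at h3
  rw [mul_sub, ← h3, mul_one, sub_self]

end star

end Cfsg.Agent.Cam.Cl.JB
end

-- part: Cam/Cl/J1
section
/-!
# The box J1 (helper8)
-/

set_option autoImplicit false

namespace Cfsg.Agent.Cam.Cl.JB

open Cfsg Cfsg.Agent.DS.Cl
open scoped commutatorElement

variable {A : Type} [Ring A] [StarRing A] {F : FR A} {Hh Y : Subgroup Aˣ} {𝒯 : Set (Subgroup Aˣ)}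

theorem sSup_le_Iso (h : Loc F Hh Y 𝒯) {𝒯₁ : Set (Subgroup Aˣ)} (h1 : 𝒯₁ ⊆ 𝒯) : sSup 𝒯₁ ≤ F.Iso :=
  sSup_le fun T hT => (h.mem T (h1 hT)).le

theorem sSup_ms (h : Loc F Hh Y 𝒯) {𝒯₁ : Set (Subgroup Aˣ)} (h1 : 𝒯₁ ⊆ 𝒯) :
    ∀ t ∈ sSup 𝒯₁, (t : A) * star (t : A) = 1 := fun _ ht => (sSup_le_Iso h h1 ht).1

theorem sSup_perf (h : Loc F Hh Y 𝒯) {𝒯₁ : Set (Subgroup Aˣ)} (h1 : 𝒯₁ ⊆ 𝒯) : sSup 𝒯₁ ≤ ⁅sSup 𝒯₁, sSup 𝒯₁⁆ :=
  perf_sSup fun T hT => (h.mem T (h1 hT)).qs.perf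

theorem y_comm_Bd (h : Loc F Hh Y 𝒯) {𝒯₁ : Set (Subgroup Aˣ)} (h1 : 𝒯₁ ⊆ 𝒯) {y : Aˣ} (hy : y ∈ Y) {x : A}
    (hx : x ∈ Bd (sSup 𝒯₁)) : (y : A) * x = x * y :=
  comm_Bd (fun t ht => by
    rw [← Units.val_mul, ← Units.val_mul, (cm_sSup_left fun T hT => (h.y_comm T (h1 hT)).symm) t ht y hy]) hx

theorem nm_sSup (h : Loc F Hh Y 𝒯) : Nm Hh (sSup 𝒯) := by
  intro g hg
  have h1 : sSup 𝒯 ≤ (sSup 𝒯).comap (MulAut.conj g).toMonoidHom := sSup_le fun T hT t ht => by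
    have h2 := conj_mem_cj (a := g⁻¹) ht
    rw [inv_inv] at h2
    exact le_sSup (h.inv _ (inv_mem hg) T hT) h2
  exact h1

omit [StarRing A] in
theorem cj_mem_Bd {T : Subgroup Aˣ} {g : Aˣ} (hg : ∀ t ∈ T, g * t * g⁻¹ ∈ T) {x : A} (hx : x ∈ Bd T) :
    DS.Cl.cj A g x ∈ Bd T := by
  have h1 : Bd T ≤ (Bd T).comap (DS.Cl.cj A g : A →+* A) := Bd_le
    (fun c hc => by
      show DS.Cl.cj A g c ∈ Bd T
      rw [cj_mem_Lin g c hc]
      exact cen_mem_Bd _ hc)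
    (fun t ht => mem_Bd (hg t ht))
  exact h1 hx

omit [StarRing A] in
theorem cj_mem_Jr [Finite A] {S T : Subgroup Aˣ} (h : Nm S T) {g : Aˣ} (hg : g ∈ S) {x : A} (hx : x ∈ Jr (Bd T)) :
    (g : A) * x * (g⁻¹ : Aˣ) ∈ Jr (Bd T) :=
  Jr_map (γ := DS.Cl.cj A g) (fun _ hb => cj_mem_Bd (h g hg) hb) (fun _ hb => by
    rw [← map_inv]
    exact cj_mem_Bd (h _ (inv_mem hg)) hb) hx

/-- elements of the commutator group which are congruent to one modulo the radical are trivial -/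
theorem eq_one_of_Jr [Finite A] (h : Loc F Hh Y 𝒯) {𝒯₁ : Set (Subgroup Aˣ)} (h1 : 𝒯₁ ⊆ 𝒯) (hn : Nm Hh (sSup 𝒯₁))
    {u : Aˣ} (hu : u ∈ Dr F) (hj : (u : A) - 1 ∈ Jr (Bd (sSup 𝒯₁))) : u = 1 := by
  have hB : ∀ v : Aˣ, (v : A) - 1 ∈ Jr (Bd (sSup 𝒯₁)) → (v : A) ∈ Bd (sSup 𝒯₁) := fun v hv => by
    simpa using add_mem (Jr_le hv) (one_mem _)
  let P : Subgroup Aˣ :=
    { carrier := {u | u ∈ Dr F ∧ (u : A) - 1 ∈ Jr (Bd (sSup 𝒯₁))}
      mul_mem' := by
        rintro a b ⟨ha, ha'⟩ ⟨hb, hb'⟩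
        refine ⟨mul_mem ha hb, ?_⟩
        have h2 := add_mem (Jr_mul_right ha' (hB b hb')) hb'
        rwa [sub_mul, one_mul, sub_add_sub_cancel] at h2
      one_mem' := ⟨one_mem _, by simp⟩
      inv_mem' := by
        rintro a ⟨ha, ha'⟩
        refine ⟨inv_mem ha, ?_⟩
        have h2 := Jr_star (fun _ => star_mem_Bd (sSup_ms h h1)) ha'
        rwa [star_sub, star_one, ← FR.Iso.inv_eq (Dr_le F ha)] at h2 }
  have h2 : P = ⊥ := h.op P
    (fun v hv => h.cY v hv.1 fun y hy => Units.ext (y_comm_Bd h h1 hy (hB v hv.2)).symm)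
    (fun g hg v hv => ⟨mul_mem (mul_mem (h.le hg) hv.1) (inv_mem (h.le hg)), by
      have h3 := cj_mem_Jr hn hg hv.2
      rwa [mul_sub, sub_mul, mul_one, Units.mul_inv] at h3⟩)
    (fun v hv => Jr_nil hv.2)
  have h3 : u ∈ P := ⟨hu, hj⟩
  rwa [h2] at h3

/-- **J1** -/
theorem boxJ1 : BoxJ1 := by
  intro A _ _ _ F Hh Y 𝒯 h hU
  have hs : ∀ b ∈ Bd (sSup 𝒯), star b ∈ Bd (sSup 𝒯) := fun _ => star_mem_Bd (sSup_ms h le_rfl)
  have key : ∀ x : A, x * star x = 1 → x - 1 ∈ Jr (Bd (sSup 𝒯)) → x = 1 := fun x h1 h2 =>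
    congrArg Units.val (eq_one_of_Jr h le_rfl (nm_sSup h) (u := mkU x h1)
      (hU.2 _ (Fwd.mem_Iso_max hU.1 h1) (Jr_nil h2)) h2)
  rcases Cl.SS.natCast_cases h.ss 2 with h2 | h2
  · refine semisimple_of_Jr fun x0 hx0 => ?_
    by_contra hne
    obtain ⟨x, hx, h0, h3⟩ := exists_ann ⟨x0, hx0, hne⟩
    have h4 : ∀ y ∈ Jr (Bd (sSup 𝒯)), star y = y → y * y = 0 → y = 0 := fun y hy e1 e2 => by
      have h5 := key (1 + y) (by
        rw [star_add, star_one, e1, add_mul, mul_add, mul_add, e2, one_mul, one_mul, mul_one, add_zero, add_assoc,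
          ← two_mul, ← Nat.cast_ofNat, h2, zero_mul, add_zero]) (by rwa [add_sub_cancel_left])
      exact add_eq_left.1 h5
    have hx' := Jr_star hs hx
    have h5 : x + star x = 0 := h4 _ (add_mem hx hx') (by rw [star_add, star_star, add_comm]) (by
      rw [add_mul, mul_add, mul_add, (h3 x hx).1, (h3 _ hx').1, (h3 _ hx').2, ← star_mul, (h3 x hx).1]
      simp)
    have h6 : star x = x := by
      have h7 : x + x = 0 := by rw [← two_mul, ← Nat.cast_ofNat, h2, zero_mul]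
      exact add_left_cancel (h5.trans h7.symm)
    exact h0 (h4 x hx h6 (h3 x hx).1)
  · refine semisimple_of_symm h.ss (sSup_perf h le_rfl) (sSup_ms h le_rfl) fun j hj => ?_
    have hy := sub_mem hj (Jr_star hs hj)
    have hsy : star (j - star j) = -(j - star j) := by rw [star_sub, star_star, neg_sub]
    generalize hyy : j - star j = y at hy hsy
    obtain ⟨n, hn⟩ := Jr_nil hy
    have e1 : (1 - y) * ∑ i ∈ Finset.range n, y ^ i = 1 := by rw [mul_neg_geom_sum, hn, sub_zero]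
    have e2 : (∑ i ∈ Finset.range n, y ^ i) * (1 - y) = 1 := by rw [geom_sum_mul_neg, hn, sub_zero]
    have hw : ∑ i ∈ Finset.range n, y ^ i ∈ Bd (sSup 𝒯) := sum_mem fun i _ => pow_mem (Jr_le hy) i
    generalize ∑ i ∈ Finset.range n, y ^ i = w at e1 e2 hw
    have e3 : (1 + y) * star w = 1 := by
      have e4 := congrArg star e2
      rwa [star_mul, star_sub, star_one, hsy, sub_neg_eq_add] at e4
    have h3 := key (w * (1 + y)) (by
      rw [star_mul, star_add, star_one, hsy, mul_assoc, ← mul_assoc (1 + y),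
        show (1 + y) * (1 + -y) = (1 - y) * (1 + y) by noncomm_ring, mul_assoc, e3, mul_one, e2]) (by
      have e4 : w * (1 + y) - 1 = w * (y + y) := by
        nth_rewrite 2 [← e2]
        noncomm_ring
      rw [e4]
      exact Jr_mul_left hw (add_mem hy hy))
    have h4 : 1 + y = 1 - y := by
      have e4 := congrArg (· * (1 + y)) e1
      simp only [mul_assoc, h3, mul_one, one_mul] at e4
      exact e4.symm
    have h5 : ((2 : ℕ) : A) * y = 0 := by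
      rw [Nat.cast_ofNat, two_mul, ← add_left_cancel_iff (a := (1 : A)), ← add_assoc, h4, sub_add_cancel, add_zero]
    rw [h2.mul_right_eq_zero] at h5
    rw [h5, sub_eq_zero] at hyy
    exact hyy.symm

end Cfsg.Agent.Cam.Cl.JB
end

private theorem dce_9303321d04b8 : _root_.True := by
  try have : _root_.True := by simp only [_root_.Cfsg.Agent.Cam.Cl.JB.Jr.eq_1]
  try have : _root_.True := by simp only [_root_.Cfsg.Agent.Cam.Cl.ImI.eq_1]
  try have : _root_.True := by simp only [_root_.Cfsg.Agent.Cam.Cl.Bd.eq_1]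
  exact _root_.True.intro
end

-- part: Cam/Cl/Asm_mg
section
prune_inst 0x3a04008000000000000060001f428200000000088800000002040680284000000860b020010010200004003004681080002000000000000000000119018018008000c0890008000006000000000000000000000000000000000000000000000000000
set_option linter.all false
open scoped Cfsg.Agent.FastGrp

-- part: Cam/Cl/Hat
section
/-!
# Perfect preimages in central extensions (helper65)
-/

set_option autoImplicit false

namespace Cfsg.Agent.Cam.Cl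

open Cfsg
open scoped commutatorElement

variable {W G : Type} [Group W] [Group G]

/-- the kernel of `π` is central -/
def CK (π : W →* G) : Prop := ∀ w, π w = 1 → ∀ v, w * v = v * w

/-- the perfect preimage -/
def hat (π : W →* G) (T : Subgroup G) : Subgroup W := ⁅T.comap π, T.comap π⁆

theorem hat_le (π : W →* G) (T : Subgroup G) : hat π T ≤ T.comap π := (nm_self _).commutator_le

theorem map_hat {π : W →* G} {T : Subgroup G} (hT : T ≤ ⁅T, T⁆) (hr : T ≤ π.range) : (hat π T).map π = T := by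
  rw [hat, Subgroup.map_commutator, Subgroup.map_comap_eq_self hr]
  exact le_antisymm (nm_self T).commutator_le hT

theorem exists_hat {π : W →* G} {T : Subgroup G} (hT : T ≤ ⁅T, T⁆) (hr : T ≤ π.range) {t : G} (ht : t ∈ T) :
    ∃ w ∈ hat π T, π w = t := by
  rw [← map_hat hT hr] at ht
  exact ht

theorem CK.commutator_eq {π : W →* G} (h : CK π) {a b a' b' : W} (ha : π a = π a') (hb : π b = π b') :
    ⁅a, b⁆ = ⁅a', b'⁆ := by
  have h1 := h (a'⁻¹ * a) (by rw [map_mul, map_inv, ha, inv_mul_cancel])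
  have h2 := h (b'⁻¹ * b) (by rw [map_mul, map_inv, hb, inv_mul_cancel])
  obtain ⟨z, rfl⟩ : ∃ z, a = a' * z := ⟨a'⁻¹ * a, by group⟩
  obtain ⟨z', rfl⟩ : ∃ z', b = b' * z' := ⟨b'⁻¹ * b, by group⟩
  rw [inv_mul_cancel_left] at h1 h2
  have h3 : ∀ x, z * x * z⁻¹ = x := fun x => by rw [h1, mul_inv_cancel_right]
  have h4 : ∀ x, z' * x * z'⁻¹ = x := fun x => by rw [h2, mul_inv_cancel_right]
  calc ⁅a' * z, b' * z'⁆ = a' * (z * (b' * z') * z⁻¹) * a'⁻¹ * z'⁻¹ * b'⁻¹ := by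
        simp only [commutatorElement_def, mul_inv_rev, mul_assoc]
    _ = a' * b' * (z' * a'⁻¹ * z'⁻¹) * b'⁻¹ := by rw [h3]; simp only [mul_assoc]
    _ = ⁅a', b'⁆ := by rw [h4, commutatorElement_def]

theorem CK.hat_le_comm {π : W →* G} (h : CK π) {T : Subgroup G} {P : Subgroup W} (hP : T ≤ P.map π) :
    hat π T ≤ ⁅P, P⁆ := by
  rw [hat, Subgroup.commutator_le]
  intro a ha b hb
  obtain ⟨a', ha', e⟩ := hP ha
  obtain ⟨b', hb', e'⟩ := hP hb
  rw [h.commutator_eq e.symm e'.symm]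
  exact Subgroup.commutator_mem_commutator ha' hb'

theorem CK.hat_perf {π : W →* G} (h : CK π) {T : Subgroup G} (hT : T ≤ ⁅T, T⁆) (hr : T ≤ π.range) :
    hat π T ≤ ⁅hat π T, hat π T⁆ := h.hat_le_comm (map_hat hT hr).ge

/-- uniqueness of the perfect preimage -/
theorem CK.eq_hat {π : W →* G} (h : CK π) {P : Subgroup W} (hP : P ≤ ⁅P, P⁆) : P = hat π (P.map π) :=
  le_antisymm (hP.trans (Subgroup.commutator_mono (Subgroup.le_comap_map _ _) (Subgroup.le_comap_map _ _)))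
    ((h.hat_le_comm le_rfl).trans (nm_self P).commutator_le)

theorem CK.cm_hat {π : W →* G} (h : CK π) {T T' : Subgroup G} (hT : T ≤ ⁅T, T⁆) (hr : T ≤ π.range) (hc : Cm T' T) :
    Cm (T'.comap π) (hat π T) := by
  refine cm_of_perf (h.hat_perf hT hr) ?_
  rw [cm_iff_le, Subgroup.commutator_le]
  intro a ha b hb s _
  refine (h _ ?_ s).symm
  rw [map_commutatorElement, commutatorElement_eq_one_iff_mul_comm]
  exact hc _ ha _ (hat_le π T hb)

theorem cj_hat (π : W →* G) (T : Subgroup G) (w : W) : Cam.cj w (hat π T) = hat π (Cam.cj (π w) T) := by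
  have h1 : Cam.cj w (T.comap π) = (Cam.cj (π w) T).comap π := by
    ext x
    rw [mem_cj, Subgroup.mem_comap, Subgroup.mem_comap, mem_cj, map_mul, map_mul, map_inv]
  rw [hat, hat, ← h1, Cam.cj, Cam.cj, Subgroup.map_commutator]

theorem nm_hat {π : W →* G} {T H : Subgroup G} (h : Nm H T) : Nm (H.comap π) (hat π T) :=
  nm_of_cj fun w hw => by rw [cj_hat, cj_eq_of_nm h hw]

theorem perf_of_simple {T : Subgroup G} (hs : IsSimpleGroup T) (hn : ¬ IsMulCommutative T) : T ≤ ⁅T, T⁆ := by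
  rcases (inferInstance : (commutator T).Normal).eq_bot_or_eq_top with h | h
  · exact absurd (Subgroup.center_eq_top_iff.1 ((commutator_eq_bot_iff_center_eq_top _).1 h)) hn
  · have h1 := congrArg (Subgroup.map T.subtype) h
    rw [commutator_def, Subgroup.map_commutator, ← MonoidHom.range_eq_map, Subgroup.range_subtype] at h1
    exact h1.ge

theorem not_cm_of_noncomm {T : Subgroup G} (hn : ¬ IsMulCommutative T) : ¬ Cm T T := fun h =>
  hn ⟨⟨fun a b => Subtype.ext (h _ a.2 _ b.2)⟩⟩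

theorem dich_of_simple {T : Subgroup G} (hs : IsSimpleGroup T) {N : Subgroup G} (hN : N ≤ T) (hn : Nm T N) :
    N = T ∨ N = ⊥ := by
  have h1 : (N.subgroupOf T).Normal := ⟨fun n hn' t => hn t t.2 n hn'⟩
  rcases h1.eq_bot_or_eq_top with h | h
  · right
    rw [Subgroup.subgroupOf_eq_bot, disjoint_iff, inf_eq_left.2 hN] at h
    exact h
  · left
    exact le_antisymm hN (Subgroup.subgroupOf_eq_top.1 h)

theorem qs_of_simple {T : Subgroup G} (hs : IsSimpleGroup T) (hn : ¬ IsMulCommutative T) : QS T :=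
  ⟨perf_of_simple hs hn, not_cm_of_noncomm hn, fun N hN h => (dich_of_simple hs hN h).imp_right fun h1 n hn t _ => by
    rw [h1, Subgroup.mem_bot] at hn
    rw [hn, one_mul, mul_one]⟩

theorem noCen_of_simple {T : Subgroup G} (hs : IsSimpleGroup T) (hn : ¬ IsMulCommutative T) : NoCen T := by
  intro t ht hc
  rcases dich_of_simple hs (N := T ⊓ Subgroup.centralizer (T : Set G)) inf_le_left (fun s hs x hx => by
    rw [hx.2 s hs, mul_inv_cancel_right]; exact hx) with h | h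
  · exact absurd (cm_iff_le.2 (h.ge.trans inf_le_right)) (not_cm_of_noncomm hn)
  · exact Subgroup.mem_bot.1 (h ▸ (⟨ht, fun s hs => (hc s hs).symm⟩ : t ∈ T ⊓ Subgroup.centralizer (T : Set G)))

theorem CK.qs_hat {π : W →* G} (h : CK π) {T : Subgroup G} (hq : QS T) (hz : NoCen T) (hr : T ≤ π.range) :
    QS (hat π T) := by
  have hp := h.hat_perf hq.perf hr
  refine ⟨hp, fun hc => hq.nc fun s hs t ht => ?_, fun N hN hn => ?_⟩
  · obtain ⟨a, ha, rfl⟩ := exists_hat hq.perf hr hs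
    obtain ⟨b, hb, rfl⟩ := exists_hat hq.perf hr ht
    rw [← map_mul, ← map_mul, hc a ha b hb]
  · rcases hq.dich (N.map π) ((Subgroup.map_mono hN).trans (map_hat hq.perf hr).le) (by
      rintro s hs _ ⟨n, hn', rfl⟩
      obtain ⟨a, ha, rfl⟩ := exists_hat hq.perf hr hs
      exact ⟨_, hn a ha n hn', by rw [map_mul, map_mul, map_inv]⟩) with h1 | h1
    · exact Or.inl (le_antisymm hN ((h.hat_le_comm h1.ge).trans (nm_self N).commutator_le))
    · exact Or.inr fun n hn' t _ => h n (hz _ (hat_le π T (hN hn')) (h1 _ ⟨n, hn', rfl⟩)) t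

/-- the perfect preimage of a twisted diagonal -/
theorem CK.exists_diag {π : W →* G} (h : CK π) {T T' : Subgroup G} {ψ : T →* G} (hd : Diag T ψ T') (hT : T ≤ ⁅T, T⁆)
    (hz : NoCen T) (hr : T ≤ π.range) (hψ : ∀ t, ψ t ∈ π.range) :
    ∃ (U : Type) (_ : Group U) (α β : U →* W), commutator U = ⊤ ∧ α.range = hat π T ∧
      (∀ u u', α u * β u' = β u' * α u) ∧ (∀ w, w ∈ hat π T' ↔ ∃ u, w = α u * β u) ∧
        (∀ u, π (α u) = 1 ↔ π (β u) = 1) ∧ ∀ u, π (α u * β u) = 1 → π (α u) = 1 := by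
  let Γ : Subgroup (G × G) := (T.subtype.prod ψ).range
  have hTT : (⊤ : Subgroup T) ≤ ⁅(⊤ : Subgroup T), ⊤⁆ := by
    rw [← Subgroup.map_le_map_iff_of_injective T.subtype_injective, Subgroup.map_commutator, ← MonoidHom.range_eq_map,
      Subgroup.range_subtype]
    exact hT
  have hΓ : Γ ≤ ⁅Γ, Γ⁆ := by
    have h1 := perf_map hTT (T.subtype.prod ψ)
    rwa [← MonoidHom.range_eq_map] at h1
  have hΓr : Γ ≤ (π.prodMap π).range := by
    rintro _ ⟨t, rfl⟩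
    obtain ⟨a, ha⟩ := hr t.2
    obtain ⟨b, hb⟩ := hψ t
    exact ⟨(a, b), Prod.ext ha hb⟩
  have hck : CK (π.prodMap π) := fun w hw v =>
    Prod.ext (h _ (congrArg Prod.fst hw) _) (h _ (congrArg Prod.snd hw) _)
  let Δ := hat (π.prodMap π) Γ
  have hΔ : Δ ≤ ⁅Δ, Δ⁆ := hck.hat_perf hΓ hΓr
  have hU : (⊤ : Subgroup Δ) ≤ ⁅(⊤ : Subgroup Δ), ⊤⁆ := by
    rw [← Subgroup.map_le_map_iff_of_injective Δ.subtype_injective, Subgroup.map_commutator, ← MonoidHom.range_eq_map,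
      Subgroup.range_subtype]
    exact hΔ
  let α : Δ →* W := (MonoidHom.fst W W).comp Δ.subtype
  let β : Δ →* W := (MonoidHom.snd W W).comp Δ.subtype
  have hel : ∀ u : Δ, ∃ t : T, π (α u) = t ∧ π (β u) = ψ t := fun u => by
    obtain ⟨t, ht⟩ := hat_le _ _ u.2
    exact ⟨t, (congrArg Prod.fst ht).symm, (congrArg Prod.snd ht).symm⟩
  have hsur : ∀ t : T, ∃ u : Δ, π (α u) = t ∧ π (β u) = ψ t := fun t => by
    obtain ⟨w, hw, e⟩ := exists_hat hΓ hΓr ⟨t, rfl⟩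
    exact ⟨⟨w, hw⟩, congrArg Prod.fst e, congrArg Prod.snd e⟩
  have hrp : ∀ f : Δ →* W, f.range ≤ ⁅f.range, f.range⁆ := fun f => by
    have h1 := perf_map hU f
    rwa [← MonoidHom.range_eq_map] at h1
  have hα : α.range = hat π T := by
    rw [h.eq_hat (hrp α)]
    congr 1
    ext x
    constructor
    · rintro ⟨_, ⟨u, rfl⟩, rfl⟩
      obtain ⟨t, h1, -⟩ := hel u
      rw [h1]; exact t.2
    · intro hx
      obtain ⟨u, h1, -⟩ := hsur ⟨x, hx⟩
      exact ⟨_, ⟨u, rfl⟩, h1⟩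
  have hc : ∀ u u', α u * β u' = β u' * α u := fun u u' => by
    refine (h.cm_hat (T' := ψ.range) hT hr ?_ (β u') ?_ (α u) (hα ▸ ⟨u, rfl⟩)).symm
    · rintro _ ⟨t, rfl⟩ a ha
      exact (hd.comm a ha t).symm
    · obtain ⟨t, -, h1⟩ := hel u'
      exact ⟨t, h1.symm⟩
  let μ : Δ →* W := MonoidHom.mk' (fun u => α u * β u) fun u u' => by
    rw [map_mul, map_mul, mul_assoc, mul_assoc, ← mul_assoc (α u'), hc u' u, mul_assoc]
  have hμ : μ.range = hat π T' := by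
    rw [h.eq_hat (hrp μ)]
    congr 1
    ext x
    rw [hd.mem]
    constructor
    · rintro ⟨_, ⟨u, rfl⟩, rfl⟩
      obtain ⟨t, h1, h2⟩ := hel u
      exact ⟨t, by rw [← h1, ← h2, ← map_mul]; rfl⟩
    · rintro ⟨t, rfl⟩
      obtain ⟨u, h1, h2⟩ := hsur t
      exact ⟨_, ⟨u, rfl⟩, by rw [← h1, ← h2, ← map_mul]; rfl⟩
  refine ⟨Δ, inferInstance, α, β, top_le_iff.1 hU, hα, hc, fun w => ?_, fun u => ?_, fun u hu => ?_⟩
  · rw [← hμ]
    exact ⟨fun ⟨u, hu⟩ => ⟨u, hu.symm⟩, fun ⟨u, hu⟩ => ⟨u, hu.symm⟩⟩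
  · obtain ⟨t, h1, h2⟩ := hel u
    rw [h1, h2, map_eq_one_iff ψ hd.inj, OneMemClass.coe_eq_one]
  · obtain ⟨t, h1, h2⟩ := hel u
    rw [map_mul, h1, h2, mul_eq_one_iff_eq_inv, ← map_inv] at hu
    rw [h1]
    exact hz _ t.2 fun s hs => by rw [hu, hd.comm s hs]

end Cfsg.Agent.Cam.Cl
end

-- part: Cam/Cl/Gen
section
/-!
# Classical rows of S3689: the reduction to the ring frame (helper65)
-/

set_option autoImplicit false

namespace Cfsg.Agent.Cam.Cl.Gen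

open Cfsg Cfsg.Agent.DS.Cl Cfsg.Agent.KFacts.RgdFilt
open scoped commutatorElement

section grp

variable {G : Type} [Group G]

theorem le_of_move {P T : Subgroup G} (hT : T ≤ ⁅T, T⁆) (hn : Nm T P) {p : G} (hp : p ∈ P) (h3 : Cm (Cam.cj p T) T) :
    T ≤ P := by
  refine hT.trans ?_
  rw [Subgroup.commutator_le]
  intro s hs t ht
  have h5 : t * (p⁻¹ * t⁻¹ * p) ∈ P := by
    have h6 := mul_mem (hn t ht _ (inv_mem hp)) hp
    rwa [show t * p⁻¹ * t⁻¹ * p = t * (p⁻¹ * t⁻¹ * p) by group] at h6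
  have h6 := mul_mem (hn s hs _ h5) (inv_mem h5)
  have h7 := h3 _ (conj_mem_cj (inv_mem ht)) _ (inv_mem hs)
  rwa [mul_assoc s, mul_assoc t, h7, show s * (t * (s⁻¹ * (p⁻¹ * t⁻¹ * p))) * (t * (p⁻¹ * t⁻¹ * p))⁻¹ = ⁅s, t⁆ by
    rw [commutatorElement_def]; group] at h6

theorem nm_cj {S T : Subgroup G} (h : Nm S T) (a : G) : Nm (Cam.cj a S) (Cam.cj a T) := by
  intro s hs t ht
  rw [mem_cj] at hs ht ⊢
  have h1 := h _ hs _ ht
  rwa [show a * s * a⁻¹ * (a * t * a⁻¹) * (a * s * a⁻¹)⁻¹ = a * (s * t * s⁻¹) * a⁻¹ by group] at h1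

theorem perf_cj {T : Subgroup G} (h : T ≤ ⁅T, T⁆) (a : G) : Cam.cj a T ≤ ⁅Cam.cj a T, Cam.cj a T⁆ := perf_map h _

variable [Finite G] {S H : Subgroup G} {g : G} {𝒯 : Set (Subgroup G)}

theorem pgroup_bot {p : ℕ} [Fact p.Prime] {T : Subgroup G} (hT : T ≤ ⁅T, T⁆) (h : IsPGroup p T) : T = ⊥ := by
  have := h.isNilpotent
  exact eq_bot_of_perf_solvable hT inferInstance

omit [Finite G] in
theorem qs_mem (c : Cls S H g 𝒯) {T : Subgroup G} (hT : T ∈ 𝒯) : QS T := qs_of_simple (c.tsimple T hT) (c.tnoncomm T hT)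

omit [Finite G] in
theorem le_H (c : Cls S H g 𝒯) {T : Subgroup G} (hT : T ∈ 𝒯) : T ≤ H := (c.le_N0 T hT).trans inf_le_left

omit [Finite G] in
theorem nm_HS (c : Cls S H g 𝒯) : Nm H (H ⊓ S) :=
  (nm_self H).inf fun s _ t ht => c.normal.conj_mem t ht s

theorem cm_of_pgroup (c : Cls S H g 𝒯) {p : ℕ} [Fact p.Prime] {Q : Subgroup G} (hQ : IsPGroup p Q) (hle : Q ≤ H)
    (hn : Nm (H ⊓ S) Q) {T : Subgroup G} (hT : T ∈ 𝒯) : Cm Q T := by
  have hq := qs_mem c hT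
  have h1 : Nm T Q := hn.mono (le_inf (le_H c hT) (c.le_S T hT))
  have h2 : ¬ T ≤ Q := fun h => hq.ne_bot (pgroup_bot hq.perf (hQ.to_le h))
  have h3 : Nm Q T := nm_of_cj fun q hq' => by
    by_contra h4
    exact h2 (le_of_move hq.perf h1 hq' (c.comm _ (c.inv q (hle hq') T hT) T hT h4))
  rcases dich_of_simple (c.tsimple T hT) (N := Q ⊓ T) inf_le_right (h1.inf (nm_self T)) with h4 | h4
  · exact absurd (h4.ge.trans inf_le_left) h2
  · rw [cm_iff_bot, eq_bot_iff, ← h4]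
    refine le_inf ?_ h3.commutator_le
    rw [Subgroup.commutator_comm]
    exact h1.commutator_le

/-- `O_p(H ⊓ S) = 1` -/
theorem op_bot (red : Red) (c : Cls S H g 𝒯) {p : ℕ} [Fact p.Prime] (hF : HasFilt p S) {P : Subgroup G}
    (hP : IsPGroup p P) (hle : P ≤ H ⊓ S) (hn : Nm (H ⊓ S) P) : P = ⊥ := by
  by_contra hne
  obtain ⟨K, hPK, hK⟩ := Finite.exists_le_maximal
    (p := fun K : Subgroup G => IsPGroup p K ∧ K ≤ H ⊓ S ∧ Nm (H ⊓ S) K) ⟨hP, hle, hn⟩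
  obtain ⟨⟨hK1, hK2, hK3⟩, hmax⟩ := hK
  have hHK : Nm H K := by
    intro h hh k hk
    have h1 : Cam.cj h⁻¹ (H ⊓ S) = H ⊓ S := cj_eq_of_nm (nm_HS c) (inv_mem hh)
    have h2 : Cam.cj h⁻¹ K ≤ H ⊓ S := h1 ▸ Rd.cj_mono _ hK2
    have h3 : Nm (H ⊓ S) (Cam.cj h⁻¹ K) := by
      have h4 := nm_cj hK3 h⁻¹
      rwa [h1] at h4
    have h4 : Nm (H ⊓ S) (K ⊔ Cam.cj h⁻¹ K) := fun s hs => by
      have h5 : K ⊔ Cam.cj h⁻¹ K ≤ (K ⊔ Cam.cj h⁻¹ K).comap (MulAut.conj s).toMonoidHom :=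
        sup_le (fun x hx => Subgroup.mem_sup_left (hK3 s hs x hx)) fun x hx => Subgroup.mem_sup_right (h3 s hs x hx)
      exact fun x hx => h5 hx
    have h5 := hmax (y := K ⊔ Cam.cj h⁻¹ K)
      ⟨hK1.to_sup_of_normal_left' (hK1.map _) (nm_iff_le.1 (hK3.mono h2)), sup_le hK2 h2, h4⟩ le_sup_left
    exact h5 (Subgroup.mem_sup_right (Rd.conj_mem_cj_inv hk))
  have hKne : K ≠ ⊥ := fun h => hne (le_bot_iff.1 (h ▸ hPK))
  have hN : Subgroup.normalizer (K : Set G) = H :=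
    red.norm G S H c.toSetup K hKne (fun h => c.not_le (h.trans (hK2.trans inf_le_left))) (nm_iff_le.1 hHK)
  have := c.simple
  let K' : Subgroup S := K.subgroupOf S
  have hK' : K' ≠ ⊥ := fun h => hKne (by
    rw [Subgroup.subgroupOf_eq_bot, disjoint_iff, inf_eq_left.2 (hK2.trans inf_le_right)] at h
    exact h)
  have hc : ∃ a b : S, a * b ≠ b * a := by
    by_contra h
    push Not at h
    exact c.noncomm ⟨⟨h⟩⟩
  have hloc := hF.local_char hc (K := K') hK1.comap_subtype hK'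
  set N := Subgroup.normalizer (K' : Set S) with hNdef
  have hNH : ∀ s : S, s ∈ N ↔ (s : G) ∈ H := fun s => by
    rw [← hN, hNdef, Subgroup.mem_normalizer_iff, Subgroup.mem_normalizer_iff]
    constructor
    · intro h x
      constructor
      · intro hx
        exact (h ⟨x, (hK2 hx).2⟩).1 hx
      · intro hx
        have h1 : x ∈ S := by
          have h2 := mul_mem (mul_mem (inv_mem s.2) (hK2 hx).2) s.2
          rwa [show (s : G)⁻¹ * (s * x * (s : G)⁻¹) * s = x by group] at h2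
        exact (h ⟨x, h1⟩).2 hx
    · exact fun h x => h x
  let ι : N →* G := S.subtype.comp N.subtype
  let Q : Subgroup G := (pCore p N).map ι
  have hQ : IsPGroup p Q := (Lib.Cores.pCore_isPGroup p).map _
  have hQn : Nm (H ⊓ S) Q := by
    rintro s hs _ ⟨x, hx, rfl⟩
    exact ⟨_, (Lib.Cores.pCore_normal p).conj_mem x hx ⟨⟨s, hs.2⟩, (hNH _).2 hs.1⟩, rfl⟩
  have hQH : Q ≤ H := by
    rintro _ ⟨x, -, rfl⟩
    exact (hNH _).1 x.2
  obtain ⟨T, hT⟩ := c.nonempty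
  have hq := qs_mem c hT
  refine hq.ne_bot (pgroup_bot hq.perf (hQ.to_le fun t ht => ?_))
  refine ⟨⟨⟨t, c.le_S T hT ht⟩, (hNH _).2 (le_H c hT ht)⟩, hloc fun x hx => ?_, rfl⟩
  exact Subtype.ext (Subtype.ext (cm_of_pgroup c hQ hQH hQn hT _ ⟨x, hx, rfl⟩ t ht))

/-- the perfect core of `C_S(X)` -/
def Y0 (S : Subgroup G) (𝒯 : Set (Subgroup G)) : Subgroup G :=
  sSup {P | P ≤ S ∧ Cm P (sSup 𝒯) ∧ P ≤ ⁅P, P⁆}

omit [Finite G] in
theorem Y0_perf : Y0 S 𝒯 ≤ ⁅Y0 S 𝒯, Y0 S 𝒯⁆ := perf_sSup fun _ h => h.2.2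

omit [Finite G] in
theorem Y0_le : Y0 S 𝒯 ≤ S := sSup_le fun _ h => h.1

omit [Finite G] in
theorem Y0_cm : Cm (Y0 S 𝒯) (sSup 𝒯) := cm_sSup_left fun _ h => h.2.1

omit [Finite G] in
theorem nm_X (c : Cls S H g 𝒯) : Nm H (sSup 𝒯) := fun h hh => by
  have h1 : sSup 𝒯 ≤ (sSup 𝒯).comap (MulAut.conj h).toMonoidHom := sSup_le fun T hT x hx =>
    le_sSup (c.inv h⁻¹ (inv_mem hh) T hT) (Rd.conj_mem_cj_inv hx)
  exact fun x hx => h1 hx

omit [Finite G] in
theorem nm_Y0 (c : Cls S H g 𝒯) : Nm H (Y0 S 𝒯) := fun h hh => by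
  have h1 : Y0 S 𝒯 ≤ (Y0 S 𝒯).comap (MulAut.conj h).toMonoidHom := sSup_le fun P hP x hx => by
    have h2 : Cam.cj h⁻¹ P ≤ Y0 S 𝒯 := le_sSup ⟨by
      rw [← Rd.cj_normal c.normal h⁻¹]; exact Rd.cj_mono _ hP.1, fun a ha b hb => by
      have h3 := hP.2.1 _ (Rd.mem_cj_inv.1 ha) _ ((nm_X c).inv hh hb)
      calc a * b = h * (h⁻¹ * a * h * (h⁻¹ * b * h)) * h⁻¹ := by group
        _ = b * a := by rw [h3]; group, perf_cj hP.2.2 _⟩
    exact h2 (Rd.conj_mem_cj_inv hx)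
  exact fun x hx => h1 hx

theorem X_norm (red : Red) (c : Cls S H g 𝒯) : Subgroup.normalizer ((sSup 𝒯 : Subgroup G) : Set G) = H := by
  obtain ⟨T, hT⟩ := c.nonempty
  refine red.norm G S H c.toSetup _ (fun h => (qs_mem c hT).ne_bot (le_bot_iff.1 (h ▸ le_sSup hT)))
    (fun h => c.not_le (h.trans (sSup_le fun _ => le_H c))) (nm_iff_le.1 (nm_X c))

theorem Y0_le_H (red : Red) (c : Cls S H g 𝒯) : Y0 S 𝒯 ≤ H := X_norm red c ▸ nm_iff_le.1 Y0_cm.nm

theorem Y0_norm (big : Big) (red : Red) (c : Cls S H g 𝒯) :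
    Subgroup.normalizer ((Y0 S 𝒯 : Subgroup G) : Set G) = H := by
  obtain ⟨T, hT⟩ := c.nonempty
  obtain ⟨φ, hφ, hφ'⟩ := red.copy big G S H g 𝒯 c T hT
  refine red.norm G S H c.toSetup _ (fun h => (qs_mem c hT).ne_bot ?_) (fun h => c.not_le (h.trans (Y0_le_H red c)))
    (nm_iff_le.1 (nm_Y0 c))
  have hTT : (⊤ : Subgroup T) ≤ ⁅(⊤ : Subgroup T), ⊤⁆ := by
    rw [← Subgroup.map_le_map_iff_of_injective T.subtype_injective, Subgroup.map_commutator, ← MonoidHom.range_eq_map,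
      Subgroup.range_subtype]
    exact (qs_mem c hT).perf
  have h1 : (⊤ : Subgroup T).map φ ≤ Y0 S 𝒯 := le_sSup ⟨by
    rintro _ ⟨t, -, rfl⟩; exact (hφ' t).1, by
    rintro _ ⟨t, -, rfl⟩ x hx; exact ((hφ' t).2 x hx).symm, perf_map hTT φ⟩
  rw [eq_bot_iff]
  intro t ht
  have h2 := h1 ⟨⟨t, ht⟩, trivial, rfl⟩
  rw [h, Subgroup.mem_bot, map_eq_one_iff φ hφ] at h2
  exact congrArg Subtype.val h2

end grp

section cover

variable {A : Type} [Ring A] [StarRing A] {F : FR A} {G : Type} [Group G]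

/-- `π` maps the commutator group of the isometry group onto `S`, with kernel the central units -/
structure Cov (S : Subgroup G) (π : Dr F →* G) : Prop where
  range : π.range = S
  ker : ∀ w : Dr F, π w = 1 ↔ Cen (w : Aˣ)

/-- the perfect preimage as a group of units -/
def hA (π : Dr F →* G) (T : Subgroup G) : Subgroup Aˣ := (hat π T).map (Dr F).subtype

variable {S : Subgroup G} {π : Dr F →* G}

theorem Cov.ck (h : Cov S π) : CK π := fun w hw v => Subtype.ext (units_comm ((h.ker w).1 hw) _).symm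

theorem Cov.conj (h : Cov S π) (hS : S.Normal) (γ : G) : Cov S ((MulAut.conj γ).toMonoidHom.comp π) := by
  refine ⟨?_, fun w => ?_⟩
  · rw [MonoidHom.range_comp, h.range]
    have h1 := Rd.cj_normal hS γ⁻¹
    rwa [Cam.cj, inv_inv] at h1
  · rw [← h.ker]
    exact map_eq_one_iff _ (MulAut.conj γ).injective

theorem hA_conj (γ : G) (T : Subgroup G) : hA ((MulAut.conj γ).toMonoidHom.comp π) T = hA π (Cam.cj γ T) := by
  have h1 : T.comap ((MulAut.conj γ).toMonoidHom.comp π) = (Cam.cj γ T).comap π := by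
    ext x
    rw [Subgroup.mem_comap, Subgroup.mem_comap, mem_cj]
    rfl
  rw [hA, hA, hat, hat, h1]

theorem cm_map {W : Type} [Group W] (f : W →* G) {P Q : Subgroup W} (h : Cm P Q) : Cm (P.map f) (Q.map f) := by
  rintro _ ⟨a, ha, rfl⟩ _ ⟨b, hb, rfl⟩
  rw [← map_mul, ← map_mul, h a ha b hb]

theorem nm_map {W : Type} [Group W] (f : W →* G) {P Q : Subgroup W} (h : Nm P Q) : Nm (P.map f) (Q.map f) := by
  rintro _ ⟨a, ha, rfl⟩ _ ⟨b, hb, rfl⟩
  exact ⟨_, h a ha b hb, by rw [map_mul, map_mul, map_inv]⟩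

theorem cj_map {W : Type} [Group W] (f : W →* G) (w : W) (P : Subgroup W) : Cam.cj (f w) (P.map f) = (Cam.cj w P).map f := by
  rw [Cam.cj, Cam.cj, Subgroup.map_map, Subgroup.map_map]
  congr 1
  ext x
  simp only [_root_.map_inv, _root_.MulEquiv.toMonoidHom_eq_coe, _root_.MonoidHom.coe_comp, _root_.MonoidHom.coe_coe, _root_.MulAut.coe_inv, _root_.Function.comp_apply, _root_.MulAut.conj_symm_apply, _root_.map_mul]

theorem hA_perf (h : Cov S π) {T : Subgroup G} (hT : T ≤ ⁅T, T⁆) (hS : T ≤ S) : hA π T ≤ ⁅hA π T, hA π T⁆ :=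
  perf_map (h.ck.hat_perf hT (h.range ▸ hS)) _

theorem hA_mem (h : Cov S π) {T : Subgroup G} (hq : QS T) (hz : NoCen T) (hS : T ≤ S) : Mem F (hA π T) := by
  refine ⟨(h.ck.qs_hat hq hz (h.range ▸ hS)).map _ fun t _ ht s _ => ?_, ?_, ?_⟩
  · rw [(map_eq_one_iff _ (Dr F).subtype_injective).1 ht, one_mul, mul_one]
  · rintro _ ⟨w, -, rfl⟩
    exact Dr_le F w.2
  · rintro _ ⟨w, hw, rfl⟩ hc
    refine (h.ker w).1 (hz _ (hat_le π T hw) fun s hs => ?_)
    obtain ⟨a, ha, rfl⟩ := exists_hat hq.perf (h.range ▸ hS) hs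
    rw [← map_mul, ← map_mul]
    exact congrArg π (Subtype.ext (hc _ ⟨a, ha, rfl⟩))

theorem comm_of_hA (h : Cov S π) {T : Subgroup G} (hT : T ≤ ⁅T, T⁆) (hS : T ≤ S) {w : Dr F}
    (hw : ∀ t ∈ hA π T, (w : Aˣ) * t = t * w) : ∀ t ∈ T, π w * t = t * π w := by
  intro t ht
  obtain ⟨a, ha, rfl⟩ := exists_hat hT (h.range ▸ hS) ht
  rw [← map_mul, ← map_mul]
  exact congrArg π (Subtype.ext (hw _ ⟨a, ha, rfl⟩))

theorem udiag (h : Cov S π) {T T' : Subgroup G} {ψ : T →* G} (hd : Diag T ψ T') (hT : T ≤ ⁅T, T⁆) (hz : NoCen T)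
    (hS : T ≤ S) (hψ : ∀ t, ψ t ∈ S) : UDiag F (hA π T) (hA π T') := by
  obtain ⟨U, _, α, β, h1, h2, h3, h4, h5, h6⟩ := h.ck.exists_diag hd hT hz (h.range ▸ hS) (h.range ▸ hψ)
  refine ⟨U, inferInstance, (Dr F).subtype.comp α, (Dr F).subtype.comp β, h1, by rw [MonoidHom.range_comp, h2]; rfl,
    fun u => Dr_le F (β u).2, fun u u' => congrArg Subtype.val (h3 u u'), fun w => ?_, fun u => ?_, fun u hu => ?_⟩
  · constructor
    · rintro ⟨w, hw, rfl⟩
      obtain ⟨u, rfl⟩ := (h4 w).1 hw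
      exact ⟨u, rfl⟩
    · rintro ⟨u, rfl⟩
      exact ⟨_, (h4 _).2 ⟨u, rfl⟩, rfl⟩
  · exact (h.ker _).symm.trans ((h5 u).trans (h.ker _))
  · exact (h.ker _).1 (h6 u ((h.ker (α u * β u)).2 hu))

theorem uni_pow {p : ℕ} (hp : p.Prime) (h0 : (p : A) = 0) {u : Aˣ} (hu : Uni u) : ∃ k, u ^ p ^ k = 1 := by
  obtain ⟨n, hn⟩ := hu
  refine ⟨n, Units.ext ?_⟩
  rcases subsingleton_or_nontrivial A with h | h
  · exact Subsingleton.elim _ _
  have := Fact.mk hp
  have : CharP A p := (CharP.charP_iff_prime_eq_zero hp).2 h0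
  have h1 := add_pow_char_pow_of_commute (p := p) (n := n) (Commute.one_right ((u : A) - 1))
  rw [sub_add_cancel, pow_eq_zero_of_le (Nat.lt_pow_self hp.one_lt).le hn, one_pow, zero_add] at h1
  rw [Units.val_pow_eq_pow_val, h1, Units.val_one]

variable [Finite G] {H : Subgroup G} {g : G} {𝒯 : Set (Subgroup G)}

/-- the local configuration -/
theorem loc (big : Big) (red : Red) (c : Cls S H g 𝒯) {p : ℕ} (hp : p.Prime) (h0 : (p : A) = 0) (hF : HasFilt p S)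
    (hA' : SS A) (h : Cov S π) : Loc F ((H.comap π).map (Dr F).subtype) (hA π (Y0 S 𝒯)) (hA π '' 𝒯) where
  ss := hA'
  le := by rintro _ ⟨w, -, rfl⟩; exact w.2
  mem := by
    rintro _ ⟨T, hT, rfl⟩
    exact hA_mem h (qs_mem c hT) (noCen_of_simple (c.tsimple T hT) (c.tnoncomm T hT)) (c.le_S T hT)
  t_le := by
    rintro _ ⟨T, hT, rfl⟩
    exact Subgroup.map_mono ((hat_le π T).trans (Subgroup.comap_mono (le_H c hT)))
  comm := by
    rintro _ ⟨T₁, h1, rfl⟩ _ ⟨T₂, h2, rfl⟩ hne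
    exact cm_map _ ((h.ck.cm_hat (qs_mem c h2).perf (h.range ▸ c.le_S T₂ h2)
      (c.comm T₁ h1 T₂ h2 fun e => hne (e ▸ rfl))).mono (hat_le π T₁) le_rfl)
  inv := by
    rintro _ ⟨w, hw, rfl⟩ _ ⟨T, hT, rfl⟩
    exact ⟨_, c.inv _ hw T hT, by rw [hA, hA, cj_map, cj_hat]⟩
  y_perf := hA_perf h Y0_perf Y0_le
  y_le := Subgroup.map_mono ((hat_le π _).trans (Subgroup.comap_mono (Y0_le_H red c)))
  y_nm := nm_map _ (nm_hat (nm_Y0 c))
  y_comm := by
    rintro _ ⟨T, hT, rfl⟩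
    exact cm_map _ ((h.ck.cm_hat (qs_mem c hT).perf (h.range ▸ c.le_S T hT)
      (Y0_cm.mono le_rfl (le_sSup hT))).mono (hat_le π _) le_rfl)
  cY := fun u hu hc => ⟨⟨u, hu⟩, by
    change π ⟨u, hu⟩ ∈ H
    rw [← Y0_norm big red c]
    exact Subgroup.centralizer_le_normalizer _ fun t ht => (comm_of_hA h Y0_perf Y0_le hc t ht).symm, rfl⟩
  cX := fun u hu hc => ⟨⟨u, hu⟩, by
    change π ⟨u, hu⟩ ∈ H
    rw [← X_norm red c]
    refine Subgroup.centralizer_le_normalizer _ ?_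
    have h1 : sSup 𝒯 ≤ Subgroup.centralizer {π ⟨u, hu⟩} := sSup_le fun T hT t ht y hy => by
      rw [Set.mem_singleton_iff.1 hy]
      exact comm_of_hA h (qs_mem c hT).perf (c.le_S T hT) (hc _ ⟨T, hT, rfl⟩) t ht
    exact fun t ht => (h1 ht _ rfl).symm, rfl⟩
  op := by
    intro P hP hn hu
    have := Fact.mk hp
    have h1 := op_bot red c hF (P := (P.comap (Dr F).subtype).map π) (by
      rintro ⟨_, w, hw, rfl⟩
      obtain ⟨k, hk⟩ := uni_pow hp h0 (hu _ hw)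
      refine ⟨k, Subtype.ext ?_⟩
      change π w ^ p ^ k = 1
      rw [← map_pow, show w ^ p ^ k = 1 from Subtype.ext hk, map_one]) (by
      rintro _ ⟨w, hw, rfl⟩
      obtain ⟨w', hw', e⟩ := hP hw
      rw [← Subtype.ext e]
      exact ⟨hw', h.range ▸ ⟨w', rfl⟩⟩) (by
      rintro s ⟨hs, hs'⟩ _ ⟨w, hw, rfl⟩
      rw [← h.range] at hs'
      obtain ⟨v, rfl⟩ := hs'
      exact ⟨v * w * v⁻¹, hn _ ⟨v, hs, rfl⟩ _ hw, by rw [map_mul, map_mul, map_inv]⟩)
    rw [eq_bot_iff]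
    intro u hu'
    obtain ⟨w, -, rfl⟩ := hP hu'
    have h2 : π w ∈ (P.comap (Dr F).subtype).map π := ⟨w, hu', rfl⟩
    rw [h1, Subgroup.mem_bot, h.ker] at h2
    exact SS.eq_one_of_cen_uni hA' h2 (hu _ hu')

end cover

theorem boxGen : BoxGen := by
  rintro hST hMov hCyc big red G _ _ S H g c ⟨p, A, _, _, _, F, θ, hp, h0, hfam, hA', htop⟩
  have := Fact.mk hp
  have hF : HasFilt p S := KFacts.RgdLieCharP.hasFilt_of_lie (by
    unfold KFacts.RgdLieCharP.IsLieFilt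
    (clear * - hfam; tauto))
  let f : Dr F →* F.S := ((DS.Cl.cj A).comp (Dr F).subtype).codRestrict F.S fun w => ⟨w, w.2, rfl⟩
  let π : Dr F →* G := S.subtype.comp (θ.toMonoidHom.comp f)
  have hπ : Cov S π := by
    refine ⟨le_antisymm ?_ fun s hs => ?_, fun w => ?_⟩
    · rintro _ ⟨w, rfl⟩
      exact (θ (f w)).2
    · obtain ⟨u, hu, e⟩ := (θ.symm ⟨s, hs⟩).2
      refine ⟨⟨u, hu⟩, ?_⟩
      have h1 : f ⟨u, hu⟩ = θ.symm ⟨s, hs⟩ := Subtype.ext e
      change ((θ (f ⟨u, hu⟩) : S) : G) = s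
      rw [h1, θ.apply_symm_apply]
    · change ((θ (f w) : S) : G) = 1 ↔ _
      rw [OneMemClass.coe_eq_one, map_eq_one_iff θ θ.injective, Subtype.ext_iff]
      exact cj_eq_one_iff
  obtain ⟨𝒯, c'⟩ := red.cls big G S H g c
  let πγ : G → (Dr F →* G) := fun γ => (MulAut.conj γ).toMonoidHom.comp π
  have hcov : ∀ γ, Cov S (πγ γ) := hπ.conj c.normal
  have hloc := fun γ => loc big red c' hp h0 hF hA' (hcov γ)
  have hout := fun γ => hST A F _ _ _ (hloc γ) htop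
  have hgH : ∀ T ∈ 𝒯, Cam.cj g T ≤ H := fun T hT => (Rd.cj_mono g (c'.le_N0 T hT)).trans (Rd.cj_N0_le H g)
  have hgS : ∀ T ∈ 𝒯, Cam.cj g T ≤ S := fun T hT => by
    rw [← Rd.cj_normal c.normal g]; exact Rd.cj_mono g (c'.le_S T hT)
  have hnorm : ∀ T₁ ∈ 𝒯, ∀ T₂ ∈ 𝒯, Cam.cj g T₂ ≤ Subgroup.normalizer (T₁ : Set G) := by
    intro T₁ h1 T₂ h2
    by_contra hcon
    obtain ⟨δ, rfl⟩ := c'.conj T₁ h1 T₂ h2
    have h3 : ∀ γ, Nat.card (ImI (hA π (Cam.cj γ T₁))) < Nat.card (ImI (hA π (Cam.cj (δ * g * γ) T₁))) := fun γ => by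
      rw [← cj_cj, ← cj_cj, ← hA_conj, ← hA_conj γ]
      have hp2 := perf_cj (qs_mem c' h2).perf g
      refine hMov A F _ _ _ (hloc γ) _ ⟨T₁, h1, rfl⟩ (hout γ _ ⟨T₁, h1, rfl⟩) _
        (Subgroup.map_mono ((hat_le _ _).trans (Subgroup.comap_mono (hgH _ h2)))) (hA_perf (hcov γ) hp2 (hgS _ h2))
        fun hn => hcon (nm_iff_le.1 fun s hs t ht => ?_)
      obtain ⟨a, ha, rfl⟩ := exists_hat hp2 ((hcov γ).range ▸ hgS _ h2) hs
      obtain ⟨b, hb, rfl⟩ := exists_hat (qs_mem c' h1).perf ((hcov γ).range ▸ c'.le_S _ h1) ht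
      obtain ⟨w, hw, e⟩ := hn _ ⟨a, ha, rfl⟩ _ ⟨b, hb, rfl⟩
      have h4 : w = a * b * a⁻¹ := Subtype.ext e
      rw [← map_inv, ← map_mul, ← map_mul, ← h4]
      exact hat_le _ _ hw
    have h4 := pot (f := fun γ => δ * g * γ) (mul_right_injective _)
      (fun γ => Nat.card (ImI (hA π (Cam.cj γ T₁)))) (fun γ => (h3 γ).le) 1
    exact (h3 1).ne' h4
  obtain ⟨-, -, T₁, h1, T₂, h2, ψ, hd, hψ⟩ := red.diag big G S H g 𝒯 c' hnorm
  obtain ⟨δ, rfl⟩ := c'.conj T₁ h1 T₂ h2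
  refine hCyc A F p hA' hp h0 G (fun γ => δ * g * γ) (fun γ => hA π (Cam.cj γ T₁)) (mul_right_injective _)
    (fun γ => ?_) (fun γ => ?_) fun γ => ?_
  · rw [← hA_conj]
    exact (hloc γ).mem _ ⟨T₁, h1, rfl⟩
  · rw [← hA_conj]
    exact (hout γ _ ⟨T₁, h1, rfl⟩).1
  · rw [← cj_cj, ← cj_cj, ← hA_conj, ← hA_conj γ]
    exact udiag (hcov γ) hd (qs_mem c' h1).perf (noCen_of_simple (c'.tsimple _ h1) (c'.tnoncomm _ h1)) (c'.le_S _ h1)
      fun t => (hψ t).2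

end Cfsg.Agent.Cam.Cl.Gen
end

-- part: Cam/Cl/Mov
section
/-!
# Classical rows of S3689: a perfect group moving a member (helper65)
-/

set_option autoImplicit false

namespace Cfsg.Agent.Cam.Cl.Mov

open Cfsg Cfsg.Agent.DS.Cl
open scoped commutatorElement

theorem perf_range {G G' : Type} [Group G] [Group G'] {T : Subgroup G} (hT : T ≤ ⁅T, T⁆) (μ : T →* G') :
    μ.range ≤ ⁅μ.range, μ.range⁆ := by
  have h1 : (⊤ : Subgroup T) ≤ ⁅(⊤ : Subgroup T), (⊤ : Subgroup T)⁆ := by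
    rw [← Subgroup.map_le_map_iff_of_injective T.subtype_injective, Subgroup.map_commutator, ← MonoidHom.range_eq_map,
      T.range_subtype]
    exact hT
  rw [MonoidHom.range_eq_map]
  exact perf_map h1 μ

/-- a perfect group has no orbit of length two -/
theorem fix_of_two {G X : Type} [Group G] {P : Subgroup G} (hP : P ≤ ⁅P, P⁆) (f : G → X → X) (h1 : ∀ x, f 1 x = x)
    (hm : ∀ a b x, f (a * b) x = f b (f a x)) {x : X} (h2 : ∀ a ∈ P, ∀ b ∈ P, f a x ≠ x → f b x ≠ x → f a x = f b x) :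
    ∀ a ∈ P, f a x = x := by
  classical
  have hinj : ∀ b y z, f b y = f b z → y = z := fun b y z h => by
    rw [← h1 y, ← h1 z, ← mul_inv_cancel b, hm, hm, h]
  have h3 := eq_one_of_perf hP (fun a => if f a x = x then (1 : ℤ) else -1) (by simp [h1]) (fun a ha b hb => by
    by_cases h4 : f a x = x
    · simp only [hm, h4, if_true, one_mul]
    · by_cases h5 : f b x = x
      · have h6 : f (a * b) x ≠ x := fun h6 => h4 (hinj b _ _ (by rw [← hm, h6, h5]))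
        simp only [h4, h5, h6, if_true, if_false, mul_one]
      · have h6 : f b⁻¹ x ≠ x := fun h6 => h5 (by
          have h7 := congrArg (f b) h6
          rw [← hm, inv_mul_cancel, h1] at h7
          exact h7.symm)
        have h7 : f (a * b) x = x := by rw [hm, h2 a ha _ (inv_mem hb) h4 h6, ← hm, inv_mul_cancel, h1]
        simp only [h4, h5, h7, if_true, if_false]
        norm_num) (fun a _ b _ => mul_comm _ _)
  intro a ha
  by_contra h4
  have h5 := h3 a ha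
  simp only [h4, if_false] at h5
  exact absurd h5 (by norm_num)

variable {A : Type} [Ring A] [StarRing A]

omit [StarRing A] in
theorem inv_comm {t : Aˣ} {ε : A} (h : (t : A) * ε = ε * t) : ((t⁻¹ : Aˣ) : A) * ε = ε * (t⁻¹ : Aˣ) := by
  rw [Units.inv_mul_eq_iff_eq_mul, ← mul_assoc, h, mul_assoc, Units.mul_inv, mul_one]

omit [StarRing A] in
theorem cut_mul {ε a b : A} (hε : ε * ε = ε) (hb : b * ε = ε * b) :
    (a * ε + (1 - ε)) * (b * ε + (1 - ε)) = a * b * ε + (1 - ε) := by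
  have h1 : ε * (b * ε) = b * ε := by rw [← mul_assoc, ← hb, mul_assoc, hε]
  have h2 : ε * (1 - ε) = 0 := by rw [mul_sub, mul_one, hε, sub_self]
  rw [add_mul, mul_add, mul_add, mul_assoc a, h1, mul_assoc a ε, h2, mul_zero, add_zero, sub_mul, one_mul, h1, sub_self,
    zero_add, sub_mul, one_mul, h2, sub_zero, mul_assoc]

omit [StarRing A] in
/-- the action of `T` on the part `ε` -/
def cut {T : Subgroup Aˣ} {ε : A} (hε : ε * ε = ε) (hT : ∀ t ∈ T, (t : A) * ε = ε * t) : T →* Aˣ where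
  toFun t := ⟨(t.1 : A) * ε + (1 - ε), ((t.1⁻¹ : Aˣ) : A) * ε + (1 - ε),
    by rw [cut_mul hε (hT _ (inv_mem t.2)), Units.mul_inv, one_mul, add_sub_cancel],
    by rw [cut_mul hε (hT _ t.2), Units.inv_mul, one_mul, add_sub_cancel]⟩
  map_one' := Units.ext (by simp)
  map_mul' a b := Units.ext (cut_mul hε (hT _ b.2)).symm

omit [StarRing A] in
theorem cut_val {T : Subgroup Aˣ} {ε : A} (hε : ε * ε = ε) (hT : ∀ t ∈ T, (t : A) * ε = ε * t) (t : T) :
    (cut hε hT t : A) = (t.1 : A) * ε + (1 - ε) := rfl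

theorem cut_mem_Iso {F : FR A} {ε : A} (hε : ε * ε = ε) (hs : star ε = ε) {t v : Aˣ} (ht : t ∈ F.Iso)
    (hc : (t : A) * ε = ε * t) (hv : (v : A) = t * ε + (1 - ε)) : v ∈ F.Iso := by
  have h0 : star (t : A) * ε = ε * star (t : A) := by rw [← FR.Iso.inv_eq ht]; exact inv_comm hc
  have h1 : star (v : A) = star (t : A) * ε + (1 - ε) := by rw [hv, star_add, star_mul, star_sub, star_one, hs, h0]
  refine ⟨by rw [h1, hv, cut_mul hε h0, ht.1, one_mul, add_sub_cancel], ?_⟩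
  have h2 := F.conj_mem ht.2 ε
  have h3 := F.sub_star_mem ((t * ε - ε) * F.l * (1 - ε))
  have h4 : star F.l = 1 - F.l := by rw [← F.l_add]; abel
  have h5 : (1 - ε) * (ε * star (t : A) - ε) = 0 := by
    rw [sub_mul, one_mul, mul_sub, ← mul_assoc, hε, sub_self]
  rw [star_mul, star_mul, star_sub, star_sub, star_one, star_mul, hs, h4, sub_mul 1 F.l, one_mul, mul_sub (1 - ε), h5] at h3
  rw [hs] at h2
  have h6 := F.L.add_mem h2 h3
  have h7 : ε * ((t : A) * F.l * star (t : A) - F.l) * ε = t * ε * F.l * (ε * star (t : A)) - ε * F.l * ε := by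
    rw [mul_sub, sub_mul, hc, ← h0]
    simp only [mul_assoc]
  rw [h7] at h6
  rw [h1, hv, h0]
  convert h6 using 1
  noncomm_ring

variable {F : FR A} {Hh Y : Subgroup Aˣ} {𝒯 : Set (Subgroup Aˣ)}

/-- a member is trivial on one of the two parts of a decomposition that is invariant under it and under `Y` -/
theorem te (c : Loc F Hh Y 𝒯) {ε : A} (hε : ε * ε = ε) (hs : star ε = ε) (hY : ∀ y ∈ Y, (y : A) * ε = ε * y)
    {T : Subgroup Aˣ} (hT : T ∈ 𝒯) (hc : ∀ t ∈ T, (t : A) * ε = ε * t) :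
    (∀ t ∈ T, (t : A) * ε = ε) ∨ ∀ t ∈ T, (t : A) * (1 - ε) = 1 - ε := by
  have hq := (c.mem T hT).qs
  have hc' : ∀ t ∈ T, (t : A) * (1 - ε) = (1 - ε) * t := fun t ht => by rw [mul_sub, sub_mul, hc t ht, mul_one, one_mul]
  have hε' : (1 - ε) * (1 - ε) = 1 - ε := by rw [mul_sub, mul_one, sub_mul, one_mul, hε, sub_self, sub_zero]
  have h0 : ε * (1 - ε) = 0 := by rw [mul_sub, mul_one, hε, sub_self]
  have h0' : (1 - ε) * ε = 0 := by rw [sub_mul, one_mul, hε, sub_self]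
  -- an abelian action is trivial
  have ab : ∀ {η : A} (hη : η * η = η) (hd : ∀ t ∈ T, (t : A) * η = η * t),
      (∀ s ∈ T, ∀ t ∈ T, (s : A) * t * η = t * s * η) → ∀ t ∈ T, (t : A) * η = η := fun {η} hη hd h t ht => by
    have h1 := eq_one_of_perf hq.perf (fun t : Aˣ => (t : A) * η + (1 - η)) (by simp)
      (fun a _ b hb => (cut_mul hη (hd b hb)).symm)
      (fun a ha b hb => by rw [cut_mul hη (hd b hb), cut_mul hη (hd a ha), h a ha b hb]) t ht
    have h2 := congrArg (· * η) h1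
    simp only [add_mul, sub_mul, mul_assoc, hη, one_mul, sub_self, add_zero] at h2
    exact h2
  set μ := cut hε hc
  have hp := perf_range hq.perf μ
  have h1 : μ.range ≤ Hh := by
    have h2 : μ.range ≤ F.Iso := by
      rintro _ ⟨t, rfl⟩
      exact cut_mem_Iso hε hs ((c.mem T hT).le t.2) (hc _ t.2) rfl
    rintro _ ⟨t, rfl⟩
    refine c.cY _ (le_Dr_of_perf hp h2 ⟨t, rfl⟩) fun y hy => Units.ext ?_
    have h3 : (y : A) * t.1 = t.1 * y := congrArg Units.val (c.y_comm T hT y hy _ t.2)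
    rw [Units.val_mul, Units.val_mul, cut_val, add_mul, mul_add, mul_assoc, ← hY y hy, ← mul_assoc, ← h3, mul_assoc,
      sub_mul, mul_sub, one_mul, mul_one, hY y hy]
  have h2 : ∀ t : T, (μ t : A) * (1 - ε) = 1 - ε := fun t => by
    rw [cut_val, add_mul, mul_assoc, h0, mul_zero, zero_add, hε']
  have h2' : ∀ t : T, (1 - ε) * (μ t : A) = 1 - ε := fun t => by
    rw [cut_val, mul_add, hc _ t.2, ← mul_assoc, h0', zero_mul, zero_add, hε']
  have h3 : ∀ t : T, (μ t : A) * ε = t.1 * ε := fun t => by rw [cut_val, add_mul, mul_assoc, hε, h0', add_zero]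
  have h3' : ∀ t : T, (μ t : A) * ε = ε * μ t := fun t => by
    rw [h3, cut_val, mul_add, h0, add_zero, ← mul_assoc, ← hc _ t.2, mul_assoc, hε]
  by_cases h4 : Nm μ.range T
  · have h5 : μ.range ≤ T := by
      refine hp.trans ?_
      rw [Subgroup.commutator_le]
      rintro _ ⟨a, rfl⟩ _ ⟨b, rfl⟩
      have h6 : ⁅μ a, μ b⁆ = ⁅μ a, b.1⁆ := by
        have h7 : (μ b)⁻¹ * b.1 * μ a = μ a * ((μ b)⁻¹ * b.1) := by
          have h8 : (((μ b)⁻¹ * b.1 : Aˣ) : A) = b.1 * (1 - ε) + (1 - (1 - ε)) := by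
            rw [Units.val_mul, Units.inv_mul_eq_iff_eq_mul, sub_sub_cancel, mul_add, h3, hc' _ b.2, ← mul_assoc, h2,
              ← hc' _ b.2, ← mul_add, sub_add_cancel, mul_one]
          apply Units.ext
          rw [Units.val_mul, Units.val_mul (μ a), h8, sub_sub_cancel, add_mul, mul_add, mul_assoc, h2', h3', hc' _ b.2,
            ← mul_assoc, h2]
        have h8 : b.1 = μ b * ((μ b)⁻¹ * b.1) := by group
        rw [commutatorElement_def, commutatorElement_def]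
        generalize (μ b)⁻¹ * b.1 = w at h7 h8
        rw [h8, mul_inv_rev, mul_assoc (μ a) (μ b * w), mul_assoc (μ b), (show Commute w (μ a) from h7).inv_right.eq]
        group
      rw [h6]
      exact h4.commutator_le (Subgroup.commutator_mem_commutator ⟨a, rfl⟩ b.2)
    have h6 : Nm T μ.range := by
      rintro s hs _ ⟨t, rfl⟩
      refine ⟨⟨s * t * s⁻¹, nm_self T s hs _ t.2⟩, Units.ext ?_⟩
      rw [cut_val, Units.val_mul, Units.val_mul, Units.val_mul, Units.val_mul, cut_val, mul_add, add_mul, hc' s hs,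
        mul_assoc (1 - ε), Units.mul_inv, mul_one, mul_assoc _ _ ε, hc _ (inv_mem hs)]
      simp only [mul_assoc]
    rcases hq.dich _ h5 h6 with h7 | h7
    · right
      intro t ht
      rw [← h7] at ht
      obtain ⟨s, rfl⟩ := ht
      exact h2 s
    · left
      refine ab hε hc fun s hs t ht => ?_
      have h8 := congrArg (fun v : Aˣ => (v : A) * ε) (h7 _ ⟨⟨s, hs⟩, rfl⟩ t ht)
      simp only [Units.val_mul] at h8
      rwa [mul_assoc, hc t ht, ← mul_assoc, h3, mul_assoc (t : A), h3, mul_assoc, ← hc t ht, ← mul_assoc, ← mul_assoc] at h8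
  · right
    obtain ⟨_, ⟨a, rfl⟩, h5⟩ : ∃ p ∈ μ.range, Cam.cj p T ≠ T := by
      by_contra h5
      push Not at h5
      exact h4 (nm_of_cj h5)
    have h6 := c.comm _ (c.inv _ (h1 ⟨a, rfl⟩) T hT) T hT h5
    refine ab hε' hc' fun s hs t ht => ?_
    have h7 : (((μ a)⁻¹ * s * μ a : Aˣ) : A) * (1 - ε) = s * (1 - ε) := by
      rw [Units.val_mul, Units.val_mul, mul_assoc, h2, mul_assoc, hc' s hs, ← mul_assoc, ← map_inv, h2]
    have h8 := congrArg (fun v : Aˣ => (v : A) * (1 - ε)) (h6 _ (conj_mem_cj hs) t ht)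
    simp only [Units.val_mul _ t, Units.val_mul t] at h8
    rwa [mul_assoc, hc' t ht, ← mul_assoc, h7, mul_assoc (t : A), h7, mul_assoc, ← hc' t ht, ← mul_assoc, ← mul_assoc] at h8

/-- conjugates of a support are equal or orthogonal -/
theorem orth (c : Loc F Hh Y 𝒯) {T : Subgroup Aˣ} (hT : T ∈ 𝒯) {D : Blk A} (hD : Sh T D) {h : Aˣ} (hh : h ∈ Hh) :
    ((h⁻¹ : Aˣ) : A) * D.e * h = D.e ∨ D.e * (((h⁻¹ : Aˣ) : A) * D.e * h) = 0 := by
  have hiso : ∀ t ∈ T, (t : A) * star (t : A) = 1 := fun t ht => ((c.mem T hT).le ht).1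
  have hne := (c.mem T hT).qs.ne_bot
  have hall : ∀ T' ∈ 𝒯, ∀ t ∈ T', (t : A) * D.e = D.e * t := fun T' hT' t ht => by
    by_cases h1 : T' = T
    · exact hD.comm_e (h1 ▸ ht)
    · exact hD.comm (fun s hs => congrArg Units.val (c.comm T' hT' T hT h1 t ht s hs)) D.e_mem
  have hy : ∀ y ∈ Y, (y : A) * D.e = D.e * y := fun y hy =>
    hD.comm (fun s hs => congrArg Units.val (c.y_comm T hT y hy s hs)) D.e_mem
  have conj : ∀ {g t : Aˣ}, ((g * t * g⁻¹ : Aˣ) : A) * D.e = D.e * (g * t * g⁻¹ : Aˣ) →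
      (t : A) * (((g⁻¹ : Aˣ) : A) * D.e * g) = ((g⁻¹ : Aˣ) : A) * D.e * g * t := fun {g t} h1 => by
    have h2 := congrArg (fun x => ((g⁻¹ : Aˣ) : A) * x * g) h1
    simpa only [Units.val_mul, mul_assoc, Units.inv_mul_cancel_left, Units.inv_mul, mul_one] using h2
  have key : ∀ {g : Aˣ}, g ∈ Hh → D.e * (((g⁻¹ : Aˣ) : A) * D.e * g) = 0 ∨ D.e * (((g⁻¹ : Aˣ) : A) * D.e * g) = D.e :=
    fun {g} hg => by
    have hg' := Dr_le F (c.le hg)
    rcases te c (ε := ((g⁻¹ : Aˣ) : A) * D.e * g)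
      (by simp only [mul_assoc, Units.mul_inv_cancel_left]; rw [← mul_assoc D.e, D.idem])
      (by rw [FR.Iso.inv_eq hg', star_mul, star_mul, star_star, D.star_e, mul_assoc])
      (fun y hy' => conj (hy _ (c.y_nm g hg y hy'))) hT
      (fun t ht => conj (hall _ (c.inv _ (inv_mem hg) T hT) _ (by
        have h1 := conj_mem_cj (a := g⁻¹) ht
        rwa [inv_inv] at h1))) with h1 | h1
    · left
      exact (ImI_le (I := rmul ⊥ _) fun t ht => by rw [mem_rmul, sub_mul, h1 t ht, one_mul, sub_self]; exact zero_mem _)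
        (hD.e_mem_ImI hiso hne)
    · right
      have h2 : D.e * (1 - ((g⁻¹ : Aˣ) : A) * D.e * g) = 0 :=
        (ImI_le (I := rmul ⊥ _) fun t ht => by rw [mem_rmul, sub_mul, h1 t ht, one_mul, sub_self]; exact zero_mem _)
          (hD.e_mem_ImI hiso hne)
      rw [mul_sub, mul_one, sub_eq_zero] at h2
      exact h2.symm
  rcases key hh with h1 | h1
  · exact Or.inr h1
  · left
    have h2 := congrArg star h1
    rw [star_mul, star_mul, star_mul, FR.Iso.inv_eq (Dr_le F (c.le hh)), star_star, D.star_e, ← mul_assoc,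
      ← FR.Iso.inv_eq (Dr_le F (c.le hh))] at h2
    have h3 : ((h⁻¹ : Aˣ) : A) * D.e * h * D.e = ((h⁻¹ : Aˣ) : A) * (D.e * (((h⁻¹⁻¹ : Aˣ) : A) * D.e * (h⁻¹ : Aˣ))) * h := by
      simp only [inv_inv, mul_assoc, Units.inv_mul, mul_one]
    rcases key (inv_mem hh) with h4 | h4
    · rw [h3, h4, mul_zero, zero_mul] at h2
      exact absurd h2.symm hD.e_ne_zero
    · rw [h3, h4] at h2
      exact h2

theorem boxMov : BoxMov := by
  intro A _ _ _ F Hh Y 𝒯 c T hT ⟨_, ho⟩ P hP hp hn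
  obtain ⟨D, hD, ham⟩ := ho.resolve_left fun h => hn (h.mono hP)
  let f : Aˣ → A → A := fun g x => ((g⁻¹ : Aˣ) : A) * x * g
  have f1 : ∀ x, f 1 x = x := fun x => by simp [f]
  have fm : ∀ a b x, f (a * b) x = f b (f a x) := fun a b x => by simp only [f, mul_inv_rev, Units.val_mul, mul_assoc]
  obtain ⟨p, hpP, q, hqP, h1, h2, h3⟩ : ∃ p ∈ P, ∃ q ∈ P, f p D.e ≠ D.e ∧ f q D.e ≠ D.e ∧ f p D.e ≠ f q D.e := by
    by_contra h1
    push Not at h1
    have h2 := fix_of_two hp f f1 fm h1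
    have h3 : ∀ a ∈ P, ∀ t ∈ Cam.cj a T, ((t : A) - 1) * D.e = t - 1 := fun a ha t ht => by
      have h4 := congrArg (fun x => ((a⁻¹ : Aˣ) : A) * x * a) (hD.sub_mul (mem_cj.1 ht))
      simp only [Units.val_mul, sub_mul, mul_sub, mul_assoc, Units.inv_mul_cancel_left, Units.inv_mul, mul_one,
        one_mul] at h4
      have h5 := h2 a ha
      simp only [f, mul_assoc] at h5
      rw [h5] at h4
      rw [sub_mul, one_mul, h4]
    exact hn (nm_of_cj (fix_of_two hp Cam.cj cj_one (fun a b x => (cj_cj a b x).symm) fun a ha b hb h4 h5 =>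
      ham _ (c.inv a (hP ha) T hT) _ (c.inv b (hP hb) T hT) (h3 a ha) (h3 b hb) h4 h5))
  have h4 : D.e * f q D.e = 0 := (orth c hT hD (hP hqP)).resolve_left h2
  have h5 : D.e * f p D.e = 0 := (orth c hT hD (hP hpP)).resolve_left h1
  have h6 : D.e * p * f q D.e = 0 := by
    have h7 : D.e * f (q * p⁻¹) D.e = 0 := (orth c hT hD (hP (mul_mem hqP (inv_mem hpP)))).resolve_left fun h7 => h3 (by
      have h8 := congrArg (f p) (show f (q * p⁻¹) D.e = D.e from h7)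
      rw [← fm, inv_mul_cancel_right] at h8
      exact h8.symm)
    have h8 := congrArg (· * (p : A)) h7
    simp only [f, mul_inv_rev, inv_inv, Units.val_mul, mul_assoc, Units.inv_mul, mul_one, zero_mul] at h8
    simpa only [f, mul_assoc] using h8
  have h7 : ∀ g : Aˣ, D.e * g * f g D.e = D.e * g := fun g => by
    simp only [f, mul_assoc, Units.mul_inv_cancel_left]
    rw [← mul_assoc, D.idem]
  let φ : ImI T → ImI P := fun x => ⟨x.1 * ((p : A) - 1), Ideal.mul_mem_left _ _ (sub_one_mem_ImI hpP)⟩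
  have h8 : ∀ x : ImI T, x.1 * D.e = x.1 := fun x => by
    obtain ⟨b, hb⟩ := Ideal.mem_span_singleton'.1 (hD.ImI_le x.2)
    rw [← hb, mul_assoc, D.idem]
  have := Fintype.ofFinite (ImI T)
  have := Fintype.ofFinite (ImI P)
  rw [Nat.card_eq_fintype_card, Nat.card_eq_fintype_card]
  refine Fintype.card_lt_of_injective_of_notMem φ (fun x y hxy => ?_)
    (b := ⟨D.e * ((q : A) - 1), Ideal.mul_mem_left _ _ (sub_one_mem_ImI hqP)⟩) ?_
  · have h9 : ∀ x : ImI T, x.1 * ((p : A) - 1) * f p D.e = x.1 * p := fun x => by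
      rw [← h8 x, mul_assoc x.1, mul_assoc x.1, mul_sub, sub_mul, mul_one, h7, h5, sub_zero, mul_assoc]
    have h10 := congrArg (fun z : ImI P => z.1 * f p D.e) hxy
    simp only [φ, h9] at h10
    exact Subtype.ext ((Units.mul_left_inj p).1 h10)
  · rintro ⟨x, hx⟩
    have h9 := congrArg (fun z : ImI P => z.1 * f q D.e) hx
    simp only [φ] at h9
    rw [← h8 x, mul_assoc x.1, mul_assoc x.1, mul_sub, sub_mul, mul_one, h6, h4, sub_zero, mul_zero, mul_sub, sub_mul,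
      mul_one, h7, h4, sub_zero, eq_comm, Units.mul_left_eq_zero] at h9
    exact hD.e_ne_zero h9

end Cfsg.Agent.Cam.Cl.Mov
end

-- part: Cam/Cl/Pc
section
/-!
# Classical rows of S3689: components are pieces of blocks (helper65)
-/

set_option autoImplicit false

namespace Cfsg.Agent.Cam.Cl.Pc

open Cfsg Cfsg.Agent.DS.Cl
open scoped commutatorElement

/-- a subring that generates a star-simple ring over its centre is star-simple -/
theorem ss_sub {R B : Type} [Ring R] [StarRing R] [Ring B] [StarRing B] [Finite B] (φ : R →+* B)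
    (hi : Function.Injective φ) (hs : ∀ x, φ (star x) = star (φ x)) (hB : SS B)
    (hg : ∀ S : Subring B, Subring.center B ≤ S → (∀ x, φ x ∈ S) → S = ⊤) : SS R := by
  have := hB.nontrivial
  have : Nontrivial R := φ.domain_nontrivial
  have hs' : ∀ x ∈ φ.range, star x ∈ φ.range := by
    rintro _ ⟨x, rfl⟩
    exact ⟨star x, hs x⟩
  have h1 := semisimple_of_two hB hs' (by
    set I := Ideal.span ((Blk.ofSubring φ.range hs').val '' (Ring.jacobson (Blk.ofSubring φ.range hs').T))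
    let S : Subring B :=
      { carrier := {x | ∀ a ∈ I, a * x ∈ I}
        mul_mem' := fun {x y} hx hy a ha => by rw [← mul_assoc]; exact hy _ (hx a ha)
        one_mem' := fun a ha => by rwa [mul_one]
        add_mem' := fun {x y} hx hy a ha => by rw [mul_add]; exact add_mem (hx a ha) (hy a ha)
        zero_mem' := fun a _ => by rw [mul_zero]; exact zero_mem _
        neg_mem' := fun {x} hx a ha => by rw [mul_neg]; exact neg_mem (hx a ha) }
    have h1 : S = ⊤ := hg S (fun c hc a ha => by rw [cen_comm hc a]; exact Ideal.mul_mem_left _ c ha) fun x a ha => by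
      have h2 : I ≤ rmul I (φ x) := by
        rw [Ideal.span_le]
        rintro _ ⟨y, hy, rfl⟩
        exact Ideal.subset_span ⟨y * (Blk.ofSubring φ.range hs').mk' (φ x) ⟨x, rfl⟩, Ideal.mul_mem_right _ _ hy, rfl⟩
      exact h2 ha
    intro x hx a
    have h2 : a ∈ S := h1 ▸ Subring.mem_top a
    exact h2 x hx)
  let ψ : R →+* (Blk.ofSubring φ.range hs').T :=
    { toFun := fun x => (Blk.ofSubring φ.range hs').mk' (φ x) ⟨x, rfl⟩
      map_one' := Blk.val_inj _ φ.map_one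
      map_mul' := fun x y => Blk.val_inj _ (φ.map_mul x y)
      map_zero' := Blk.val_inj _ φ.map_zero
      map_add' := fun x y => Blk.val_inj _ (φ.map_add x y) }
  have h2 : Function.Bijective ψ := ⟨fun x y h => hi (congrArg (Blk.val _) h), by
    rintro ⟨_, x, rfl⟩
    exact ⟨x, rfl⟩⟩
  have h3 : IsSemisimpleRing R := (RingEquiv.ofBijective ψ h2).symm.isSemisimpleRing
  refine ss_of_idem fun e hc h4 h5 => ?_
  have h6 : Subring.centralizer {φ e} = ⊤ := hg _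
    (fun c hc' y hy => by rw [Set.mem_singleton_iff.1 hy]; exact cen_comm hc' _)
    fun x y hy => by rw [Set.mem_singleton_iff.1 hy, ← map_mul, ← map_mul, cen_comm hc]
  have h7 : φ e ∈ Subring.center B := Subring.mem_center_iff.2 fun g => by
    have h8 : g ∈ Subring.centralizer {φ e} := h6 ▸ Subring.mem_top g
    exact (h8 _ rfl).symm
  exact (hB.idem_symm h7 (by rw [← hs, h4]) (by rw [← map_mul, h5])).imp (fun h => hi (h.trans φ.map_zero.symm))
    fun h => hi (h.trans φ.map_one.symm)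

variable {A : Type} [Ring A] [StarRing A]

section lam

variable (D : Blk A)

theorem val_e (x : D.T) : D.val x * D.e = D.val x := D.mul_e _ (D.val_mem x)

theorem e_val (x : D.T) : D.e * D.val x = D.val x := D.e_mul _ (D.val_mem x)

theorem up_mul (x y : D.T) : (D.val x + (1 - D.e)) * D.val y = D.val (x * y) := by
  rw [add_mul, sub_mul, one_mul, e_val, sub_self, add_zero, D.val_mul]

theorem mul_up (x y : D.T) : D.val y * (D.val x + (1 - D.e)) = D.val (y * x) := by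
  rw [mul_add, mul_sub, mul_one, val_e, sub_self, add_zero, D.val_mul]

theorem up_compl (x : D.T) : (D.val x + (1 - D.e)) * (1 - D.e) = 1 - D.e := by
  rw [add_mul, mul_sub, mul_one, val_e, sub_self, zero_add, mul_sub, mul_one, sub_mul, one_mul, D.idem, sub_self, sub_zero]

theorem compl_up (x : D.T) : (1 - D.e) * (D.val x + (1 - D.e)) = 1 - D.e := by
  rw [mul_add, sub_mul, one_mul, e_val, sub_self, zero_add, mul_sub, mul_one, sub_mul, one_mul, D.idem, sub_self, sub_zero]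

theorem up_up (x y : D.T) : (D.val x + (1 - D.e)) * (D.val y + (1 - D.e)) = D.val (x * y) + (1 - D.e) := by
  rw [mul_add, up_mul, up_compl]

/-- units of the block as units of the ring -/
def lam : D.Tˣ →* Aˣ where
  toFun u := ⟨D.val u + (1 - D.e), D.val (u⁻¹ : D.Tˣ) + (1 - D.e),
    by rw [up_up, Units.mul_inv, D.val_one, add_sub_cancel], by rw [up_up, Units.inv_mul, D.val_one, add_sub_cancel]⟩
  map_one' := Units.ext (by
    change D.val 1 + (1 - D.e) = 1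
    rw [D.val_one, add_sub_cancel])
  map_mul' a b := Units.ext (up_up D a b).symm

theorem lam_val (u : D.Tˣ) : (lam D u : A) = D.val u + (1 - D.e) := rfl

theorem lam_inj : Function.Injective (lam D) := fun _ _ h =>
  Units.ext (D.val_inj (add_right_cancel (congrArg Units.val h)))

theorem lam_mul (u : D.Tˣ) (x : D.T) : (lam D u : A) * D.val x = D.val (u * x) := up_mul D _ x

theorem mul_lam (u : D.Tˣ) (x : D.T) : D.val x * (lam D u : A) = D.val (x * u) := mul_up D _ x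

theorem lam_e (u : D.Tˣ) : (lam D u : A) * D.e = D.val u := by rw [← D.val_one, lam_mul, mul_one]

theorem e_lam (u : D.Tˣ) : D.e * (lam D u : A) = D.val u := by rw [← D.val_one, mul_lam, one_mul]

theorem lam_sub (u : D.Tˣ) : (lam D u : A) - 1 = D.val ((u : D.T) - 1) := by
  rw [lam_val, map_sub, D.val_one]; abel

theorem val_pow (x : D.T) (n : ℕ) : D.val x ^ (n + 1) = D.val (x ^ (n + 1)) := by
  induction n with
  | zero => rw [zero_add, pow_one, pow_one]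
  | succ n ih => rw [pow_succ, ih, pow_succ x (n + 1), D.val_mul]

theorem val_natCast (n : ℕ) : D.val (n : D.T) = (n : A) * D.e := by
  rw [← Nat.smul_one_eq_cast, map_nsmul, D.val_one, nsmul_eq_mul]

theorem uni_lam {v : D.Tˣ} (h : Uni v) : Uni (lam D v) := by
  obtain ⟨n, hn⟩ := h
  exact ⟨n + 1, by rw [lam_sub, val_pow, pow_succ, hn, zero_mul, map_zero]⟩

theorem lam_ne_one {v : D.Tˣ} (h : v ≠ 1) : lam D v ≠ 1 := fun h1 => h (lam_inj D (h1.trans (map_one _).symm))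

theorem hasUni {Z : Subgroup D.Tˣ} (h : HasUni Z) : HasUni (Z.map (lam D)) := by
  obtain ⟨v, hv, h1, h2⟩ := h
  exact ⟨_, ⟨v, hv, rfl⟩, lam_ne_one D h1, uni_lam D h2⟩

theorem noCen {Z : Subgroup D.Tˣ} (h : NoCen Z) : NoCen (Z.map (lam D)) := by
  rintro _ ⟨t, ht, rfl⟩ h1
  rw [h t ht fun s hs => lam_inj D (by rw [map_mul, map_mul]; exact h1 _ ⟨s, hs, rfl⟩), map_one]

theorem isUnit_nat [Finite A] (hA : SS A) (hD : SS D.T) {n : ℕ} (h : IsUnit (n : D.T)) : IsUnit (n : A) := by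
  refine (SS.natCast_cases hA n).resolve_left fun h0 => ?_
  have := hD.nontrivial
  have h1 : (n : D.T) = 0 := D.val_inj (by rw [val_natCast, h0, zero_mul, map_zero])
  rw [h1] at h
  exact not_isUnit_zero h

theorem tyI {Z : Subgroup D.Tˣ} (h : TyI Z) : TyI (Z.map (lam D)) := by
  rintro _ ⟨s, hs, rfl⟩ _ ⟨t, ht, rfl⟩
  have h1 : (lam D t : A) + ((lam D t)⁻¹ : Aˣ) = D.val ((t : D.T) + (t⁻¹ : D.Tˣ)) + (1 - D.e) + (1 - D.e) := by
    rw [← map_inv, lam_val, lam_val, map_add]; abel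
  rw [h1, mul_add, mul_add, add_mul, add_mul, lam_mul, mul_lam, h s hs t ht, lam_val, up_compl, compl_up]

theorem ty [Finite A] (hA : SS A) (hD : SS D.T) {Z : Subgroup D.Tˣ} (h : Ty Z 1) : Ty (Z.map (lam D)) D.e := by
  have := hD.nontrivial
  rcases h with ⟨v, hv, h1, h2, a, f, h3, h4, h5⟩ | ⟨v, hv, j, hj, h1, h2, h3⟩ | h | ⟨h1, h2, h3⟩ |
    ⟨h1, h2, h3, t, ht, h4, h5, s, hs, s', h6, h7⟩
  · refine Or.inl ⟨_, ⟨v, hv, rfl⟩, lam_ne_one D h1, uni_lam D h2, D.val a, D.val f, ?_, ?_, fun h6 => h5 (D.val_inj ?_)⟩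
    · rw [lam_sub, ← D.val_mul, h3, map_zero]
    · rw [lam_sub, ← D.val_mul, h4, map_zero]
    · rw [D.val_mul, D.val_mul, D.val_one, h6, map_zero]
  · obtain ⟨k, rfl⟩ : ∃ k, j = k + 1 := ⟨j - 1, by omega⟩
    refine Or.inr (Or.inl ⟨_, ⟨v, hv, rfl⟩, k + 1, hj, ?_, fun h4 => h2 (D.val_inj ?_), isUnit_nat D hA hD h3⟩)
    · rw [lam_sub, val_pow, h1, map_zero]
    · rw [← val_pow, ← lam_sub, h4, map_zero]
  · exact Or.inr (Or.inr (Or.inl (tyI D h)))
  · refine Or.inr (Or.inr (Or.inr (Or.inl ⟨by simpa using isUnit_nat D hA hD (n := 2) (by simpa using h1), noCen D h2, ?_⟩)))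
    rintro _ ⟨a, ha, rfl⟩ _ ⟨b, hb, rfl⟩ h4 h5 h6 h7 h8 h9
    have h10 := h3 a ha b hb (lam_inj D (by rw [map_mul, h4, map_one])) (lam_inj D (by rw [map_mul, h5, map_one]))
      (lam_inj D (by rw [map_mul, map_mul, h6])) (fun h => h7 (by rw [h, map_one])) (fun h => h8 (by rw [h, map_one]))
      fun h => h9 (by rw [h])
    have h11 : ∀ (u : D.Tˣ) (x : D.T), (1 + (lam D u : A)) * D.val x = D.val ((1 + (u : D.T)) * x) := fun u x => by
      rw [add_mul, add_mul, one_mul, one_mul, lam_mul, map_add]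
    rw [mul_assoc, ← D.val_one, h11, h11, ← mul_assoc, h10, map_zero]
  · refine Or.inr (Or.inr (Or.inr (Or.inr ⟨?_, noCen D h2, ?_, _, ⟨t, ht, rfl⟩, by rw [← map_pow, h4, map_one],
      lam_ne_one D h5, D.val s, ?_, D.val s', by rw [← D.val_mul, h6, D.val_one], ?_⟩)))
    · have h8 := SS.natCast_cases hA 2
      rw [Nat.cast_ofNat] at h8
      refine h8.resolve_right fun h9 => ?_
      have h10 := val_natCast D 2
      rw [Nat.cast_ofNat, Nat.cast_ofNat, h1, map_zero, eq_comm, h9.mul_right_eq_zero] at h10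
      exact one_ne_zero (D.val_inj (D.val_one.trans (h10.trans (map_zero D.val).symm)))
    · rintro _ ⟨w, hw, rfl⟩ h8 h9
      have h10 := congrArg D.val (h3 w hw (lam_inj D (by rw [map_pow, h8, map_one])) fun h => h9 (by rw [h, map_one]))
      simp only [← Units.val_pow_eq_pow_val, ← map_pow, add_mul, lam_e, one_mul, mul_one, map_add, map_zero,
        D.val_one] at h10 ⊢
      exact h10
    · let S : Subring D.T :=
        { carrier := {x | D.val x ∈ Subring.closure (insert D.e ((fun u : Aˣ => (u : A)) '' (Z.map (lam D))))}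
          mul_mem' := fun {x y} hx hy => by
            change D.val x * D.val y ∈ Subring.closure _
            exact mul_mem hx hy
          one_mem' := Subring.subset_closure (Set.mem_insert _ _)
          add_mem' := fun {x y} hx hy => by
            change D.val (x + y) ∈ Subring.closure _
            rw [map_add]
            exact add_mem hx hy
          zero_mem' := by
            change D.val 0 ∈ Subring.closure _
            rw [map_zero]
            exact zero_mem _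
          neg_mem' := fun {x} hx => by
            change D.val (-x) ∈ Subring.closure _
            rw [map_neg]
            exact neg_mem hx }
      have h8 : Subring.closure (insert 1 ((fun u : D.Tˣ => (u : D.T)) '' Z)) ≤ S := by
        rw [Subring.closure_le]
        rintro x (rfl | ⟨z, hz, rfl⟩)
        · exact S.one_mem
        · change D.val z ∈ Subring.closure _
          rw [← lam_e]
          exact mul_mem (Subring.subset_closure (Set.mem_insert_of_mem _ ⟨_, ⟨z, hz, rfl⟩, rfl⟩))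
            (Subring.subset_closure (Set.mem_insert _ _))
      exact h8 hs
    · rw [mul_lam, h7, ← Units.val_pow_eq_pow_val, ← Units.val_pow_eq_pow_val, ← map_pow, lam_mul]

/-- the block generated by a piece -/
theorem piece [Finite A] (hc : ∀ c ∈ Subring.center A, c * D.e ∈ D.car) {Z : Subgroup D.Tˣ}
    (hZ : ∀ z ∈ Z, (z : D.T) * star (z : D.T) = 1) (hne : Z ≠ ⊥)
    (hB : SS (Blk.ofSubring (Bd Z) fun _ => star_mem_Bd hZ).T) : ∃ D' : Blk A, Sh (Z.map (lam D)) D' ∧ D'.e = D.e := by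
  set T := Z.map (lam D)
  have h1 : ∀ t ∈ T, (t : A) * star (t : A) = 1 := by
    rintro _ ⟨z, hz, rfl⟩
    rw [lam_val, star_add, star_sub, star_one, D.star_e, ← D.val_star, up_up, hZ z hz, D.val_one, add_sub_cancel]
  have h2 : ∀ x ∈ Bd T, D.e * x = x * D.e := fun x hx => comm_Bd (by
    rintro _ ⟨z, -, rfl⟩
    rw [e_lam, lam_e]) hx
  have h3 : ∀ x ∈ Bd T, ∃ b ∈ Bd Z, D.val b = x * D.e := by
    let S : Subring A :=
      { carrier := {x | ∃ b ∈ Bd Z, D.val b = x * D.e}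
        mul_mem' := by
          rintro x y ⟨a, ha, hx⟩ ⟨b, hb, hy⟩
          exact ⟨a * b, mul_mem ha hb, by rw [D.val_mul, hx, mul_assoc, e_val, hy, mul_assoc]⟩
        one_mem' := ⟨1, one_mem _, by rw [D.val_one, one_mul]⟩
        add_mem' := by
          rintro x y ⟨a, ha, hx⟩ ⟨b, hb, hy⟩
          exact ⟨a + b, add_mem ha hb, by rw [map_add, hx, hy, add_mul]⟩
        zero_mem' := ⟨0, zero_mem _, by rw [map_zero, zero_mul]⟩
        neg_mem' := by
          rintro x ⟨a, ha, hx⟩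
          exact ⟨-a, neg_mem ha, by rw [map_neg, hx, neg_mul]⟩ }
    have h3 : Bd T ≤ S := Bd_le (fun c hc' => ⟨D.mk' _ (hc c hc'), cen_mem_Bd _ (D.mem_center_iff.2 fun y hy => by
      rw [D.val_mk', ← mul_assoc, cen_comm hc', mul_assoc, D.mul_e y hy, mul_assoc, D.e_mul y hy]), rfl⟩) (by
      rintro _ ⟨z, hz, rfl⟩
      exact ⟨z, mem_Bd hz, (lam_e D z).symm⟩)
    exact fun x hx => h3 hx
  let D' : Blk A :=
    { car :=
        { carrier := {y | ∃ x ∈ Bd T, y = x * D.e}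
          add_mem' := by
            rintro _ _ ⟨a, ha, rfl⟩ ⟨b, hb, rfl⟩
            exact ⟨a + b, add_mem ha hb, (add_mul _ _ _).symm⟩
          zero_mem' := ⟨0, zero_mem _, (zero_mul _).symm⟩
          mul_mem' := by
            rintro _ _ ⟨a, ha, rfl⟩ ⟨b, hb, rfl⟩
            exact ⟨a * b, mul_mem ha hb, by rw [mul_assoc, ← mul_assoc D.e, h2 b hb, mul_assoc, D.idem, mul_assoc]⟩
          neg_mem' := by
            rintro _ ⟨a, ha, rfl⟩
            exact ⟨-a, neg_mem ha, (neg_mul _ _).symm⟩ }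
      e := D.e
      e_mem := ⟨1, one_mem _, (one_mul _).symm⟩
      e_mul := by
        rintro _ ⟨a, ha, rfl⟩
        rw [← mul_assoc, h2 a ha, mul_assoc, D.idem]
      mul_e := by
        rintro _ ⟨a, -, rfl⟩
        rw [mul_assoc, D.idem]
      star_mem := by
        rintro _ ⟨a, ha, rfl⟩
        exact ⟨star a, star_mem_Bd h1 ha, by rw [star_mul, D.star_e, h2 _ (star_mem_Bd h1 ha)]⟩ }
  have h4 : ∀ y : D'.T, ∃ b ∈ Bd Z, D.val b = D'.val y := by
    rintro ⟨_, x, hx, rfl⟩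
    exact h3 x hx
  choose g hg1 hg2 using h4
  set B := Blk.ofSubring (Bd Z) fun _ => star_mem_Bd hZ
  let φ : D'.T →+* B.T :=
    { toFun := fun y => B.mk' (g y) (hg1 y)
      map_one' := B.val_inj (D.val_inj (hg2 1))
      map_mul' := fun x y => B.val_inj (D.val_inj ((hg2 _).trans (by
        change D'.val x * D'.val y = D.val (g x) * D.val (g y)
        rw [hg2, hg2])))
      map_zero' := B.val_inj (D.val_inj (hg2 0))
      map_add' := fun x y => B.val_inj (D.val_inj ((hg2 _).trans (by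
        change D'.val x + D'.val y = D.val (g x) + D.val (g y)
        rw [hg2, hg2]))) }
  have hφ : ∀ y, D.val (B.val (φ y)) = D'.val y := hg2
  have h5 : SS D'.T := ss_sub φ (fun x y h => D'.val_inj (by rw [← hφ, ← hφ, h]))
    (fun x => B.val_inj (D.val_inj (by rw [hφ, B.val_star, D.val_star, hφ, D'.val_star]))) hB fun S hS1 hS2 => by
      let S' : Subring D.T :=
        { carrier := {x | ∃ b ∈ S, B.val b = x}
          mul_mem' := by
            rintro _ _ ⟨a, ha, rfl⟩ ⟨b, hb, rfl⟩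
            exact ⟨a * b, mul_mem ha hb, rfl⟩
          one_mem' := ⟨1, one_mem _, rfl⟩
          add_mem' := by
            rintro _ _ ⟨a, ha, rfl⟩ ⟨b, hb, rfl⟩
            exact ⟨a + b, add_mem ha hb, rfl⟩
          zero_mem' := ⟨0, zero_mem _, rfl⟩
          neg_mem' := by
            rintro _ ⟨a, ha, rfl⟩
            exact ⟨-a, neg_mem ha, rfl⟩ }
      have h5 : Bd Z ≤ S' := Bd_le (fun c hc' => ⟨B.mk' c (cen_mem_Bd _ hc'),
        hS1 (B.mem_center_iff.2 fun y _ => cen_comm hc' y), rfl⟩) fun z hz =>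
          ⟨φ (D'.mk' _ ⟨_, mem_Bd (T := T) ⟨z, hz, rfl⟩, rfl⟩), hS2 _, D.val_inj (by rw [hφ, D'.val_mk', lam_e])⟩
      rw [eq_top_iff]
      intro b _
      obtain ⟨b', hb', h6⟩ := h5 (B.val_mem b)
      rwa [← B.val_inj h6]
  have h6 : ∀ t ∈ T, (t : A) - 1 ∈ D'.car := by
    rintro _ ⟨z, hz, rfl⟩
    exact ⟨_, sub_mem (mem_Bd (T := T) ⟨z, hz, rfl⟩) (one_mem _), by rw [lam_sub, val_e]⟩
  have h7 : D.e ∈ Bd T := by
    rcases D'.ss_elim h5 (D'.car.toAddSubgroup ⊓ (Bd T).toAddSubgroup) (fun x hx => hx.1)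
      (by
        rintro x ⟨hx1, hx2⟩ _ ⟨a, ha, rfl⟩
        refine ⟨D'.car.mul_mem ⟨a, ha, rfl⟩ hx1, ?_⟩
        rw [mul_assoc, show D.e * x = x from D'.e_mul x hx1]
        exact (Bd T).mul_mem ha hx2)
      (fun x hx => ⟨D'.star_mem x hx.1, star_mem_Bd h1 hx.2⟩) with h7 | h7
    · exfalso
      refine hne (eq_bot_iff.2 fun z hz => lam_inj D ?_)
      have h8 : (lam D z : A) - 1 ∈ D'.car.toAddSubgroup ⊓ (Bd T).toAddSubgroup :=
        ⟨h6 _ ⟨z, hz, rfl⟩, (Bd T).sub_mem (mem_Bd (T := T) ⟨z, hz, rfl⟩) (Bd T).one_mem⟩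
      rw [h7, AddSubgroup.mem_bot, sub_eq_zero] at h8
      rw [map_one]
      exact Units.ext h8
    · exact h7.2
  exact ⟨D', ⟨h5, h6, by
    rintro _ ⟨a, ha, rfl⟩
    exact mul_mem ha h7⟩, rfl⟩

end lam

theorem boxPc (hQS : BoxQS) : BoxPc := by
  intro A _ _ _ F Hh Y 𝒯 c D FD hD hc hup hY hT
  -- the restrictions of the members
  have hR : ∀ T ∈ 𝒯, ∃ ρ : T →* D.Tˣ, ρ.range ≤ Dr FD ∧ ρ.range ≤ ⁅ρ.range, ρ.range⁆ ∧
      ∀ t : T, D.val (ρ t) = t.1 * D.e := fun T hT' => by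
    choose u hu1 hu2 using fun t : T => (hT T hT' t t.2).2
    let ρ : T →* D.Tˣ := MonoidHom.mk' u fun a b => Units.ext (D.val_inj (by
      rw [Units.val_mul, D.val_mul, hu2 a, mul_assoc, e_val, hu2, hu2, ← mul_assoc]; rfl))
    have h1 := Mov.perf_range (c.mem T hT').qs.perf ρ
    exact ⟨ρ, le_Dr_of_perf h1 (by rintro _ ⟨t, rfl⟩; exact hu1 t), h1, hu2⟩
  have h1 : ∀ {t : Aˣ} {u : D.Tˣ}, (t : A) * D.e = D.e * t → D.val u = t * D.e → ∀ w, t * lam D w * t⁻¹ = lam D (u * w * u⁻¹) :=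
    fun {t u} h1 h2 w => by
    rw [mul_inv_eq_iff_eq_mul]
    apply Units.ext
    rw [Units.val_mul, Units.val_mul, lam_val, lam_val, mul_add, add_mul, mul_sub, sub_mul, h1, mul_one, one_mul,
      ← e_val D w, ← mul_assoc, ← h2, ← val_e D (u * w * u⁻¹ : D.Tˣ), mul_assoc, ← h1, ← h2, ← D.val_mul, ← D.val_mul,
      ← Units.val_mul, ← Units.val_mul, inv_mul_cancel_right]
  -- every member is a piece or centralizes it
  have h2 : ∀ Z : Subgroup D.Tˣ, QS Z → Z ≤ Dr FD → Nm (Dr FD) Z → ∀ T ∈ 𝒯, T = Z.map (lam D) ∨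
      ∀ t ∈ T, ∀ u : D.Tˣ, D.val u = t * D.e → ∀ z ∈ Z, u * z = z * u := fun Z hq hle hn T hT' => by
    obtain ⟨ρ, hρ1, -, hρ2⟩ := hR T hT'
    have h2 : QS (Z.map (lam D)) := hq.map _ fun t _ ht s _ => by
      rw [lam_inj D (ht.trans (map_one _).symm), one_mul, mul_one]
    have h3 : Z.map (lam D) ≤ Dr F := le_Dr_of_perf h2.perf (by
      rintro _ ⟨z, hz, rfl⟩
      exact hup z (Dr_le FD (hle hz)) _ rfl)
    have h4 : Z.map (lam D) ≤ Hh := fun p hp => c.cY p (h3 hp) fun y hy => Units.ext (by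
      obtain ⟨z, -, rfl⟩ := hp
      rw [Units.val_mul, Units.val_mul, lam_val, add_mul, mul_add, hY y hy _ (D.val_mem _), sub_mul, mul_sub,
        hY y hy _ D.e_mem, one_mul, mul_one])
    refine (h2.eq_or_cm_of_fam (fun T hT => (c.mem T hT).qs) c.comm (fun h hh => c.inv h (h4 hh)) hT' ?_).imp id
      fun h5 t ht u hu z hz => ?_
    · rintro t ht _ ⟨z, hz, rfl⟩
      rw [h1 (hT T hT' t ht).1 (hρ2 ⟨t, ht⟩)]
      exact ⟨_, hn _ (hρ1 ⟨_, rfl⟩) z hz, rfl⟩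
    · have h6 := h1 (hT T hT' t ht).1 hu z
      rw [← h5 _ ⟨z, hz, rfl⟩ t ht, mul_inv_cancel_right] at h6
      rw [← mul_inv_eq_iff_eq_mul, ← lam_inj D h6]
  -- a member centralizing the commutator group is trivial on the block
  have h3 : ∀ T ∈ 𝒯, (∀ t ∈ T, ∀ u : D.Tˣ, D.val u = t * D.e → ∀ z ∈ Dr FD, u * z = z * u) → ∀ t ∈ T, (t : A) * D.e = D.e :=
    fun T hT' h t ht => by
    obtain ⟨ρ, hρ1, hρ2, hρ3⟩ := hR T hT'
    have h3 := eq_bot_of_perf_cm hρ2 (by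
      rintro _ ⟨a, rfl⟩ z hz
      exact h a a.2 _ (hρ3 a) z (hρ1 hz))
    have h4 : ρ ⟨t, ht⟩ ∈ ρ.range := ⟨_, rfl⟩
    rw [h3, Subgroup.mem_bot] at h4
    have h5 := hρ3 ⟨t, ht⟩
    rw [h4] at h5
    exact h5.symm
  have h4 : ∀ T ∈ 𝒯, (∀ t ∈ T, ((t : A) - 1) * D.e = t - 1) → ¬ ∀ t ∈ T, (t : A) * D.e = D.e := fun T hT' h4 h5 =>
    (c.mem T hT').qs.ne_bot (eq_bot_iff.2 fun t ht => by
      have h6 := h4 t ht
      rw [sub_mul, h5 t ht, one_mul, sub_self, eq_comm, sub_eq_zero] at h6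
      exact Units.ext h6)
  rintro T hT' ⟨t, ht, hte⟩
  have hte' : ¬ ∀ t ∈ T, (t : A) * D.e = D.e := fun h => hte (h t ht)
  rcases hQS D.T hD FD with h5 | ⟨hq, hsp, hu, hty⟩ | ⟨-, Y₁, Y₂, hsup, hcm, hZ⟩
  · exfalso
    obtain ⟨ρ, hρ1, hρ2, hρ3⟩ := hR T hT'
    have h6 : Group.IsSolvable ρ.range := Group.isSolvable_of_isSolvable_injective (Subgroup.inclusion_injective hρ1)
    have h7 : ρ ⟨t, ht⟩ ∈ ρ.range := ⟨_, rfl⟩
    rw [eq_bot_of_perf_solvable hρ2 h6, Subgroup.mem_bot] at h7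
    have h8 := hρ3 ⟨t, ht⟩
    rw [h7] at h8
    exact hte h8.symm
  · have h5 : ∀ T ∈ 𝒯, (¬ ∀ t ∈ T, (t : A) * D.e = D.e) → T = (Dr FD).map (lam D) := fun T hT' h =>
      (h2 _ hq le_rfl (nm_self _) T hT').resolve_right fun h5 => h (h3 T hT' h5)
    have hsp' : Bd (Dr FD) = ⊤ := hsp
    have h6 : ∀ z ∈ Dr FD, (z : D.T) * star (z : D.T) = 1 := fun z hz => (Dr_le FD hz).1
    obtain ⟨D', hD', he⟩ := piece D hc h6 hq.ne_bot (Blk.ss_of _ (by have := hD.nontrivial; exact one_ne_zero)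
      fun I _ hI1 hI2 => by
        let J : Ideal D.T := { I with smul_mem' := fun a x hx => hI1 x hx a (show a ∈ Bd (Dr FD) from hsp' ▸ trivial) }
        refine (hD.2 J (fun x hx a => ?_) hI2).imp (fun h => ?_) fun h => ?_
        · have h7 := hI2 _ (J.mul_mem_left (star a) (hI2 x hx))
          rwa [star_mul, star_star, star_star] at h7
        · rw [eq_bot_iff]
          intro x hx
          have h7 : x ∈ J := hx
          rwa [h] at h7
        · have h7 : (1 : D.T) ∈ J := h ▸ trivial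
          exact h7)
    obtain rfl := h5 T hT' hte'
    refine ⟨fun T₁ h₁ T₂ _ h6 _ h7 _ => absurd (h5 T₁ h₁ (h4 T₁ h₁ h6)) h7, hasUni D hu, D', hD', he,
      hty.imp (ty D c.ss hD) fun h => ⟨h, fun z hz h7 x hx => ?_⟩⟩
    exact congrArg D.val (comm_Bd (T := Dr FD) (z := D.mk' z hz) (x := D.mk' x hx) (fun u hu => D.val_inj (by
      have h8 := h7 _ ⟨u, hu, rfl⟩
      rwa [← D.val_mk' z hz, mul_lam, lam_mul] at h8)) (hsp' ▸ trivial))
  · have hle : ∀ Z ∈ ({Y₁, Y₂} : Set (Subgroup D.Tˣ)), Z ≤ Dr FD ∧ Nm (Dr FD) Z := by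
      rintro Z (rfl | rfl)
      · exact ⟨hsup ▸ le_sup_left, hsup ▸ (nm_self _).sup_left hcm.symm.nm⟩
      · exact ⟨hsup ▸ le_sup_right, hsup ▸ hcm.nm.sup_left (nm_self _)⟩
    have h5 : ∀ T ∈ 𝒯, (¬ ∀ t ∈ T, (t : A) * D.e = D.e) → ∃ Z ∈ ({Y₁, Y₂} : Set (Subgroup D.Tˣ)), T = Z.map (lam D) :=
      fun T hT' h => by
      by_contra h5
      push Not at h5
      have h6 := fun Z hZ' => (h2 Z (hZ Z hZ').1 (hle Z hZ').1 (hle Z hZ').2 T hT').resolve_left (h5 Z hZ')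
      refine h (h3 T hT' fun t ht u hu z hz => ?_)
      have h7 : Dr FD ≤ Subgroup.centralizer {u} := hsup ▸ sup_le
        (fun z hz y hy => by rw [Set.mem_singleton_iff.1 hy]; exact h6 Y₁ (Or.inl rfl) t ht u hu z hz)
        fun z hz y hy => by rw [Set.mem_singleton_iff.1 hy]; exact h6 Y₂ (Or.inr rfl) t ht u hu z hz
      exact h7 hz u rfl
    obtain ⟨Z, hZ', rfl⟩ := h5 T hT' hte'
    obtain ⟨hq, hu, hty, hsi⟩ := hZ Z hZ'
    have h6 : ∀ z ∈ Z, (z : D.T) * star (z : D.T) = 1 := fun z hz => (Dr_le FD ((hle Z hZ').1 hz)).1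
    obtain ⟨D', hD', he⟩ := piece D hc h6 hq.ne_bot (Blk.ss_of _ (by have := hD.nontrivial; exact one_ne_zero)
      fun I hI0 hI1 hI2 => by
        let J : TwoSidedIdeal (Bd Z) := TwoSidedIdeal.mk' {x | x.1 ∈ I} I.zero_mem (fun hx hy => I.add_mem hx hy)
          (fun hx => I.neg_mem hx) (fun {x y} hy => hI1 _ hy _ x.2) fun {x y} hx => by
            have h7 := hI2 _ (hI1 _ (hI2 _ hx) _ (star_mem_Bd h6 y.2))
            rwa [star_mul, star_star, star_star] at h7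
        refine (hsi.simple.eq_bot_or_eq_top J).imp (fun h => ?_) fun h => ?_
        · rw [eq_bot_iff]
          intro x hx
          have h7 : (⟨x, hI0 x hx⟩ : Bd Z) ∈ J := (TwoSidedIdeal.mem_mk' ..).2 hx
          rw [h, TwoSidedIdeal.mem_bot] at h7
          exact congrArg Subtype.val h7
        · have h7 : (1 : Bd Z) ∈ J := h ▸ TwoSidedIdeal.mem_top _
          rw [TwoSidedIdeal.mem_mk'] at h7
          exact h7)
    refine ⟨fun T₁ h₁ T₂ h₂ h7 h8 h9 h10 => ?_, hasUni D hu, D', hD', he, Or.inl (Or.inr (Or.inr (Or.inl (tyI D hty))))⟩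
    obtain ⟨Z₁, hZ₁, rfl⟩ := h5 T₁ h₁ (h4 T₁ h₁ h7)
    obtain ⟨Z₂, hZ₂, rfl⟩ := h5 T₂ h₂ (h4 T₂ h₂ h8)
    rcases hZ' with rfl | rfl <;> rcases hZ₁ with rfl | rfl <;> rcases hZ₂ with rfl | rfl <;>
      first | rfl | exact absurd rfl h9 | exact absurd rfl h10

end Cfsg.Agent.Cam.Cl.Pc
end

-- part: Cam/Cl/Bk
section
/-!
# The box Bk (helper8)
-/

set_option autoImplicit false

namespace Cfsg.Agent.Cam.Cl.JB

open Cfsg Cfsg.Agent.DS.Cl

variable {A : Type} [Ring A] [StarRing A]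

/-- symmetric central idempotents of a subring -/
structure CI (B : Subring A) (e : A) : Prop where
  mem : e ∈ B
  cen : ∀ b ∈ B, b * e = e * b
  idem : e * e = e
  symm : star e = e

/-- primitive symmetric central idempotents -/
theorem exists_prim [Finite A] (B : Subring A) {n : A} (hn : n ≠ 0) :
    ∃ e, CI B e ∧ n * e ≠ 0 ∧ ∀ f, CI B f → f * e = f → f = 0 ∨ f = e := by
  obtain ⟨e, ⟨he, h0⟩, hmin⟩ := exists_minimalFor_of_wellFoundedLT (fun e => CI B e ∧ n * e ≠ 0)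
    (fun e => {x : A | x * e = x}) ⟨1, ⟨one_mem _, fun b _ => by rw [mul_one, one_mul], one_mul 1, star_one _⟩, by
      rwa [mul_one]⟩
  have key : ∀ f, CI B f → f * e = f → n * f ≠ 0 → f = e := fun f hf h1 h2 => by
    have h3 : e * f = e := hmin ⟨hf, h2⟩ (fun x (hx : x * f = x) => by
      show x * e = x
      rw [← hx, mul_assoc, h1]) he.idem
    exact h1.symm.trans ((he.cen f hf.mem).trans h3)
  refine ⟨e, he, h0, fun f hf h1 => ?_⟩
  by_cases h2 : n * f = 0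
  · left
    have h3 : e * f = f := by rw [← he.cen f hf.mem, h1]
    have h4 := key (e - f) ⟨sub_mem he.mem hf.mem, fun b hb => by rw [mul_sub, sub_mul, he.cen b hb, hf.cen b hb], by
      rw [mul_sub, sub_mul, sub_mul, he.idem, h1, h3, hf.idem, sub_self, sub_zero], by
      rw [star_sub, he.symm, hf.symm]⟩ (by rw [sub_mul, he.idem, h1]) (by rwa [mul_sub, h2, sub_zero])
    exact sub_eq_self.1 h4
  · exact Or.inr (key f hf h1 h2)

/-- the block of a symmetric central idempotent -/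
def blk {B : Subring A} (hs : ∀ x ∈ B, star x ∈ B) {e : A} (h : CI B e) : Blk A where
  car :=
    { carrier := {x | x ∈ B ∧ x * e = x}
      add_mem' := by
        rintro a b ⟨ha, ha'⟩ ⟨hb, hb'⟩
        exact ⟨add_mem ha hb, by rw [add_mul, ha', hb']⟩
      zero_mem' := ⟨zero_mem _, zero_mul e⟩
      mul_mem' := by
        rintro a b ⟨ha, -⟩ ⟨hb, hb'⟩
        exact ⟨mul_mem ha hb, by rw [mul_assoc, hb']⟩
      neg_mem' := by
        rintro a ⟨ha, ha'⟩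
        exact ⟨neg_mem ha, by rw [neg_mul, ha']⟩ }
  e := e
  e_mem := ⟨h.mem, h.idem⟩
  e_mul x hx := (h.cen x hx.1).symm.trans hx.2
  mul_e _ hx := hx.2
  star_mem := by
    rintro x ⟨h1, h2⟩
    exact ⟨hs x h1, by rw [← h.symm, ← star_mul, ← h.cen x h1, h2]⟩

section blk

variable {B : Subring A} {hs : ∀ x ∈ B, star x ∈ B} {e : A} {h : CI B e}

theorem blk_left {b x : A} (hb : b ∈ B) (hx : x ∈ (blk hs h).car) : b * x ∈ (blk hs h).car :=
  ⟨mul_mem hb hx.1, by rw [mul_assoc, hx.2]⟩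

theorem blk_right {b x : A} (hx : x ∈ (blk hs h).car) (hb : b ∈ B) : x * b ∈ (blk hs h).car :=
  ⟨mul_mem hx.1 hb, by rw [mul_assoc, h.cen b hb, ← mul_assoc, hx.2]⟩

theorem ss_blk [IsSemisimpleRing B] (h0 : e ≠ 0) (hp : ∀ f, CI B f → f * e = f → f = 0 ∨ f = e) :
    SS (blk hs h).T := by
  refine Blk.ss_of _ h0 fun I h1 h2 h3 => ?_
  have h4 : ∀ x ∈ I, ∀ b ∈ B, b * x ∈ I := fun x hx b hb => by
    have h5 := h2 x hx _ (blk_left hb (blk hs h).e_mem)
    rwa [mul_assoc, (blk hs h).e_mul x (h1 x hx)] at h5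
  let J : Ideal B :=
    { carrier := {x | (x : A) ∈ I}
      add_mem' := fun ha hb => I.add_mem ha hb
      zero_mem' := I.zero_mem
      smul_mem' := fun c x hx => h4 _ hx _ c.2 }
  obtain ⟨f, hf, hc, hff, h5⟩ := cen_idem_of_semisimple (I := J) fun x hx a => by
    have h5 := h3 _ (h4 _ (h3 _ hx) _ (hs _ a.2))
    rw [star_mul, star_star, star_star] at h5
    exact h5
  have h6 : ∀ x ∈ I, x * f = x := fun x hx => congrArg Subtype.val (h5 ⟨x, (h1 x hx).1⟩ hx)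
  have h7 : star (f : A) = f := by
    have h7 := h6 _ (h3 _ hf)
    have h8 := congrArg star h7
    rw [star_mul, star_star] at h8
    rw [← h7, h8]
  rcases hp f ⟨f.2, fun b hb => congrArg Subtype.val (Subring.mem_center_iff.1 hc ⟨b, hb⟩), congrArg Subtype.val hff,
    h7⟩ (h1 _ hf).2 with h8 | h8
  · left
    rw [eq_bot_iff]
    intro x hx
    rw [← h6 x hx, h8, mul_zero]
    exact zero_mem _
  · right
    show e ∈ I
    rw [← h8]
    exact hf

end blk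

section gen

variable {X : Subgroup Aˣ} (hX : ∀ t ∈ X, (t : A) * star (t : A) = 1) {e : A} {h : CI (Bd X) e}
  (hD : SS (blk (fun _ => star_mem_Bd hX) h).T) {t : Aˣ} (ht : t ∈ X) (h0 : ((t : A) - 1) * e ≠ 0)
include hD ht h0

/-- a class of elements stable under multiplication contains the support -/
theorem blk_ind (I : AddSubgroup A) (hl : ∀ x ∈ I, x ∈ Bd X → x * e = x → ∀ b ∈ Bd X, b * x ∈ I)
    (hr : ∀ x ∈ I, x ∈ Bd X → x * e = x → ∀ b ∈ Bd X, x * b ∈ I) (h1 : ∀ t ∈ X, ((t : A) - 1) * e ∈ I) : e ∈ I := by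
  let I' : AddSubgroup A :=
    { carrier := {z | z ∈ (blk (fun _ => star_mem_Bd hX) h).car ∧ z ∈ I ∧ star z ∈ I}
      add_mem' := by
        rintro a b ⟨ha, ha1, ha2⟩ ⟨hb, hb1, hb2⟩
        exact ⟨add_mem ha hb, add_mem ha1 hb1, by rw [star_add]; exact add_mem ha2 hb2⟩
      zero_mem' := ⟨zero_mem _, zero_mem _, by rw [star_zero]; exact zero_mem _⟩
      neg_mem' := by
        rintro a ⟨ha, ha1, ha2⟩
        exact ⟨neg_mem ha, neg_mem ha1, by rw [star_neg]; exact neg_mem ha2⟩ }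
  rcases Blk.ss_elim _ hD I' (fun z hz => hz.1) (fun z hz a ha => ⟨mul_mem ha hz.1, hl z hz.2.1 hz.1.1 hz.1.2 a ha.1, by
      have h2 := Blk.star_mem _ z hz.1
      rw [star_mul]
      exact hr _ hz.2.2 h2.1 h2.2 _ (star_mem_Bd hX ha.1)⟩)
    (fun z hz => ⟨Blk.star_mem _ z hz.1, hz.2.2, by rw [star_star]; exact hz.2.1⟩) with h3 | h3
  · refine absurd (AddSubgroup.mem_bot.1 (h3 ▸ (?_ : ((t : A) - 1) * e ∈ I'))) h0
    refine ⟨blk_left (sub_mem (mem_Bd ht) (one_mem _)) (Blk.e_mem _), h1 t ht, ?_⟩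
    rw [star_mul, h.symm, star_sub, star_one, ← star_eq_inv (hX t ht),
      ← h.cen _ (sub_mem (mem_Bd (inv_mem ht)) (one_mem _))]
    exact h1 _ (inv_mem ht)
  · exact h3.2.1

theorem e_mem_ImI : e ∈ ImI X :=
  blk_ind hX hD ht h0 (ImI X).toAddSubgroup (fun _ hx _ _ b _ => Ideal.mul_mem_left _ b hx)
    (fun _ hx _ _ _ hb => ImI_mul_Bd hx hb) fun _ ht => ImI_mul_Bd (sub_one_mem_ImI ht) h.mem

/-- the block has an element of trace one -/
theorem exists_l [Finite A] (hA : SS A) : ∃ l, (l ∈ Bd X ∧ l * e = l) ∧ l + star l = e := by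
  have hs : ∀ b ∈ Bd X, star b ∈ Bd X := fun _ => star_mem_Bd hX
  rcases Cl.SS.natCast_cases hA 2 with h2 | ⟨u, hu⟩
  · have h3 : ∀ x : A, -x = x := fun x => by
      rw [neg_eq_iff_add_eq_zero, ← two_mul, ← Nat.cast_ofNat, h2, zero_mul]
    let I : AddSubgroup A :=
      { carrier := {a | a ∈ (blk hs h).car ∧ ∃ x ∈ (blk hs h).car, a * star a = x + star x}
        add_mem' := by
          rintro a b ⟨ha, x, hx, ha'⟩ ⟨hb, y, hy, hb'⟩
          refine ⟨add_mem ha hb, x + y + a * star b, add_mem (add_mem hx hy) (mul_mem ha (Blk.star_mem _ _ hb)), ?_⟩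
          rw [star_add, add_mul, mul_add, mul_add, ha', hb', star_add, star_add, star_mul, star_star]
          abel
        zero_mem' := ⟨zero_mem _, 0, zero_mem _, by simp⟩
        neg_mem' := fun {a} ha => by rwa [h3] }
    have hl : ∀ a ∈ I, ∀ b ∈ Bd X, b * a ∈ I := by
      rintro a ⟨ha, x, hx, ha'⟩ b hb
      refine ⟨blk_left hb ha, b * x * star b, blk_right (blk_left hb hx) (hs b hb), ?_⟩
      rw [star_mul, mul_assoc, ← mul_assoc a, ha', star_mul, star_mul, star_star]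
      noncomm_ring
    let R : Subring A :=
      { carrier := {b | ∀ a ∈ I, a * b ∈ I}
        mul_mem' := fun {x y} hx hy a ha => by rw [← mul_assoc]; exact hy _ (hx a ha)
        one_mem' := fun a ha => by rwa [mul_one]
        add_mem' := fun {x y} hx hy a ha => by rw [mul_add]; exact add_mem (hx a ha) (hy a ha)
        zero_mem' := fun a _ => by rw [mul_zero]; exact zero_mem _
        neg_mem' := fun {x} hx a ha => by rw [mul_neg]; exact neg_mem (hx a ha) }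
    have hr : Bd X ≤ R := Bd_le (fun c hc a ha => by rw [cen_comm hc]; exact hl a ha c (cen_mem_Bd _ hc)) (by
      rintro s hs' a ⟨ha, x, hx, ha'⟩
      exact ⟨blk_right ha (mem_Bd hs'), x, hx, by rw [star_mul, mul_assoc, ← mul_assoc (s : A), hX s hs', one_mul, ha']⟩)
    obtain ⟨-, x, hx, h4⟩ := blk_ind hX hD ht h0 I (fun a ha _ _ => hl a ha) (fun a ha _ _ b hb => hr hb a ha)
      fun s hs' => ⟨blk_left (sub_mem (mem_Bd hs') (one_mem _)) (Blk.e_mem _), ((s : A) - 1) * e,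
        blk_left (sub_mem (mem_Bd hs') (one_mem _)) (Blk.e_mem _), by
          have h4 : ((s : A) - 1) * star ((s : A) - 1) = (s - 1) + star ((s : A) - 1) := by
            rw [← h3 (_ + _), star_sub, star_one, sub_mul, mul_sub, mul_sub, hX s hs']
            noncomm_ring
          have h5 := h.cen _ (hs _ (sub_mem (mem_Bd hs') (one_mem _)))
          rw [star_mul, h.symm, mul_assoc, ← mul_assoc e, h.idem, ← h5, ← mul_assoc, h4, add_mul]⟩
    exact ⟨x, hx, by rw [← h4, h.symm, h.idem]⟩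
  · have hc : (u : A) ∈ Subring.center A := hu ▸ Subring.mem_center_iff.2 fun a => (Nat.cast_comm 2 a).symm
    have hus : star (u : A) = u := by rw [hu, star_natCast]
    have hus' : star ((u⁻¹ : Aˣ) : A) = (u⁻¹ : Aˣ) := by
      have h3 : star ((u⁻¹ : Aˣ) : A) * u = 1 := by rw [← hus, ← star_mul, Units.mul_inv, star_one]
      rw [← mul_one (star _), ← u.mul_inv, ← mul_assoc, h3, one_mul]
    refine ⟨(u⁻¹ : Aˣ) * e, ⟨mul_mem (cen_mem_Bd _ (inv_cen hc)) h.mem, by rw [mul_assoc, h.idem]⟩, ?_⟩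
    rw [star_mul, h.symm, hus', cen_comm (inv_cen hc), ← two_mul, ← Nat.cast_ofNat, ← hu, ← mul_assoc, Units.mul_inv,
      one_mul]

end gen

/-- **Bk** -/
theorem boxBk (hPc : BoxPc) : BoxBk := by
  intro A _ _ _ F Hh Y 𝒯 𝒯₁ h h1 hout hss hiso T hT
  have hX := sSup_ms h h1
  have hs : ∀ b ∈ Bd (sSup 𝒯₁), star b ∈ Bd (sSup 𝒯₁) := fun _ => star_mem_Bd hX
  obtain ⟨⟨t, ht⟩, h0⟩ := Subgroup.ne_bot_iff_exists_ne_one.1 (h.mem T (h1 hT)).qs.ne_bot
  obtain ⟨e, he, h2, hp⟩ := exists_prim (Bd (sSup 𝒯₁)) (n := (t : A) - 1) fun h2 =>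
    h0 (Subtype.ext (Units.ext (sub_eq_zero.1 h2)))
  have hD : SS (blk hs he).T := ss_blk (fun h3 => h2 (by rw [h3, mul_zero])) hp
  have htX : t ∈ sSup 𝒯₁ := le_sSup hT ht
  have heI := e_mem_ImI hX hD htX h2
  obtain ⟨l, hl, hl'⟩ := exists_l hX hD htX h2 h.ss
  obtain ⟨h3, h4, D', h5, h6, h7⟩ := hPc A F Hh Y 𝒯 h (blk hs he)
    ⟨(blk hs he).mk' l hl, Lmax _, (blk hs he).val_inj hl', Or.inr rfl⟩ hD
    (fun c hc => blk_left (cen_mem_Bd _ hc) (Blk.e_mem _))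
    (fun u hu v hv => by
      have h3 := (blk hs he).val_mem u
      have h4 : (blk hs he).val u * star ((blk hs he).val u) = e := congrArg (blk hs he).val hu.1
      have h5 := (blk hs he).e_mul _ ((blk hs he).star_mem _ h3)
      change (v : A) = _ + (1 - e) at hv
      change e * _ = _ at h5
      generalize (blk hs he).val u = x at h3 h4 h5 hv
      refine hiso v (hv ▸ add_mem h3.1 (sub_mem (one_mem _) he.mem)) ?_ ?_
      · have h6 := Ideal.mul_mem_left _ (x - 1) heI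
        rwa [sub_mul, h3.2, one_mul, show x - e = x + (1 - e) - 1 by abel, ← hv] at h6
      · rw [hv, star_add, star_sub, star_one, he.symm, add_mul, mul_add, mul_add, h4, mul_sub, mul_one, h3.2, sub_mul,
          one_mul, h5, sub_mul, one_mul, mul_sub, mul_one, he.idem]
        abel)
    (fun y hy x hx => y_comm_Bd h h1 hy hx.1)
    (fun S hS s hs' => by
      change (s : A) * e = e * s ∧ ∃ u ∈ _, _ = (s : A) * e
      have h3 := (h.mem S hS).le hs'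
      by_cases h4 : S ∈ 𝒯₁
      · have h5 : (s : A) ∈ Bd (sSup 𝒯₁) := mem_Bd (le_sSup h4 hs')
        have h6 : (blk hs he).mk' _ (blk_left h5 (Blk.e_mem _)) * star ((blk hs he).mk' _ (blk_left h5 (Blk.e_mem _))) =
            1 := (blk hs he).val_inj (by
          change (s : A) * e * star ((s : A) * e) = e
          rw [star_mul, he.symm, mul_assoc, ← mul_assoc e, he.idem, ← he.cen _ (hs _ h5), ← mul_assoc, h3.1, one_mul])
        exact ⟨he.cen _ h5, mkU _ h6, Fwd.mem_Iso_max rfl h6, rfl⟩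
      · have h5 := congrArg star (hout S hS h4 _ (inv_mem hs') e heI)
        rw [star_mul, he.symm, FR.Iso.inv_eq h3, star_star] at h5
        exact ⟨h5.trans (hout S hS h4 s hs' e heI).symm, 1, one_mem _, h5.symm⟩)
    T (h1 hT) ⟨t, ht, fun h3 => h2 (by rw [sub_mul, one_mul]; exact sub_eq_zero.2 h3)⟩
  rw [← h6] at h3 h7
  exact ⟨⟨D', h5, h4, Or.inr (h7.resolve_right fun h8 => h8.1 rfl)⟩, D', h5, h3⟩

end Cfsg.Agent.Cam.Cl.JB
end

-- part: Cam/Cl/TopDat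
section
/-!
# S3689, classical groups: the standard form rings with their groups (helper12)

* `Dat F φ` : `φ` embeds a group onto `Dr F`, `A` is star-simple and `F.Span`; `Dat.equiv` : `F.S ≃* K / Z(K)`;
* `datL`, `datU`, `datSp`, `datO` : the four families, with the description of `F.Iso`;
* `up_of_pow` : `UP F` from a power map into `Dr F`.
-/

set_option autoImplicit false

namespace Cfsg.Agent.Cam.Cl.Tp

open Cfsg Cfsg.Agent.DS.Cl Cfsg.Agent.DS.Cl.Fwd Cfsg.Agent.Cam.Cl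
open scoped Matrix commutatorElement

section general

variable {A : Type} [Ring A] [StarRing A]

/-- `φ` embeds `K` onto the commutator group of the isometry group -/
structure Dat (F : FR A) {K : Type} [Group K] (φ : K →* Aˣ) : Prop where
  ss : SS A
  span : F.Span
  inj : Function.Injective φ
  range : φ.range = Dr F

/-- an element centralizing `Dr F` is central -/
theorem comm_of_span {F : FR A} (hspan : F.Span) {z : A} (hz : ∀ u ∈ Dr F, z * u = u * z) (x : A) :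
    z * x = x * z := by
  have hx : x ∈ Subring.closure ((Subring.center A : Set A) ∪
      ((fun u : Aˣ => (u : A)) '' (⁅F.Iso, F.Iso⁆ : Subgroup Aˣ))) := by
    rw [hspan]; trivial
  have h2 : Subring.closure ((Subring.center A : Set A) ∪
      ((fun u : Aˣ => (u : A)) '' (⁅F.Iso, F.Iso⁆ : Subgroup Aˣ))) ≤ Subring.centralizer {z} := by
    rw [Subring.closure_le]
    rintro y (hy | ⟨u, hu, rfl⟩)
    · intro w hw
      rw [Set.mem_singleton_iff.1 hw]
      exact (Subring.mem_center_iff.1 hy) _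
    · intro w hw
      rw [Set.mem_singleton_iff.1 hw]
      exact hz u hu
  exact h2 hx _ rfl

theorem Dat.equiv {F : FR A} {K : Type} [Group K] {φ : K →* Aˣ} (h : Dat F φ) :
    Nonempty (F.S ≃* K ⧸ Subgroup.center K) := by
  have hr : φ.range = ⁅F.Iso, F.Iso⁆ := h.range
  have hmem : ∀ k : K, DS.Cl.cj A (φ k) ∈ F.S := fun k => ⟨φ k, by rw [← hr]; exact ⟨k, rfl⟩, rfl⟩
  let f : K →* F.S := ((DS.Cl.cj A).comp φ).codRestrict F.S hmem
  have hf : Function.Surjective f := by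
    rintro ⟨_, u, hu, rfl⟩
    rw [← hr] at hu
    obtain ⟨k, rfl⟩ := hu
    exact ⟨k, rfl⟩
  have hker : Subgroup.center K = f.ker := by
    ext k
    rw [MonoidHom.mem_ker, Subgroup.mem_center_iff]
    constructor
    · intro hk
      apply Subtype.ext
      change DS.Cl.cj A (φ k) = 1
      have h1 : ∀ x : A, (φ k : A) * x = x * φ k := comm_of_span h.span fun u hu => by
        rw [← h.range] at hu
        obtain ⟨g, rfl⟩ := hu
        rw [← Units.val_mul, ← Units.val_mul, ← map_mul, ← map_mul, hk g]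
      ext x
      rw [cj_apply, h1, mul_assoc, Units.mul_inv, mul_one]
      rfl
    · intro hk g
      have h1 : DS.Cl.cj A (φ k) = 1 := congrArg Subtype.val hk
      have h2 : (φ k : A) * φ g * ((φ k)⁻¹ : Aˣ) = φ g := by
        rw [← cj_apply, h1]
        rfl
      apply h.inj
      apply Units.ext
      rw [map_mul, map_mul, Units.val_mul, Units.val_mul]
      calc (φ g : A) * φ k = (φ k : A) * φ g * ((φ k)⁻¹ : Aˣ) * φ k := by rw [h2]
        _ = φ k * φ g := by rw [mul_assoc, Units.inv_mul, mul_one]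
  exact ⟨((QuotientGroup.quotientMulEquivOfEq hker).trans (QuotientGroup.quotientKerEquivOfSurjective f hf)).symm⟩

omit [StarRing A] in
/-- unipotent units are `p`-elements -/
theorem pow_eq_one_of_uni [Nontrivial A] {p : ℕ} (hp : p.Prime) (hA : (p : A) = 0) {u : Aˣ} (hu : Uni u) :
    ∃ k : ℕ, u ^ p ^ k = 1 := by
  have : Fact p.Prime := ⟨hp⟩
  have : CharP A p := (CharP.charP_iff_prime_eq_zero hp).2 hA
  obtain ⟨n, hn⟩ := hu
  refine ⟨n, Units.ext ?_⟩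
  have h1 : ((u : A) - 1) ^ p ^ n = 0 := pow_eq_zero_of_le (Nat.lt_pow_self hp.one_lt).le hn
  rw [sub_pow_char_pow_of_commute p n (Commute.one_right _), one_pow, sub_eq_zero] at h1
  rw [Units.val_pow_eq_pow_val, h1, Units.val_one]

theorem up_of_pow [Nontrivial A] {F : FR A} (hL : F.L = Lmax A) {p : ℕ} (hp : p.Prime) (hA : (p : A) = 0) {m : ℕ}
    (hm : m.Coprime p) (h : ∀ u ∈ F.Iso, u ^ m ∈ Dr F) : UP F := by
  refine ⟨hL, fun u hu huni => ?_⟩
  obtain ⟨k, hk⟩ := pow_eq_one_of_uni hp hA huni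
  have h1 : u ∈ Subgroup.zpowers (u ^ m) :=
    mem_zpowers_pow_iff.2 (Nat.Coprime.coprime_dvd_right (orderOf_dvd_of_pow_eq_one hk) (hm.pow_right k))
  exact (Subgroup.zpowers_le.2 (h u hu)) h1

theorem Lmin_eq_Lmax (h2 : IsUnit (2 : A)) : Lmin A = Lmax A := by
  refine le_antisymm Lmin_le_Lmax fun x hx => ?_
  have hx' : star x = -x := hx
  obtain ⟨u, hu⟩ := h2
  have h1 : ∀ y : A, y * (u⁻¹ : Aˣ) = (u⁻¹ : Aˣ) * y := fun y => by
    rw [Units.mul_inv_eq_iff_eq_mul, mul_assoc, hu, mul_two, ← two_mul, ← hu, Units.inv_mul_cancel_left]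
  have h3 : star ((u⁻¹ : Aˣ) : A) = (u⁻¹ : Aˣ) := by
    refine Units.eq_inv_of_mul_eq_one_right ?_
    have h4 : star (u : A) = u := by rw [hu, star_ofNat]
    rw [← h4, ← star_mul, Units.mul_inv, star_one]
  refine ⟨(u⁻¹ : Aˣ) * x, ?_⟩
  rw [star_mul, hx', h3, h1, ← mul_sub, sub_neg_eq_add, ← two_mul, ← hu, Units.inv_mul_cancel_left]

end general

theorem card_coprime (F : Type) [Field F] [Fintype F] (p : ℕ) [CharP F p] : (Fintype.card F - 1).Coprime p := by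
  obtain ⟨n, hp, hn⟩ := FiniteField.card F p
  rw [Nat.coprime_comm, Nat.Prime.coprime_iff_not_dvd hp]
  intro h
  have h1 : p ∣ Fintype.card F := hn ▸ dvd_pow_self p n.ne_zero
  have h2 := (Nat.dvd_sub_iff_right Fintype.card_pos h1).1 h
  exact hp.one_lt.ne' (Nat.dvd_one.1 h2)

theorem eb_natCast {K V : Type} [Field K] [AddCommGroup V] [Module K V] (h : HF K V) (n : ℕ) :
    (n : h.EB) = h.eb ((n : K) • 1) := h.ap_ext fun v => by
  change (n : Module.End K V) v = (n : K) • v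
  rw [Module.End.natCast_apply, Nat.cast_smul_eq_nsmul]

theorem eb_char {K V : Type} [Field K] [AddCommGroup V] [Module K V] (h : HF K V) {n : ℕ} (hn : (n : K) = 0) :
    (n : h.EB) = 0 := by
  rw [eb_natCast, hn, zero_smul]
  rfl

/-! ### linear groups -/

section L

/-- the form structure of the linear groups -/
def frL (ι F : Type) [Fintype ι] [DecidableEq ι] [Field F] : FR (LR ι F) := ⟨LR.mk 1 0, Lmax _, LR.half, Or.inr rfl⟩

/-- the special linear group -/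
def phL (ι F : Type) [Fintype ι] [DecidableEq ι] [Field F] : Matrix.SpecialLinearGroup ι F →* (LR ι F)ˣ :=
  LR.gl.comp Matrix.SpecialLinearGroup.toGL

theorem isoL (ι F : Type) [Fintype ι] [DecidableEq ι] [Field F] :
    (LR.gl (ι := ι) (F := F)).range = (frL ι F).Iso := by
  ext u
  rw [LR.mem_gl]
  exact ⟨fun hu => mem_Iso_max rfl hu, fun hu => hu.1⟩

open Cfsg.Agent.ClassicalGeometry.AutPSL.Auto (itr) in
theorem phL_val {F : Type} [Field F] {n : ℕ} (k : Matrix.SpecialLinearGroup (Fin n) F) :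
    (phL (Fin n) F k : LR (Fin n) F) = LR.mk k.1 (itr k).1 := by
  change (LR.gl (Matrix.SpecialLinearGroup.toGL k) : LR (Fin n) F) = _
  rw [LR.gl_val, ← map_inv]
  rfl

theorem phL_transvection {F : Type} [Field F] {n : ℕ} {i j : Fin n} (hij : i ≠ j) (c : F) :
    (phL (Fin n) F (Matrix.SpecialLinearGroup.transvection hij c) : LR (Fin n) F) - 1 =
      LR.mk (Matrix.single i j c) (Matrix.single j i (-c)) := by
  rw [phL_val, Cfsg.Agent.ClassicalGeometry.AutPSL.Auto.itr_transvection, LR.one_eq, LR.mk_sub]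
  change LR.mk (1 + Matrix.single i j c - 1) (1 + Matrix.single j i (-c) - 1) = _
  rw [add_sub_cancel_left, add_sub_cancel_left]

theorem mem_phL {ι F : Type} [Fintype ι] [DecidableEq ι] [Field F] {A : GL ι F} (hA : (A : Matrix ι ι F).det = 1) :
    LR.gl A ∈ (phL ι F).range := ⟨⟨A, hA⟩, congrArg LR.gl (Units.ext rfl)⟩

theorem datL {F : Type} [Field F] {n : ℕ} (hn : 2 ≤ n) (hn2 : n = 2 → ∃ a : F, a ≠ 0 ∧ a ≠ 1) :
    Dat (frL (Fin n) F) (phL (Fin n) F) := by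
  have hnt : Nontrivial (Fin n) := Fin.nontrivial_iff_two_le.2 hn
  have hc : (phL (Fin n) F).range = Dr (frL (Fin n) F) := by
    rw [Dr, ← isoL, comm_range, Cfsg.Agent.S0264.result n hn2, phL, MonoidHom.range_comp]
    congr 1
    ext A
    constructor
    · rintro ⟨k, rfl⟩
      exact Units.ext k.2
    · intro hA
      exact ⟨⟨A, congrArg Units.val (MonoidHom.mem_ker.1 hA)⟩, Units.ext rfl⟩
  refine ⟨LR.ss, ?_, fun A B H => Subtype.ext (congrArg (fun u : (LR (Fin n) F)ˣ => u.1.1) H), hc⟩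
  rw [FR.Span, eq_top_iff]
  intro x _
  obtain ⟨a, b, rfl⟩ := LR.exists_mk x
  set S := Subring.closure ((Subring.center (LR (Fin n) F) : Set (LR (Fin n) F)) ∪
    ((fun u : (LR (Fin n) F)ˣ => (u : LR (Fin n) F)) ''
      (⁅(frL (Fin n) F).Iso, (frL (Fin n) F).Iso⁆ : Subgroup (LR (Fin n) F)ˣ))) with hS
  have h1 : (LR.mk 1 0 : LR (Fin n) F) ∈ S := Subring.subset_closure (Or.inl (Subring.mem_center_iff.2 fun g => by
    obtain ⟨c, d, rfl⟩ := LR.exists_mk g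
    rw [LR.mk_mul, LR.mk_mul, mul_one, one_mul, mul_zero, zero_mul]))
  have h2 : (LR.mk 0 1 : LR (Fin n) F) ∈ S := Subring.subset_closure (Or.inl (Subring.mem_center_iff.2 fun g => by
    obtain ⟨c, d, rfl⟩ := LR.exists_mk g
    rw [LR.mk_mul, LR.mk_mul, mul_one, one_mul, mul_zero, zero_mul]))
  have h3 : ∀ i j, i ≠ j → ∀ c : F, LR.mk (Matrix.single i j c) (Matrix.single j i (-c)) ∈ S := fun i j hij c => by
    have h4 : (phL (Fin n) F (Matrix.SpecialLinearGroup.transvection hij c) : LR (Fin n) F) ∈ S :=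
      Subring.subset_closure (Or.inr ⟨_, by
        change _ ∈ Dr (frL (Fin n) F)
        rw [← hc]
        exact ⟨_, rfl⟩, rfl⟩)
    have h5 := S.sub_mem h4 S.one_mem
    rwa [phL_transvection] at h5
  have h4 : LR.mk a 0 ∈ S := by
    refine mat_ind (fun a => LR.mk a 0 ∈ S) S.zero_mem (fun a b ha hb => ?_) (fun a b ha hb => ?_)
      (fun i j hij c => ?_) a
    · have h5 := S.add_mem ha hb
      rwa [LR.mk_add, add_zero] at h5
    · have h5 := S.mul_mem ha hb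
      rwa [LR.mk_mul, mul_zero] at h5
    · have h5 := S.mul_mem h1 (h3 i j hij c)
      rwa [LR.mk_mul, one_mul, zero_mul] at h5
  have h5 : LR.mk 0 b ∈ S := by
    refine mat_ind (fun a => LR.mk 0 a ∈ S) S.zero_mem (fun a b ha hb => ?_) (fun a b ha hb => ?_)
      (fun i j hij c => ?_) b
    · have h5 := S.add_mem ha hb
      rwa [LR.mk_add, add_zero] at h5
    · have h5 := S.mul_mem ha hb
      rwa [LR.mk_mul, mul_zero] at h5
    · have h5 := S.mul_mem h2 (h3 j i hij.symm (-c))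
      rwa [LR.mk_mul, one_mul, zero_mul, neg_neg] at h5
  have h6 := S.add_mem h4 h5
  rwa [LR.mk_add, add_zero, zero_add] at h6

theorem charL (ι F : Type) [Fintype ι] [DecidableEq ι] [Field F] {p : ℕ} (hp : (p : F) = 0) : (p : LR ι F) = 0 := by
  have h1 : (p : Matrix ι ι F) = 0 := by rw [← map_natCast (algebraMap F (Matrix ι ι F)), hp, map_zero]
  exact Prod.ext h1 h1

theorem powL {ι F : Type} [Fintype ι] [DecidableEq ι] [Field F] [Fintype F] {u : (LR ι F)ˣ}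
    (hu : u ∈ (frL ι F).Iso) : u ^ (Fintype.card F - 1) ∈ (phL ι F).range := by
  rw [← isoL] at hu
  obtain ⟨A, rfl⟩ := hu
  rw [← map_pow]
  refine mem_phL ?_
  rw [Units.val_pow_eq_pow_val, Matrix.det_pow]
  exact FiniteField.pow_card_sub_one_eq_one _ A.det_ne_zero

end L

/-! ### symplectic groups -/

section Sp

open Cfsg.Agent.ClassicalGeometry.SympBasic Cfsg.Agent.ClassicalGeometry.SympAutSemi

theorem exists_lSp (m : ℕ) (F : Type) [Field F] [Fintype F] : ∃ l : (spH m F).EB, l + star l = 1 := by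
  let h := spH m F
  obtain ⟨β, hβ⟩ := exists_half (sympBilin m F) (fun v => sympForm_self v)
  obtain ⟨l, hl⟩ := h.exists_op (fun _ => rfl) β
  refine ⟨l, h.ap_ext fun v => h.ext_right fun u => ?_⟩
  rw [h.ap_add, h.add_right, h.b_star, hl, h.swap v (h.ap l u), hl, h.ap_one]
  change β u v + -1 * β v u = sympBilin m F u v
  rw [← hβ]
  ring

/-- the symplectic group -/
def phSp (m : ℕ) (F : Type) [Field F] : Matrix.symplecticGroup (Fin m) F →* (spH m F).EBˣ :=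
  ((matHom (spH m F)).comp (Matrix.symplecticGroup (Fin m) F).subtype).toHomUnits

theorem ap_phSp {m : ℕ} {F : Type} [Field F] (A : Matrix.symplecticGroup (Fin m) F) (v : Fin m ⊕ Fin m → F) :
    (spH m F).ap (phSp m F A) v = (A : Matrix _ _ F) *ᵥ v := rfl

theorem phSp_inj (m : ℕ) (F : Type) [Field F] : Function.Injective (phSp m F) :=
  fun _ _ H => Subtype.ext (matHom_inj (spH m F) (congrArg Units.val H))

theorem isoSp {m : ℕ} {F : Type} [Field F] [Fintype F] {R : FR (spH m F).EB} (hR : R.L = Lmax _) :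
    (phSp m F).range = R.Iso := by
  let h := spH m F
  ext u
  constructor
  · rintro ⟨A, rfl⟩
    exact mem_Iso_max hR ((h.unit_iff _).2 fun x y => sympForm_mulVec A.2 x y)
  · intro hu
    have h1 := (h.unit_iff u).1 hu.1
    refine ⟨⟨LinearMap.toMatrix' (h.ap u), mem_symplecticGroup_iff.2 fun x y => ?_⟩, Units.ext (matHom_surj h u)⟩
    rw [LinearMap.toMatrix'_mulVec, LinearMap.toMatrix'_mulVec]
    exact h1 x y

theorem phSp_transv {m : ℕ} {F : Type} [Field F] (x : Fin m ⊕ Fin m → F) :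
    (phSp m F (transv x 1) : (spH m F).EB) - 1 = (spH m F).eb ((spH m F).ro x x) := (spH m F).ap_ext fun v => by
  rw [HF.ap_sub, ap_phSp, HF.ap_one, HF.ap_eb, HF.ro_apply]
  change sympTransvection m x 1 *ᵥ v - v = _
  rw [sympTransvection_mulVec, one_mul, add_sub_cancel_left]
  rfl

theorem datSp {m : ℕ} {F : Type} [Field F] [Fintype F] (hm : 0 < m)
    (hperf : commutator (Matrix.symplecticGroup (Fin m) F) = ⊤) {R : FR (spH m F).EB} (hR : R.L = Lmax _) :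
    Dat R (phSp m F) := by
  have hnt : Nontrivial (Fin m ⊕ Fin m → F) := by
    have : Nonempty (Fin m ⊕ Fin m) := ⟨Sum.inl ⟨0, hm⟩⟩
    infer_instance
  let h := spH m F
  have hc : (phSp m F).range = ⁅R.Iso, R.Iso⁆ := by
    rw [← isoSp hR, comm_range, hperf, ← MonoidHom.range_eq_map]
  refine ⟨h.ss, ?_, phSp_inj m F, hc⟩
  refine h.span_top _ (fun c => Subring.subset_closure (Or.inl (h.smul_mem_center c))) {x | x ≠ 0}
    (exists_ne 0) (fun x hx => hx) (fun x _ => ?_) (fun x _ v hv => ⟨0, ?_, by rwa [zero_smul, add_zero]⟩)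
  · rw [← phSp_transv]
    refine Subring.sub_mem _ (Subring.subset_closure (Or.inr ⟨phSp m F (transv x 1), ?_, rfl⟩)) (Subring.one_mem _)
    rw [← hc]
    exact ⟨_, rfl⟩
  · rw [zero_smul, add_zero]
    rintro rfl
    exact hv (h.zero_left x)

end Sp

/-! ### unitary groups -/

section U

open Cfsg.Agent.LieClassical.HermBasic Cfsg.Agent.LieClassical.HermSiegel

variable {n q : ℕ} {F : Type} [Field F] [Fintype F] (hF : Fintype.card F = q ^ 2)

theorem exists_lU (n : ℕ) : ∃ l : (unH n hF).EB, l + star l = 1 := by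
  let h := unH n hF
  obtain ⟨c, hc1⟩ := exists_trace_eq hF (one_pow q)
  refine ⟨h.eb (c • 1), h.ap_ext fun v => h.ext_right fun u => ?_⟩
  rw [h.ap_add, h.add_right, h.b_star, h.ap_one, h.ap_eb, LinearMap.smul_apply, LinearMap.smul_apply,
    h.smul_right, h.smul_left]
  change c ^ q * h.b u v + c * h.b u v = h.b u v
  rw [← add_mul, add_comm, hc1, one_mul]

/-- the special unitary group -/
def phU (n : ℕ) : SU n F q →* (unH n hF).EBˣ :=
  ((matHom (unH n hF)).comp (⟨⟨mat, mat_one⟩, mat_mul⟩ : SU n F q →* Matrix (Fin n) (Fin n) F)).toHomUnits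

theorem ap_phU (A : SU n F q) (v : Fin n → F) : (unH n hF).ap (phU hF n A) v = act A v := rfl

theorem phU_inj (n : ℕ) : Function.Injective (phU hF n) :=
  fun _ _ H => mat_injective (matHom_inj (unH n hF) (congrArg Units.val H))

theorem mem_phU {u : (unH n hF).EBˣ} (hu : (u : (unH n hF).EB) * star (u : (unH n hF).EB) = 1)
    (hd : detU (unH n hF) u = 1) : u ∈ (phU hF n).range := by
  let h := unH n hF
  have h1 := (h.unit_iff _).1 hu
  refine ⟨mkSU (LinearMap.toMatrix' (h.ap u)) ?_ fun x y => ?_, Units.ext (matHom_surj h _)⟩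
  · rw [LinearMap.det_toMatrix', ← detU_val, hd, Units.val_one]
  · rw [LinearMap.toMatrix'_mulVec, LinearMap.toMatrix'_mulVec]
    exact h1 x y

theorem phU_le {R : FR (unH n hF).EB} (hR : R.L = Lmax _) : (phU hF n).range ≤ R.Iso := by
  rintro _ ⟨A, rfl⟩
  exact mem_Iso_max hR (((unH n hF).unit_iff _).2 fun x y => herm_act A x y)

theorem Dr_le_phU (R : FR (unH n hF).EB) : Dr R ≤ (phU hF n).range := by
  rw [Dr, Subgroup.commutator_le]
  intro a ha b hb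
  have hu : ⁅a, b⁆ ∈ R.Iso := by
    rw [commutatorElement_def]
    exact mul_mem (mul_mem (mul_mem ha hb) (inv_mem ha)) (inv_mem hb)
  refine mem_phU hF hu.1 ?_
  rw [map_commutatorElement, commutatorElement_eq_one_iff_mul_comm, mul_comm]

theorem phU_siegel {x : Fin n → F} {μ : F} (hs : IsSiegel q x 0 μ) :
    (phU hF n (siegel hF x 0 μ hs) : (unH n hF).EB) - 1 = (unH n hF).eb (μ • (unH n hF).ro x x) :=
  (unH n hF).ap_ext fun v => by
    rw [HF.ap_sub, ap_phU, HF.ap_one, HF.ap_eb, LinearMap.smul_apply, HF.ro_apply, act_siegel, smul_zero, add_zero,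
      herm_zero_right hF, sub_zero, add_sub_cancel_left, smul_smul]
    rfl

theorem datU (hn : 2 ≤ n) (hperf : commutator (SU n F q) = ⊤) {R : FR (unH n hF).EB} (hR : R.L = Lmax _) :
    Dat R (phU hF n) := by
  have hnt : Nontrivial (Fin n → F) := by
    have : Nonempty (Fin n) := ⟨⟨0, by omega⟩⟩
    infer_instance
  let h := unH n hF
  have hc : (phU hF n).range = ⁅R.Iso, R.Iso⁆ := by
    refine le_antisymm ?_ (Dr_le_phU hF R)
    have e : (phU hF n).range = ⁅(phU hF n).range, (phU hF n).range⁆ := by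
      rw [comm_range, hperf, ← MonoidHom.range_eq_map]
    rw [e]
    exact Subgroup.commutator_mono (phU_le hF hR) (phU_le hF hR)
  refine ⟨h.ss, ?_, phU_inj hF n, hc⟩
  obtain ⟨e, f, H⟩ := Cfsg.Agent.ClassicalGeometry.PSUAutBasic.exists_frame (F := F) (q := q) (n := n) hF hn
  have he : e ≠ 0 := by
    rintro rfl
    exact zero_ne_one ((herm_zero_left f).symm.trans H.ef)
  obtain ⟨μ, hμ0, hμ⟩ := exists_trace_zero_ne hF
  refine h.span_top _ (fun c => Subring.subset_closure (Or.inl (h.smul_mem_center c)))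
    {x | x ≠ 0 ∧ hermForm n F q x x = 0} ⟨e, he, H.ee⟩
    (fun x hx => hx.1) (fun x hx => ?_) (fun x hx v hv => ?_)
  · have hs : IsSiegel q x 0 μ := ⟨hx.2, herm_zero_left x, by rw [herm_zero_left, add_zero, hμ]⟩
    have e1 : h.eb (h.ro x x) = h.eb (μ⁻¹ • 1) * ((phU hF n (siegel hF x 0 μ hs) : h.EB) - 1) := by
      rw [phU_siegel, ← h.eb_smul, smul_smul, inv_mul_cancel₀ hμ0, one_smul]
    rw [e1]
    refine Subring.mul_mem _ (Subring.subset_closure (Or.inl (h.smul_mem_center _))) (Subring.sub_mem _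
      (Subring.subset_closure (Or.inr ⟨phU hF n (siegel hF x 0 μ hs), ?_, rfl⟩)) (Subring.one_mem _))
    rw [← hc]
    exact ⟨_, rfl⟩
  · have hv' : hermForm n F q v x ≠ 0 := hv
    have hxv : hermForm n F q x v ≠ 0 := h.ne_swap hv
    obtain ⟨t, ht⟩ := exists_trace_eq hF (c := -hermForm n F q v v) (by rw [neg_pow_q hF, herm_self_pow hF])
    have h1 : hermForm n F q (v + (t / hermForm n F q x v) • x) x = hermForm n F q v x := by
      rw [herm_add_left, herm_smul_left, hx.2, mul_zero, add_zero]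
    refine ⟨t / hermForm n F q x v, ⟨fun h0 => hv' ?_, ?_⟩, fun h0 => hv' (h1.symm.trans h0)⟩
    · rw [← h1, h0, herm_zero_left]
    · rw [herm_add_right hF, herm_smul_right, h1, herm_add_left, herm_smul_left, div_mul_cancel₀ _ hxv,
        herm_swap hF x v, ← mul_pow, div_mul_cancel₀ _ hxv, add_assoc, ht, add_neg_cancel]

theorem powU {R : FR (unH n hF).EB} {u : (unH n hF).EBˣ} (hu : u ∈ R.Iso) :
    u ^ (Fintype.card F - 1) ∈ (phU hF n).range := by
  refine mem_phU hF (pow_mem hu _).1 (Units.ext ?_)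
  rw [map_pow, Units.val_pow_eq_pow_val, Units.val_one]
  exact FiniteField.pow_card_sub_one_eq_one _ (Units.ne_zero _)

end U

/-! ### orthogonal groups -/

section O

open QuadraticMap Cfsg.Agent.LieClassical.OrthCore Cfsg.Agent.LieClassical.OrthTrans

variable {F V : Type} [Field F] [Finite F] [AddCommGroup V] [Module F V] [Finite V] {Q : QuadraticForm F V}
  (hQ : Nondeg Q)

theorem exists_lO : ∃ l : (orH Q hQ).EB, l + star l = 1 ∧ ∀ v, polar Q v ((orH Q hQ).ap l v) = Q v := by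
  have : Module.Finite F V := Module.Finite.of_finite
  let h := orH Q hQ
  obtain ⟨β, hβ⟩ := LinearMap.BilinMap.toQuadraticMap_surjective Q
  obtain ⟨l, hl⟩ := h.exists_op (fun _ => rfl) β
  refine ⟨l, h.ap_ext fun v => h.ext_right fun u => ?_, fun v => ?_⟩
  · rw [h.ap_add, h.add_right, h.b_star, hl, h.swap v (h.ap l u), hl, h.ap_one]
    change β u v + 1 * β v u = polar Q u v
    rw [one_mul, ← hβ, LinearMap.BilinMap.polar_toQuadraticMap]
  · have h1 : β v v = Q v := by rw [← hβ, LinearMap.BilinMap.toQuadraticMap_apply]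
    rw [← h1]
    exact hl v v

/-- linear automorphisms as units -/
def psO {K W : Type} [Field K] [AddCommGroup W] [Module K W] (h : HF K W) : (W ≃ₗ[K] W) →* h.EBˣ :=
  MonoidHom.toHomUnits
    { toFun := fun g => h.eb g
      map_one' := rfl
      map_mul' := fun _ _ => rfl }

theorem ap_psO {K W : Type} [Field K] [AddCommGroup W] [Module K W] (h : HF K W) (g : W ≃ₗ[K] W) (v : W) :
    h.ap (psO h g) v = g v := rfl

theorem psO_inj {K W : Type} [Field K] [AddCommGroup W] [Module K W] (h : HF K W) : Function.Injective (psO h) :=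
  fun g g' H => LinearEquiv.ext fun v => by rw [← ap_psO h, ← ap_psO h, H]

theorem psO_surj {K W : Type} [Field K] [AddCommGroup W] [Module K W] (h : HF K W) : Function.Surjective (psO h) :=
  fun u => ⟨LinearEquiv.ofLinearMap (h.ap u) (h.ap (u⁻¹ : h.EBˣ))
    (LinearMap.ext fun v => by rw [LinearMap.comp_apply, ← h.ap_mul, Units.mul_inv]; rfl)
    (LinearMap.ext fun v => by rw [LinearMap.comp_apply, ← h.ap_mul, Units.inv_mul]; rfl),
    Units.ext (h.ap_ext fun _ => rfl)⟩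

theorem isoO {R : FR (orH Q hQ).EB} (hR : R.L = Lmin _) (hl : ∀ v, polar Q v ((orH Q hQ).ap R.l v) = Q v) :
    (O Q).map (psO (orH Q hQ)) = R.Iso := by
  let h := orH Q hQ
  ext u
  constructor
  · rintro ⟨g, hg, rfl⟩
    have hg' : ∀ v, Q (g v) = Q v := hg
    have h1 : ∀ x y, h.b (h.ap (psO h g) x) (h.ap (psO h g) y) = h.b x y := fun x y => polar_map hg x y
    have h2 := (h.unit_iff _).2 h1
    refine ⟨h2, ?_⟩
    rw [hR]
    refine (mem_Lmin_iff Q hQ _).2 fun v => ?_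
    change h.b v (h.ap (psO h g * R.l * star (psO h g : h.EB) - R.l) v) = 0
    rw [h.ap_sub, h.sub_right, h.ap_mul, h.ap_mul, ← h.star_b]
    change polar Q _ _ - polar Q _ _ = 0
    rw [hl, hl, ← hg', ← ap_psO h, ← h.ap_mul, h2, h.ap_one, sub_self]
  · intro hu
    have h0 := hu.2
    rw [hR] at h0
    have h1 := (mem_Lmin_iff Q hQ _).1 h0
    obtain ⟨g, rfl⟩ := psO_surj h u
    refine ⟨g, fun v => ?_, rfl⟩
    have h2 : h.b (h.ap (psO h g) v) (h.ap (psO h g * R.l * star (psO h g : h.EB) - R.l) (h.ap (psO h g) v)) = 0 :=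
      h1 (h.ap (psO h g) v)
    have h3 : star (psO h g : h.EB) * psO h g = 1 := by
      have h4 : star (psO h g : h.EB) = ((psO h g)⁻¹ : h.EBˣ) := Units.eq_inv_of_mul_eq_one_left hu.1
      rw [h4, Units.inv_mul]
    rw [h.ap_sub, h.sub_right, h.ap_mul, h.ap_mul, ← h.star_b, ← h.ap_mul (star (psO h g : h.EB)), h3,
      h.ap_one] at h2
    change polar Q _ _ - polar Q _ _ = 0 at h2
    rw [hl, hl, sub_eq_zero] at h2
    exact h2.symm

omit [Finite F] [Finite V] in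
theorem psO_siegel {x s : V} (hx : Q x = 0) (hs : polar Q x s = 0) (hQs : Q s = 0) (v : V) :
    (orH Q hQ).ap ((psO (orH Q hQ) (siegel Q x s hx hs) : (orH Q hQ).EB) - 1) v =
      polar Q x v • s - polar Q s v • x := by
  rw [HF.ap_sub, ap_psO, HF.ap_one, siegel_apply, hQs, zero_mul, zero_smul]
  abel

theorem datO (hG : Good Q) {R : FR (orH Q hG.nondeg).EB} (hR : R.L = Lmin _)
    (hl : ∀ v, polar Q v ((orH Q hG.nondeg).ap R.l v) = Q v) :
    Dat R ((psO (orH Q hG.nondeg)).comp (E Q).subtype) := by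
  have : Module.Finite F V := Module.Finite.of_finite
  obtain ⟨x₀, hx₀, hQx₀⟩ := hG.sing
  have hnt : Nontrivial V := ⟨x₀, 0, hx₀⟩
  let h := orH Q hG.nondeg
  have hc : ((psO h).comp (E Q).subtype).range = ⁅R.Iso, R.Iso⁆ := by
    rw [← isoO hG.nondeg hR hl, ← Subgroup.map_commutator, hG.commutator_eq_E, MonoidHom.range_comp,
      Subgroup.range_subtype]
  refine ⟨h.ss, ?_, (psO_inj h).comp Subtype.val_injective, hc⟩
  refine h.span_top _ (fun c => Subring.subset_closure (Or.inl (h.smul_mem_center c))) {x | x ≠ 0 ∧ Q x = 0}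
    ⟨x₀, hx₀, hQx₀⟩ (fun x hx => hx.1) (fun x hx => ?_) (fun x hx v hv => ?_)
  · obtain ⟨y, hy⟩ := exists_hyp hG.nondeg hx.2 hx.1
    obtain ⟨z, w, hzw, h1, h2, -, -⟩ := hG.exists_hyp2 hy
    have hmem : ∀ (s : V) (hs : polar Q x s = 0), (psO h (siegel Q x s hx.2 hs) : h.EB) - 1 ∈
        Subring.closure ((Subring.center h.EB : Set h.EB) ∪
          ((fun u : h.EBˣ => (u : h.EB)) '' (⁅R.Iso, R.Iso⁆ : Subgroup h.EBˣ))) := fun s hs => by
      refine Subring.sub_mem _ (Subring.subset_closure (Or.inr ⟨psO h (siegel Q x s hx.2 hs), ?_, rfl⟩))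
        (Subring.one_mem _)
      rw [← hc]
      exact ⟨⟨_, siegel_mem_E hx.2 hs⟩, rfl⟩
    have hxx : polar Q x x = 0 := by rw [polar_self, hx.2, smul_zero]
    have e : h.eb (h.ro x x) =
        -(((psO h (siegel Q x z hx.2 h1) : h.EB) - 1) * ((psO h (siegel Q x w hx.2 h2) : h.EB) - 1)) := by
      rw [eq_neg_iff_add_eq_zero]
      apply h.ap_ext
      intro v
      rw [h.ap_add, h.ap_mul, psO_siegel hG.nondeg hx.2 h1 hzw.left, psO_siegel hG.nondeg hx.2 h2 hzw.right, h.ap_eb,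
        h.ro_apply, polar_sub_right, polar_sub_right, polar_smul_right, polar_smul_right, polar_smul_right,
        polar_smul_right, h2, hxx, hzw.pair, polar_comm Q z x, h1]
      change polar Q v x • x + _ = (0 : V)
      rw [polar_comm Q v x]
      simp
    rw [e]
    exact Subring.neg_mem _ (Subring.mul_mem _ (hmem z h1) (hmem w h2))
  · have hv' : polar Q v x ≠ 0 := hv
    have hxx : polar Q x x = 0 := by rw [polar_self, hx.2, smul_zero]
    have h1 : polar Q (v + (-(Q v) / polar Q v x) • x) x = polar Q v x := by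
      rw [polar_add_left, polar_smul_left, hxx, smul_zero, add_zero]
    refine ⟨-(Q v) / polar Q v x, ⟨fun h0 => hv' ?_, ?_⟩, fun h0 => hv' (h1.symm.trans h0)⟩
    · rw [← h1, h0, polar_zero_left]
    · rw [QuadraticMap.map_add (⇑Q), QuadraticMap.map_smul, hx.2, smul_zero, add_zero, polar_smul_right,
        smul_eq_mul]
      field_simp
      ring

omit [Finite F] [Finite V] in
/-- squares of isometries -/
theorem sq_mem_E (hG : Good Q) {g : V ≃ₗ[F] V} (hg : g ∈ O Q) : g * g ∈ E Q := by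
  have : FiniteDimensional F V := Module.finite_of_finrank_pos (by have := hG.dim; omega)
  have hle : Subgroup.closure (reflSet Q ∪ siegelSet Q) ≤ O Q := (O_eq_closure hG.nondeg).ge
  rw [O_eq_closure hG.nondeg] at hg
  induction hg using Subgroup.closure_induction with
  | mem x hx =>
    rcases hx with ⟨v, hv, rfl⟩ | ⟨u, w, hu, hw, rfl⟩
    · rw [refl_mul_self]; exact one_mem _
    · exact mul_mem (siegel_mem_E hu hw) (siegel_mem_E hu hw)
  | one => rw [mul_one]; exact one_mem _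
  | mul x y hx hy ihx ihy =>
    have e : x * y * (x * y) = (x * y * x⁻¹ * y⁻¹) * (y * (x * x) * y⁻¹) * (y * y) := by group
    rw [e]
    refine mul_mem (mul_mem ?_ (conj_mem_E (hle hy) ihx)) ihy
    exact hG.commutator_le_E (Subgroup.commutator_mem_commutator (hle hx) (hle hy))
  | inv x hx ih =>
    have e : x⁻¹ * x⁻¹ = (x * x)⁻¹ := by group
    rw [e]
    exact inv_mem ih

end O

end Cfsg.Agent.Cam.Cl.Tp
end

-- part: Cam/Cl/Top
section
/-!
# S3689, classical groups: `BoxTop` (helper12)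
-/

set_option autoImplicit false

namespace Cfsg.Agent.Cam.Cl.Tp

open Cfsg Cfsg.Agent.DS.Cl Cfsg.Agent.DS.Cl.Fwd Cfsg.Agent.Cam.Cl

theorem top_of {T : Type} [Group T] {A : Type} [Ring A] [StarRing A] [Finite A] {R : FR A} {K : Type} [Group K]
    {φ : K →* Aˣ} (h : Dat R φ) (e : T ≃* K ⧸ Subgroup.center K) {p : ℕ} (hp : p.Prime) (hA : (p : A) = 0)
    (hT : IsPSLChar p T ∨ IsPSpChar p T ∨ IsPSUChar p T ∨ IsPOmegaOddChar p T ∨ IsPOmegaPlusChar p T ∨
      IsPOmegaMinusChar p T) (hU : UP R ∨ O2 R) : Top T := by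
  obtain ⟨f⟩ := h.equiv
  exact ⟨p, A, inferInstance, inferInstance, inferInstance, R, f.trans e.symm, hp, hA, hT, h.ss, hU⟩

theorem exists_ne_of_card {F : Type} [Field F] [Fintype F] (h : 3 ≤ Fintype.card F) : ∃ a : F, a ≠ 0 ∧ a ≠ 1 := by
  classical
  by_contra H
  push Not at H
  have h3 : (Finset.univ : Finset F) ⊆ {0, 1} := fun a _ => by
    by_cases ha : a = 0
    · simp only [ha, _root_.Finset.mem_insert, _root_.Finset.mem_singleton, _root_.zero_ne_one, _root_.or_false]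
    · simp only [H a ha, _root_.Finset.mem_insert, _root_.one_ne_zero, _root_.Finset.mem_singleton, _root_.or_true]
  have h4 := (Finset.card_le_card h3).trans Finset.card_le_two
  rw [Finset.card_univ] at h4
  omega

section orth

open QuadraticMap Cfsg.Agent.LieClassical.OrthCore Cfsg.Agent.LieClassical.OrthTrans
open Cfsg.Agent.LieClassical.OrthForms Cfsg.Agent.ClassicalGeometry.OrthSemiForms

theorem top_orth {T : Type} [Group T] {F ι : Type} [Field F] [Fintype F] [Fintype ι] [DecidableEq ι]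
    {Q : QuadraticForm F (ι → F)} (hG : Good Q) {f : (ι → F) → F} (hf : ⇑Q = f) (e : T ≃* POmega F f) {p : ℕ}
    [CharP F p] (hT : IsPSLChar p T ∨ IsPSpChar p T ∨ IsPSUChar p T ∨ IsPOmegaOddChar p T ∨ IsPOmegaPlusChar p T ∨
      IsPOmegaMinusChar p T) : Top T := by
  subst hf
  have hp : p.Prime := CharP.char_is_prime F p
  obtain ⟨l, hll, hl⟩ := exists_lO hG.nondeg
  let R : FR (orH Q hG.nondeg).EB := ⟨l, Lmin _, hll, Or.inl rfl⟩
  have hD : Dat R _ := datO hG rfl hl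
  have hA : (p : (orH Q hG.nondeg).EB) = 0 := eb_char _ (CharP.cast_eq_zero F p)
  refine top_of hD (e.trans (pomegaEquiv hG)) hp hA hT ?_
  by_cases h2 : (2 : F) = 0
  · exact Or.inr ⟨F, ι → F, inferInstance, inferInstance, inferInstance, inferInstance, inferInstance, Q,
      RingEquiv.refl _, hG, h2, rfl, fun a u v => ((orH Q hG.nondeg).b_star a u v).symm, hl⟩
  · left
    have := hD.ss.1
    have hu : IsUnit (2 : (orH Q hG.nondeg).EB) := by
      have h3 := eb_natCast (orH Q hG.nondeg) 2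
      rw [Nat.cast_ofNat, Nat.cast_ofNat] at h3
      rw [h3]
      exact (IsUnit.mk0 _ h2).map (algebraMap F (Module.End F (ι → F)))
    have hp2 : Nat.Coprime 2 p := by
      rw [Nat.coprime_primes Nat.prime_two hp]
      rintro rfl
      exact h2 (by exact_mod_cast CharP.cast_eq_zero F 2)
    refine up_of_pow (Lmin_eq_Lmax hu) hp hA hp2 fun u hu' => ?_
    rw [← isoO hG.nondeg rfl hl] at hu'
    obtain ⟨g, hg, rfl⟩ := hu'
    rw [← hD.range, pow_two, ← map_mul]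
    exact ⟨⟨_, sq_mem_E hG hg⟩, rfl⟩

/-- **[Top]** -/
theorem boxTop : BoxTop := by
  rintro T _ (⟨F, _, _, n, hn, hn2, ⟨e⟩⟩ | ⟨F, _, _, m, hm, hm2, ⟨e⟩⟩ | ⟨F, _, _, n, q, hF, hn, h32, ⟨e⟩⟩ |
    ⟨F, _, _, m, hm, hq, ⟨e⟩⟩ | ⟨F, _, _, m, hm, ⟨e⟩⟩ | ⟨F, _, _, m, a, b, hm, hab, ⟨e⟩⟩)
  all_goals
    obtain ⟨p, hchar⟩ := CharP.exists F
    have hp : p.Prime := CharP.char_is_prime F p
    have hp0 : (p : F) = 0 := CharP.cast_eq_zero F p
  · have hD := datL (F := F) hn fun h => exists_ne_of_card (by have := hn2 h; omega)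
    have := hD.ss.1
    refine top_of hD e hp (charL _ F hp0)
      (Or.inl ⟨F, inferInstance, inferInstance, hchar, n, hn, hn2, ⟨e⟩⟩)
      (Or.inl (up_of_pow rfl hp (charL _ F hp0) (card_coprime F p) fun u hu => ?_))
    rw [← hD.range]
    exact powL hu
  · obtain ⟨l, hl⟩ := exists_lSp m F
    let R : FR (spH m F).EB := ⟨l, Lmax _, hl, Or.inr rfl⟩
    have hperf : commutator (Matrix.symplecticGroup (Fin m) F) = ⊤ := by
      refine Cfsg.Agent.LieClassical.SympPerfect.commutator_eq_top ?_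
      rcases (by omega : m = 2 ∨ 3 ≤ m) with h | h
      · exact Or.inr (Or.inl ⟨h, hm2 h⟩)
      · exact Or.inl h
    have hD : Dat R _ := datSp (by omega) hperf rfl
    have := hD.ss.1
    refine top_of hD e hp (eb_char _ hp0)
      (Or.inr (Or.inl ⟨F, inferInstance, inferInstance, hchar, m, hm, hm2, ⟨e⟩⟩))
      (Or.inl ⟨rfl, fun u hu _ => ?_⟩)
    rw [← hD.range, isoSp (R := R) rfl]
    exact hu
  · obtain ⟨l, hl⟩ := exists_lU hF n
    let R : FR (unH n hF).EB := ⟨l, Lmax _, hl, Or.inr rfl⟩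
    have hD : Dat R _ := datU hF (by omega) (Cfsg.Agent.LieClassical.HermPerfect.commutator_SU_eq_top hF hn h32) rfl
    have := hD.ss.1
    refine top_of hD e hp (eb_char _ hp0)
      (Or.inr (Or.inr (Or.inl ⟨F, inferInstance, inferInstance, hchar, n, q, hF, hn, h32, ⟨e⟩⟩)))
      (Or.inl (up_of_pow rfl hp (eb_char _ hp0) (card_coprime F p) fun u hu => ?_))
    rw [← hD.range]
    exact powU hF hu
  · have h2 : (2 : F) ≠ 0 := by
      intro h2
      have h3 : ringChar F = 2 := (ringChar.eq F p).trans ((Nat.prime_dvd_prime_iff_eq hp Nat.prime_two).1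
        ((CharP.cast_eq_zero_iff F p 2).1 (by exact_mod_cast h2)))
      have h4 := FiniteField.even_card_of_char_two h3
      obtain ⟨k, hk⟩ := hq
      omega
    exact top_orth (good_odd (by omega) h2) (coe_oddForm _ _) e
      (Or.inr (Or.inr (Or.inr (Or.inl ⟨F, inferInstance, inferInstance, hchar, m, hm, hq, ⟨e⟩⟩))))
  · exact top_orth (good_plus (by omega)) (coe_plusForm _ _) e
      (Or.inr (Or.inr (Or.inr (Or.inr (Or.inl ⟨F, inferInstance, inferInstance, hchar, m, hm, ⟨e⟩⟩)))))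
  · exact top_orth (good_minus (by omega) a b hab) (coe_minusForm _ _ a b) e
      (Or.inr (Or.inr (Or.inr (Or.inr (Or.inr ⟨F, inferInstance, inferInstance, hchar, m, a, b, hm, hab, ⟨e⟩⟩)))))

end orth

end Cfsg.Agent.Cam.Cl.Tp
end

-- part: Cam/Cl/Asm
section
/-!
# Classical rows of S3689: assembly (helper65)
-/

set_option autoImplicit false

namespace Cfsg.Agent.Cam.Cl.Asm

open Cfsg Cfsg.Agent.DS.Cl

theorem boxST (hQS : BoxQS) (hO2 : BoxO2) : BoxST := by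
  intro A _ _ _ F Hh Y 𝒯 c hF T hT
  rcases hF with hF | hF
  · obtain ⟨h1, h2⟩ := JB.boxBk (Pc.boxPc hQS) A F Hh Y 𝒯 𝒯 c le_rfl (fun T h1 h2 => absurd h1 h2)
      (JB.boxJ1 A F Hh Y 𝒯 c hF) (fun u _ _ hu => Fwd.mem_Iso_max hF.1 hu) T hT
    exact ⟨Or.inl h1, Or.inr h2⟩
  · exact hO2 A F Hh Y 𝒯 c hF T hT

theorem row (hQS : BoxQS) (hO2 : BoxO2) (hCyc : BoxCyc) (big : Big) (red : Red) : Row (fun T _ => Top T) :=
  Gen.boxGen (boxST hQS hO2) Mov.boxMov hCyc big red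

/-- the six classical rows -/
theorem rows (hQS : BoxQS) (hO2 : BoxO2) (hCyc : BoxCyc) :
    BoxPSL ∧ BoxPSp ∧ BoxPSU ∧ BoxOOdd ∧ BoxOPlus ∧ BoxOMinus :=
  ⟨fun big red G _ _ S H g c h => row hQS hO2 hCyc big red G S H g c (Tp.boxTop S (Or.inl h)),
    fun big red G _ _ S H g c h => row hQS hO2 hCyc big red G S H g c (Tp.boxTop S (Or.inr (Or.inl h))),
    fun big red G _ _ S H g c h => row hQS hO2 hCyc big red G S H g c (Tp.boxTop S (Or.inr (Or.inr (Or.inl h)))),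
    fun big red G _ _ S H g c h =>
      row hQS hO2 hCyc big red G S H g c (Tp.boxTop S (Or.inr (Or.inr (Or.inr (Or.inl h))))),
    fun big red G _ _ S H g c h =>
      row hQS hO2 hCyc big red G S H g c (Tp.boxTop S (Or.inr (Or.inr (Or.inr (Or.inr (Or.inl h)))))),
    fun big red G _ _ S H g c h =>
      row hQS hO2 hCyc big red G S H g c (Tp.boxTop S (Or.inr (Or.inr (Or.inr (Or.inr (Or.inr h))))))⟩

end Cfsg.Agent.Cam.Cl.Asm
end

-- part: Cam/Cl/QSBase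
section
/-!
# S3689, classical groups, `BoxQS`: tools (helper12)

* quasisimple and solvable groups: `qs_top`, `qs_range`, `qs_simple`, `solv_of_le`, `SL₂`;
* `transport` : `QSC` along a ring isomorphism; `of_star` : along an isomorphism of rings with involution;
* the ring of a form: rank one unipotent elements (`tyR_ro`), dimension two (`tyI_EB`), `exists_iso`.
-/

set_option autoImplicit false

namespace Cfsg.Agent.Cam.Cl.Qs

open Cfsg Cfsg.Agent.DS.Cl Cfsg.Agent.DS.Cl.Fwd Cfsg.Agent.Cam.Cl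
open scoped Matrix MatrixGroups commutatorElement

section grp

variable {K G : Type} [Group K] [Group G]

theorem qs_top (hp : commutator K = ⊤) (hs : IsSimpleGroup (K ⧸ Subgroup.center K)) : QS (⊤ : Subgroup K) := by
  refine ⟨by rw [← commutator_def, hp], fun hc => ?_, fun N _ hn => ?_⟩
  · obtain ⟨x, hx⟩ := exists_ne (1 : K ⧸ Subgroup.center K)
    obtain ⟨x, rfl⟩ := QuotientGroup.mk_surjective x
    exact hx ((QuotientGroup.eq_one_iff x).2 (Subgroup.mem_center_iff.2 fun g => hc g trivial x trivial))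
  · have hN : N.Normal := ⟨fun n hn' g => hn g trivial n hn'⟩
    rcases (hN.map _ (QuotientGroup.mk'_surjective (Subgroup.center K))).eq_bot_or_eq_top with h | h
    · right
      intro n hn' t _
      have h1 : QuotientGroup.mk' (Subgroup.center K) n ∈ N.map (QuotientGroup.mk' (Subgroup.center K)) :=
        ⟨n, hn', rfl⟩
      rw [h, Subgroup.mem_bot] at h1
      exact (Subgroup.mem_center_iff.1 ((QuotientGroup.eq_one_iff n).1 h1) t).symm
    · left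
      have h1 : ∀ g : K, ∃ n ∈ N, ∃ z ∈ Subgroup.center K, g = n * z := fun g => by
        have h2 : QuotientGroup.mk' (Subgroup.center K) g ∈ N.map (QuotientGroup.mk' (Subgroup.center K)) := by
          rw [h]; trivial
        obtain ⟨n, hn', h3⟩ := h2
        exact ⟨n, hn', n⁻¹ * g, QuotientGroup.eq.1 h3, by group⟩
      rw [eq_top_iff, ← hp, commutator_def, Subgroup.commutator_le]
      intro a _ b _
      obtain ⟨n, hn', z, hz, rfl⟩ := h1 a
      have h2 : ⁅n * z, b⁆ = n * (b * n⁻¹ * b⁻¹) := by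
        rw [commutatorElement_def, mul_assoc n z, ← Subgroup.mem_center_iff.1 hz b]
        group
      rw [h2]
      exact mul_mem hn' (hN.conj_mem _ (inv_mem hn') b)

theorem qs_range (h : QS (⊤ : Subgroup K)) (f : K →* G) (hf : ∀ k, f k = 1 → k ∈ Subgroup.center K) :
    QS f.range := by
  rw [MonoidHom.range_eq_map]
  exact h.map f fun t _ ht s _ => (Subgroup.mem_center_iff.1 (hf t ht) s).symm

theorem qs_inj {T : Subgroup K} (h : QS T) (f : K →* G) (hf : Function.Injective f) : QS (T.map f) :=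
  h.map f fun t _ ht s _ => by rw [(injective_iff_map_eq_one f).1 hf t ht, one_mul, mul_one]

theorem qs_equiv (h : QS (⊤ : Subgroup K)) (e : K ≃* G) : QS (⊤ : Subgroup G) := by
  have h1 := qs_inj h e.toMonoidHom e.injective
  rwa [← MonoidHom.range_eq_map, MonoidHom.range_eq_top.2 e.surjective] at h1

theorem qs_simple (T : Subgroup G) (hs : IsSimpleGroup T) (hc : ¬ Cm T T) : QS T := by
  have h1 : ∀ N : Subgroup G, N ≤ T → Nm T N → N = T ∨ N = ⊥ := fun N hN hn => by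
    have h2 : (N.subgroupOf T).Normal := ⟨fun n hn' g => hn g g.2 n hn'⟩
    rcases h2.eq_bot_or_eq_top with h | h
    · right
      rw [Subgroup.subgroupOf_eq_bot] at h
      exact h.eq_bot_of_le hN
    · exact Or.inl (le_antisymm hN (Subgroup.subgroupOf_eq_top.1 h))
  refine ⟨?_, hc, fun N hN hn => (h1 N hN hn).imp_right ?_⟩
  · rcases h1 ⁅T, T⁆ (nm_self T).commutator_le ((nm_self T).commutator (nm_self T)) with h | h
    · exact h.ge
    · exact absurd (cm_iff_bot.2 h) hc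
  · rintro rfl s hs t _
    rw [Subgroup.mem_bot.1 hs, one_mul, mul_one]

theorem solv_of_le {T : Subgroup G} (hK : Group.IsSolvable K) (f : K →* G) (h : T ≤ f.range) : Group.IsSolvable T :=
  have : Group.IsSolvable f.range := Group.isSolvable_of_surjective f.rangeRestrict_surjective
  Group.isSolvable_of_isSolvable_injective (Subgroup.inclusion_injective h)

theorem solv_map {T : Subgroup K} (h : Group.IsSolvable T) (f : K →* G) : Group.IsSolvable (T.map f) :=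
  solv_of_le h (f.comp T.subtype) (by rw [MonoidHom.range_comp, Subgroup.range_subtype])

theorem cm_map {S T : Subgroup K} (h : Cm S T) (f : K →* G) : Cm (S.map f) (T.map f) := by
  rintro _ ⟨s, hs, rfl⟩ _ ⟨t, ht, rfl⟩
  rw [← map_mul, ← map_mul, h s hs t ht]

/-- the commutator group of a subgroup -/
theorem comm_equiv {S : Subgroup G} (e : K ≃* S) :
    (commutator K).map (S.subtype.comp e.toMonoidHom) = ⁅S, S⁆ := by
  rw [← comm_range, MonoidHom.range_comp, MonoidHom.range_eq_top.2 e.surjective, ← MonoidHom.range_eq_map,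
    Subgroup.range_subtype]

theorem solv_dihedral (n : ℕ) : Group.IsSolvable (commutator (DihedralGroup n)) := by
  let f : Multiplicative (ZMod n) →* DihedralGroup n :=
    { toFun := fun i => DihedralGroup.r i.toAdd
      map_one' := rfl
      map_mul' := fun i j => by rw [DihedralGroup.r_mul_r]; rfl }
  refine solv_of_le inferInstance f ?_
  rw [commutator_def, Subgroup.commutator_le]
  rintro (a | a) - (b | b) - <;>
    simp only [commutatorElement_def, DihedralGroup.r_mul_r, DihedralGroup.r_mul_sr, DihedralGroup.sr_mul_r,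
      DihedralGroup.sr_mul_sr, DihedralGroup.inv_r, DihedralGroup.inv_sr] <;> exact ⟨Multiplicative.ofAdd _, rfl⟩

end grp

section sl2

variable {K : Type} [Field K] [Fintype K]

theorem qs_sl2 (h : 4 ≤ Fintype.card K) : QS (⊤ : Subgroup SL(2, K)) := by
  obtain ⟨a, ha, ha'⟩ := Vec.exists_sq_ne h
  exact qs_top (Matrix.SL2.commutator_eq_top ha ha')
    (Matrix.ProjectiveSpecialLinearGroup.rank_two_simple' ⟨a, ha, ha'⟩)

theorem solv_sl2 (h : ¬ 4 ≤ Fintype.card K) : Group.IsSolvable SL(2, K) := by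
  have h0 := Cfsg.Agent.S0242.result (F := K) rfl 2 (by norm_num)
  rcases Vec.card_cases K with h | h | h
  · rw [h] at h0
    simp only [Fin.prod_univ_two] at h0
    exact Cfsg.Agent.S0144.result 2 3 1 1 Nat.prime_two Nat.prime_three
      (show Nat.card SL(2, K) = 6 by simpa only [_root_.Nat.add_one_sub_one, _root_.one_mul, _root_.Nat.reducePow, _root_.Fin.isValue, _root_.Fin.coe_ofNat_eq_mod, _root_.Nat.zero_mod, _root_.pow_zero, _root_.Nat.mod_succ, _root_.pow_one, _root_.Nat.reduceSub, _root_.Nat.reduceMul] using h0)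
  · rw [h] at h0
    simp only [Fin.prod_univ_two] at h0
    have h1 : Nat.card SL(2, K) = 24 := by
      simp only [_root_.Nat.add_one_sub_one, _root_.Nat.reducePow, _root_.Fin.isValue, _root_.Fin.coe_ofNat_eq_mod, _root_.Nat.zero_mod, _root_.pow_zero, _root_.Nat.mod_succ, _root_.pow_one, _root_.Nat.reduceSub, _root_.Nat.reduceMul] at h0
      omega
    exact Cfsg.Agent.S0144.result 2 3 3 1 Nat.prime_two Nat.prime_three h1
  · contradiction

theorem exists_ne_of_four (h : 3 ≤ Fintype.card K) : ∃ a : K, a ≠ 0 ∧ a ≠ 1 := by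
  classical
  by_contra hcon
  push Not at hcon
  have h1 : (Finset.univ : Finset K) ⊆ {0, 1} := by
    intro a _
    by_cases ha : a = 0
    · simp only [ha, _root_.Finset.mem_insert, _root_.Finset.mem_singleton, _root_.zero_ne_one, _root_.or_false]
    · simp only [hcon a ha, _root_.Finset.mem_insert, _root_.one_ne_zero, _root_.Finset.mem_singleton, _root_.or_true]
  have h2 := Finset.card_le_card h1
  have h3 : ({0, 1} : Finset K).card ≤ 2 := Finset.card_le_two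
  rw [Finset.card_univ] at h2
  omega

omit [Fintype K] in
/-- Cayley-Hamilton in dimension two -/
theorem add_inv_mat {a b : Matrix (Fin 2) (Fin 2) K} (hab : a * b = 1) (hd : a.det = 1) : a + b = a.trace • 1 := by
  have h1 : b = a.adjugate := by
    rw [← one_mul b, ← one_smul K (1 : Matrix (Fin 2) (Fin 2) K), ← hd, ← Matrix.adjugate_mul, mul_assoc, hab, mul_one]
  rw [h1, Matrix.adjugate_fin_two, Matrix.trace_fin_two]
  ext i j
  fin_cases i <;> fin_cases j <;> simp [add_comm]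

omit [Fintype K] in
/-- involutions of determinant one in dimension three -/
theorem trace_invol_mat {a : Matrix (Fin 3) (Fin 3) K} (ha : a * a = 1) (hd : a.det = 1) : a = 1 ∨ a.trace = -1 := by
  have h1 : a = a.adjugate := by
    conv_lhs => rw [← one_mul a, ← one_smul K (1 : Matrix (Fin 3) (Fin 3) K), ← hd, ← Matrix.adjugate_mul, mul_assoc,
      ha, mul_one]
  have h2 : a.adjugate = a * a - a.trace • a + a.adjugate.trace • 1 := by
    rw [Matrix.adjugate_fin_three, Matrix.trace_fin_three, Matrix.trace_fin_three]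
    ext i j
    (revert i j; simp only [Matrix.mul_apply, Fin.sum_univ_three, _root_.Fin.forall_fin_succ, Fin.isValue, _root_.Matrix.of_apply, _root_.Matrix.cons_val', _root_.Matrix.cons_val_fin_one, _root_.Matrix.cons_val_zero, _root_.Matrix.cons_val_one, _root_.Matrix.cons_val, _root_.Matrix.add_apply, _root_.Matrix.sub_apply, _root_.Matrix.smul_apply, _root_.smul_eq_mul, _root_.Matrix.cons_val_succ, _root_.Fin.succ_zero_eq_one, _root_.Fin.succ_one_eq_two, _root_.IsEmpty.forall_iff, _root_.and_true, _root_.Matrix.one_apply_eq, _root_.mul_one, Nat.reduceAdd, _root_.ne_eq, _root_.zero_ne_one, _root_.not_false_eq_true, _root_.Matrix.one_apply_ne, _root_.MulZeroClass.mul_zero, _root_.add_zero, Fin.reduceEq, _root_.Fin.succ_ne_zero]) <;> (repeat' with_reducible apply And.intro) <;> ring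
  rw [← h1, ha] at h2
  have h3 : (1 + a.trace) • (a - 1) = 0 := by
    rw [add_smul, one_smul, smul_sub]
    conv_lhs => enter [1, 1]; rw [h2]
    abel
  rcases smul_eq_zero.1 h3 with h | h
  · exact Or.inr (eq_neg_of_add_eq_zero_right h)
  · exact Or.inl (sub_eq_zero.1 h)

end sl2

section transport

variable {A B : Type} [Ring A] [Ring B] (e : A ≃+* B)

/-- the map of unit groups -/
def uE : Aˣ →* Bˣ := Units.map (e : A →* B)

theorem uE_val (u : Aˣ) : (uE e u : B) = e u := rfl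

theorem uE_inj : Function.Injective (uE e) := fun _ _ h => Units.ext (e.injective (congrArg Units.val h))

theorem cen_map {c : A} (hc : c ∈ Subring.center A) : e c ∈ Subring.center B := by
  rw [Subring.mem_center_iff] at hc ⊢
  intro b
  obtain ⟨a, rfl⟩ := e.surjective b
  rw [← map_mul, ← map_mul, hc]

theorem Bd_uE (T : Subgroup Aˣ) : Bd (T.map (uE e)) = (Bd T).map (e : A →+* B) := by
  refine le_antisymm (Bd_le (fun c hc => ⟨e.symm c, cen_mem_Bd _ (cen_map e.symm hc), e.apply_symm_apply c⟩) ?_) ?_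
  · rintro _ ⟨t, ht, rfl⟩
    exact ⟨t, mem_Bd ht, rfl⟩
  · rw [Subring.map_le_iff_le_comap]
    exact Bd_le (fun c hc => cen_mem_Bd _ (cen_map e hc)) fun t ht => mem_Bd (t := uE e t) ⟨t, ht, rfl⟩

theorem simple_Bd {T : Subgroup Aˣ} (h : IsSimpleRing (Bd T)) : IsSimpleRing (Bd (T.map (uE e))) := by
  rw [Bd_uE]
  exact IsSimpleRing.of_ringEquiv (e.subringMap (s := Bd T)) h

theorem uni_uE {v : Aˣ} (h : Uni v) : Uni (uE e v) := by
  have h1 := IsNilpotent.map h (e : A →+* B)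
  rwa [map_sub, map_one] at h1

theorem uE_ne {v : Aˣ} (h : v ≠ 1) : uE e v ≠ 1 := fun h1 => h ((injective_iff_map_eq_one _).1 (uE_inj e) v h1)

theorem hasUni_uE {T : Subgroup Aˣ} (h : HasUni T) : HasUni (T.map (uE e)) := by
  obtain ⟨v, hv, h1, h2⟩ := h
  exact ⟨_, ⟨v, hv, rfl⟩, uE_ne e h1, uni_uE e h2⟩

theorem tyI_uE {T : Subgroup Aˣ} (h : TyI T) : TyI (T.map (uE e)) := by
  rintro _ ⟨s, hs, rfl⟩ _ ⟨t, ht, rfl⟩
  rw [← map_inv, uE_val, uE_val, uE_val, ← map_add, ← map_mul, ← map_mul, h s hs t ht]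

theorem noCen_uE {T : Subgroup Aˣ} (h : NoCen T) : NoCen (T.map (uE e)) := by
  rintro _ ⟨t, ht, rfl⟩ h1
  rw [h t ht fun s hs => uE_inj e (by rw [map_mul, map_mul]; exact h1 _ ⟨s, hs, rfl⟩), map_one]

theorem ty_uE {T : Subgroup Aˣ} (h : Ty T 1) : Ty (T.map (uE e)) 1 := by
  have hs : ∀ v : Aˣ, (uE e v : B) - 1 = e ((v : A) - 1) := fun v => by rw [map_sub, map_one, uE_val]
  rcases h with ⟨v, hv, h1, h2, a, f, h3, h4, h5⟩ | ⟨v, hv, j, h1, h2, h3, h4⟩ | h | ⟨h1, h2, h3⟩ |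
    ⟨h1, h2, h3, t, ht, h4, h5, s, hs', s', h6, h7⟩
  · refine Or.inl ⟨_, ⟨v, hv, rfl⟩, uE_ne e h1, uni_uE e h2, e a, e f, ?_, ?_, ?_⟩
    · rw [hs, ← map_mul, h3, map_zero]
    · rw [hs, ← map_mul, h4, map_zero]
    · rw [← map_one e, ← map_mul, ← map_mul]
      exact (map_ne_zero_iff e e.injective).2 h5
  · refine Or.inr (Or.inl ⟨_, ⟨v, hv, rfl⟩, j, h1, ?_, ?_, ?_⟩)
    · rw [hs, ← map_pow, h2, map_zero]
    · rw [hs, ← map_pow]
      exact (map_ne_zero_iff e e.injective).2 h3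
    · rw [← map_natCast e]
      exact h4.map e
  · exact Or.inr (Or.inr (Or.inl (tyI_uE e h)))
  · refine Or.inr (Or.inr (Or.inr (Or.inl ⟨?_, noCen_uE e h2, ?_⟩)))
    · rw [← map_ofNat e]
      exact h1.map e
    · rintro _ ⟨a, ha, rfl⟩ _ ⟨b, hb, rfl⟩ g1 g2 g3 g4 g5 g6
      have h4 := congrArg e (h3 a ha b hb (uE_inj e (by rw [map_mul, g1, map_one]))
        (uE_inj e (by rw [map_mul, g2, map_one])) (uE_inj e (by rw [map_mul, map_mul, g3]))
        (fun h => g4 (by rw [h, map_one])) (fun h => g5 (by rw [h, map_one])) (fun h => g6 (by rw [h])))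
      rwa [map_mul, map_mul, map_add, map_add, map_one, map_zero] at h4
  · refine Or.inr (Or.inr (Or.inr (Or.inr ⟨?_, noCen_uE e h2, ?_, _, ⟨t, ht, rfl⟩, by rw [← map_pow, h4, map_one],
      uE_ne e h5, e s, ?_, e s', by rw [← map_mul, h6, map_one], by rw [uE_val, ← map_pow, ← map_mul, ← map_mul, h7]⟩)))
    · rw [← map_ofNat e, h1, map_zero]
    · rintro _ ⟨w, hw, rfl⟩ g1 g2
      have h8 := congrArg e (h3 w hw (uE_inj e (by rw [map_pow, g1, map_one])) fun h => g2 (by rw [h, map_one]))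
      simp only [map_mul, map_add, map_one, map_zero, map_pow] at h8
      exact h8
    · have h8 : Subring.closure (insert (1 : A) ((fun u : Aˣ => (u : A)) '' T)) ≤ (Subring.closure
          (insert (1 : B) ((fun u : Bˣ => (u : B)) '' (T.map (uE e))))).comap (e : A →+* B) := by
        rw [Subring.closure_le]
        rintro x (rfl | ⟨u, hu, rfl⟩)
        · exact Subring.one_mem _
        · exact Subring.subset_closure (Or.inr ⟨_, ⟨u, hu, rfl⟩, rfl⟩)
      exact h8 hs'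

variable [StarRing A] [StarRing B]

theorem transport {F : FR A} {F' : FR B} (hD : Dr F' = (Dr F).map (uE e)) (hL : F.L ≠ Lmax A → F'.L ≠ Lmax B)
    (h : QSC F) : QSC F' := by
  rcases h with h | ⟨h1, h2, h3, h4⟩ | ⟨h1, Y₁, Y₂, h2, h3, h4⟩
  · exact Or.inl (hD ▸ solv_map h _)
  · refine Or.inr (Or.inl ⟨hD ▸ qs_inj h1 _ (uE_inj e), ?_, hD ▸ hasUni_uE e h3, h4.imp (fun h5 => hD ▸ ty_uE e h5) hL⟩)
    have h5 : Bd (Dr F) = ⊤ := h2
    change Bd (Dr F') = ⊤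
    rw [hD, Bd_uE, h5, eq_top_iff]
    exact fun x _ => ⟨e.symm x, trivial, e.apply_symm_apply x⟩
  · refine Or.inr (Or.inr ⟨h1.imp hL fun h5 h6 => h5 (e.injective (by rw [map_ofNat, h6, map_zero])),
      Y₁.map (uE e), Y₂.map (uE e), by rw [← Subgroup.map_sup, h2, hD], cm_map h3 _, ?_⟩)
    have h5 : ∀ Z ∈ ({Y₁, Y₂} : Set (Subgroup Aˣ)), QS (Z.map (uE e)) ∧ HasUni (Z.map (uE e)) ∧ TyI (Z.map (uE e)) ∧
        IsSimpleRing (Bd (Z.map (uE e))) := fun Z hZ =>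
      ⟨qs_inj (h4 Z hZ).1 _ (uE_inj e), hasUni_uE e (h4 Z hZ).2.1, tyI_uE e (h4 Z hZ).2.2.1, simple_Bd e (h4 Z hZ).2.2.2⟩
    rintro Z (rfl | rfl)
    · exact h5 _ (Or.inl rfl)
    · exact h5 _ (Or.inr rfl)

variable {e}

theorem mem_Lmax_iff (he : ∀ a, e (star a) = star (e a)) (x : A) : e x ∈ Lmax B ↔ x ∈ Lmax A := by
  change star (e x) = -e x ↔ star x = -x
  rw [← he, ← map_neg, e.injective.eq_iff]

theorem mem_Lmin_iff' (he : ∀ a, e (star a) = star (e a)) (x : A) : e x ∈ Lmin B ↔ x ∈ Lmin A := by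
  constructor
  · rintro ⟨b, hb⟩
    obtain ⟨a, rfl⟩ := e.surjective b
    exact ⟨a, e.injective (by rw [hb, map_sub, he])⟩
  · rintro ⟨a, rfl⟩
    exact ⟨e a, by rw [map_sub, he]⟩

/-- `QSC` along an isomorphism of rings with involution -/
theorem of_star (he : ∀ a, e (star a) = star (e a)) (F : FR A)
    (h : ∀ R : FR B, R.l = e F.l → (F.L = Lmin A → R.L = Lmin B) → (F.L = Lmax A → R.L = Lmax B) → QSC R) : QSC F := by
  classical
  let R : FR B := ⟨e F.l, if F.L = Lmax A then Lmax B else Lmin B, by rw [← he, ← map_add, F.l_add, map_one], by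
    split_ifs
    · exact Or.inr rfl
    · exact Or.inl rfl⟩
  have h1 : ∀ x, e x ∈ R.L ↔ x ∈ F.L := fun x => by
    change e x ∈ (if F.L = Lmax A then Lmax B else Lmin B) ↔ _
    split_ifs with h2
    · rw [h2, mem_Lmax_iff he]
    · rw [F.par.resolve_right h2, mem_Lmin_iff' he]
  have h2 : F.Iso = R.Iso.map (uE e.symm) := by
    have h3 : ∀ u : Aˣ, uE e u ∈ R.Iso ↔ u ∈ F.Iso := fun u => by
      change e u * star (e u) = 1 ∧ e u * e F.l * star (e u) - e F.l ∈ R.L ↔ _ ∧ _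
      rw [← he, ← map_mul, ← map_mul, ← map_mul, ← map_sub, h1, map_eq_one_iff e e.injective]
    ext u
    constructor
    · intro hu
      exact ⟨_, (h3 u).2 hu, Units.ext (e.symm_apply_apply _)⟩
    · rintro ⟨v, hv, rfl⟩
      rw [← h3]
      rwa [show uE e (uE e.symm v) = v from Units.ext (e.apply_symm_apply _)]
  refine transport e.symm (F := R) (by rw [Dr, Dr, Subgroup.map_commutator, h2]) (fun h3 h4 => h3 (if_pos h4))
    (h R rfl (fun h3 => ?_) fun h3 => if_pos h3)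
  ext y
  obtain ⟨x, rfl⟩ := e.surjective y
  rw [h1, h3, mem_Lmin_iff' he]

theorem iso_max {R R' : FR A} (h : R.L = Lmax A) (h' : R'.L = Lmax A) : R.Iso = R'.Iso := by
  ext u
  exact ⟨fun hu => mem_Iso_max h' hu.1, fun hu => mem_Iso_max h hu.1⟩

theorem solv_of_comm (R : FR A) (h : ∀ u ∈ R.Iso, ∀ v ∈ R.Iso, u * v = v * u) : QSC R := by
  have h1 : Dr R = ⊥ := cm_iff_bot.1 h
  exact Or.inl (h1 ▸ inferInstance)

theorem Dr_le (R : FR A) : Dr R ≤ R.Iso := (nm_self _).commutator_le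

end transport

section form

variable {K V : Type} [Field K] [AddCommGroup V] [Module K V] (h : HF K V)

theorem exists_perp (h3 : 3 ≤ Module.finrank K V) (x y : V) : ∃ w, w ≠ 0 ∧ h.b w x = 0 ∧ h.b w y = 0 := by
  have : Module.Finite K V := Module.finite_of_finrank_pos (by omega)
  have h1 : LinearMap.ker ((h.lin x).prod (h.lin y)) ≠ ⊥ :=
    LinearMap.ker_ne_bot_of_finrank_lt (by rw [Module.finrank_prod, Module.finrank_self]; omega)
  obtain ⟨w, hw, hw0⟩ := Submodule.exists_mem_ne_zero_of_ne_bot h1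
  have h2 : (h.b w x, h.b w y) = 0 := hw
  exact ⟨w, hw0, congrArg Prod.fst h2, congrArg Prod.snd h2⟩

theorem exists_pair (h3 : 3 ≤ Module.finrank K V) {x : V} (hx : x ≠ 0) :
    ∃ w w', h.b w x = 0 ∧ h.b w' x = 0 ∧ h.b w' w ≠ 0 := by
  obtain ⟨y, hy⟩ := h.exists_ne hx
  obtain ⟨w, hw0, h1, h2⟩ := exists_perp h h3 x y
  obtain ⟨v, hv⟩ := h.exists_ne hw0
  have h4 : h.b y w = 0 := by rw [h.swap w y, h2, map_zero, mul_zero]
  refine ⟨w, v - (h.b v x / h.b y x) • y, h1, ?_, ?_⟩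
  · rw [h.sub_left, h.smul_left, div_mul_cancel₀ _ hy, sub_self]
  · rwa [h.sub_left, h.smul_left, h4, mul_zero, sub_zero]

theorem ro_ne {x y : V} (hx : x ≠ 0) (hy : y ≠ 0) {c : K} (hc : c ≠ 0) : h.eb (c • h.ro x y) ≠ 0 := fun h0 => by
  obtain ⟨z, hz⟩ := h.exists_ne hy
  have h1 : c • (h.b z y • x) = 0 := congrArg (fun a => h.ap a z) h0
  rw [smul_smul, smul_eq_zero] at h1
  exact h1.elim (mul_ne_zero hc hz) hx

theorem uni_ro {v : h.EBˣ} {x : V} {c : K} (hx : x ≠ 0) (hxx : h.b x x = 0) (hc : c ≠ 0)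
    (hv : (v : h.EB) - 1 = h.eb (c • h.ro x x)) : v ≠ 1 ∧ Uni v := by
  refine ⟨fun h1 => ro_ne h hx hx hc (by rw [← hv, h1, Units.val_one, sub_self]), 2, ?_⟩
  rw [hv, pow_two]
  refine h.ap_ext fun y => ?_
  change c • (h.b (c • (h.b y x • x)) x • x) = 0
  rw [h.smul_left, h.smul_left, hxx, mul_zero, mul_zero, zero_smul, smul_zero]

/-- a unipotent element with a pair of fixed vectors orthogonal to its commutator space -/
theorem tyR_of {T : Subgroup h.EBˣ} {v : h.EBˣ} (hT : v ∈ T) (h1 : v ≠ 1) (h2 : Uni v) {w w' : V}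
    (hw : ∀ y, h.b (h.ap ((v : h.EB) - 1) y) w = 0) (hw' : h.ap ((v : h.EB) - 1) w' = 0) (hww : h.b w' w ≠ 0) :
    TyR T 1 := by
  have h3 : w ≠ 0 := by
    rintro rfl
    exact hww (h.zero_right _)
  have h4 : w' ≠ 0 := by
    rintro rfl
    exact hww (h.zero_left _)
  refine ⟨v, hT, h1, h2, h.eb (h.ro w w), h.eb (h.ro w' w'), h.ap_ext fun y => ?_, h.ap_ext fun y => ?_, ?_⟩
  · rw [h.ap_mul, h.ap_eb, h.ro_apply, hw, zero_smul]
    rfl
  · rw [h.ap_mul, h.ap_eb, h.ro_apply, map_smul, hw', smul_zero]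
    rfl
  · rw [mul_one]
    exact fun h0 => ro_ne h h3 h4 hww ((congrArg h.eb (h.ro_mul w w w' w')).symm.trans h0)

theorem tyR_ro (h3 : 3 ≤ Module.finrank K V) {T : Subgroup h.EBˣ} {v : h.EBˣ} (hT : v ∈ T) {x : V} {c : K} (hx : x ≠ 0)
    (hxx : h.b x x = 0) (hc : c ≠ 0) (hv : (v : h.EB) - 1 = h.eb (c • h.ro x x)) : TyR T 1 := by
  obtain ⟨w, w', h1, h2, h4⟩ := exists_pair h h3 hx
  obtain ⟨h5, h6⟩ := uni_ro h hx hxx hc hv
  refine tyR_of h hT h5 h6 (fun y => ?_) ?_ h4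
  · rw [hv]
    change h.b (c • (h.b y x • x)) w = 0
    rw [h.smul_left, h.smul_left, h.swap w x, h1, map_zero, mul_zero, mul_zero, mul_zero]
  · rw [hv]
    change c • (h.b w' x • x) = 0
    rw [h2, zero_smul, smul_zero]

theorem add_inv_two (h2 : Module.finrank K V = 2) {a b : Module.End K V} (hab : a * b = 1)
    (hd : LinearMap.det a = 1) : ∃ c : K, a + b = c • 1 := by
  have : Module.Finite K V := Module.finite_of_finrank_pos (by omega)
  let B := Module.finBasisOfFinrankEq K V h2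
  have h1 := add_inv_mat (a := LinearMap.toMatrix B B a) (b := LinearMap.toMatrix B B b)
    (by rw [← LinearMap.toMatrix_mul, hab, LinearMap.toMatrix_one]) (by rw [LinearMap.det_toMatrix, hd])
  refine ⟨(LinearMap.toMatrix B B a).trace, (LinearMap.toMatrix B B).injective ?_⟩
  rw [map_add, h1, map_smul, LinearMap.toMatrix_one]

theorem trace_invol (h3 : Module.finrank K V = 3) {a : Module.End K V} (ha : a * a = 1) (hd : LinearMap.det a = 1) :
    a = 1 ∨ LinearMap.trace K V a = -1 := by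
  have : Module.Finite K V := Module.finite_of_finrank_pos (by omega)
  let B := Module.finBasisOfFinrankEq K V h3
  rcases trace_invol_mat (a := LinearMap.toMatrix B B a)
    (by rw [← LinearMap.toMatrix_mul, ha, LinearMap.toMatrix_one]) (by rw [LinearMap.det_toMatrix, hd]) with h | h
  · exact Or.inl ((LinearMap.toMatrix B B).injective (by rw [h, LinearMap.toMatrix_one]))
  · exact Or.inr (by rw [LinearMap.trace_eq_matrix_trace K B, h])

theorem cen_EB [Nontrivial V] {z : h.EB} (hz : z ∈ Subring.center h.EB) : ∃ c : K, z = h.eb (c • 1) :=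
  H277.FC.exists_smul_one (h.ap z) fun Y => (Subring.mem_center_iff.1 hz (h.eb Y)).symm

variable [Finite K] [Finite V]

theorem det_Dr (R : FR h.EB) {u : h.EBˣ} (hu : u ∈ Dr R) : LinearMap.det (h.ap u) = 1 := by
  have h1 : Dr R ≤ (detU h).ker := by
    rw [Dr, Subgroup.commutator_le]
    intro a _ b _
    rw [MonoidHom.mem_ker, map_commutatorElement, commutatorElement_eq_one_iff_mul_comm, mul_comm]
  rw [← detU_val, MonoidHom.mem_ker.1 (h1 hu), Units.val_one]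

theorem tyI_EB (h2 : Module.finrank K V = 2) (R : FR h.EB) : TyI (Dr R) := by
  intro s _ t ht
  obtain ⟨c, hc⟩ := add_inv_two h2 (a := h.ap t) (b := h.ap (t⁻¹ : h.EBˣ)) t.mul_inv (det_Dr h R ht)
  have h1 : (t : h.EB) + (t⁻¹ : h.EBˣ) = h.eb (c • 1) := hc
  rw [h1]
  exact Subring.mem_center_iff.1 (h.smul_mem_center c) s

/-- change of the model -/
theorem exists_iso {A W : Type} [Ring A] [StarRing A] [AddCommGroup W] [Module K W] (e : A ≃+* Module.End K W)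
    (b : W → W → K) (hadj : ∀ a v w, b (e a v) w = b v (e (star a) w)) (g : W ≃ₗ[K] V) {c : K}
    (hg : ∀ u v, h.b (g u) (g v) = c * b u v) :
    ∃ e' : A ≃+* h.EB, (∀ a, e' (star a) = star (e' a)) ∧ ∀ a v, h.ap (e' a) (g v) = g (e a v) := by
  let e' : A ≃+* h.EB := e.trans g.conjRingEquiv
  have h1 : ∀ a v, h.ap (e' a) (g v) = g (e a v) := fun a v => by
    change g (e a (g.symm (g v))) = _
    rw [g.symm_apply_apply]
  refine ⟨e', fun a => h.ap_ext fun v => h.ext_right fun u => ?_, h1⟩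
  obtain ⟨v, rfl⟩ := g.surjective v
  obtain ⟨u, rfl⟩ := g.surjective u
  rw [h.b_star, h1, h1, hg, hg, hadj]

end form

end Cfsg.Agent.Cam.Cl.Qs
end

-- part: Cam/Cl/QSLU
section
/-!
# S3689, classical groups, `BoxQS`: linear and unitary groups (helper12)
-/

set_option autoImplicit false

namespace Cfsg.Agent.Cam.Cl.Qs

open Cfsg Cfsg.Agent.DS.Cl Cfsg.Agent.DS.Cl.Fwd Cfsg.Agent.Cam.Cl Cfsg.Agent.Cam.Cl.Tp
open scoped Matrix MatrixGroups commutatorElement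

section general

variable {A : Type} [Ring A] [StarRing A]

theorem dat_congr {F F' : FR A} {K : Type} [Group K] {φ : K →* Aˣ} (h : Dat F φ) (hI : F'.Iso = F.Iso) : Dat F' φ :=
  ⟨h.ss, by rw [FR.Span, hI]; exact h.span, h.inj, by rw [Dr, hI]; exact h.range⟩

theorem qsc_of_dat {F : FR A} {K : Type} [Group K] {φ : K →* Aˣ} (h : Dat F φ) (hq : QS (⊤ : Subgroup K))
    (hu : HasUni (Dr F)) (ht : Ty (Dr F) 1 ∨ F.L ≠ Lmax A) : QSC F := by
  refine Or.inr (Or.inl ⟨?_, h.span, hu, ht⟩)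
  rw [← h.range, MonoidHom.range_eq_map]
  exact qs_inj hq φ h.inj

theorem top_of_qs {K : Type} [Group K] (h : QS (⊤ : Subgroup K)) : commutator K = ⊤ := top_le_iff.1 h.perf

theorem star_smul_EB {K V : Type} [Field K] [AddCommGroup V] [Module K V] (h : HF K V) [Finite K] [Finite V] (c : K) :
    star (h.eb (c • 1)) = h.eb (h.τ c • 1) := h.ap_ext fun v => h.ext_right fun u => by
  rw [h.b_star]
  change h.b (c • u) v = h.b u (h.τ c • v)
  rw [h.smul_left, h.smul_right, h.τ_τ]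

theorem L_max {K V : Type} [Field K] [AddCommGroup V] [Module K V] (h : HF K V) [Finite K] [Finite V] {c : K}
    (hc : c + h.τ c = 1) (R : FR h.EB) : R.L = Lmax h.EB := by
  refine R.L_eq (h.smul_mem_center c) ?_
  rw [star_smul_EB]
  refine h.ap_ext fun v => ?_
  change c • v + h.τ c • v = v
  rw [← add_smul, hc, one_smul]

end general

section L

variable {K : Type} [Field K] {n : ℕ}

theorem L_LR (R : FR (LR (Fin n) K)) : R.L = Lmax _ := R.L_eq (c := LR.mk 1 0) (Subring.mem_center_iff.2 fun g => by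
  obtain ⟨c, d, rfl⟩ := LR.exists_mk g
  rw [LR.mk_mul, LR.mk_mul, mul_one, one_mul, mul_zero, zero_mul]) LR.half

theorem Dr_le_phL (R : FR (LR (Fin n) K)) : Dr R ≤ (phL (Fin n) K).range := by
  rw [Dr, iso_max (R' := frL (Fin n) K) (L_LR R) rfl, ← isoL, comm_range]
  rintro _ ⟨g, hg, rfl⟩
  exact mem_phL (congrArg Units.val (MonoidHom.mem_ker.1
    (Abelianization.commutator_subset_ker (Matrix.GeneralLinearGroup.det : GL (Fin n) K →* Kˣ) hg)))

theorem uni_phL {i j : Fin n} (hij : i ≠ j) :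
    phL (Fin n) K (Matrix.SpecialLinearGroup.transvection hij 1) ≠ 1 ∧
      Uni (phL (Fin n) K (Matrix.SpecialLinearGroup.transvection hij 1)) := by
  refine ⟨fun h => ?_, 2, ?_⟩
  · have h1 := phL_transvection hij (1 : K)
    rw [h, Units.val_one, sub_self] at h1
    have h2 : (0 : Matrix (Fin n) (Fin n) K) = Matrix.single i j 1 := congrArg Prod.fst h1
    have h3 := congrFun (congrFun h2 i) j
    rw [Matrix.single_apply_same] at h3
    exact zero_ne_one h3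
  · rw [phL_transvection, pow_two, LR.mk_mul, Matrix.single_mul_single_of_ne _ _ _ _ hij.symm,
      Matrix.single_mul_single_of_ne _ _ _ _ hij, LR.zero_eq]

open Cfsg.Agent.ClassicalGeometry.AutPSL.Auto (itr) in
theorem tyI_phL : TyI (phL (Fin 2) K).range := by
  rintro s - _ ⟨t, rfl⟩
  have h1 := add_inv_mat (a := t.1) (b := (t⁻¹).1) (congrArg Subtype.val (mul_inv_cancel t)) t.2
  have h2 := add_inv_mat (a := (itr t).1) (b := (itr t⁻¹).1)
    (by rw [map_inv]; exact congrArg Subtype.val (mul_inv_cancel (itr t))) (itr t).2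
  obtain ⟨a, b, h3⟩ := LR.exists_mk (s : LR (Fin 2) K)
  rw [← map_inv, phL_val, phL_val, LR.mk_add, h1, h2, h3, LR.mk_mul, LR.mk_mul]
  simp only [Matrix.mul_smul, Matrix.smul_mul, mul_one, one_mul]

theorem qsc_LR [Fintype K] (R : FR (LR (Fin n) K)) : QSC R := by
  by_cases h1 : n ≤ 1
  · refine solv_of_comm R fun u _ v _ => Units.ext ?_
    exact Prod.ext (Vec.matrix_comm h1 _ _) (Vec.matrix_comm h1 _ _)
  have hI := iso_max (R' := frL (Fin n) K) (L_LR R) rfl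
  by_cases h3 : 3 ≤ n
  · have hD := dat_congr (datL (F := K) (n := n) (by omega) (by omega)) hI
    let i : Fin n := ⟨0, by omega⟩
    let j : Fin n := ⟨1, by omega⟩
    let k : Fin n := ⟨2, by omega⟩
    have hij : i ≠ j := by simp [i, j]
    have hki : k ≠ i := by simp [i, k]
    have hjk : j ≠ k := by simp [j, k]
    have hm : phL (Fin n) K (Matrix.SpecialLinearGroup.transvection hij 1) ∈ Dr R := hD.range ▸ ⟨_, rfl⟩
    obtain ⟨h4, h5⟩ := uni_phL (K := K) hij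
    refine qsc_of_dat hD (qs_top (Cfsg.Agent.S0248.result n h3) (Cfsg.Agent.S0249.result n h3)) ⟨_, hm, h4, h5⟩
      (Or.inl (Or.inl ⟨_, hm, h4, h5, LR.mk (Matrix.single k k 1) 0, LR.mk (Matrix.single k k 1) 0, ?_, ?_, ?_⟩))
    · rw [phL_transvection, LR.mk_mul, Matrix.single_mul_single_of_ne _ _ _ _ hki, zero_mul, LR.zero_eq]
    · rw [phL_transvection, LR.mk_mul, Matrix.single_mul_single_of_ne _ _ _ _ hjk, mul_zero, LR.zero_eq]
    · rw [mul_one, LR.mk_mul, Matrix.single_mul_single_same]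
      intro h6
      have h7 : Matrix.single k k ((1 : K) * 1) = 0 := congrArg Prod.fst h6
      have h8 := congrFun (congrFun h7 k) k
      rw [Matrix.single_apply_same, mul_one] at h8
      exact one_ne_zero h8
  obtain rfl : n = 2 := by omega
  by_cases h4 : 4 ≤ Fintype.card K
  · have hD := dat_congr (datL (F := K) (n := 2) le_rfl fun _ => exists_ne_of_four (by omega)) hI
    obtain ⟨h5, h6⟩ := uni_phL (K := K) (show (0 : Fin 2) ≠ 1 by decide)
    exact qsc_of_dat hD (qs_sl2 h4) ⟨_, hD.range ▸ ⟨_, rfl⟩, h5, h6⟩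
      (Or.inl (Or.inr (Or.inr (Or.inl (hD.range ▸ tyI_phL)))))
  · exact Or.inl (solv_of_le (solv_sl2 h4) _ (Dr_le_phL R))

theorem qsc_L {A : Type} [Ring A] [StarRing A] (F : FR A) (hM : ModL A) : QSC F := by
  obtain ⟨K, _, _, n, π, -, hπ⟩ := hM
  let M := (LinearMap.toMatrixAlgEquiv' (R := K) (n := Fin n)).toRingEquiv
  let f : A →+* LR (Fin n) K :=
    { toFun := fun a => LR.mk (M (π a)) (M (π (star a)))ᵀ
      map_one' := by rw [star_one, map_one, map_one, Matrix.transpose_one, LR.one_eq]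
      map_mul' := fun a b => by rw [star_mul, map_mul, map_mul, map_mul, map_mul, Matrix.transpose_mul, LR.mk_mul]
      map_zero' := by rw [star_zero, map_zero, map_zero, Matrix.transpose_zero, LR.zero_eq]
      map_add' := fun a b => by rw [star_add, map_add, map_add, map_add, map_add, Matrix.transpose_add, LR.mk_add] }
  have hf : Function.Bijective f := by
    constructor
    · intro a b hab
      exact hπ.1 (Prod.ext (M.injective (congrArg Prod.fst hab))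
        (M.injective (Matrix.transpose_injective (congrArg Prod.snd hab))))
    · intro x
      obtain ⟨c, d, rfl⟩ := LR.exists_mk x
      obtain ⟨a, ha⟩ := hπ.2 (M.symm c, M.symm dᵀ)
      have h1 : π a = M.symm c := congrArg Prod.fst ha
      have h2 : π (star a) = M.symm dᵀ := congrArg Prod.snd ha
      refine ⟨a, ?_⟩
      change LR.mk (M (π a)) (M (π (star a)))ᵀ = _
      rw [h1, h2, M.apply_symm_apply, M.apply_symm_apply, Matrix.transpose_transpose]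
  refine of_star (e := RingEquiv.ofBijective f hf) (fun a => ?_) F fun R _ _ _ => qsc_LR R
  change LR.mk (M (π (star a))) (M (π (star (star a))))ᵀ = star (LR.mk (M (π a)) (M (π (star a)))ᵀ)
  rw [LR.star_mk, star_star, Matrix.transpose_transpose]

end L

section U

open Cfsg.Agent.LieClassical.HermBasic Cfsg.Agent.LieClassical.HermSiegel

variable {n q : ℕ} {K : Type} [Field K] [Fintype K] (hK : Fintype.card K = q ^ 2)

theorem exists_transvU (hn : 2 ≤ n) : ∃ (k : SU n K q) (x : Fin n → K) (c : K), x ≠ 0 ∧ (unH n hK).b x x = 0 ∧ c ≠ 0 ∧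
    (phU hK n k : (unH n hK).EB) - 1 = (unH n hK).eb (c • (unH n hK).ro x x) := by
  obtain ⟨e, f, H⟩ := Cfsg.Agent.ClassicalGeometry.PSUAutBasic.exists_frame (F := K) (q := q) (n := n) hK hn
  have he : e ≠ 0 := by
    rintro rfl
    exact zero_ne_one ((herm_zero_left f).symm.trans H.ef)
  obtain ⟨μ, hμ0, hμ⟩ := exists_trace_zero_ne hK
  have hs : IsSiegel q e 0 μ := ⟨H.ee, herm_zero_left e, by rw [herm_zero_left, add_zero, hμ]⟩
  exact ⟨_, e, μ, he, H.ee, hμ0, phU_siegel hK hs⟩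

theorem qsc_unH (R : FR (unH n hK).EB) : QSC R := by
  obtain ⟨c, hc⟩ := exists_trace_eq hK (one_pow q)
  have hR := L_max (unH n hK) (c := c) hc R
  by_cases h1 : n ≤ 1
  · refine solv_of_comm R fun u _ v _ => Units.ext ?_
    rw [Units.val_mul, Units.val_mul, ← matHom_surj _ (u : (unH n hK).EB), ← matHom_surj _ (v : (unH n hK).EB),
      ← map_mul (matHom _), ← map_mul (matHom _), Vec.matrix_comm h1]
  obtain ⟨k, x, μ, hx, hxx, hμ, hk⟩ := exists_transvU hK (show 2 ≤ n by omega)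
  obtain ⟨h4, h5⟩ := uni_ro _ hx hxx hμ hk
  by_cases h3 : 3 ≤ n
  · by_cases h : n = 3 ∧ q = 2
    · obtain ⟨rfl, rfl⟩ := h
      let f : SU 3 K 2 →* GU 3 K 2 := ((Matrix.SpecialLinearGroup.toGL : SL(3, K) →* GL (Fin 3) K).comp
        (SU 3 K 2).subtype).codRestrict (GU 3 K 2) fun x => x.2
      have : Group.IsSolvable (GU 3 K 2) :=
        Cfsg.Agent.S0144.result 2 3 3 4 Nat.prime_two Nat.prime_three (Vec.card_gu32 hK)
      have hf : Function.Injective f := fun a b hab =>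
        Subtype.ext (Subtype.ext (congrArg (fun t : GU 3 K 2 => (t.1 : Matrix (Fin 3) (Fin 3) K)) hab))
      exact Or.inl (solv_of_le (Group.isSolvable_of_isSolvable_injective hf) _ (Dr_le_phU hK R))
    · have hp := LieClassical.HermPerfect.commutator_SU_eq_top hK h3 h
      have hD := datU hK (by omega) hp hR
      have hm : phU hK n k ∈ Dr R := hD.range ▸ ⟨_, rfl⟩
      exact qsc_of_dat hD (qs_top hp (Cfsg.Agent.S0283.result hK n h3 h)) ⟨_, hm, h4, h5⟩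
        (Or.inl (Or.inl (tyR_ro _ (by simpa only [_root_.Module.finrank_fintype_fun_eq_card, _root_.Fintype.card_fin] using h3) hm hx hxx hμ hk)))
  obtain rfl : n = 2 := by omega
  obtain ⟨p, j, hp, -, hq, hj⟩ := exists_prime_pow hK
  obtain ⟨L, _, _, hL⟩ := Vec.exists_field p j hp hj.ne'
  obtain ⟨e⟩ := Cfsg.Agent.S0281.result hK (hL.trans hq.symm)
  by_cases h6 : 4 ≤ Fintype.card L
  · have hq := qs_equiv (qs_sl2 h6) e.symm
    have hD := datU hK le_rfl (top_of_qs hq) hR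
    exact qsc_of_dat hD hq ⟨_, hD.range ▸ ⟨_, rfl⟩, h4, h5⟩
      (Or.inl (Or.inr (Or.inr (Or.inl (tyI_EB _ (by simp) R)))))
  · have := solv_sl2 h6
    exact Or.inl (solv_of_le (Group.isSolvable_of_isSolvable_injective (f := e.toMonoidHom) e.injective) _
      (Dr_le_phU hK R))

theorem qsc_U {A : Type} [Ring A] [StarRing A] (F : FR A) (hM : ModU A) : QSC F := by
  obtain ⟨K, _, _, n, e, σ, b, -, hσ, hσ2, hb, hs, hadj⟩ := hM
  obtain ⟨q, -, hq, hσq⟩ := H324.FC.exists_q (RingEquiv.ofRingHom σ σ (RingHom.ext hσ2) (RingHom.ext hσ2)) hσ2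
    (ClassicalGeometry.InvolutiveNorm.exists_sigma_ne hσ)
  have hσq' : ∀ x, σ x = x ^ q := hσq
  rw [Nat.card_eq_fintype_card] at hq
  obtain ⟨c, hc⟩ := ClassicalGeometry.HermOrthonormal.exists_orthonormal_basis hσ hσ2 b hb hs
  obtain ⟨e', h1, -⟩ := exists_iso (unH _ hq) e (fun v w => b w v) (fun a v w => by rw [hadj, star_star]) c.equivFun
    (c := 1) fun u v => by
      obtain ⟨u, rfl⟩ := c.equivFun.symm.surjective u
      obtain ⟨v, rfl⟩ := c.equivFun.symm.surjective v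
      rw [LinearEquiv.apply_symm_apply, LinearEquiv.apply_symm_apply, one_mul]
      change hermForm _ K q u v = _
      simp only [Module.Basis.equivFun_symm_apply, map_sum, LinearMap.sum_apply, LinearMap.map_smulₛₗ, map_smul,
        LinearMap.smul_apply, hc, smul_eq_mul, mul_ite, mul_one, mul_zero, Finset.sum_ite_eq', Finset.mem_univ,
        if_true, hσq', hermForm]
  exact of_star h1 F fun R _ _ _ => qsc_unH hq R

end U

end Cfsg.Agent.Cam.Cl.Qs
end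

private theorem dce_94420099bbe3 : _root_.True := by
  try have : _root_.True := by simp only [_root_.Cfsg.Agent.Cam.Cl.hat.eq_1]
  try have : _root_.True := by simp only [_root_.Cfsg.Agent.Cam.cj.eq_1]
  try have : _root_.True := by simp only [_root_.Cfsg.Agent.Cam.Cl.Tp.phL.eq_1]
  try have : _root_.True := by simp only [_root_.Cfsg.Agent.Cam.Cl.Gen.hA.eq_1]
  try have : _root_.True := by simp only [_root_.Cfsg.Agent.Cam.Cl.Dr.eq_1]
  exact _root_.True.intro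
end

-- part: Cam/Ex/IfaceB
section
set_option linter.all false

/-!
# Exceptional rows: interface for `r = 5` in characteristic two (helper69)

`BoxFin5` (finite check for `r = 5`), `BoxGrp5` (simple `{2,3,5}`-groups), `BoxOut3` (`Out E₆(4)`), `BoxSL3` (a perfect
group fixed by a graph automorphism of an `A₂` factor in characteristic two is centralized by a torus).
-/

set_option autoImplicit false
set_option linter.unusedVariables false

namespace Cfsg.Agent.Cam.Ex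

open CoxeterSystem Cfsg Cfsg.Lie Subgroup
open Cfsg.Agent.ChevalleyStructure.CoxeterGeom Cfsg.Agent.ChevalleyStructure.CoxeterGeomTypes
open Cfsg.Agent.Tits.Roots Cfsg.Agent.Nodes.BNOf Cfsg.Agent.Nodes.RGDChev Cfsg.Agent.Nodes.Coroot
open Cfsg.Agent.KFacts.RgdChevCoord Cfsg.Agent.BpExc.TorCent Cfsg.Agent.BpExc.LangFr Cfsg.Agent.BpExc.SubBN
open Cfsg.Agent.Cam.Spor
open scoped commutatorElement

section defs

variable {D : ChevalleyDatum} {l : ℕ} {M : CoxeterMatrix (Fin l)} (hp : IsType D l M)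

/-- `A2s c c'` is a component of `S` -/
def A2c (S : Set (Lat l)) (c c' : Lat l) : Prop :=
  c ∈ S ∧ c' ∈ S ∧ cp hp c c' = -1 ∧ cp hp c' c = -1 ∧ ∀ a ∈ S, a ∈ A2s c c' ∨ (cp hp a c = 0 ∧ cp hp a c' = 0)

/-- `f` acts on `A2s c c'` as `ε` times an element of its reflection group -/
def ActA2 (f : Lat l → Lat l) (ε : ℤˣ) (c c' : Lat l) : Prop :=
  ∃ w ∈ WW hp (A2s c c'), ∀ a ∈ A2s c c', f a = (ε : ℤ) • wa hp w a

/-- every character that is fixed by the Frobenius map, inverted together with `A` and kills `Psi A` is a multiple of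
`A` -/
def K5s (q : ℕ) {r : ℕ} (g : Lat l ≃+ Lat l) (A : Lat l →+ ZMod r) : Prop :=
  ∀ Z : Lat l →+ ZMod r, Psi hp A ⊆ Psi hp Z → (∀ a, Z (g a) = (q : ZMod r) * Z a) →
    (∃ w, Neg hp w A ∧ Neg hp w Z) → ∃ c : ZMod r, ∀ a, Z a = c * A a

end defs

/-- [helper12] the finite check for `r = 5` -/
structure BoxFin5 : Prop where
  e6 : ∀ p q ε g A B, Cmb tE6 p q 5 (sg 6 ε) g A B → ((q : ZMod 5) = 1 ∨ (q : ZMod 5) = -1) ∧
    ∃ θ : Lat 6 →+ ℤ, (∃ a, Rt tE6 a ∧ θ a = 1) ∧ Psi tE6 (A + B) ⊆ Psi tE6 θ ∧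
      (∀ w, Neg tE6 w (A + B) → Fixs tE6 w θ) ∧ ∀ a, θ (g a) = (ε : ℤ) * θ a
  e7 : ∀ p q g0 g A B, Cmb tE7 p q 5 g0 g A B → K5s tE7 q g A → EndE7 q g A B ∨
    ∃ c c', A2c tE7 (Psi tE7 A) c c' ∧ (∀ w, Neg tE7 w A → ActA2 tE7 (wa tE7 w) (-1) c c') ∧
      ∃ ε : ℤˣ, (q : ZMod 5) = ((ε : ℤ) : ZMod 5) ∧ ActA2 tE7 g ε c c'

/-- simple groups with all prime divisors at most five (`A₅`, `A₆`, `U₄(2)` by S3719) -/
def BoxGrp5 : Prop := ∀ (U : Type) [Group U] [Finite U], IsSimpleGroup U → ¬ IsMulCommutative U →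
  (∀ r : ℕ, r.Prime → r ∣ Nat.card U → r ≤ 5) →
  (∀ u t : U, orderOf u = 5 → t * u = u * t → t ∈ zpowers u) ∧
    ∀ σ : MulAut U, Odd (orderOf σ) → ∃ t : U, σ = MulAut.conj t

/-- `Out E₆(4)` has only one subgroup of order three -/
def BoxOut3 : Prop := ∀ (d : ℕ) (L : Type) [Group L] [Finite L] (E : Frame tE6 2 d (sg 6 1) L), E.q = 4 →
  ∀ a b : Cfsg.Out L, orderOf a = 3 → orderOf b = 3 → b ∈ zpowers a

/-- a perfect group fixed by a graph automorphism of an `A₂` factor, `E₇`, characteristic two -/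
def BoxSL3 : Prop := ∀ (d : ℕ) (L : Type) [Group L] [Finite L] (E : Frame tE7 2 d (sg 7 1) L) (x n : L)
  (R : Subgroup L) (c c' : Lat 7) (ε : ℤˣ), E.ι x ∈ TT chevE7 (kb 2) → x ^ 5 = 1 → n * x * n⁻¹ = x⁻¹ →
  ⁅R, R⁆ = R → (∀ y ∈ R, x * y = y * x) → (∀ y ∈ R, n * y = y * n) →
  A2c tE7 (PsiS tE7 {E.ι x}) c c' →
  (∀ w, (∀ a, Rt tE7 a → ch tE7 (wa tE7 w a) (E.ι x)⁻¹ = ch tE7 a (E.ι x)) → ActA2 tE7 (wa tE7 w) (-1) c c') →
  (E.q : ZMod 5) = ((ε : ℤ) : ZMod 5) → ActA2 tE7 E.g ε c c' → ¬ Cen E R (A2s c c') →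
  ∃ y ∈ MS chevE7 7 2 (A2s c c'), E.F y = y ∧ y ^ 5 = 1 ∧ (∀ z ∈ R, E.ι z * y = y * E.ι z) ∧
    E.ι n * y * (E.ι n)⁻¹ = y⁻¹ ∧ ¬ ∀ a ∈ A2s c c', ∀ z ∈ XR chevE7 7 2 a, y * z = z * y

end Cfsg.Agent.Cam.Ex
end

-- part: Cam/Ex/IfaceE
section
set_option linter.all false

/-!
# Exceptional rows: interface for the end of `E₇` in characteristic two (helper53)
-/

set_option autoImplicit false
set_option linter.unusedVariables false

namespace Cfsg.Agent.Cam.Ex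

open CoxeterSystem Cfsg Cfsg.Lie Subgroup
open Cfsg.Agent.ChevalleyStructure.CoxeterGeom Cfsg.Agent.ChevalleyStructure.CoxeterGeomTypes
open Cfsg.Agent.Tits.Roots Cfsg.Agent.Nodes.BNOf Cfsg.Agent.Nodes.RGDChev Cfsg.Agent.Nodes.Coroot
open Cfsg.Agent.KFacts.RgdChevCoord Cfsg.Agent.BpExc.TorCent Cfsg.Agent.BpExc.LangFr Cfsg.Agent.BpExc.SubBN
open Cfsg.Agent.Cam.Spor

/-- every automorphism of `L` is induced by an inner automorphism times a frame automorphism of the ambient group -/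
def BoxFExt : Prop := ∀ (L : Type) [Group L] [Finite L] (E : Frame tE7 2 1 (sg 7 1) L) (θ : MulAut L),
  ∃ (y : YY chevE7 2) (β : MulAut (YY chevE7 2)) (γ : Lat 7 ≃+ Lat 7),
    BpExc.Fr.Fr CoxeterMatrix.E₇.toCoxeterSystem tE7.isCartan (TT chevE7 (kb 2)) (XX chevE7 7 (kb 2)) β γ ∧
    ∀ x, E.ι (θ x) = y * β (E.ι x) * y⁻¹

/-- pairs of root groups -/
structure BoxRE : Prop where
  /-- two conjugate root groups generate a `2`-group or are opposite -/
  pair : ∀ a : Lat 7, Rt tE7 a → ∀ y : YY chevE7 2,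
    IsPGroup 2 ↥(XR chevE7 7 2 a ⊔ (XR chevE7 7 2 a).map (MulAut.conj y).toMonoidHom) ∨
    ∃ (z : YY chevE7 2) (b : Lat 7), Rt tE7 b ∧ (∀ x ∈ XR chevE7 7 2 a, z * x * z⁻¹ ∈ XR chevE7 7 2 b) ∧
      ∀ x ∈ XR chevE7 7 2 a, z * (y * x * y⁻¹) * z⁻¹ ∈ XR chevE7 7 2 (-b)
  /-- the non-trivial elements of a root group have the same centralizer -/
  cent : ∀ a : Lat 7, Rt tE7 a → ∀ u ∈ XR chevE7 7 2 a, u ≠ 1 → ∀ y : YY chevE7 2, y * u = u * y →
    ∀ x ∈ XR chevE7 7 2 a, y * x = x * y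
  /-- a root orthogonal to all the roots orthogonal to `c` -/
  perp : ∀ c : Lat 7, Rt tE7 c → ∀ b : Lat 7, Rt tE7 b → (∀ a, Rt tE7 a → cp tE7 a c = 0 → cp tE7 a b = 0) →
    b = c ∨ b = -c

/-- the core of `P8` for one root -/
def BoxP1 : Prop := ∀ (L : Type) [Group L] [Finite L] (E : Frame tE7 2 1 (sg 7 1) L)
  (U : Type) [Group U] [Finite U] (τ α β : U →* L) (R R' : Subgroup L), Core τ α β R R' →
  ∀ c, Rt tE7 c → (E.g c = c ∨ E.g c = -c) → 4 ≤ E.q → ¬ Cen E R {c, -c}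

end Cfsg.Agent.Cam.Ex
end

-- part: Cam/Ex/Asm
section
set_option linter.all false
open scoped Cfsg.Agent.FastGrp

/-!
# Exceptional rows: the assembly (helper69)

* `exists_dat` : the extremal choice of a toral triangle;
* `Dat.cmb` : the combinatorial data of a toral triangle;
* `boxG2`, `boxF4`, `boxE6`, `box2E6`, `boxE7`, `box3D4` from the boxes of `Cam/Ex/Iface.lean`.
-/

set_option autoImplicit false
set_option linter.unusedVariables false
set_option linter.unusedSectionVars false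

namespace Cfsg.Agent.Cam.Ex

open CoxeterSystem Cfsg Cfsg.Lie Subgroup
open Cfsg.Agent.ChevalleyStructure.CoxeterGeom Cfsg.Agent.ChevalleyStructure.CoxeterGeomTypes
open Cfsg.Agent.Tits.Roots Cfsg.Agent.Nodes.BNOf Cfsg.Agent.Nodes.RGDChev Cfsg.Agent.Nodes.Coroot
open Cfsg.Agent.KFacts.RgdChevCoord Cfsg.Agent.BpExc.TorCent Cfsg.Agent.BpExc.LangFr Cfsg.Agent.BpExc.SubBN
open Cfsg.Agent.Cam.Spor Cfsg.Agent.TwoFusion.PerfCore
open scoped commutatorElement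

variable {D : ChevalleyDatum} {l : ℕ} {M : CoxeterMatrix (Fin l)} {hp : IsType D l M} {p : ℕ} [Fact p.Prime]
  {d : ℕ} {g0 : Lat l ≃+ Lat l} {L : Type} [Group L] [Finite L] {U : Type} [Group U] [Finite U]
  {τ α β : U →* L} {R R' : Subgroup L}

/-- the automorphism of `U` that compares `α` and `θ ∘ τ` -/
theorem exists_cmp (c : Core τ α β R R') : ∃ (θ : MulAut L) (ψ : U →* U), Function.Injective ψ ∧
    ∀ u, θ (τ (ψ u)) = α u := by
  obtain ⟨θ, hθ⟩ := c.aconj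
  have h1 : ∀ u, ∃ u', θ (τ u') = α u := by
    intro u
    have h2 : α u ∈ τ.range.map θ.toMonoidHom := by rw [← hθ]; exact ⟨u, rfl⟩
    obtain ⟨_, ⟨u', rfl⟩, h3⟩ := h2
    exact ⟨u', h3⟩
  choose f hf using h1
  have hinj : Function.Injective fun u => θ (τ u) := θ.injective.comp c.pair.inj
  refine ⟨θ, ⟨⟨f, hinj ?_⟩, fun a b => hinj ?_⟩, fun a b hab => c.pair'.inj ?_, hf⟩
  · show θ (τ (f 1)) = θ (τ 1)
    rw [hf, map_one, map_one, map_one]
  · show θ (τ (f (a * b))) = θ (τ (f a * f b))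
    rw [hf, map_mul, map_mul, map_mul, hf, hf]
  · rw [← hf, ← hf]
    exact congrArg (fun u => θ (τ u)) hab

theorem Frame.q_ne (E : Frame hp p d g0 L) {r : ℕ} (hr : r.Prime) (hne : r ≠ p) : (E.q : ZMod r) ≠ 0 := by
  intro h
  rw [ZMod.natCast_eq_zero_iff] at h
  exact hne ((Nat.prime_dvd_prime_iff_eq hr Fact.out).1 (hr.dvd_of_dvd_pow h))

theorem Frame.two_le (E : Frame hp p d g0 L) : 2 ≤ E.q :=
  Nat.one_lt_pow E.he.ne' (Fact.out : p.Prime).one_lt

/-- **The extremal choice.** -/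
theorem exists_dat (chi : BoxChi) (tor : BoxTor) (hl : l ≤ 7) (E : Frame hp p d g0 L) (c : Core τ α β R R') {r : ℕ}
    (hr : r.Prime) (h5 : 5 ≤ r) (hne : r ≠ p) (hreal : ∃ u v : U, orderOf u = r ∧ v * u * v⁻¹ = u⁻¹) :
    ∃ (E' : Frame hp p d g0 L) (τ' α' β' : U →* L) (Q Q' : Subgroup L) (ζ : kb p) (u v : U)
      (A B : Lat l →+ ZMod r), E'.e = E.e ∧ Dat E' τ' α' β' Q Q' r ζ u v A B := by
  classical
  have : NeZero r := ⟨hr.ne_zero⟩
  obtain ⟨ζ, hζ⟩ := exists_zeta p ((Nat.coprime_primes hr Fact.out).2 hne)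
  let P : ℕ → Prop := fun n => ∃ (θ : MulAut L) (u v : U) (z : YY D p), orderOf u = r ∧ v * u * v⁻¹ = u⁻¹ ∧
    z⁻¹ * E.ι (θ (τ u)) * z ∈ TT D (kb p) ∧ (PsiS hp {z⁻¹ * E.ι (θ (τ u)) * z}).ncard = n
  have hb : ∀ n, P n → n ≤ {a | Rt hp a}.ncard := by
    rintro n ⟨θ, u, v, z, -, -, -, rfl⟩
    exact Set.ncard_le_ncard (fun a ha => ha.1) (finite_Rt hp)
  have hex : ∃ n, P n := by
    obtain ⟨u, v, hu, hv⟩ := hreal
    obtain ⟨E', ⟨-, z, hz⟩, h⟩ := tor D l M hp hl p d g0 L E r hr h5 hne (zpowers (τ u)) (by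
      rintro _ ⟨k, rfl⟩
      show (τ u ^ k) ^ r = 1
      rw [← zpow_natCast, ← zpow_mul, mul_comm, zpow_mul, zpow_natCast, ← map_pow, ← hu, pow_orderOf_eq_one, map_one,
        one_zpow]) (by
      rintro _ ⟨k, rfl⟩ _ ⟨k', rfl⟩
      exact zpow_mul_comm _ _ _)
    refine ⟨_, 1, u, v, z, hu, hv, ?_, rfl⟩
    have h1 := h (τ u) (mem_zpowers _)
    rwa [hz] at h1
  obtain ⟨n0, hn0⟩ := hex
  let n := Nat.findGreatest P ({a | Rt hp a}.ncard)
  have hn : P n := Nat.findGreatest_spec (hb n0 hn0) hn0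
  have hmax : ∀ m, P m → m ≤ n := fun m hm => Nat.le_findGreatest (hb m hm) hm
  obtain ⟨θ, u, v, z, hu, hv, hz, hcard⟩ := hn
  have c' := c.map θ
  set τ' : U →* L := θ.toMonoidHom.comp τ with hτ'
  set α' : U →* L := θ.toMonoidHom.comp α with hα'
  set β' : U →* L := θ.toMonoidHom.comp β with hβ'
  have hur : u ^ r = 1 := by rw [← hu, pow_orderOf_eq_one]
  have hab : Commute (α' u) (β' u) := c'.ab u u
  let Q : Subgroup L :=
    { carrier := {y | ∃ i j : ℤ, y = α' u ^ i * β' u ^ j}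
      one_mem' := ⟨0, 0, by simp⟩
      mul_mem' := by
        rintro _ _ ⟨i, j, rfl⟩ ⟨i', j', rfl⟩
        refine ⟨i + i', j + j', ?_⟩
        rw [zpow_add, zpow_add, (hab.zpow_zpow i' j).symm.mul_mul_mul_comm]
      inv_mem' := by
        rintro _ ⟨i, j, rfl⟩
        refine ⟨-i, -j, ?_⟩
        rw [mul_inv_rev, zpow_neg, zpow_neg, (hab.zpow_zpow i j).inv_inv.eq] }
  have hpw : ∀ (f : U →* L) (i : ℤ), (f u ^ i) ^ r = 1 := fun f i => by
    rw [← zpow_natCast, ← zpow_mul, mul_comm, zpow_mul, zpow_natCast, ← map_pow, hur, map_one, one_zpow]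
  obtain ⟨E', ⟨he, z0, hz0⟩, h⟩ := tor D l M hp hl p d g0 L E r hr h5 hne Q (by
    rintro _ ⟨i, j, rfl⟩
    rw [(hab.zpow_zpow i j).mul_pow, hpw, hpw, mul_one]) (by
    rintro _ ⟨i, j, rfl⟩ _ ⟨i', j', rfl⟩
    rw [(hab.zpow_zpow i' j).symm.mul_mul_mul_comm, (hab.zpow_zpow i j').symm.mul_mul_mul_comm, ← zpow_add,
      ← zpow_add, ← zpow_add, ← zpow_add, add_comm i, add_comm j])
  have ha : E'.ι (α' u) ∈ TT D (kb p) := h _ ⟨1, 0, by simp⟩
  have hb' : E'.ι (β' u) ∈ TT D (kb p) := h _ ⟨0, 1, by simp⟩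
  obtain ⟨A, hA⟩ := chi.ex D l M hp p r ζ hζ hr.pos _ ha (by rw [← map_pow, ← map_pow, hur, map_one, map_one])
  obtain ⟨B, hB⟩ := chi.ex D l M hp p r ζ hζ hr.pos _ hb' (by rw [← map_pow, ← map_pow, hur, map_one, map_one])
  have hX : Chi hp ζ (E'.ι (τ' u)) (A + B) := by
    rw [c'.eq u, map_mul]
    exact hA.mul hζ hB
  refine ⟨E', τ', α', β', _, _, ζ, u, v, A, B, he, c', hr, h5, hne, hζ, hu, hv, hA, hB, hX, ?_⟩
  have hn' : (Psi hp (A + B)).ncard = n := by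
    rw [← hX.psiS hζ, ← hcard]
    have e : E'.ι (τ' u) = (z0⁻¹ * z) * (z⁻¹ * E.ι (θ (τ u)) * z) * (z0⁻¹ * z)⁻¹ := by
      rw [hz0]
      show z0⁻¹ * E.ι (θ (τ u)) * z0 = _
      group
    have h1 := hX.1
    rw [e] at h1 ⊢
    exact ncard_psiS_conj chi hz h1
  intro θ' u' v' hu' hv' z' hz'
  rw [hn']
  have e : z'⁻¹ * E'.ι (θ' (τ' u')) * z' = (z0 * z')⁻¹ * E.ι ((θ' * θ) (τ u')) * (z0 * z') := by
    rw [hz0]
    show z'⁻¹ * (z0⁻¹ * E.ι (θ' (θ (τ u'))) * z0) * z' = (z0 * z')⁻¹ * E.ι (θ' (θ (τ u'))) * (z0 * z')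
    group
  rw [e] at hz' ⊢
  exact hmax _ ⟨θ' * θ, u', v', z0 * z', hu', hv', hz', rfl⟩

/-- `K2` -/
theorem k2_of (chi : BoxChi) (E : Frame hp p d g0 L) {r : ℕ} (hr : r.Prime) {ζ : kb p} (hζ : IsPrimitiveRoot ζ r)
    {a b n : L} {A B : Lat l →+ ZMod r} (hA : Chi hp ζ (E.ι a) A) (hB : Chi hp ζ (E.ι b) B) (har : a ^ r = 1)
    {J : Subgroup L} (hJ : ⁅J, J⁆ = J) (hn : n ∈ J) (hc : ∀ j ∈ J, a * j = j * a) (hnb : n * b * n⁻¹ = b⁻¹) :
    ∃ w ∈ WW hp (Psi hp A), Neg hp w B := by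
  have : NeZero r := ⟨hr.ne_zero⟩
  have hfin : Finite (J.map E.ι) := Finite.of_surjective _ (E.ι.subgroupMap_surjective J)
  have h1 := chi.perf D l M hp p r hr {E.ι a} (fun t ht => by
    rw [Set.mem_singleton_iff.1 ht]
    exact ⟨hA.1, by rw [← map_pow, har, map_one]⟩) (J.map E.ι) (map_perfect hJ E.ι) (by
    rintro _ ⟨j, hj, rfl⟩
    rw [mem_centralizer_iff]
    intro t ht
    rw [Set.mem_singleton_iff.1 ht, ← map_mul, ← map_mul, hc j hj])
  obtain ⟨w, hw, h2⟩ := chi.conj D l M hp p {E.ι a} (fun t ht => by rw [Set.mem_singleton_iff.1 ht]; exact hA.1)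
    (E.ι n) (mem_sup_left (h1 ⟨n, hn, rfl⟩))
  rw [hA.psiS hζ] at hw
  refine ⟨w, hw, fun x => ?_⟩
  have e : E.ι n * E.ι b * (E.ι n)⁻¹ = (E.ι b)⁻¹ := by rw [← map_inv, ← map_mul, ← map_mul, hnb, map_inv]
  have h3 := h2 (E.ι b) hB.1 (by rw [e]; exact inv_mem hB.1)
  rw [e] at h3
  have h4 := hB.of_conj hζ (hB.inv hζ) h3 x
  rw [AddMonoidHom.neg_apply] at h4
  exact neg_eq_iff_eq_neg.1 h4

/-- **The combinatorial data of a toral triangle.** -/
theorem Dat.cmb (chi : BoxChi) (bp : BoxP) (bk : BoxK) (hl : l ≤ 7) (hB2 : D ≠ chevB2) {E : Frame hp p d g0 L} {r : ℕ}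
    {ζ : kb p} {u v : U} {A B : Lat l →+ ZMod r} (h : Dat E τ α β R R' r ζ u v A B) :
    Cmb hp p E.q r g0 E.g A B := by
  have : NeZero r := ⟨h.prime.ne_zero⟩
  have c := h.core
  have hζ := h.prim
  have hur : u ^ r = 1 := by rw [← h.ord, pow_orderOf_eq_one]
  have hu1 : u ≠ 1 := by
    intro e
    have h1 := h.ord
    rw [e, orderOf_one] at h1
    exact h.prime.one_lt.ne h1
  have hne : ∀ f : U →* L, Function.Injective f → E.ι (f u) ≠ 1 := fun f hf e =>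
    hu1 (hf (E.inj (by rw [e, map_one, map_one])))
  obtain ⟨θ, ψ, hψ, hθ⟩ := exists_cmp c
  have himg : ∀ (f : U →* L) (x : U), (fun u => E.ι (f u)) '' {x} = {E.ι (f x)} := fun f x => Set.image_singleton
  refine ⟨h.prime, h.five, E.two_le, E.q_ne h.prime h.ne, E.gr, E.fr.root, E.gcp, h.chiA.ne_zero hζ chi (hne α c.pair'.inj),
    h.chiB.ne_zero hζ chi (hne β c.binj), h.chiX.ne_zero hζ chi (hne τ c.pair.inj), h.chiA.frob hζ chi E (E.fix _),
    h.chiB.frob hζ chi E (E.fix _), ?_, ?_, ?_, ?_,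
    bk.k3 D l M hp hl hB2 p d g0 L E U τ α β R R' r ζ u v A B h, ?_,
    bk.k5 D l M hp hl hB2 p d g0 L E U τ α β R R' r ζ u v A B h⟩
  · exact k2_of chi E h.prime hζ h.chiA h.chiB (by rw [← map_pow, hur, map_one]) c.pair'.perfect (c.bmem v)
      (fun j hj => c.pair'.comm u j hj) (by rw [← map_inv, ← map_mul, ← map_mul, h.inv, map_inv])
  · refine k2_of chi E h.prime hζ h.chiB h.chiA (by rw [← map_pow, hur, map_one])
      (range_perfect c.simple c.noncomm α) (n := α v) ⟨v, rfl⟩ ?_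
      (by rw [← map_inv, ← map_mul, ← map_mul, h.inv, map_inv])
    rintro _ ⟨x, rfl⟩
    exact (c.ab x u).symm
  · have h1 := bp.k1 D l M hp hl hB2 p d g0 L E U τ α β R R' c r h.prime h.five h.ne {u} (fun x hx => by
      rw [Set.mem_singleton_iff.1 hx]
      exact ⟨hur, h.chiX.1⟩)
    rwa [himg, h.chiX.psiS hζ] at h1
  · have h1 := bp.k1 D l M hp hl hB2 p d g0 L E U _ _ _ _ _ (c.map θ) r h.prime h.five h.ne {ψ u} (fun x hx => by
      rw [Set.mem_singleton_iff.1 hx]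
      refine ⟨by rw [← map_pow, hur, map_one], ?_⟩
      show E.ι (θ (τ (ψ u))) ∈ _
      rw [hθ]
      exact h.chiA.1)
    rw [himg] at h1
    have e : E.ι ((θ.toMonoidHom.comp τ) (ψ u)) = E.ι (α u) := by
      show E.ι (θ (τ (ψ u))) = _
      rw [hθ]
    rwa [e, h.chiA.psiS hζ] at h1
  · have h1 := h.ext θ (ψ u) (ψ v) (by rw [orderOf_injective ψ hψ, h.ord])
      (by rw [← map_inv, ← map_mul, ← map_mul, h.inv, map_inv]) 1
    rw [inv_one, one_mul, mul_one, hθ, h.chiA.psiS hζ] at h1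
    exact h1 h.chiA.1

/-- all boxes -/
structure Boxes : Prop where
  frame : BoxFrame
  chi : BoxChi
  tor : BoxTor
  bp : BoxP
  bk : BoxK
  fin : BoxFin
  ends : BoxEnd
  bu : BoxU
  small : BoxSmall

theorem Boxes.tri (b : Boxes) (hl : l ≤ 7) (hB2 : D ≠ chevB2) (E : Frame hp p d g0 L) (c : Core τ α β R R') {r : ℕ}
    (hr : r.Prime) (h5 : 5 ≤ r) (hne : r ≠ p) (hd : r ∣ Nat.card U) :
    ∃ (E' : Frame hp p d g0 L) (τ' α' β' : U →* L) (Q Q' : Subgroup L) (ζ : kb p) (u v : U)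
      (A B : Lat l →+ ZMod r), Dat E' τ' α' β' Q Q' r ζ u v A B ∧ Cmb hp p E'.q r g0 E'.g A B := by
  obtain ⟨E', τ', α', β', Q, Q', ζ, u, v, A, B, -, h⟩ := exists_dat b.chi b.tor hl E c hr h5 hne
    (b.bu.real D l M hp hl hB2 p d g0 L E U τ α β R R' c r hr h5 hne hd)
  exact ⟨E', τ', α', β', Q, Q', ζ, u, v, A, B, h, h.cmb b.chi b.bp b.bk hl hB2⟩

theorem ne_B2_of_nroots {D : ChevalleyDatum} (h : D.nroots ≠ chevB2.nroots) : D ≠ chevB2 := fun e => h (by rw [e])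

theorem g2_ne : chevG2 ≠ chevB2 := ne_B2_of_nroots (by decide +kernel)
theorem d4_ne : chevD4 ≠ chevB2 := ne_B2_of_nroots (by decide +kernel)
theorem f4_ne : chevF4 ≠ chevB2 := ne_B2_of_nroots (by decide +kernel)
theorem e6_ne : chevE6 ≠ chevB2 := ne_B2_of_nroots (by decide +kernel)
theorem e7_ne : chevE7 ≠ chevB2 := ne_B2_of_nroots (by decide +kernel)

theorem exists_prime {N p m : ℕ} (h : ¬ ∀ r : ℕ, r.Prime → m ≤ r → r ∣ N → r = p) :
    ∃ r : ℕ, r.Prime ∧ m ≤ r ∧ r ≠ p ∧ r ∣ N := by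
  by_contra hc
  exact h fun r h1 h2 h3 => by_contra fun h4 => hc ⟨r, h1, h2, h4, h3⟩

theorem five_of {N p : ℕ} (h5 : ¬ ∀ r : ℕ, r.Prime → 5 ≤ r → r ∣ N → r = p)
    (h7 : ∀ r : ℕ, r.Prime → 7 ≤ r → r ∣ N → r = p) : 5 ≠ p ∧ 5 ∣ N := by
  obtain ⟨r, h1, h2, h3, h4⟩ := exists_prime h5
  have h6 : r < 7 := lt_of_not_ge fun h => h3 (h7 r h1 h h4)
  have h8 : r = 5 := by
    rcases (show r = 5 ∨ r = 6 by omega) with h | h
    · exact h
    · subst h
      exact absurd h1 (by decide)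
  subst h8
  exact ⟨h3, h4⟩

theorem Boxes.g2 (b : Boxes) : BoxG2 := fun big red => row_of big red fun L _ _ _ hL => by
  obtain ⟨p, _, ⟨E⟩⟩ := b.frame.g2 L hL
  refine ⟨b.bu.rank _ _ _ tG2 (by norm_num) p _ _ L E, fun U _ _ τ α β R R' c => ?_⟩
  obtain ⟨r, h1, h2, h3, h4⟩ := exists_prime (b.small.g2 p L E U τ α β R R' c)
  obtain ⟨E', τ', α', β', Q, Q', ζ, u, v, A, B, -, h⟩ := b.tri (by norm_num) g2_ne E c h1 h2 h3 h4
  exact b.fin.g2 _ _ _ _ _ _ _ h

theorem Boxes.td4 (b : Boxes) : Box3D4 := fun big red => row_of big red fun L _ _ _ hL => by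
  obtain ⟨p, _, g0, hg0, ⟨E⟩⟩ := b.frame.td4 L hL
  refine ⟨b.bu.rank _ _ _ tD4 (by norm_num) p _ _ L E, fun U _ _ τ α β R R' c => ?_⟩
  obtain ⟨r, h1, h2, h3, h4⟩ := exists_prime (b.small.d4 g0 hg0 p L E U τ α β R R' c)
  obtain ⟨E', τ', α', β', Q, Q', ζ, u, v, A, B, -, h⟩ := b.tri (by norm_num) d4_ne E c h1 h2 h3 h4
  exact b.fin.d4 _ _ _ _ _ _ _ hg0 h

theorem Boxes.f4 (b : Boxes) : BoxF4 := fun big red => row_of big red fun L _ _ _ hL => by
  obtain ⟨p, _, ⟨E⟩⟩ := b.frame.f4 L hL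
  refine ⟨b.bu.rank _ _ _ tF4 (by norm_num) p _ _ L E, fun U _ _ τ α β R R' c => ?_⟩
  obtain ⟨r, h1, h2, h3, h4⟩ := exists_prime (b.small.f4 p L E U τ α β R R' c)
  obtain ⟨E', τ', α', β', Q, Q', ζ, u, v, A, B, h', h⟩ := b.tri (by norm_num) f4_ne E c h1 h2 h3 h4
  exact b.ends.f4 p L E' U τ' α' β' Q Q' r ζ u v A B h' (b.fin.f4 _ _ _ _ _ _ _ h)

theorem four_ne {r : ℕ} (hr : r.Prime) (h7 : 7 ≤ r) (h : ((4 : ℕ) : ZMod r) = 1 ∨ ((4 : ℕ) : ZMod r) = -1) : False := by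
  rcases h with h | h
  · have h1 : ((3 : ℕ) : ZMod r) = 0 := by
      have : ((4 : ℕ) : ZMod r) = (3 : ℕ) + 1 := by norm_num
      rw [this] at h
      exact add_eq_right.1 h
    rw [ZMod.natCast_eq_zero_iff] at h1
    have := Nat.le_of_dvd (by norm_num) h1
    omega
  · have h1 : ((5 : ℕ) : ZMod r) = 0 := by
      have : ((5 : ℕ) : ZMod r) = (4 : ℕ) + 1 := by norm_num
      rw [this, h, neg_add_cancel]
    rw [ZMod.natCast_eq_zero_iff] at h1
    have := Nat.le_of_dvd (by norm_num) h1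
    omega

theorem Boxes.e6' (b : Boxes) {d : ℕ} (hd : d ∣ 3) {ε : ℤˣ} (E : Frame tE6 p d (sg 6 ε) L) : Rank7 L ∧ NoCore L := by
  refine ⟨b.bu.rank _ _ _ tE6 (by norm_num) p _ _ L E, fun U _ _ τ α β R R' c => ?_⟩
  by_cases h7 : ∀ r : ℕ, r.Prime → 7 ≤ r → r ∣ Nat.card U → r = p
  · obtain ⟨h3, h4⟩ := five_of (b.small.e6 d ε hd p L E U τ α β R R' c) h7
    obtain ⟨E', τ', α', β', Q, Q', ζ, u, v, A, B, h', h⟩ := b.tri (by norm_num) e6_ne E c (by norm_num) le_rfl h3 h4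
    exact b.small.e6five d ε hd p L E' U τ' α' β' Q Q' ζ u v A B h' h h7
  · obtain ⟨r, h1, h2, h3, h4⟩ := exists_prime h7
    obtain ⟨E', τ', α', β', Q, Q', ζ, u, v, A, B, h', h⟩ := b.tri (by norm_num) e6_ne E c h1 (by omega) h3 h4
    have h8 := b.fin.e6 _ _ _ _ _ _ _ h2 h
    refine b.ends.e6 p d hd ε L E' U τ' α' β' Q Q' r ζ u v A B h' (fun h9 => ?_) h8
    have h10 := h8.1
    rw [h9.1] at h10
    exact four_ne h1 h2 h10

theorem Boxes.e6 (b : Boxes) : BoxE6 := fun big red => row_of big red fun L _ _ _ hL => by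
  obtain ⟨p, _, d, hd, ⟨E⟩⟩ := b.frame.e6 L hL
  exact b.e6' hd E

theorem Boxes.te6 (b : Boxes) : Box2E6 := fun big red => row_of big red fun L _ _ _ hL => by
  obtain ⟨p, _, d, hd, ⟨E⟩⟩ := b.frame.te6 L hL
  exact b.e6' hd E

theorem Boxes.e7 (b : Boxes) : BoxE7 := fun big red => row_of big red fun L _ _ _ hL => by
  obtain ⟨p, _, d, hd, ⟨E⟩⟩ := b.frame.e7 L hL
  refine ⟨b.bu.rank _ _ _ tE7 (by norm_num) p _ _ L E, fun U _ _ τ α β R R' c => ?_⟩
  by_cases h7 : ∀ r : ℕ, r.Prime → 7 ≤ r → r ∣ Nat.card U → r = p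
  · obtain ⟨h3, h4⟩ := five_of (b.small.e7 d hd p L E U τ α β R R' c) h7
    obtain ⟨E', τ', α', β', Q, Q', ζ, u, v, A, B, h', h⟩ := b.tri (by norm_num) e7_ne E c (by norm_num) le_rfl h3 h4
    exact b.small.e7five d hd p L E' U τ' α' β' Q Q' ζ u v A B h' h h7
  · obtain ⟨r, h1, h2, h3, h4⟩ := exists_prime h7
    obtain ⟨E', τ', α', β', Q, Q', ζ, u, v, A, B, h', h⟩ := b.tri (by norm_num) e7_ne E c h1 (by omega) h3 h4
    exact b.ends.e7 p d hd L E' U τ' α' β' Q Q' r ζ u v A B h' (b.fin.e7 _ _ _ _ _ _ _ h2 h)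

end Cfsg.Agent.Cam.Ex
end

-- part: Cam/Cl/Rows
section
prune_inst 0xc04038044180100000000000600003001000000200008800000000040008204000000800000001101020000000040008139000200000000000000000000000001800800040810008000000000000000000000000000000000000000000000000000000000
set_option linter.all false
open scoped Cfsg.Agent.FastGrp

-- part: Cam/Cl/QSSp
section
/-!
# S3689, classical groups, `BoxQS`: symplectic groups (helper12)
-/

set_option autoImplicit false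

namespace Cfsg.Agent.Cam.Cl.Qs

open Cfsg Cfsg.Agent.DS.Cl Cfsg.Agent.DS.Cl.Fwd Cfsg.Agent.Cam.Cl Cfsg.Agent.Cam.Cl.Tp
open Cfsg.Agent.ClassicalGeometry.SympBasic
open scoped Matrix MatrixGroups commutatorElement

/-- `Sp₂ = SL₂` -/
def spTwo (F : Type) [Field F] : Matrix.symplecticGroup (Fin 1) F ≃* Matrix.SpecialLinearGroup (Fin 2) F where
  toFun A := ⟨Matrix.reindex finSumFinEquiv finSumFinEquiv (A : Matrix (Fin 1 ⊕ Fin 1) (Fin 1 ⊕ Fin 1) F), by
    rw [Matrix.det_reindex_self]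
    exact (S0244.result _).1 A.2⟩
  invFun A := ⟨Matrix.reindex finSumFinEquiv.symm finSumFinEquiv.symm (A : Matrix (Fin 2) (Fin 2) F), by
    rw [S0244.result, Matrix.det_reindex_self]
    exact A.2⟩
  left_inv A := by
    apply Subtype.ext
    ext i j
    simp
  right_inv A := by
    apply Subtype.ext
    ext i j
    simp
  map_mul' A B := by
    apply Subtype.ext
    change Matrix.reindex finSumFinEquiv finSumFinEquiv (A.1 * B.1) =
      Matrix.reindex finSumFinEquiv finSumFinEquiv A.1 * Matrix.reindex finSumFinEquiv finSumFinEquiv B.1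
    rw [Matrix.reindex_apply, Matrix.reindex_apply, Matrix.reindex_apply, Matrix.submatrix_mul_equiv]

/-- a `5`-cycle -/
def c5 : Equiv.Perm (Fin 6) := ⟨![1, 2, 3, 4, 0, 5], ![4, 0, 1, 2, 3, 5], by decide, by decide⟩

/-- a `4`-cycle normalizing `c5` -/
def c4 : Equiv.Perm (Fin 6) := ⟨![0, 2, 4, 1, 3, 5], ![0, 3, 1, 4, 2, 5], by decide, by decide⟩

theorem c4_c5 : c4 * c5 = c5 ^ 2 * c4 := by decide

theorem c5_pow : c5 ^ 5 = 1 := by decide

theorem c5_ne : c5 ≠ 1 := by decide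

theorem c5_mem : c5 ∈ commutator (Equiv.Perm (Fin 6)) := by
  have h : c5 = ⁅c4, c5⁆ := by
    rw [commutatorElement_def, c4_c5]
    group
  rw [h]
  exact Subgroup.commutator_mem_commutator trivial trivial

theorem qs_alt : QS (commutator (Equiv.Perm (Fin 6))) := by
  refine qs_simple _ ?_ fun h => ?_
  · rw [alternatingGroup.commutator_perm_eq (by simp)]
    exact alternatingGroup.isSimpleGroup (by simp)
  · have h1 := h _ c5_mem _ ((inferInstance : (commutator (Equiv.Perm (Fin 6))).Normal).conj_mem _ c5_mem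
      (Equiv.swap 0 5))
    revert h1
    decide

/-- elements of order five on a space with sixteen elements -/
theorem fix_five {K V : Type} [Field K] [AddCommGroup V] [Module K V] [Finite V] (hV : Nat.card V = 16)
    {a : Module.End K V} (h5 : a ^ 5 = 1) (h1 : a ≠ 1) : 1 + a + a ^ 2 + a ^ 3 + a ^ 4 = 0 := by
  classical
  have := Fintype.ofFinite V
  have : Fact (Nat.Prime 5) := ⟨Nat.prime_five⟩
  let μ : Module.End K V →* Function.End V := ⟨⟨fun b v => b v, rfl⟩, fun _ _ => rfl⟩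
  have h2 := Equiv.Perm.card_fixedPoints_modEq (f := μ a) (p := 5) (n := 1) (by rw [pow_one, ← map_pow, h5, map_one])
  let U : AddSubgroup V := (LinearMap.ker (a - 1)).toAddSubgroup
  have hU : ∀ v, v ∈ U ↔ a v = v := fun v => by
    change (a - 1) v = 0 ↔ _
    rw [LinearMap.sub_apply, sub_eq_zero, Module.End.one_apply]
  have h3 : Fintype.card (μ a).fixedPoints = Nat.card U := by
    rw [← Nat.card_eq_fintype_card]
    exact Nat.card_congr (Equiv.subtypeEquivRight fun v => (hU v).symm)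
  have h4 := U.card_addSubgroup_dvd_card
  rw [h3, ← Nat.card_eq_fintype_card, hV] at h2
  rw [hV] at h4
  have h6 : Nat.card U = 1 ∨ Nat.card U = 16 := by
    have h7 := Nat.le_of_dvd (by norm_num) h4
    unfold Nat.ModEq at h2
    interval_cases Nat.card U <;> simp_all only [_root_.Nat.card_eq_fintype_card, _root_.ne_eq, _root_.Nat.reduceMod, _root_.Nat.zero_mod, _root_.one_ne_zero, _root_.Nat.one_mod, _root_.Fintype.card_ofFinset, _root_.isUnit_iff_eq_one, _root_.IsUnit.dvd, _root_.Nat.one_le_ofNat, _root_.OfNat.one_ne_ofNat, _root_.or_false, _root_.Nat.mod_succ, _root_.Nat.mod_self, _root_.Nat.reduceDvd, _root_.dvd_refl, _root_.Std.le_refl, _root_.OfNat.ofNat_ne_one, _root_.or_true]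
  rcases h6 with h6 | h6
  · rw [AddSubgroup.card_eq_one] at h6
    ext v
    have h7 : (1 + a + a ^ 2 + a ^ 3 + a ^ 4 : Module.End K V) v ∈ U := by
      rw [hU, ← Module.End.mul_apply]
      congr 1
      have h8 : a * (1 + a + a ^ 2 + a ^ 3 + a ^ 4) = a ^ 5 + a + a ^ 2 + a ^ 3 + a ^ 4 := by noncomm_ring
      rw [h8, h5]
    rwa [h6, AddSubgroup.mem_bot] at h7
  · rw [← hV, AddSubgroup.card_eq_iff_eq_top] at h6
    exact absurd (LinearMap.ext fun v => (hU v).1 (h6 ▸ trivial)) h1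

variable {K : Type} [Field K] [Fintype K]

theorem qsc_sp42 (hK : Fintype.card K = 2) (R : FR (spH 2 K).EB) (hR : R.L = Lmax _) : QSC R := by
  let h := spH 2 K
  have hc : ∀ c : K, c ≠ 0 → c = 1 := fun c hc => by
    have h1 := FiniteField.pow_card_sub_one_eq_one c hc
    rwa [hK, pow_one] at h1
  have h2 : (2 : K) = 0 := by
    have h1 := FiniteField.cast_card_eq_zero K
    rwa [hK] at h1
  have h2' : (2 : h.EB) = 0 := eb_char h (n := 2) h2
  have hd : 3 ≤ Module.finrank K (Fin 2 ⊕ Fin 2 → K) := by simp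
  obtain ⟨e⟩ := Cfsg.Agent.S0247.result (F := K) hK
  let ψ : Equiv.Perm (Fin 6) →* h.EBˣ := (phSp 2 K).comp e.symm.toMonoidHom
  have hψ : Function.Injective ψ := (phSp_inj 2 K).comp e.symm.injective
  have hD : Dr R = (commutator _).map ψ := by
    rw [← comm_range, MonoidHom.range_comp, MonoidHom.range_eq_top.2 e.symm.surjective, ← MonoidHom.range_eq_map,
      isoSp hR, Dr]
  let r : (Fin 2 ⊕ Fin 2 → K) → h.EB := fun x => h.eb (h.ro x x)
  have hr : ∀ x z, h.b z x = 0 → r x * r z = 0 := fun x z hxz => by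
    have h1 := congrArg h.eb (h.ro_mul x x z z)
    rwa [hxz, zero_smul] at h1
  have ht : ∀ x, (phSp 2 K (transv x 1) : h.EB) = 1 + r x := fun x => by
    rw [← sub_eq_iff_eq_add', phSp_transv]
  have hxx : ∀ x, h.b x x = 0 := fun x => sympForm_self x
  have hmem : ∀ x z, x ≠ 0 → z ≠ 0 → phSp 2 K (transv x 1 * transv z 1) ∈ Dr R := fun x z hx hz => by
    obtain ⟨g, -, hg⟩ := exists_transvGroup_mulVec_eq hx hz
    have h1 : (transv x (1 : K))⁻¹ = transv x 1 := inv_eq_of_mul_eq_one_left (phSp_inj 2 K (Units.ext (by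
      rw [map_mul, Units.val_mul, ht, map_one, Units.val_one, mul_add, mul_one, add_mul, one_mul, hr x x (hxx x),
        add_zero, add_assoc, ← two_mul, h2', zero_mul, add_zero])))
    have h3 : transv x 1 * transv z 1 = ⁅transv x (1 : K), g⁆ := by
      rw [commutatorElement_def, h1, ← hg, ← LieClassical.SympPerfect.conj_transv]
      group
    rw [h3, map_commutatorElement, Dr, ← isoSp hR]
    exact Subgroup.commutator_mem_commutator ⟨_, rfl⟩ ⟨_, rfl⟩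
  have hval : ∀ x z, h.b z x = 0 → (phSp 2 K (transv x 1 * transv z 1) : h.EB) - 1 = r x + r z := fun x z hxz => by
    rw [map_mul, Units.val_mul, ht, ht, mul_add, mul_one, add_mul, one_mul, hr x z hxz]
    abel
  have hB : ∀ x z, x ≠ 0 → z ≠ 0 → h.b z x = 0 → r x + r z ∈ Bd (Dr R) := fun x z hx hz hxz => by
    rw [← hval x z hxz]
    exact Subring.sub_mem _ (mem_Bd (hmem x z hx hz)) (Subring.one_mem _)
  have hsw : ∀ {x y}, h.b x y = 0 → h.b y x = 0 := fun {x y} hxy => by rw [h.swap x y, hxy, map_zero, mul_zero]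
  have hspan : R.Span := by
    refine h.span_top (Bd (Dr R)) (fun c => cen_mem_Bd _ (h.smul_mem_center c)) {x | x ≠ 0}
      (exists_ne 0) (fun x hx => hx) (fun x hx => ?_) (fun x _ v hv => ⟨0, ?_, by rwa [zero_smul, add_zero]⟩)
    · obtain ⟨y, hy⟩ := h.exists_ne hx
      have hy0 : y ≠ 0 := by
        rintro rfl
        exact hy (h.zero_left x)
      obtain ⟨z, hz, h3, h4⟩ := exists_perp h hd x y
      have h5 : (r x + r z) * (r y + r z) * (r x + r z) = r x := by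
        rw [add_mul (r x), mul_add (r x), mul_add (r z), hr x z h3, hr z y (hsw h4), hr z z (hxx z), add_zero, add_zero,
          add_zero, mul_add, mul_assoc _ _ (r z), hr y z h4, mul_zero, add_zero]
        refine h.ap_ext fun v => ?_
        change h.b (h.b (h.b v x • x) y • y) x • x = h.b v x • x
        rw [h.smul_left, h.smul_left, hc _ hy, hc _ (h.ne_swap hy), mul_one, mul_one]
      change r x ∈ _
      rw [← h5]
      exact (Subring.mul_mem _ (Subring.mul_mem _ (hB x z hx hz h3) (hB y z hy0 hz h4)) (hB x z hx hz h3) :)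
    · rw [zero_smul, add_zero]
      rintro rfl
      exact hv (h.zero_left x)
  have hcen : ∀ z ∈ Subring.center h.EB, z = 0 ∨ z = 1 := fun z hz => by
    obtain ⟨c, rfl⟩ := cen_EB h hz
    by_cases h0 : c = 0
    · left
      rw [h0, zero_smul]
      rfl
    · right
      rw [hc c h0, one_smul]
      rfl
  refine Or.inr (Or.inl ⟨hD ▸ qs_inj qs_alt ψ hψ, hspan, ?_, Or.inl (Or.inr (Or.inr (Or.inr (Or.inr
    ⟨h2', fun t _ ht' => ?_, fun w _ h3 h4 => ?_, ψ c5, hD ▸ ⟨_, c5_mem, rfl⟩, by rw [← map_pow, c5_pow, map_one],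
      fun h3 => c5_ne ((injective_iff_map_eq_one ψ).1 hψ _ h3), ψ c4, ?_, (ψ c4⁻¹ : h.EBˣ), ?_, ?_⟩))))⟩)
  · obtain ⟨x, hx⟩ := exists_ne (0 : Fin 2 ⊕ Fin 2 → K)
    obtain ⟨y, hy⟩ := h.exists_ne hx
    obtain ⟨z, hz, h3, h4⟩ := exists_perp h hd x y
    refine ⟨_, hmem x z hx hz, fun h5 => ?_, 2, ?_⟩
    · have h6 := hval x z h3
      rw [h5, Units.val_one, sub_self] at h6
      have h7 : (0 : Fin 2 ⊕ Fin 2 → K) = h.b y x • x + h.b y z • z := congrArg (fun a => h.ap a y) h6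
      rw [hsw h4, zero_smul, add_zero, hc _ hy, one_smul] at h7
      exact hx h7.symm
    · rw [hval x z h3, pow_two, add_mul, mul_add, mul_add, hr x x (hxx x), hr x z h3, hr z x (hsw h3), hr z z (hxx z),
        add_zero, add_zero]
  · have h3 := comm_of_span hspan (z := (t : h.EB)) fun u hu => congrArg Units.val (ht' u hu)
    have := h.ss.1
    exact Units.ext ((hcen _ (Subring.mem_center_iff.2 fun g => (h3 g).symm)).resolve_left t.ne_zero)
  · rw [mul_one]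
    exact fix_five (K := K) (a := h.ap w) (by simp [hK]) (congrArg Units.val h3) fun h5 => h4 (Units.ext h5)
  · have h3 : Bd (Dr R) ≤ Subring.closure (insert (1 : h.EB) ((fun u : h.EBˣ => (u : h.EB)) '' (Dr R))) :=
      Bd_le (fun z hz => by
        rcases hcen z hz with rfl | rfl
        · exact Subring.zero_mem _
        · exact Subring.one_mem _) fun t ht' => Subring.subset_closure (Or.inr ⟨t, ht', rfl⟩)
    have h4 : Bd (Dr R) = ⊤ := hspan
    exact h3 (h4 ▸ trivial)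
  · rw [map_inv, Units.inv_mul]
  · rw [← Units.val_pow_eq_pow_val, ← Units.val_mul, ← Units.val_mul, ← map_pow, ← map_mul, ← map_mul, c4_c5]

theorem qsc_spH {m : ℕ} (hm : 0 < m) (R : FR (spH m K).EB) (hR : R.L = Lmax _) : QSC R := by
  have : Nonempty (Fin m ⊕ Fin m) := ⟨Sum.inl ⟨0, hm⟩⟩
  obtain ⟨x, hx⟩ := exists_ne (0 : Fin m ⊕ Fin m → K)
  have hk : (phSp m K (transv x 1) : (spH m K).EB) - 1 = (spH m K).eb ((1 : K) • (spH m K).ro x x) := by
    rw [phSp_transv, one_smul]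
  have hxx : (spH m K).b x x = 0 := sympForm_self x
  obtain ⟨h4, h5⟩ := uni_ro _ hx hxx one_ne_zero hk
  by_cases h2 : 2 ≤ m
  · by_cases h3 : m = 2 → 3 ≤ Fintype.card K
    · have hp := LieClassical.SympPerfect.commutator_eq_top (m := m) (F := K) (by omega)
      have hD := datSp hm hp hR
      have hm : phSp m K (transv x 1) ∈ Dr R := hD.range ▸ ⟨_, rfl⟩
      exact qsc_of_dat hD (qs_top hp (Cfsg.Agent.S0270.result m h2 h3)) ⟨_, hm, h4, h5⟩
        (Or.inl (Or.inl (tyR_ro _ (by simp only [_root_.Module.finrank_fintype_fun_eq_card, _root_.Fintype.card_sum, _root_.Fintype.card_fin]; omega) hm hx hxx one_ne_zero hk)))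
    · push Not at h3
      obtain ⟨rfl, h3⟩ := h3
      exact qsc_sp42 (by have := Vec.card_cases K; omega) R hR
  obtain rfl : m = 1 := by omega
  by_cases h6 : 4 ≤ Fintype.card K
  · have hq := qs_equiv (qs_sl2 h6) (spTwo K).symm
    have hD := datSp hm (top_of_qs hq) hR
    exact qsc_of_dat hD hq ⟨_, hD.range ▸ ⟨_, rfl⟩, h4, h5⟩
      (Or.inl (Or.inr (Or.inr (Or.inl (tyI_EB _ (by simp) R)))))
  · have := solv_sl2 h6
    exact Or.inl (solv_of_le (Group.isSolvable_of_isSolvable_injective (f := (spTwo K).toMonoidHom) (spTwo K).injective)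
      (phSp 1 K) (isoSp hR ▸ Dr_le R))

theorem qsc_S {A V : Type} [Ring A] [StarRing A] [AddCommGroup V] [Module K V] [Module.Finite K V] [Nontrivial V]
    (F : FR A) (e : A ≃+* Module.End K V) (b : LinearMap.BilinForm K V) (hb : b.IsAlt) (hs : b.SeparatingLeft)
    (hadj : ∀ a v w, b (e a v) w = b v (e (star a) w)) (hL : F.L = Lmax A) : QSC F := by
  obtain ⟨m, l, c, -, -, -, h4⟩ := Cfsg.Agent.S0752.result b hb
  have hl : l = 0 := by
    by_contra hl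
    exact c.ne_zero _ (hs _ (h4 ⟨0, Nat.pos_of_ne_zero hl⟩))
  subst hl
  have hm : Module.finrank K V = 2 * m := by
    rw [Module.finrank_eq_card_basis c]
    simp only [two_mul, _root_.Fintype.card_sum, _root_.Fintype.card_fin, _root_.Fintype.card_eq_zero, _root_.add_zero, _root_.Nat.add_left_cancel_iff]
  obtain ⟨g, hg⟩ := ClassicalGeometry.SympIso.exists_linearEquiv_sympForm b hb hs hm
  obtain ⟨e', h1, -⟩ := exists_iso (spH m K) e (fun v w => b v w) hadj g.symm (c := 1) fun u v => by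
    rw [one_mul]
    change sympForm m K _ _ = _
    rw [← hg, g.apply_symm_apply, g.apply_symm_apply]
  have h0 := Module.finrank_pos (R := K) (M := V)
  exact of_star h1 F fun R _ _ h2 => qsc_spH (by omega) R (h2 hL)

end Cfsg.Agent.Cam.Cl.Qs
end

-- part: Cam/Cl/QSO
section
/-!
# S3689, classical groups, `BoxQS`: orthogonal groups, general part (helper12)
-/

set_option autoImplicit false

namespace Cfsg.Agent.Cam.Cl.Qs

open Cfsg Cfsg.Agent.DS.Cl Cfsg.Agent.DS.Cl.Fwd Cfsg.Agent.Cam.Cl Cfsg.Agent.Cam.Cl.Tp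
open QuadraticMap Cfsg.Agent.LieClassical.OrthCore Cfsg.Agent.LieClassical.OrthTrans
open scoped Matrix MatrixGroups commutatorElement

variable {K V : Type} [Field K] [AddCommGroup V] [Module K V]

/-- four-groups of determinant one in dimension three -/
theorem four_group (h3 : Module.finrank K V = 3) (h2 : (2 : K) ≠ 0) {a b : Module.End K V} (ha : a * a = 1)
    (hb : b * b = 1) (hab : a * b = b * a) (da : LinearMap.det a = 1) (db : LinearMap.det b = 1) (a1 : a ≠ 1)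
    (b1 : b ≠ 1) (ab1 : a * b ≠ 1) : (1 + a) * (1 + b) = 0 := by
  have : Module.Finite K V := Module.finite_of_finrank_pos (by omega)
  have t1 := (trace_invol h3 ha da).resolve_left a1
  have t2 := (trace_invol h3 hb db).resolve_left b1
  have t3 := (trace_invol h3 (a := a * b) (by rw [mul_assoc, ← mul_assoc b, ← hab, mul_assoc, hb, mul_one, ha])
    (by rw [map_mul, da, db, mul_one])).resolve_left ab1
  have t0 : LinearMap.trace K V 1 = 3 := by rw [LinearMap.trace_one, h3, Nat.cast_ofNat]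
  obtain ⟨P, hP⟩ : ∃ P, P = (1 + a) * (1 + b) := ⟨_, rfl⟩
  have haP : a * P = P := by rw [hP, ← mul_assoc, mul_add a, mul_one, ha, add_comm a]
  have hbP : b * P = P := by
    rw [hP, ← mul_assoc, mul_add b, mul_one, ← hab, ← one_add_mul, mul_assoc, mul_add b, mul_one, hb, add_comm b]
  have tP : LinearMap.trace K V P = 0 := by
    rw [hP, add_mul, one_mul, mul_add, mul_one, map_add, map_add, map_add, t0, t1, t2, t3]
    norm_num
  have hPP : P * P = (4 : K) • P := by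
    conv_lhs => enter [1]; rw [hP]
    rw [mul_assoc, add_mul _ b, one_mul, hbP, add_mul, one_mul, mul_add, haP]
    module
  have hc : ((2 : K)⁻¹ • P - 1) * ((2 : K)⁻¹ • P - 1) = 1 := by
    rw [sub_mul, mul_sub, mul_sub, smul_mul_smul_comm, hPP, smul_smul, mul_one, one_mul, mul_one,
      show (2 : K)⁻¹ * 2⁻¹ * 4 = 2⁻¹ + 2⁻¹ by field_simp; norm_num, add_smul]
    abel
  have tc : LinearMap.trace K V ((2 : K)⁻¹ • P - 1) = -3 := by rw [map_sub, map_smul, tP, t0, smul_zero, zero_sub]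
  have dc := congrArg LinearMap.det hc
  rw [map_mul, map_one] at dc
  rw [← hP]
  rcases mul_self_eq_one_iff.1 dc with h | h
  · rcases trace_invol h3 hc h with h4 | h4
    · have h5 : a * ((2 : K)⁻¹ • P) = (2 : K)⁻¹ • P := by rw [mul_smul_comm, haP]
      rw [sub_eq_iff_eq_add.1 h4, mul_add, mul_one, ← two_smul K, ← two_smul K] at h5
      exact absurd (smul_right_injective _ h2 h5) a1
    · rw [tc] at h4
      exact absurd (by linear_combination -h4) h2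
  · rcases trace_invol h3 (a := (-1 : K) • ((2 : K)⁻¹ • P - 1)) (by rw [smul_mul_smul_comm, hc]; simp)
      (by rw [LinearMap.det_smul, h, h3]; norm_num) with h4 | h4
    · rw [neg_one_smul, neg_sub, sub_eq_self] at h4
      exact (smul_eq_zero.1 h4).resolve_left (inv_ne_zero h2)
    · rw [map_smul, tc, smul_eq_mul] at h4
      exact absurd (mul_self_eq_zero.1 (by linear_combination h4)) h2

variable {Q : QuadraticForm K V} (hQ : Nondeg Q)

include hQ in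
/-- Siegel transformations with a non-singular vector are commutators -/
theorem siegel_mem_comm {x v : V} (hx : Q x = 0) (hv : polar Q x v = 0) (hv' : Q v ≠ 0) :
    siegel Q x v hx hv ∈ ⁅O Q, O Q⁆ := by
  obtain ⟨y, h1, h2⟩ := exists_sep hQ (x := v) (z := x) fun c hc => hv' (by
    rw [hc, QuadraticMap.map_smul, hx, smul_zero])
  have h3 : polar Q x (-Q v • y) = 0 := by rw [polar_smul_right, h1, smul_zero]
  have h4 : refl Q v hv' x = x := by rw [refl_apply, polar_comm Q v x, hv, mul_zero, zero_smul, sub_zero]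
  have h5 : refl Q v hv' (-Q v • y) = -Q v • y + v := by
    rw [refl_apply, polar_smul_right, h2, smul_eq_mul, mul_one, mul_neg, inv_mul_cancel₀ hv', neg_one_smul,
      sub_neg_eq_add]
  have h6 : polar Q x (-Q v • y + v) = 0 := by rw [polar_add_right, h3, hv, add_zero]
  have h7 : polar Q x (-(-Q v • y)) = 0 := by rw [polar_neg_right, h3, neg_zero]
  have h8 := Subgroup.commutator_mem_commutator (refl_mem_O hv') (siegel_mem_O hx h3)
  rw [commutatorElement_def, siegel_conj (refl_mem_O hv') hx h3 (by rw [h4, hx]) (by rw [h4, h5, h6]),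
    LieClassical.OrthSimple.siegel_congr _ _ hx h6 h4 h5, siegel_inv hx h3 h7,
    siegel_mul hx h6 h7 (by rw [polar_add_right, h6, h7, add_zero])] at h8
  rwa [LieClassical.OrthSimple.siegel_congr hx hv hx (by rw [polar_add_right, h6, h7, add_zero]) rfl
    (show v = -Q v • y + v + -(-Q v • y) by abel)]

include hQ in
theorem exists_nons (h3 : 3 ≤ Module.finrank K V) {x y : V} (h : Hyp Q x y) :
    ∃ s, polar Q x s = 0 ∧ polar Q y s = 0 ∧ Q s ≠ 0 := by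
  obtain ⟨a, c, h1, h2, h4, h5, h6⟩ := exists_perp2 hQ h3 h
  rcases exists_nonsing h6 with h7 | h7 | h7
  · exact ⟨a, h1, h2, h7⟩
  · exact ⟨c, h4, h5, h7⟩
  · exact ⟨a + c, by rw [polar_add_right, h1, h4, add_zero], by rw [polar_add_right, h2, h5, add_zero], h7⟩

theorem ap_sieg {x s : V} (hx : Q x = 0) (hs : polar Q x s = 0) (v : V) :
    (orH Q hQ).ap ((psO (orH Q hQ) (siegel Q x s hx hs) : (orH Q hQ).EB) - 1) v =
      polar Q x v • s - (polar Q s v + Q s * polar Q x v) • x := by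
  rw [HF.ap_sub, ap_psO, HF.ap_one, siegel_apply]
  module

theorem sieg_mul {x s t : V} (hx : Q x = 0) (hs : polar Q x s = 0) (ht : polar Q x t = 0) :
    ((psO (orH Q hQ) (siegel Q x s hx hs) : (orH Q hQ).EB) - 1) *
      ((psO (orH Q hQ) (siegel Q x t hx ht) : (orH Q hQ).EB) - 1) =
        (orH Q hQ).eb (-polar Q s t • (orH Q hQ).ro x x) := (orH Q hQ).ap_ext fun v => by
  rw [HF.ap_mul, ap_sieg, ap_sieg]
  change _ = -polar Q s t • (polar Q v x • x)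
  simp only [polar_sub_right, polar_smul_right, polar_self_of_sing hx, ht, polar_comm Q s x, hs, polar_comm Q v x,
    smul_eq_mul]
  module

theorem uni_sieg {x s : V} (hx0 : x ≠ 0) (hx : Q x = 0) (hs : polar Q x s = 0) (hs' : Q s ≠ 0) :
    psO (orH Q hQ) (siegel Q x s hx hs) ≠ 1 ∧ Uni (psO (orH Q hQ) (siegel Q x s hx hs)) := by
  refine ⟨fun h => ?_, 3, ?_⟩
  · obtain ⟨y, hy⟩ := hQ.exists_polar_eq hx0 1
    have h1 := ap_sieg hQ hx hs y
    rw [h, Units.val_one, sub_self, hy, one_smul] at h1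
    have h2 : s = (polar Q s y + Q s * 1) • x := sub_eq_zero.1 h1.symm
    exact hs' (by rw [h2, QuadraticMap.map_smul, hx, smul_zero])
  · rw [pow_succ', pow_two, sieg_mul]
    refine (orH Q hQ).ap_ext fun v => ?_
    rw [HF.ap_mul]
    change (orH Q hQ).ap _ (-polar Q s s • (polar Q v x • x)) = 0
    rw [map_smul, map_smul, ap_sieg, polar_self_of_sing hx, polar_comm Q s x, hs]
    simp

theorem two_EB (h : HF K V) : (2 : h.EB) = h.eb ((2 : K) • 1) := by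
  have h1 := eb_natCast h 2
  rwa [Nat.cast_ofNat, Nat.cast_ofNat] at h1

theorem unit_two_EB (h : HF K V) (h2 : (2 : K) ≠ 0) : IsUnit (2 : h.EB) := by
  rw [two_EB]
  refine ⟨⟨_, h.eb ((2 : K)⁻¹ • 1), h.ap_ext fun v => ?_, h.ap_ext fun v => ?_⟩, rfl⟩
  · exact smul_inv_smul₀ h2 v
  · exact inv_smul_smul₀ h2 v

variable [Finite K] [Finite V]

theorem Dr_O {R : FR (orH Q hQ).EB} (hR : R.L = Lmin _) (hl : ∀ v, polar Q v ((orH Q hQ).ap R.l v) = Q v) :
    Dr R = (⁅O Q, O Q⁆ : Subgroup (V ≃ₗ[K] V)).map (psO (orH Q hQ)) := by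
  rw [Dr, ← isoO hQ hR hl, Subgroup.map_commutator]

theorem L_ne [Nontrivial V] (h2 : (2 : K) = 0) {R : FR (orH Q hQ).EB} (hR : R.L = Lmin _) : R.L ≠ Lmax _ := by
  let h := orH Q hQ
  intro h1
  obtain ⟨x, hx⟩ := exists_ne (0 : V)
  have h3 : h.eb (h.ro x x) ∈ Lmax h.EB := by
    change star (h.eb (h.ro x x)) = -h.eb (h.ro x x)
    rw [eq_neg_iff_add_eq_zero]
    refine h.ap_ext fun v => h.ext_right fun u => ?_
    rw [h.ap_add, h.add_right, h.b_star]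
    change polar Q (polar Q u x • x) v + polar Q u (polar Q v x • x) = polar Q u 0
    rw [polar_smul_left, polar_smul_right, polar_zero_right, polar_comm Q x v, smul_eq_mul, smul_eq_mul]
    linear_combination polar Q u x * polar Q v x * h2
  rw [← h1, hR, mem_Lmin_iff] at h3
  obtain ⟨y, hy⟩ := hQ.exists_polar_eq hx 1
  have h4 : polar Q y (polar Q y x • x) = 0 := h3 y
  rw [polar_smul_right, polar_comm Q y x, hy, smul_eq_mul, mul_one] at h4
  exact one_ne_zero h4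

variable {R : FR (orH Q hQ).EB} (hR : R.L = Lmin _) (hl : ∀ v, polar Q v ((orH Q hQ).ap R.l v) = Q v)

include hR hl

theorem sieg_mem {x s : V} (hx : Q x = 0) (hs : polar Q x s = 0) (hs' : Q s ≠ 0) :
    psO (orH Q hQ) (siegel Q x s hx hs) ∈ Dr R := by
  rw [Dr_O hQ hR hl]
  exact ⟨_, siegel_mem_comm hQ hx hs hs', rfl⟩

theorem spanO (h0 : ∃ x, x ≠ 0 ∧ Q x = 0) (H : ∀ x, x ≠ 0 → Q x = 0 →
    ∃ s t, polar Q x s = 0 ∧ polar Q x t = 0 ∧ Q s ≠ 0 ∧ Q t ≠ 0 ∧ polar Q s t ≠ 0) : R.Span := by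
  let h := orH Q hQ
  refine h.span_top (Bd (Dr R)) (fun c => cen_mem_Bd _ (h.smul_mem_center c)) {x | x ≠ 0 ∧ Q x = 0}
    h0 (fun x hx => hx.1) (fun x hx => ?_) (fun x hx v hv => ?_)
  · obtain ⟨s, t, h1, h2, h3, h4, h5⟩ := H x hx.1 hx.2
    have h6 := Subring.mul_mem _ (cen_mem_Bd _ (h.smul_mem_center (-polar Q s t)⁻¹)) (Subring.mul_mem _
      (Subring.sub_mem _ (mem_Bd (sieg_mem hQ hR hl hx.2 h1 h3)) (Subring.one_mem _))
      (Subring.sub_mem _ (mem_Bd (sieg_mem hQ hR hl hx.2 h2 h4)) (Subring.one_mem _)))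
    rwa [sieg_mul, ← h.eb_smul, smul_smul, inv_mul_cancel₀ (neg_ne_zero.2 h5), one_smul] at h6
  · have hv' : polar Q v x ≠ 0 := hv
    have hxx : polar Q x x = 0 := polar_self_of_sing hx.2
    have h1 : polar Q (v + (-(Q v) / polar Q v x) • x) x = polar Q v x := by
      rw [polar_add_left, polar_smul_left, hxx, smul_zero, add_zero]
    refine ⟨-(Q v) / polar Q v x, ⟨fun h0 => hv' ?_, ?_⟩, fun h0 => hv' (h1.symm.trans h0)⟩
    · rw [← h1, h0, polar_zero_left]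
    · rw [QuadraticMap.map_add (⇑Q), QuadraticMap.map_smul, hx.2, smul_zero, add_zero, polar_smul_right,
        smul_eq_mul]
      field_simp
      ring

omit hR hl [Finite V] in
theorem exists_sing (h3 : 3 ≤ Module.finrank K V) : ∃ x, x ≠ 0 ∧ Q x = 0 := by
  obtain ⟨x, -, h⟩ := LieClassical.OrthFinite.exists_sing_mem (Q := Q) ⊤ (by rwa [finrank_top])
  exact ⟨x, h⟩

theorem spanO_odd (h3 : 3 ≤ Module.finrank K V) (h2 : (2 : K) ≠ 0) : R.Span :=
  spanO hQ hR hl (exists_sing h3) fun x hx0 hx => by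
    obtain ⟨y, hy⟩ := exists_hyp hQ hx hx0
    obtain ⟨s, h1, -, h4⟩ := exists_nons hQ h3 hy
    exact ⟨s, s, h1, h1, h4, h4, by rw [polar_self']; exact mul_ne_zero h2 h4⟩

theorem qsc_of_qs (h3 : 3 ≤ Module.finrank K V) (hq : QS (⁅O Q, O Q⁆ : Subgroup (V ≃ₗ[K] V))) (hs : R.Span)
    (ht : Ty (Dr R) 1 ∨ R.L ≠ Lmax _) : QSC R := by
  obtain ⟨x, hx0, hx⟩ := exists_sing (Q := Q) h3
  obtain ⟨y, hy⟩ := exists_hyp hQ hx hx0
  obtain ⟨s, h1, -, h4⟩ := exists_nons hQ h3 hy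
  obtain ⟨h5, h6⟩ := uni_sieg hQ hx0 hx h1 h4
  exact Or.inr (Or.inl ⟨Dr_O hQ hR hl ▸ qs_inj hq _ (psO_inj _), hs, ⟨_, sieg_mem hQ hR hl hx h1 h4, h5, h6⟩, ht⟩)

theorem ty_four (h4 : 4 ≤ Module.finrank K V) : Ty (Dr R) 1 ∨ R.L ≠ Lmax _ := by
  have : Nontrivial V := Module.nontrivial_of_finrank_pos (R := K) (by omega)
  by_cases h2 : (2 : K) = 0
  · exact Or.inr (L_ne hQ h2 hR)
  obtain ⟨x, hx0, hx⟩ := exists_sing (Q := Q) (show 3 ≤ Module.finrank K V by omega)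
  obtain ⟨y, hy⟩ := exists_hyp hQ hx hx0
  obtain ⟨s, h1, h3, h5⟩ := exists_nons hQ (by omega) hy
  obtain ⟨h6, h7⟩ := uni_sieg hQ hx0 hx h1 h5
  obtain ⟨w, hw0, hw⟩ := exists_perp_ne (Q := Q) ![x, y, s] (by omega)
  have w1 : polar Q x w = 0 := hw 0
  have w2 : polar Q y w = 0 := hw 1
  have w3 : polar Q s w = 0 := hw 2
  obtain ⟨v, hv⟩ := hQ.exists_polar_ne hw0
  have hss : polar Q s s ≠ 0 := by rw [polar_self']; exact mul_ne_zero h2 h5
  have u1 : polar Q x (_root_.Cfsg.Agent.LieClassical.OrthTrans.proj Q x y v - (polar Q s (proj Q x y v) / polar Q s s) • s) = 0 := by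
    rw [polar_sub_right, polar_smul_right, polar_proj_left hy, h1, smul_zero, sub_zero]
  have u2 : polar Q s (proj Q x y v - (polar Q s (proj Q x y v) / polar Q s s) • s) = 0 := by
    rw [polar_sub_right, polar_smul_right, smul_eq_mul, div_mul_cancel₀ _ hss, sub_self]
  refine Or.inl (Or.inl (tyR_of _ (sieg_mem hQ hR hl hx h1 h5) h6 h7 (w := w)
    (w' := proj Q x y v - (polar Q s (proj Q x y v) / polar Q s s) • s) (fun z => ?_) ?_ ?_))
  · rw [ap_sieg]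
    change polar Q _ _ = 0
    rw [polar_sub_left, polar_smul_left, polar_smul_left, w1, w3, smul_zero, smul_zero, sub_zero]
  · rw [ap_sieg, u1, u2]
    simp
  · change polar Q _ _ ≠ 0
    rwa [polar_comm, polar_sub_right, polar_smul_right, polar_comm Q w s, w3, smul_zero, sub_zero,
      polar_proj_of_perp w1 w2]

theorem ty_three (h3 : Module.finrank K V = 3) (h2 : (2 : K) ≠ 0) : TyII (Dr R) 1 := by
  let h := orH Q hQ
  have : Nontrivial V := Module.nontrivial_of_finrank_pos (R := K) (by omega)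
  refine ⟨unit_two_EB h h2, fun t ht ht' => ?_, fun a ha b hb h4 h5 h6 h7 h8 h9 => ?_⟩
  · have h4 := comm_of_span (spanO_odd hQ hR hl h3.ge h2) (z := (t : h.EB)) fun u hu => congrArg Units.val (ht' u hu)
    obtain ⟨c, hc⟩ := cen_EB h (Subring.mem_center_iff.2 fun g => (h4 g).symm)
    have h5 := det_Dr h R ht
    have h6 := (Dr_le R ht).1
    rw [hc] at h5 h6
    rw [h.ap_eb, LinearMap.det_smul, map_one, mul_one, h3] at h5
    rw [star_smul_EB, ← h.eb_smul, smul_smul] at h6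
    have h7 : c * c = 1 := H277.FC.smul_one_inj (V := V) (h6.trans (one_smul K (1 : Module.End K V)).symm)
    have h8 : c = 1 := by linear_combination h5 - c * h7
    rw [h8, one_smul] at hc
    exact Units.ext hc
  · rw [mul_one]
    refine four_group h3 h2 (a := h.ap a) (b := h.ap b) (congrArg Units.val h4) (congrArg Units.val h5)
      (congrArg Units.val h6) (det_Dr h R ha) (det_Dr h R hb) (fun h => h7 (Units.ext h)) (fun h => h8 (Units.ext h))
      fun h => h9 ?_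
    have h10 : a * b = 1 := Units.ext h
    rw [← mul_one a, ← h5, ← mul_assoc, h10, one_mul]

theorem solv_O {G H : Type} [Group G] [Group H] (φ : G ≃* O Q) (hH : Group.IsSolvable H) (f : H →* G)
    (hf : commutator G ≤ f.range) : QSC R := by
  refine Or.inl ?_
  rw [Dr_O hQ hR hl, ← comm_equiv φ]
  exact solv_map (solv_map (solv_of_le hH f hf) _) _

omit hQ hR hl [Finite K] [Finite V] in
theorem qs_O {G H : Type} [Group G] [Group H] (φ : G ≃* O Q) (hH : QS (⊤ : Subgroup H)) (f : H →* G)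
    (hf : f.range = commutator G) (hk : ∀ k, f k = 1 → k ∈ Subgroup.center H) :
    QS (⁅O Q, O Q⁆ : Subgroup (V ≃ₗ[K] V)) := by
  rw [← comm_equiv φ, ← hf]
  exact qs_inj (qs_range hH f hk) _ (Subtype.val_injective.comp φ.injective)

theorem qsc_five (h5 : 5 ≤ Module.finrank K V) : QSC R := by
  have hG := LieClassical.OrthFinite.good_of_finite hQ h5
  have hp : commutator (E Q) = ⊤ := by
    apply Subgroup.map_injective (E Q).subtype_injective
    rw [Subgroup.map_subtype_commutator, hG.E_perfect, ← MonoidHom.range_eq_map, Subgroup.range_subtype]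
  refine qsc_of_qs hQ hR hl (by omega) ?_ (datO hG hR hl).span (ty_four hQ hR hl (by omega))
  have h1 := qs_inj (qs_top hp (LieClassical.OrthSimple.good_isSimpleGroup hG)) _ (E Q).subtype_injective
  rwa [← MonoidHom.range_eq_map, Subgroup.range_subtype, ← hG.commutator_eq_E] at h1

/-- change of the space -/
theorem qsc_congr {W : Type} [AddCommGroup W] [Module K W] [Finite W] {Q' : QuadraticForm K W} (hQ' : Nondeg Q')
    (g : V ≃ₗ[K] W) (hg : ∀ v, Q' (g v) = Q v)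
    (H : ∀ R' : FR (orH Q' hQ').EB, R'.L = Lmin _ → (∀ v, polar Q' v ((orH Q' hQ').ap R'.l v) = Q' v) → QSC R') :
    QSC R := by
  have hp : ∀ u v, polar Q' (g u) (g v) = polar Q u v := fun u v => by simp only [polar, ← map_add, hg]
  obtain ⟨e, h1, h2⟩ := exists_iso (orH Q' hQ') (A := (orH Q hQ).EB) (RingEquiv.refl _) (polar Q)
    (fun a v w => ((orH Q hQ).b_star a v w).symm) g (c := 1) fun u v => by rw [one_mul]; exact hp u v
  refine of_star h1 R fun R' h3 h4 _ => H R' (h4 hR) fun v => ?_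
  obtain ⟨v, rfl⟩ := g.surjective v
  rw [h3, h2, hp, hg]
  exact hl v

end Cfsg.Agent.Cam.Cl.Qs
end

-- part: Cam/Cl/QS
section
/-!
# S3689, classical groups: the box `BoxQS` (helper12)
-/

set_option autoImplicit false

namespace Cfsg.Agent.Cam.Cl.Qs

open Cfsg Cfsg.Agent.DS.Cl Cfsg.Agent.DS.Cl.Fwd Cfsg.Agent.Cam.Cl Cfsg.Agent.Cam.Cl.Tp
open QuadraticMap Cfsg.Agent.LieClassical Cfsg.Agent.LieClassical.OrthCore Cfsg.Agent.LieClassical.OrthTrans
open scoped Matrix MatrixGroups commutatorElement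

variable {K : Type} [Field K] [Fintype K]

section plus

open OrthFourPlus (M dt phi tau)

variable {Q : QuadraticForm K (M K)} (hQ : Nondeg Q)

/-- left multiplication -/
def lam : M K →+* (orH Q hQ).EB where
  toFun X := (orH Q hQ).eb (LinearMap.mulLeft K X)
  map_one' := (orH Q hQ).ap_ext fun v => one_mul v
  map_mul' X Y := (orH Q hQ).ap_ext fun v => mul_assoc X Y v
  map_zero' := (orH Q hQ).ap_ext fun v => zero_mul v
  map_add' X Y := (orH Q hQ).ap_ext fun v => add_mul X Y v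

omit [Fintype K] in
theorem lam_inj : Function.Injective (lam hQ) := fun X Y h => by
  have h1 : X * 1 = Y * 1 := congrArg (fun a => (orH Q hQ).ap a 1) h
  rwa [mul_one, mul_one] at h1

omit [Fintype K] in
theorem lam_smul (c : K) : lam hQ (c • 1) = (orH Q hQ).eb (c • 1) := (orH Q hQ).ap_ext fun v => by
  change (c • (1 : M K)) * v = c • v
  rw [Matrix.smul_mul, one_mul]

theorem left_factor (h4 : 4 ≤ Fintype.card K) (f : SL(2, K) →* (orH Q hQ).EBˣ)
    (hf : ∀ s, (f s : (orH Q hQ).EB) = lam hQ s.1) :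
    QS f.range ∧ HasUni f.range ∧ TyI f.range ∧ IsSimpleRing (Bd f.range) := by
  have hinj : Function.Injective f := fun s t h => Subtype.ext (lam_inj hQ (by rw [← hf, ← hf, h]))
  have htr : ∀ {i j : Fin 2} (hij : i ≠ j) (c : K),
      (f (Matrix.SpecialLinearGroup.transvection hij c) : (orH Q hQ).EB) - 1 = lam hQ (Matrix.single i j c) :=
    fun {i j} hij c => by
      rw [hf]
      change lam hQ (1 + Matrix.single i j c) - 1 = _
      rw [map_add, map_one, add_sub_cancel_left]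
  have h01 : (0 : Fin 2) ≠ 1 := by decide
  refine ⟨MonoidHom.range_eq_map f ▸ qs_inj (qs_sl2 h4) f hinj, ⟨_, ⟨Matrix.SpecialLinearGroup.transvection h01 1, rfl⟩,
    fun h => ?_, 2, ?_⟩, ?_, ?_⟩
  · have h1 := htr h01 1
    rw [h, Units.val_one, sub_self, ← map_zero (lam hQ)] at h1
    have h3 := congrFun (congrFun (lam_inj hQ h1) 0) 1
    rw [Matrix.single_apply_same] at h3
    exact zero_ne_one h3
  · rw [htr, ← map_pow, pow_two, Matrix.single_mul_single_of_ne _ _ _ _ h01.symm, map_zero]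
  · rintro s - _ ⟨t, rfl⟩
    rw [← map_inv, hf, hf, ← map_add, add_inv_mat (a := t.1) (b := (t⁻¹).1) (congrArg Subtype.val (mul_inv_cancel t)) t.2,
      lam_smul]
    exact Subring.mem_center_iff.1 ((orH Q hQ).smul_mem_center _) s
  · have h1 : Bd f.range = (lam hQ).range := by
      refine le_antisymm (Bd_le (fun z hz => ?_) ?_) ?_
      · obtain ⟨c, rfl⟩ := cen_EB _ hz
        exact ⟨_, lam_smul hQ c⟩
      · rintro _ ⟨t, rfl⟩
        exact ⟨_, (hf t).symm⟩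
      · rintro _ ⟨X, rfl⟩
        refine mat_ind (fun X => lam hQ X ∈ Bd f.range) ?_ (fun a b ha hb => ?_) (fun a b ha hb => ?_)
          (fun i j hij c => ?_) X
        · rw [map_zero]
          exact Subring.zero_mem _
        · rw [map_add]
          exact Subring.add_mem _ ha hb
        · rw [map_mul]
          exact Subring.mul_mem _ ha hb
        · rw [← htr hij]
          exact Subring.sub_mem _ (mem_Bd ⟨_, rfl⟩) (Subring.one_mem _)
    rw [h1]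
    exact IsSimpleRing.of_ringEquiv (RingEquiv.ofBijective (lam hQ).rangeRestrict
      ⟨fun X Y h => lam_inj hQ (congrArg Subtype.val h), (lam hQ).rangeRestrict_surjective⟩) inferInstance

theorem qsc_plus (hd : ∀ X, Q X = X.det) {R : FR (orH Q hQ).EB} (hR : R.L = Lmin _)
    (hl : ∀ v, polar Q v ((orH Q hQ).ap R.l v) = Q v) : QSC R := by
  let h := orH Q hQ
  have hO : OrthFourCommon.isom (dt K) = O Q := by
    ext g
    rw [mem_O, OrthFourCommon.mem_isom]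
    simp only [hd]
  by_cases h4 : 4 ≤ Fintype.card K
  swap
  · have := solv_sl2 h4
    exact solv_O hQ hR hl (MulEquiv.subgroupCongr hO) inferInstance phi OrthFourPlus.commutator_le
  obtain ⟨a, ha0, ha1⟩ := exists_ne_of_four (K := K) (by omega)
  let ι : OrthFourCommon.isom (dt K) →* h.EBˣ := (psO h).comp (OrthFourCommon.isom (dt K)).subtype
  have hD : Dr R = (ι.comp phi).range := by
    rw [Dr_O hQ hR hl, ← hO, MonoidHom.range_comp,
      le_antisymm (OrthFourPlus.le_commutator a ha0 ha1) OrthFourPlus.commutator_le, ← Subgroup.map_map,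
      Subgroup.map_subtype_commutator]
  let f := (ι.comp phi).comp (MonoidHom.inl _ _)
  have h1 := left_factor hQ h4 f fun s => h.ap_ext fun X => by
    change s.1 * X * (((Matrix.SpecialLinearGroup.toGL (1 : SL(2, K)))⁻¹ : GL (Fin 2) K) : M K) = s.1 * X
    rw [map_one, inv_one, Units.val_one, mul_one]
  have h2 : ((ι.comp phi).comp (MonoidHom.inr _ _)).range = f.range.map (uE (DS.Cl.cj h.EB (ι tau))) := by
    rw [← MonoidHom.range_comp]
    congr 1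
    ext1 s
    have h3 : phi (1, s) = tau * phi (s, 1) * tau⁻¹ := (OrthFourPlus.tau_conj (OrthFourPlus.inc (s, 1))).symm
    change ι (phi (1, s)) = _
    rw [h3, map_mul, map_mul, map_inv]
    rfl
  refine Or.inr (Or.inr ⟨?_, f.range, ((ι.comp phi).comp (MonoidHom.inr _ _)).range, ?_, ?_, ?_⟩)
  · by_cases h5 : (2 : K) = 0
    · exact Or.inl (L_ne hQ h5 hR)
    · have := h.ss.1
      exact Or.inr (unit_two_EB h h5).ne_zero
  · rw [hD]
    refine le_antisymm (sup_le ?_ ?_) ?_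
    · rintro _ ⟨s, rfl⟩
      exact ⟨_, rfl⟩
    · rintro _ ⟨s, rfl⟩
      exact ⟨_, rfl⟩
    · rintro _ ⟨⟨s, t⟩, rfl⟩
      rw [← Prod.fst_mul_snd (s, t), map_mul]
      exact Subgroup.mul_mem_sup ⟨s, rfl⟩ ⟨t, rfl⟩
  · rintro _ ⟨s, rfl⟩ _ ⟨t, rfl⟩
    change (ι.comp phi) (s, 1) * (ι.comp phi) (1, t) = (ι.comp phi) (1, t) * (ι.comp phi) (s, 1)
    rw [← map_mul, ← map_mul, Prod.mk_mul_mk, Prod.mk_mul_mk, mul_one, one_mul, mul_one, one_mul]
  · rintro Z (rfl | rfl)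
    · exact h1
    · rw [h2]
      exact ⟨qs_inj h1.1 _ (uE_inj _), hasUni_uE _ h1.2.1, tyI_uE _ h1.2.2.1, simple_Bd _ h1.2.2.2⟩

end plus

variable {V : Type} [AddCommGroup V] [Module K V] [Finite V] {Q : QuadraticForm K V} (hQ : Nondeg Q)

omit [Fintype K] [Finite V] in
/-- Witt index one -/
theorem witt_one {a b : K} (hab : ∀ z₁ z₂ : K, z₁ ^ 2 + a * z₁ * z₂ + b * z₂ ^ 2 = 0 → z₁ = 0 ∧ z₂ = 0)
    (g : V ≃ₗ[K] ((Fin 1 ⊕ Fin 1) ⊕ Fin 2 → K)) (hg : ∀ v, Q v = quadFormMinus 1 K a b (g v)) {x t : V} (hx : Q x = 0)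
    (ht : Q t = 0) (hxt : polar Q x t = 0) (hx0 : x ≠ 0) : ∃ c : K, t = c • x := by
  have h0 : ∀ v, Q v = 0 → g v (.inl (.inl 0)) * g v (.inl (.inr 0)) = 0 → g v (.inr 0) = 0 ∧ g v (.inr 1) = 0 :=
    fun v hv h => hab _ _ (by
      rw [hg, quadFormMinus, Fin.sum_univ_one, h, zero_add] at hv
      exact hv)
  have h1 : ∀ c d : K, Q (c • x + d • t) = 0 := fun c d => by
    rw [Q_add, QuadraticMap.map_smul, QuadraticMap.map_smul, polar_smul_left, polar_smul_right, hx, ht, hxt]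
    simp
  have h2 : ∀ v, g v (.inl (.inl 0)) = 0 → g v (.inl (.inr 0)) = 0 → Q v = 0 → v = 0 := fun v h3 h4 hv => by
    obtain ⟨h5, h6⟩ := h0 v hv (by rw [h3, zero_mul])
    apply g.injective
    rw [map_zero]
    funext i
    rcases i with (i | i) | i
    · rw [Subsingleton.elim i 0, h3]; rfl
    · rw [Subsingleton.elim i 0, h4]; rfl
    · fin_cases i
      · exact h5
      · exact h6
  have h3 : ∀ (c d : K) i, g (c • x + d • t) i = c * g x i + d * g t i := fun c d i => by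
    rw [map_add, map_smul, map_smul]
    rfl
  obtain ⟨p1, p2⟩ := h0 _ (h1 (g t (.inl (.inl 0))) (-g x (.inl (.inl 0)))) (by rw [h3]; ring)
  obtain ⟨q1, q2⟩ := h0 _ (h1 (g t (.inl (.inr 0))) (-g x (.inl (.inr 0)))) (by rw [h3, h3]; ring)
  have h4 := h1 (g t (.inl (.inl 0)) + g t (.inl (.inr 0))) (-g x (.inl (.inl 0)) + -g x (.inl (.inr 0)))
  rw [h3] at p1 p2 q1 q2
  rw [hg, quadFormMinus, Fin.sum_univ_one, h3, h3, h3, h3,
    show (g t (.inl (.inl 0)) + g t (.inl (.inr 0))) * g x (.inr 0) +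
      (-g x (.inl (.inl 0)) + -g x (.inl (.inr 0))) * g t (.inr 0) = 0 by linear_combination p1 + q1,
    show (g t (.inl (.inl 0)) + g t (.inl (.inr 0))) * g x (.inr 1) +
      (-g x (.inl (.inl 0)) + -g x (.inl (.inr 0))) * g t (.inr 1) = 0 by linear_combination p2 + q2] at h4
  have h5 : g t (.inl (.inl 0)) * g x (.inl (.inr 0)) - g x (.inl (.inl 0)) * g t (.inl (.inr 0)) = 0 :=
    pow_eq_zero_iff two_ne_zero |>.1 (by linear_combination -h4)
  have h6 : ∀ c d : K, d ≠ 0 → c • x + d • t = 0 → ∃ c : K, t = c • x := fun c d hd h =>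
    ⟨-(d⁻¹ * c), by rw [neg_smul, mul_smul, eq_neg_of_add_eq_zero_left h, smul_neg, neg_neg, inv_smul_smul₀ hd]⟩
  by_cases h7 : g x (.inl (.inl 0)) = 0
  · by_cases h8 : g x (.inl (.inr 0)) = 0
    · exact absurd (h2 x h7 h8 hx) hx0
    · exact h6 _ _ (neg_ne_zero.2 h8) (h2 _ (by rw [h3]; linear_combination -h5) (by rw [h3]; ring)
        (h1 (g t (.inl (.inr 0))) _))
  · exact h6 _ _ (neg_ne_zero.2 h7) (h2 _ (by rw [h3]; ring) (by rw [h3]; linear_combination h5)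
      (h1 (g t (.inl (.inl 0))) _))

variable {R : FR (orH Q hQ).EB} (hR : R.L = Lmin _) (hl : ∀ v, polar Q v ((orH Q hQ).ap R.l v) = Q v)

include hR hl

theorem qsc_minus (h4 : Module.finrank K V = 4) {a b : K}
    (hab : ∀ z₁ z₂ : K, z₁ ^ 2 + a * z₁ * z₂ + b * z₂ ^ 2 = 0 → z₁ = 0 ∧ z₂ = 0)
    (g : V ≃ₗ[K] ((Fin 1 ⊕ Fin 1) ⊕ Fin 2 → K)) (hg : ∀ v, Q v = quadFormMinus 1 K a b (g v)) : QSC R := by
  have : Fact (∀ r : K, r ^ 2 ≠ -b + a * r) := ⟨fun r hr =>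
    one_ne_zero (hab (-r) 1 (by linear_combination hr)).2⟩
  let _ : Fintype (OrthFourMinus.E K (-b) a) := Fintype.ofEquiv _ (QuadraticAlgebra.equivProd (-b) a).symm
  have hcard : 4 ≤ Fintype.card (OrthFourMinus.E K (-b) a) := by
    rw [Fintype.card_congr (QuadraticAlgebra.equivProd (-b) a), Fintype.card_prod]
    have : 1 < Fintype.card K := Fintype.one_lt_card
    nlinarith only [this]
  obtain ⟨ε⟩ := OrthFourCommon.exists_isometryGroup_equiv (OrthFourMinus.coord K (-b) a) (quadFormMinus 1 K a b)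
    (OrthFourMinus.Q (-b) a) (OrthFourMinus.Q_coord a b)
  obtain ⟨φ⟩ := Vec.O_equiv g _ Q one_ne_zero fun v => by rw [one_mul, hg]
  refine qsc_of_qs hQ hR hl (by omega) (qs_O (ε.symm.trans φ) (qs_sl2 hcard) OrthFourMinus.phi
    (le_antisymm OrthFourMinus.le_commutator (OrthFourMinus.commutator_le' (OrthFourMinus.exists_eq
      OrthFourMinus.norm_surjective))) fun k hk => OrthFourMinus.mem_center_of_phi_eq_one hk)
    (spanO hQ hR hl (exists_sing (by omega)) fun x hx0 hx => ?_) (ty_four hQ hR hl h4.ge)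
  obtain ⟨y, hy⟩ := exists_hyp hQ hx hx0
  obtain ⟨s, t, h1, h2, h3, h5, h6⟩ := exists_perp2 hQ (by omega) hy
  have h7 : ∀ w, polar Q x w = 0 → polar Q y w = 0 → Q w = 0 → w = 0 := fun w p1 p2 p3 => by
    obtain ⟨c, rfl⟩ := witt_one hab g hg hx p3 p1 hx0
    rw [polar_smul_right, hy.pair', smul_eq_mul, mul_one] at p2
    rw [p2, zero_smul]
  refine ⟨s, t, h1, h3, fun h => ?_, fun h => ?_, by rw [h6]; exact one_ne_zero⟩
  · rw [h7 s h1 h2 h, polar_zero_left] at h6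
    exact zero_ne_one h6
  · rw [h7 t h3 h5 h, polar_zero_right] at h6
    exact zero_ne_one h6

theorem qsc_three (h2 : Module.finrank K V = 2 * 1 + 1) : QSC R := by
  have : Module.Finite K V := Module.Finite.of_finite
  have hQ' : (QuadraticMap.polarBilin Q).Nondegenerate :=
    ⟨fun x hx => hQ x hx, fun x hx => hQ x fun y => by rw [QuadraticMap.polar_comm]; exact hx y⟩
  obtain ⟨c, h3, h4, h5, h6, -⟩ := Cfsg.Agent.S2618.result h2 Q hQ'
  have hc : ∀ v, v = c.repr v (.inl ()) • c (.inl ()) + (c.repr v (.inr (.inl 0)) • c (.inr (.inl 0)) +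
      c.repr v (.inr (.inr 0)) • c (.inr (.inr 0))) := by
    intro v
    conv_lhs => rw [← c.sum_repr v]
    simp only [Fintype.sum_sum_type, Fintype.sum_unique]
    rfl
  have h7 := h6 0 0
  rw [if_pos rfl] at h7
  have h8 : (2 : K) ≠ 0 := by
    intro h9
    refine c.ne_zero (.inl ()) (hQ _ fun y => ?_)
    rw [hc y]
    simp only [QuadraticMap.polar_add_right, QuadraticMap.polar_smul_right, (h4 0).1, (h4 0).2, polar_self', h9,
      zero_mul, smul_zero, add_zero]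
  let c' := c.unitsSMul (Sum.elim (fun _ => 1) (Sum.elim (fun _ => Units.mk0 _ h3) fun _ => 1))
  obtain ⟨φ⟩ := Vec.O_equiv c'.equivFun (quadFormOdd 1 K) Q h3 fun v => by
    conv_lhs => rw [hc v]
    simp only [Q_add, QuadraticMap.map_smul, QuadraticMap.polar_add_right, QuadraticMap.polar_smul_right,
      QuadraticMap.polar_smul_left, (h4 0).1, (h4 0).2, (h5 0).1, (h5 0).2, h7, smul_eq_mul, quadFormOdd, c',
      Module.Basis.equivFun_apply, Module.Basis.repr_unitsSMul, Fin.sum_univ_one, Sum.elim_inl, Sum.elim_inr,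
      inv_one, one_smul, Units.smul_def, Units.val_inv_eq_inv_val, Units.val_mk0]
    field_simp
    ring
  have h9 := OrthThreeOmega.range_psi (F := K) ⟨-1, neg_ne_zero.2 one_ne_zero, fun h => h8 (by linear_combination -h)⟩
  by_cases h10 : 4 ≤ Fintype.card K
  · exact qsc_of_qs hQ hR hl h2.ge (qs_O φ (qs_sl2 h10) OrthThreeOmega.psi h9 fun k hk =>
      OrthThreeOmega.mem_center_of_psi_comm h8 fun t => by rw [hk, one_mul, mul_one]) (spanO_odd hQ hR hl h2.ge h8)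
      (Or.inl (Or.inr (Or.inr (Or.inr (Or.inl (ty_three hQ hR hl h2 h8))))))
  · exact solv_O hQ hR hl φ (solv_sl2 h10) OrthThreeOmega.psi h9.ge

theorem qsc_orH : QSC R := by
  have : Module.Finite K V := Module.Finite.of_finite
  have hQ' : (QuadraticMap.polarBilin Q).Nondegenerate :=
    ⟨fun x hx => hQ x hx, fun x hx => hQ x fun y => by rw [QuadraticMap.polar_comm]; exact hx y⟩
  have han : ∀ ζ : K, (∀ t : K, t ^ 2 + t + ζ ≠ 0) → ∀ z₁ z₂ : K, z₁ ^ 2 + 1 * z₁ * z₂ + ζ * z₂ ^ 2 = 0 →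
      z₁ = 0 ∧ z₂ = 0 := by
    intro ζ hζ z₁ z₂ h
    by_cases h2 : z₂ = 0
    · rw [h2] at h
      exact ⟨by simpa using h, h2⟩
    · refine absurd ?_ (hζ (z₁ / z₂))
      field_simp
      linear_combination h
  by_cases h5 : 5 ≤ Module.finrank K V
  · exact qsc_five hQ hR hl h5
  by_cases h1 : Module.finrank K V ≤ 1
  · refine solv_of_comm R fun a _ b _ => Units.ext ((orH Q hQ).ap_ext fun w => ?_)
    obtain ⟨v, hv⟩ := finrank_le_one_iff.1 h1
    obtain ⟨s, hs⟩ := hv ((orH Q hQ).ap a v)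
    obtain ⟨t, ht⟩ := hv ((orH Q hQ).ap b v)
    obtain ⟨c, rfl⟩ := hv w
    rw [Units.val_mul, Units.val_mul, HF.ap_mul, HF.ap_mul]
    simp only [map_smul, ← hs, ← ht, smul_smul]
    rw [mul_right_comm]
  have hd : ∀ n, (DihedralGroup n ≃* O Q) → QSC R := fun n φ =>
    solv_O hQ hR hl φ (solv_dihedral n) (commutator _).subtype (Subgroup.range_subtype _).ge
  have h2 : Module.finrank K V = 2 * 1 ∨ Module.finrank K V = 2 * 1 + 1 ∨ Module.finrank K V = 2 * 2 := by omega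
  rcases h2 with h2 | h2 | h2
  · rcases H174.exists_std le_rfl h2 Q hQ' with ⟨g, hg⟩ | ⟨ζ, g, hζ, hg⟩
    · obtain ⟨φ⟩ := Vec.O_equiv g _ Q one_ne_zero fun v => by rw [one_mul, hg]
      obtain ⟨ψ⟩ := Cfsg.Agent.S0305.result (F := K) rfl
      exact hd _ (ψ.symm.trans φ)
    · obtain ⟨φ⟩ := Vec.O_equiv g _ Q one_ne_zero fun v => by rw [one_mul, hg]
      obtain ⟨ψ⟩ := Cfsg.Agent.S0306.result (F := K) rfl 1 ζ (han ζ hζ)
      exact hd _ (ψ.symm.trans φ)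
  · exact qsc_three hQ hR hl h2
  · rcases H174.exists_std (by norm_num) h2 Q hQ' with ⟨g, hg⟩ | ⟨ζ, g, hζ, hg⟩
    · let g' := g.trans (OrthFourPlus.coord K)
      let Q' : QuadraticForm K (OrthFourPlus.M K) := Q.comp g'.symm.toLinearMap
      have h3 : ∀ v, Q' (g' v) = Q v := fun v => congrArg Q (g'.symm_apply_apply v)
      have h4 : Nondeg Q' := fun x hx => by
        obtain ⟨x, rfl⟩ := g'.surjective x
        rw [hQ x fun y => by
          have h6 := hx (g' y)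
          simp only [polar, ← map_add, h3] at h6
          exact h6, map_zero]
      have : Finite (OrthFourPlus.M K) := Finite.of_equiv _ g'.toEquiv
      refine qsc_congr hQ hR hl h4 g' h3 fun R' h6 h7 => qsc_plus h4 (fun X => ?_) h6 h7
      obtain ⟨v, rfl⟩ := g'.surjective X
      rw [h3, hg]
      exact (OrthFourPlus.coord_det _).symm
    · exact qsc_minus hQ hR hl h2 (han ζ hζ) g hg

omit hQ hR hl in
theorem qsc_O {A : Type} [Ring A] [StarRing A] (F : FR A) (e : A ≃+* Module.End K V) (b : LinearMap.BilinForm K V)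
    (hb : ∀ v w, b w v = b v w) (hs : b.SeparatingLeft) (hadj : ∀ a v w, b (e a v) w = b v (e (star a) w))
    (hL : F.L = Lmin A) : QSC F := by
  let Q : QuadraticForm K V := LinearMap.BilinMap.toQuadraticMap (b.compl₂ (e F.l))
  have hpol : ∀ v w, polar Q v w = b v w := by
    intro v w
    rw [LinearMap.BilinMap.polar_toQuadraticMap, LinearMap.compl₂_apply, LinearMap.compl₂_apply, hb (e F.l v), hadj,
      ← map_add, ← LinearMap.add_apply, ← map_add, F.l_add, map_one, Module.End.one_apply]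
  have hQ : Nondeg Q := fun x hx => hs x fun y => by rw [← hpol, hx]
  obtain ⟨e', h1, h2⟩ := exists_iso (orH Q hQ) e (fun v w => b v w) hadj (LinearEquiv.refl K V) (c := 1)
    fun u v => by rw [one_mul]; exact hpol u v
  refine of_star h1 F fun R h3 h4 _ => qsc_orH hQ (h4 hL) fun v => ?_
  have h5 : (orH Q hQ).ap (e' F.l) v = e F.l v := h2 F.l v
  rw [h3, h5, hpol]
  rfl

omit hQ hR hl in
theorem qsc_B {A : Type} [Ring A] [StarRing A] (F : FR A) (hM : ModB A) : QSC F := by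
  obtain ⟨K, _, _, n, e, b, hn, hb, hs, hadj⟩ := hM
  have : Nonempty (Fin n) := ⟨⟨0, hn⟩⟩
  by_cases h2 : (2 : K) = 0
  · have hb' : ∀ v w, b w v = b v w := by
      rcases hb with hb | hb
      · exact hb
      · intro v w
        linear_combination hb v w - b v w * h2
    rcases F.par with hL | hL
    · exact qsc_O F e b hb' hs hadj hL
    · refine qsc_S F e b (fun v => ?_) hs hadj hL
      have h3 : b v v = b v (e (F.l + star F.l) v) := by rw [F.l_add, map_one, Module.End.one_apply]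
      rw [map_add, LinearMap.add_apply, map_add, ← hadj, hb' (e F.l v)] at h3
      linear_combination h3 + b (e F.l v) v * h2
  · have h3 : IsUnit (2 : A) := by
      have h4 : IsUnit (2 : Module.End K (Fin n → K)) := by
        rw [← map_ofNat (algebraMap K (Module.End K (Fin n → K)))]
        exact (IsUnit.mk0 _ h2).map _
      rw [← map_ofNat e.symm]
      exact h4.map _
    have h4 := Tp.Lmin_eq_Lmax h3
    have hL : F.L = Lmax A := F.par.elim (fun h => h.trans h4) id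
    rcases hb with hb | hb
    · exact qsc_O F e b hb hs hadj (hL.trans h4.symm)
    · refine qsc_S F e b (fun v => ?_) hs hadj hL
      have h4 : 2 * b v v = 0 := by linear_combination hb v v
      exact (mul_eq_zero.1 h4).resolve_left h2

omit hQ hR hl in
/-- **the box `BoxQS`** -/
theorem boxQS : BoxQS := by
  intro A _ _ _ h F
  rcases exists_model h with hM | hM | hM
  · exact qsc_L F hM
  · exact qsc_U F hM
  · exact qsc_B F hM

end Cfsg.Agent.Cam.Cl.Qs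
end

-- part: Cam/Cl/O2a
section
/-!
# Classical rows of S3689, orthogonal groups in characteristic two: vectors (helper53)
-/

set_option autoImplicit false
set_option linter.unusedSectionVars false

namespace Cfsg.Agent.Cam.Cl.Ot

open Cfsg Cfsg.Agent.DS.Cl QuadraticMap Cfsg.Agent.LieClassical.OrthCore Cfsg.Agent.LieClassical.OrthTrans Module

variable {A : Type} [Ring A] [StarRing A] {K V : Type} [Field K] [AddCommGroup V] [Module K V]

/-- the data of `O2 F` -/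
structure OD (F : FR A) (Q : QuadraticForm K V) (e : A ≃+* End K V) : Prop where
  good : Good Q
  two : (2 : K) = 0
  lmin : F.L = Lmin A
  adj : ∀ a u v, polar Q (e a u) v = polar Q u (e (star a) v)
  lq : ∀ v, polar Q v (e F.l v) = Q v

section ap

variable (e : A ≃+* End K V)

theorem ext_ap {a b : A} (h : ∀ x, e a x = e b x) : a = b := e.injective (LinearMap.ext h)

theorem ap_mul (a b : A) (x : V) : e (a * b) x = e a (e b x) := by rw [map_mul]; rfl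

theorem ap_one (x : V) : e 1 x = x := by rw [map_one]; rfl

theorem ap_zero (x : V) : e 0 x = 0 := by rw [map_zero]; rfl

theorem ap_add (a b : A) (x : V) : e (a + b) x = e a x + e b x := by rw [map_add]; rfl

theorem ap_sub (a b : A) (x : V) : e (a - b) x = e a x - e b x := by rw [map_sub]; rfl

theorem ap_inv_ap (u : Aˣ) (x : V) : e (u⁻¹ : Aˣ) (e u x) = x := by rw [← ap_mul, Units.inv_mul, ap_one]

theorem ap_ap_inv (u : Aˣ) (x : V) : e u (e (u⁻¹ : Aˣ) x) = x := by rw [← ap_mul, Units.mul_inv, ap_one]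

theorem ap_umul (u v : Aˣ) (x : V) : e (u * v : Aˣ) x = e u (e v x) := by rw [Units.val_mul, ap_mul]

theorem ap_uone (x : V) : e (1 : Aˣ) x = x := by rw [Units.val_one, ap_one]

/-- units as linear equivalences -/
noncomputable def le : Aˣ ≃* (V ≃ₗ[K] V) :=
  (Units.mapEquiv e.toMulEquiv).trans (LinearMap.GeneralLinearGroup.generalLinearEquiv K V)

theorem le_apply (u : Aˣ) (v : V) : le e u v = e u v := rfl

theorem le_symm_apply (g : V ≃ₗ[K] V) (v : V) : e ((le e).symm g : Aˣ) v = g v := by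
  rw [← le_apply, MulEquiv.apply_symm_apply]

/-- the map `x ↦ f(a, x) z` -/
noncomputable def ro (Q : QuadraticForm K V) (a z : V) : A := e.symm ((polarBilin Q a).smulRight z)

theorem ro_apply (Q : QuadraticForm K V) (a z x : V) : e (ro e Q a z) x = polar Q a x • z := by
  rw [ro, RingEquiv.apply_symm_apply]; rfl

/-- the fixed space -/
def Cv (Z : Subgroup Aˣ) : Submodule K V where
  carrier := {v | ∀ z ∈ Z, e (z : A) v = v}
  add_mem' := fun {a b} ha hb z hz => by rw [map_add, ha z hz, hb z hz]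
  zero_mem' := fun z _ => map_zero _
  smul_mem' := fun c a ha z hz => by rw [map_smul, ha z hz]

/-- the commutator space -/
def Iv (Z : Subgroup Aˣ) : Submodule K V := Submodule.span K {v | ∃ z ∈ Z, ∃ x, v = e (z : A) x - x}

variable {e}

theorem sub_mem_Iv {Z : Subgroup Aˣ} {z : Aˣ} (hz : z ∈ Z) (x : V) : e (z : A) x - x ∈ Iv e Z :=
  Submodule.subset_span ⟨z, hz, x, rfl⟩

theorem Iv_le {Z : Subgroup Aˣ} {W : Submodule K V} (h : ∀ z ∈ Z, ∀ x, e (z : A) x - x ∈ W) : Iv e Z ≤ W := by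
  rw [Iv, Submodule.span_le]
  rintro _ ⟨z, hz, x, rfl⟩
  exact h z hz x

theorem Cv_inv {Z : Subgroup Aˣ} {h : Aˣ} (hn : ∀ z ∈ Z, h⁻¹ * z * h ∈ Z) {x : V} (hx : x ∈ Cv e Z) :
    e (h : A) x ∈ Cv e Z := fun z hz => by
  have h1 := congrArg (e (h : A)) (hx _ (hn z hz))
  rwa [ap_umul, ap_umul, ap_ap_inv] at h1

theorem Iv_inv {Z : Subgroup Aˣ} {h : Aˣ} (hn : ∀ z ∈ Z, h * z * h⁻¹ ∈ Z) {x : V} (hx : x ∈ Iv e Z) :
    e (h : A) x ∈ Iv e Z := by
  refine (Iv_le (W := (Iv e Z).comap (e (h : A))) fun z hz y => ?_) hx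
  have h1 := sub_mem_Iv (e := e) (hn z hz) (e (h : A) y)
  rw [ap_umul, ap_umul, ap_inv_ap] at h1
  rwa [Submodule.mem_comap, map_sub]

theorem ImI_kill {Z : Subgroup Aˣ} {a : A} (ha : a ∈ ImI Z) {x : V} (hx : x ∈ Cv e Z) : e a x = 0 := by
  let I : Ideal A :=
    { carrier := {a | e a x = 0}
      add_mem' := fun {a b} (ha : e a x = 0) (hb : e b x = 0) => by
        change e (a + b) x = 0
        rw [ap_add, ha, hb, add_zero]
      zero_mem' := ap_zero e x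
      smul_mem' := fun c a (ha : e a x = 0) => by
        change e (c * a) x = 0
        rw [ap_mul, ha, map_zero] }
  refine (ImI_le (I := I) fun t ht => ?_) ha
  change e ((t : A) - 1) x = 0
  rw [ap_sub, hx t ht, ap_one, sub_self]

end ap

namespace OD

variable {F : FR A} {Q : QuadraticForm K V} {e : A ≃+* End K V} (h : OD F Q e)
include h

theorem ext_f {x x' : V} (H : ∀ y, polar Q x y = polar Q x' y) : x = x' :=
  sub_eq_zero.1 (h.good.nondeg _ fun y => by rw [polar_sub_left, H, sub_self])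

theorem self (x : V) : polar Q x x = 0 := by rw [polar_self', h.two, zero_mul]

theorem kadd (c : K) : c + c = 0 := by rw [← two_mul, h.two, zero_mul]

theorem vadd (x : V) : x + x = 0 := by rw [← two_smul K, h.two, zero_smul]

theorem aadd (a : A) : a + a = 0 := ext_ap e fun x => by rw [ap_add, h.vadd, ap_zero]

theorem ksub (c d : K) : c - d = c + d := by rw [sub_eq_add_neg, neg_eq_of_add_eq_zero_left (h.kadd d)]

theorem vsub (x y : V) : x - y = x + y := by rw [sub_eq_add_neg, neg_eq_of_add_eq_zero_left (h.vadd y)]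

theorem asub (a b : A) : a - b = a + b := by rw [sub_eq_add_neg, neg_eq_of_add_eq_zero_left (h.aadd b)]

theorem adj' (a : A) (u v : V) : polar Q (e (star a) u) v = polar Q u (e a v) := by rw [h.adj, star_star]

theorem star_ro (a z : V) : star (ro e Q a z) = ro e Q z a := ext_ap e fun x => h.ext_f fun y => by
  rw [h.adj', ro_apply, ro_apply, polar_smul_left, polar_smul_right, smul_eq_mul, smul_eq_mul, polar_comm Q x z, mul_comm]

theorem iso_polar {u : A} (hu : star u * u = 1) (x y : V) : polar Q (e u x) (e u y) = polar Q x y := by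
  rw [h.adj, ← ap_mul, hu, ap_one]

theorem inv_adj {u : Aˣ} (hu : (u : A) * star (u : A) = 1) (x y : V) :
    polar Q (e u x) y = polar Q x (e (u⁻¹ : Aˣ) y) := by rw [h.adj, star_eq_inv hu]

variable [Finite K] [Finite V]

theorem sqrt (c : K) : ∃ a, a * a = c := by
  have h1 : Function.Injective fun a : K => a * a := fun a b (H : a * a = b * b) => by
    have h2 : (a + b) * (a + b) = 0 := by linear_combination H + (a * b + b * b) * h.two
    rw [← sub_eq_zero, h.ksub]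
    exact mul_self_eq_zero.1 h2
  exact Finite.injective_iff_surjective.1 h1 c

theorem mem_L {x : A} : x ∈ F.L ↔ ∀ v, polar Q v (e x v) = 0 := by
  rw [h.lmin]
  constructor
  · rintro ⟨a, rfl⟩ v
    rw [ap_sub, polar_sub_right, ← h.adj, polar_comm, sub_self]
  · intro H
    obtain ⟨a, ha⟩ := (Fwd.mem_Lmin_iff Q h.good.nondeg ((Fwd.orH Q h.good.nondeg).eb (e x))).2 H
    refine ⟨e.symm ((Fwd.orH Q h.good.nondeg).ap a), ext_ap e fun v => ?_⟩
    have h1 : e x v = (Fwd.orH Q h.good.nondeg).ap (a - star a) v := by rw [← ha]; rfl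
    rw [h1, Fwd.HF.ap_sub, ap_sub, RingEquiv.apply_symm_apply]
    congr 1
    refine h.ext_f fun y => ?_
    rw [h.adj', RingEquiv.apply_symm_apply]
    exact (Fwd.orH Q h.good.nondeg).star_b a v y

theorem iso_Q {u : Aˣ} (hu : u ∈ F.Iso) (v : V) : Q (e u v) = Q v := by
  have h1 := h.mem_L.1 hu.2 (e u v)
  rw [ap_sub, polar_sub_right, h.lq, ap_mul, ap_mul, ← ap_mul e (star (u : A)), FR.Iso.sm hu, ap_one,
    h.iso_polar (FR.Iso.sm hu), h.lq, sub_eq_zero] at h1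
  exact h1.symm

theorem mem_Iso {u : Aˣ} (hu : ∀ v, Q (e u v) = Q v) : u ∈ F.Iso := by
  have h1 : star (u : A) * u = 1 := ext_ap e fun x => h.ext_f fun y => by
    rw [ap_mul, h.adj', ap_one]
    simp only [polar, ← map_add, hu]
  have h2 : (u : A) * star (u : A) = 1 := by
    rw [← mul_one (star (u : A)), ← u.mul_inv, ← mul_assoc (star (u : A)), h1, one_mul, u.mul_inv]
  refine ⟨h2, h.mem_L.2 fun v => ?_⟩
  rw [ap_sub, polar_sub_right, h.lq, ap_mul, ap_mul, ← h.adj', h.lq, ← hu, ← ap_mul, h2, ap_one, sub_self]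

theorem mem_Dr {g : V ≃ₗ[K] V} (hg : g ∈ E Q) : (le e).symm g ∈ Dr F := by
  have h1 : (O Q).map (le e).symm.toMonoidHom ≤ F.Iso := by
    rintro _ ⟨g, hg, rfl⟩
    exact h.mem_Iso fun v => by rw [MulEquiv.coe_toMonoidHom, le_symm_apply]; exact hg v
  refine Subgroup.commutator_mono h1 h1 ?_
  rw [← Subgroup.map_commutator, h.good.commutator_eq_E]
  exact ⟨g, hg, rfl⟩

theorem exists_siegel {a b : V} (ha : Q a = 0) (hb : polar Q a b = 0) : ∃ u ∈ Dr F, ∀ x,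
    e (u : A) x = x + polar Q a x • b - polar Q b x • a - (Q b * polar Q a x) • a :=
  ⟨_, h.mem_Dr (siegel_mem_E ha hb), fun x => by rw [le_symm_apply, siegel_apply]⟩

theorem exists_refl {v : V} (hv : Q v ≠ 0) : ∃ u ∈ F.Iso, ∀ x, e (u : A) x = x - ((Q v)⁻¹ * polar Q v x) • v :=
  ⟨(le e).symm (refl Q v hv), h.mem_Iso fun x => by rw [le_symm_apply]; exact refl_mem_O hv x,
    fun x => by rw [le_symm_apply, refl_apply]⟩

/-- an alternating map with totally singular image is a product of Siegel maps, up to `1` -/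
theorem lemK (s : A) (hs : star s = s) (h1 : ∀ v, polar Q v (e s v) = 0) (h2 : ∀ v, Q (e s v) = 0) :
    ∃ u ∈ Dr F, (u : A) = 1 + s := by
  have : Module.Finite K V := Module.Finite.of_finite
  induction hn : finrank K V - finrank K (LinearMap.ker (e s)) using Nat.strong_induction_on generalizing s with
  | _ n ih =>
  by_cases h0 : s = 0
  · exact ⟨1, one_mem _, by rw [h0, add_zero, Units.val_one]⟩
  obtain ⟨v, hv⟩ : ∃ v, e s v ≠ 0 := by
    by_contra h3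
    push Not at h3
    exact h0 (ext_ap e fun x => by rw [h3, ap_zero])
  obtain ⟨u, hu⟩ := h.good.nondeg.exists_polar_eq hv 1
  have hsym : ∀ x y, polar Q (e s x) y = polar Q x (e s y) := fun x y => by rw [h.adj, hs]
  have hss : ∀ x y, polar Q (e s x) (e s y) = 0 := fun x y => by
    have h3 := h2 (x + y)
    rwa [map_add, Q_add, h2, h2, zero_add, zero_add] at h3
  have hs2 : ∀ x, e s (e s x) = 0 := fun x => h.ext_f fun y => by rw [hsym, hss, polar_zero_left]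
  let r : A := ro e Q (e s u) (e s v) + ro e Q (e s v) (e s u)
  have hr : ∀ x, e r x = polar Q (e s u) x • e s v + polar Q (e s v) x • e s u := fun x => by
    rw [ap_add, ro_apply, ro_apply]
  obtain ⟨ρ, hρ, hρ'⟩ := h.exists_siegel (h2 u) (hss u v)
  have hρr : (ρ : A) = 1 + r := ext_ap e fun x => by
    rw [hρ', h2, zero_mul, zero_smul, sub_zero, h.vsub, ap_add, ap_one, hr, add_assoc]
  have hlt : LinearMap.ker (e s) < LinearMap.ker (e (s + r)) := by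
    refine lt_of_le_of_ne (fun x hx => ?_) fun H => ?_
    · rw [LinearMap.mem_ker] at hx ⊢
      rw [ap_add, hr, hsym, hsym, hx, polar_zero_right, polar_zero_right, zero_smul, zero_smul, add_zero, add_zero]
    · have h3 : u ∈ LinearMap.ker (e (s + r)) := by
        rw [LinearMap.mem_ker, ap_add, hr, hu, polar_comm, h1, zero_smul, zero_add, one_smul, h.vadd]
      rw [← H, LinearMap.mem_ker] at h3
      rw [hsym, h3, polar_zero_right] at hu
      exact zero_ne_one hu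
  obtain ⟨w, hw, hw'⟩ := ih _ (by
      have h3 := Submodule.finrank_lt_finrank_of_lt hlt
      have h4 := Submodule.finrank_le (LinearMap.ker (e (s + r)))
      omega) (s + r) (by rw [star_add, hs, star_add, h.star_ro, h.star_ro, add_comm (ro _ _ _ _)])
    (fun x => by
      rw [ap_add, hr, polar_add_right, h1, polar_add_right, polar_smul_right, polar_smul_right, polar_comm Q x,
        polar_comm Q x, smul_eq_mul, smul_eq_mul, mul_comm, h.kadd, add_zero])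
    (fun x => by rw [ap_add, hr, ← map_smul, ← map_smul, ← map_add, ← map_add, h2]) rfl
  refine ⟨w * ρ, mul_mem hw hρ, ext_ap e fun x => ?_⟩
  have h3 : e (s + r) (e r x) = 0 := by
    rw [ap_add, hr (e r x), hr x, ← map_smul, ← map_smul, ← map_add, hs2, hss, hss, zero_smul, zero_smul, add_zero,
      add_zero]
  rw [ap_umul, hw', hρr, ap_add e 1 r, ap_one, ap_add e 1, ap_one, map_add (e (s + r)), h3, add_zero, ap_add e s,
    ap_add e 1, ap_one, add_assoc, add_comm (e s x), ← add_assoc (e r x), h.vadd, zero_add]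

/-- the orthogonal complement of the fixed space is the commutator space -/
theorem mem_Iv {Z : Subgroup Aˣ} (hZ : ∀ z ∈ Z, (z : A) * star (z : A) = 1) {x : V}
    (hx : ∀ y ∈ Cv e Z, polar Q y x = 0) : x ∈ Iv e Z := by
  have : Module.Finite K V := Module.Finite.of_finite
  have hQ := h.good.nondeg
  have hn : (polarBilin Q).Nondegenerate :=
    ⟨fun x hx => hQ x hx, fun x hx => hQ x fun y => by rw [polar_comm]; exact hx y⟩
  have hr : (polarBilin Q).IsRefl := fun x y H => by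
    change polar Q y x = 0
    rw [polar_comm]; exact H
  rw [← LinearMap.BilinForm.orthogonal_orthogonal hn hr (Iv e Z)]
  intro y hy
  refine hx y fun z hz => h.ext_f fun v => ?_
  have h1 : polar Q (e (z⁻¹ : Aˣ) v - v) y = 0 := hy _ (sub_mem_Iv (inv_mem hz) v)
  rw [polar_sub_left, sub_eq_zero, polar_comm] at h1
  rw [h.inv_adj (hZ z hz), h1, polar_comm]

/-- the difference of two invariant forms with the same polar form vanishes on the commutator space -/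
theorem q_eq {Z : Subgroup Aˣ} (hZ : Z ≤ F.Iso) {a b : A} (hab : ∀ x y, polar Q (e a x) (e a y) = polar Q (e b x) (e b y))
    (ha : ∀ z ∈ Z, (z : A) * a = a * z) (hb : ∀ z ∈ Z, (z : A) * b = b * z) {x : V} (hx : x ∈ Iv e Z) :
    Q (e a x) = Q (e b x) := by
  let W : Submodule K V :=
    { carrier := {x | Q (e a x) = Q (e b x)}
      add_mem' := fun {x y} (hx : Q _ = Q _) (hy : Q _ = Q _) => by
        change Q _ = Q _
        rw [map_add (e a), map_add (e b), Q_add, Q_add, hx, hy, hab]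
      zero_mem' := by
        change Q _ = Q _
        rw [map_zero (e a), map_zero (e b)]
      smul_mem' := fun c x (hx : Q _ = Q _) => by
        change Q _ = Q _
        rw [map_smul (e a), map_smul (e b), QuadraticMap.map_smul, QuadraticMap.map_smul, hx] }
  refine (Iv_le (W := W) fun z hz y => ?_) hx
  change Q _ = Q _
  rw [h.vsub, map_add (e a), map_add (e b), Q_add, Q_add, hab, ← ap_mul, ← ha z hz, ← ap_mul e b, ← hb z hz, ap_mul, ap_mul,
    h.iso_Q (hZ hz), h.iso_Q (hZ hz), h.kadd, h.kadd]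

/-- the orthogonal projection on a complement of the radical -/
theorem exists_proj (W : Submodule K V) {w : V} (hw : w ∈ W) (hw' : ∀ x ∈ W, polar Q w x = 0)
    (hrad : ∀ x ∈ W, (∀ y ∈ W, polar Q x y = 0) → ∃ c : K, x = c • w) :
    ∃ ε : A, ε * ε = ε ∧ star ε = ε ∧ (∀ x, e ε x ∈ W) ∧ e ε w = 0 ∧ ∀ x ∈ W, ∃ c : K, x = e ε x + c • w := by
  have : Module.Finite K V := Module.Finite.of_finite
  obtain ⟨U, hU⟩ := Submodule.exists_isCompl (Submodule.span K {w})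
  have hdec : ∀ x ∈ W, ∃ y ∈ W ⊓ U, ∃ c : K, x = y + c • w := fun x hx => by
    obtain ⟨a, ha, b, hb, hab⟩ := Submodule.mem_sup.1 (hU.sup_eq_top ▸ Submodule.mem_top : x ∈ _ ⊔ U)
    obtain ⟨c, rfl⟩ := Submodule.mem_span_singleton.1 ha
    refine ⟨b, ⟨?_, hb⟩, c, by rw [← hab, add_comm]⟩
    rw [← sub_eq_iff_eq_add'.2 hab.symm]
    exact sub_mem hx (W.smul_mem c hw)
  have hr : (polarBilin Q).IsRefl := fun x y H => by
    change polar Q y x = 0
    rw [polar_comm]; exact H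
  have hc : IsCompl (W ⊓ U) (LinearMap.BilinForm.orthogonal (polarBilin Q) (W ⊓ U)) := by
    refine LinearMap.BilinForm.isCompl_orthogonal_of_restrict_nondegenerate hr
      (LinearMap.BilinForm.nondegenerate_restrict_of_disjoint_orthogonal _ hr ?_)
    rw [Submodule.disjoint_def]
    intro x hx hx'
    obtain ⟨c, hc⟩ := hrad x hx.1 fun y hy => by
      obtain ⟨y', hy', c, rfl⟩ := hdec y hy
      have h1 : polar Q y' x = 0 := hx' y' hy'
      rw [polar_add_right, polar_smul_right, polar_comm, h1, polar_comm, hw' x hx.1, smul_zero, add_zero]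
    exact Submodule.disjoint_def.1 hU.disjoint x (Submodule.mem_span_singleton.2 ⟨c, hc.symm⟩) hx.2
  let p := Submodule.projection _ _ hc
  have hp1 : ∀ x, p x ∈ W ⊓ U := Submodule.projection_apply_mem hc
  have hp2 : ∀ x ∈ W ⊓ U, p x = x := fun x hx => Submodule.projection_apply_left hc ⟨x, hx⟩
  have hp3 : ∀ x, (∀ y ∈ W ⊓ U, polar Q y x = 0) → p x = 0 := fun x hx => (Submodule.projection_apply_eq_zero_iff hc).2 hx
  have hp4 : ∀ x y, polar Q (p x) (y - p y) = 0 := fun x y =>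
    (Submodule.projection_apply_eq_zero_iff hc).1 (show p (y - p y) = 0 by rw [map_sub, hp2 _ (hp1 y), sub_self]) _ (hp1 x)
  have he : ∀ x, e (e.symm p) x = p x := fun x => by rw [RingEquiv.apply_symm_apply]
  have hpw : p w = 0 := hp3 w fun y hy => by rw [polar_comm, hw' y hy.1]
  refine ⟨e.symm p, ext_ap e fun x => by rw [ap_mul, he, he, hp2 _ (hp1 x)], ext_ap e fun x => h.ext_f fun y => ?_,
    fun x => by rw [he]; exact (hp1 x).1, by rw [he, hpw], fun x hx => ?_⟩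
  · have h1 := hp4 x y
    have h2 := hp4 y x
    rw [polar_sub_right, sub_eq_zero] at h1 h2
    rw [h.adj', he, he, h1, polar_comm, h2, polar_comm]
  · obtain ⟨y, hy, c, rfl⟩ := hdec x hx
    exact ⟨c, by rw [he, map_add, map_smul, hpw, smul_zero, add_zero, hp2 y hy]⟩

end OD

end Cfsg.Agent.Cam.Cl.Ot
end

-- part: Cam/Cl/O2b
section
/-!
# Classical rows of S3689, orthogonal groups in characteristic two: radicals (helper53)

The radicals of the fixed spaces of `Y` and of `X` have dimension at most one; the ring generated by the members that are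
trivial on the fixed space of `Y` is semisimple.
-/

set_option autoImplicit false
set_option linter.unusedSectionVars false

namespace Cfsg.Agent.Cam.Cl.Ot

open Cfsg Cfsg.Agent.DS.Cl QuadraticMap Cfsg.Agent.LieClassical.OrthCore Cfsg.Agent.LieClassical.OrthTrans Module
  Cfsg.Agent.Cam.Cl.JB
open scoped commutatorElement

variable {A : Type} [Ring A] [StarRing A] [Finite A] {K V : Type} [Field K] [AddCommGroup V] [Module K V] [Finite K]
  [Finite V]

theorem inv_sub_mem {e : A ≃+* End K V} {W : Submodule K V} {u : Aˣ} (hu : ∀ x, e (u : A) x - x ∈ W) (x : V) :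
    e (u⁻¹ : Aˣ) x - x ∈ W := by
  have h1 := neg_mem (hu (e (u⁻¹ : Aˣ) x))
  rwa [ap_ap_inv, neg_sub] at h1

theorem inv_fix {e : A ≃+* End K V} {u : Aˣ} {x : V} (hx : e (u : A) x = x) : e (u⁻¹ : Aˣ) x = x := by
  nth_rewrite 1 [← hx]
  rw [ap_inv_ap]

/-- the members that are trivial on the fixed space of `Y` -/
def T1 (e : A ≃+* End K V) (Y : Subgroup Aˣ) (𝒯 : Set (Subgroup Aˣ)) : Set (Subgroup Aˣ) :=
  {T | T ∈ 𝒯 ∧ ∀ t ∈ T, ∀ x ∈ Cv e Y, e (t : A) x = x}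

theorem fix_sSup {e : A ≃+* End K V} {𝒮 : Set (Subgroup Aˣ)} {x : V} (hx : ∀ T ∈ 𝒮, ∀ t ∈ T, e (t : A) x = x) :
    x ∈ Cv e (sSup 𝒮) := by
  let S : Subgroup Aˣ :=
    { carrier := {t | e (t : A) x = x}
      mul_mem' := fun {a b} (ha : e _ x = x) (hb : e _ x = x) => by
        change e _ x = x
        rw [ap_umul, hb, ha]
      one_mem' := ap_uone e x
      inv_mem' := fun {a} ha => inv_fix ha }
  exact fun t ht => (sSup_le (a := S) fun T hT t ht => hx T hT t ht) ht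

/-- the three possibilities for the radical of `W` -/
def RadC (Q : QuadraticForm K V) (W : Submodule K V) : Prop :=
  (∀ x ∈ W, (∀ y ∈ W, polar Q x y = 0) → x = 0) ∨ (∃ a, ∀ b ∈ W, ∃ c : K, b = c • a) ∨
    ∃ w ∈ W, (∀ x ∈ W, polar Q w x = 0) ∧ Q w ≠ 0 ∧ ∀ x ∈ W, (∀ y ∈ W, polar Q x y = 0) → ∃ c : K, x = c • w

namespace OD

variable {F : FR A} {Q : QuadraticForm K V} {e : A ≃+* End K V} (h : OD F Q e) {Hh Y : Subgroup Aˣ}
  {𝒯 : Set (Subgroup Aˣ)}
include h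

theorem fix_of_perp {W : Submodule K V} {u : Aˣ} (h1 : (u : A) * star (u : A) = 1) (hu : ∀ x, e (u : A) x - x ∈ W)
    {y : V} (hy : ∀ x ∈ W, polar Q y x = 0) : e (u : A) y = y := h.ext_f fun v => by
  rw [h.inv_adj h1, ← sub_eq_zero, ← polar_sub_right]
  exact hy _ (inv_sub_mem hu v)

theorem sub_perp {z : Aˣ} (h1 : (z : A) * star (z : A) = 1) {x : V} (hx : e (z : A) x = x) (y : V) :
    polar Q (e (z : A) y - y) x = 0 := by
  rw [polar_sub_left, h.inv_adj h1, inv_fix hx, sub_self]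

theorem comm_of_sub {Z : Subgroup Aˣ} (hZ : ∀ z ∈ Z, (z : A) * star (z : A) = 1) {u : Aˣ}
    (h1 : (u : A) * star (u : A) = 1) (hu : ∀ x, e (u : A) x - x ∈ Cv e Z) {z : Aˣ} (hz : z ∈ Z) : u * z = z * u := by
  refine Units.ext (ext_ap e fun y => ?_)
  have h2 := h.fix_of_perp h1 hu fun x hx => h.sub_perp (hZ z hz) (hx z hz) y
  have h3 := hu y z hz
  rw [map_sub] at h2 h3
  rw [ap_umul, ap_umul, sub_eq_iff_eq_add.1 h2, sub_eq_iff_eq_add.1 h3]
  abel

/-- the unipotent group of a subspace is trivial -/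
theorem uw (c : Loc F Hh Y 𝒯) {W : Submodule K V} (hinv : ∀ g ∈ Hh, ∀ x ∈ W, e (g : A) x ∈ W)
    (hH : ∀ u ∈ Dr F, (∀ x, e (u : A) x - x ∈ W) → u ∈ Hh) {u : Aˣ} (hu : u ∈ Dr F) (h1 : ∀ x, e (u : A) x - x ∈ W)
    (h2 : ∀ x ∈ W, ∀ y ∈ W, polar Q (e (u : A) x - x) y = 0) : u = 1 := by
  have hW : ∀ {u : Aˣ}, (∀ x, e (u : A) x - x ∈ W) → ∀ x ∈ W, e (u : A) x ∈ W := fun hu x hx => by
    have h3 := add_mem (hu x) hx
    rwa [sub_add_cancel] at h3
  let P : Subgroup Aˣ :=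
    { carrier := {u | u ∈ Dr F ∧ (∀ x, e (u : A) x - x ∈ W) ∧ ∀ x ∈ W, ∀ y ∈ W, polar Q (e (u : A) x - x) y = 0}
      mul_mem' := by
        rintro a b ⟨a1, a2, a3⟩ ⟨b1, b2, b3⟩
        refine ⟨mul_mem a1 b1, fun x => ?_, fun x hx y hy => ?_⟩
        · rw [ap_umul, ← sub_add_sub_cancel _ (e (b : A) x)]
          exact add_mem (a2 _) (b2 _)
        · rw [ap_umul, ← sub_add_sub_cancel _ (e (b : A) x), polar_add_left, a3 _ (hW b2 x hx) y hy, b3 x hx y hy, add_zero]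
      one_mem' := ⟨one_mem _, fun x => by rw [ap_uone, sub_self]; exact zero_mem _,
        fun x _ y _ => by rw [ap_uone, sub_self, polar_zero_left]⟩
      inv_mem' := by
        rintro a ⟨a1, a2, a3⟩
        refine ⟨inv_mem a1, inv_sub_mem a2, fun x hx y hy => ?_⟩
        have h3 := a3 _ (hW (inv_sub_mem a2) x hx) y hy
        rw [ap_ap_inv] at h3
        rw [← neg_sub, polar_neg_left, h3, neg_zero] }
  have h3 := c.op P (fun u hu => hH u hu.1 hu.2.1) (by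
    rintro g hg u ⟨u1, u2, u3⟩
    refine ⟨mul_mem (mul_mem (c.le hg) u1) (inv_mem (c.le hg)), fun x => ?_, fun x hx y hy => ?_⟩
    · have h4 := hinv g hg _ (u2 (e (g⁻¹ : Aˣ) x))
      rwa [map_sub, ap_ap_inv, ← ap_umul, ← ap_umul] at h4
    · have h4 := u3 _ (hinv _ (inv_mem hg) x hx) _ (hinv _ (inv_mem hg) y hy)
      rwa [← h.inv_adj (Dr_le F (c.le hg)).1, map_sub, ap_ap_inv, ← ap_umul, ← ap_umul] at h4) (by
    rintro u ⟨u1, u2, u3⟩
    refine ⟨3, ext_ap e fun x => ?_⟩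
    rw [pow_three, ap_mul, ap_mul, ap_zero, ap_sub, ap_one, sub_eq_zero]
    refine h.fix_of_perp (Dr_le F u1).1 u2 fun y hy => ?_
    rw [ap_sub, ap_one]
    refine u3 _ ?_ y hy
    rw [ap_sub, ap_one]
    exact u2 x)
  exact Subgroup.mem_bot.1 (h3 ▸ (⟨hu, h1, h2⟩ : u ∈ P))

theorem radC_of {W : Submodule K V} (hU : ∀ u ∈ Dr F, (∀ x, e (u : A) x - x ∈ W) →
    (∀ x ∈ W, ∀ y ∈ W, polar Q (e (u : A) x - x) y = 0) → u = 1) : RadC Q W := by
  by_cases h1 : ∃ a ∈ W, (∀ y ∈ W, polar Q a y = 0) ∧ a ≠ 0 ∧ Q a = 0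
  · obtain ⟨a, ha, a1, a2, a3⟩ := h1
    refine Or.inr (Or.inl ⟨a, fun b hb => ?_⟩)
    obtain ⟨u, hu, hu'⟩ := h.exists_siegel a3 (a1 b hb)
    have h2 : ∀ x, e (u : A) x - x = polar Q a x • b - (polar Q b x + Q b * polar Q a x) • a := fun x => by
      rw [hu', add_smul]; abel
    have h3 := hU u hu (fun x => by rw [h2]; exact sub_mem (W.smul_mem _ hb) (W.smul_mem _ ha)) fun x hx y hy => by
      rw [h2, a1 x hx, zero_smul, polar_sub_left, polar_zero_left, polar_smul_left, a1 y hy, smul_zero, sub_self]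
    obtain ⟨x, hx⟩ := h.good.nondeg.exists_polar_eq a2 1
    have h4 := h2 x
    rw [h3, ap_uone, sub_self, hx, one_smul, eq_comm, sub_eq_zero] at h4
    exact ⟨_, h4⟩
  push Not at h1
  by_cases h2 : ∃ w ∈ W, (∀ y ∈ W, polar Q w y = 0) ∧ w ≠ 0
  · obtain ⟨w, hw, w1, w2⟩ := h2
    have w3 := h1 w hw w1 w2
    refine Or.inr (Or.inr ⟨w, hw, w1, w3, fun x hx hx' => ?_⟩)
    obtain ⟨c, hc⟩ := h.sqrt (Q x / Q w)
    refine ⟨c, sub_eq_zero.1 (by_contra fun h3 => h1 _ (sub_mem hx (W.smul_mem c hw)) (fun y hy => ?_) h3 ?_)⟩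
    · rw [polar_sub_left, polar_smul_left, hx' y hy, w1 y hy, smul_zero, sub_self]
    · rw [h.vsub, Q_add, QuadraticMap.map_smul, polar_smul_right, hx' w hw, smul_zero, add_zero, hc, smul_eq_mul,
        div_mul_cancel₀ _ w3, h.kadd]
  · push Not at h2
    exact Or.inl h2

omit h in
theorem inv_Y (c : Loc F Hh Y 𝒯) {g : Aˣ} (hg : g ∈ Hh) {x : V} (hx : x ∈ Cv e Y) : e (g : A) x ∈ Cv e Y :=
  Cv_inv (fun _ hz => c.y_nm.inv hg hz) hx

omit h in
theorem y_iso (c : Loc F Hh Y 𝒯) : Y ≤ F.Iso := c.y_le.trans (c.le.trans (Dr_le F))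

theorem mem_H (c : Loc F Hh Y 𝒯) {u : Aˣ} (hu : u ∈ Dr F) (h1 : ∀ x, e (u : A) x - x ∈ Cv e Y) : u ∈ Hh :=
  c.cY u hu fun _ hy => h.comm_of_sub (fun _ hz => (y_iso c hz).1) (Dr_le F hu).1 h1 hy

theorem uw_Y (c : Loc F Hh Y 𝒯) {u : Aˣ} (hu : u ∈ Dr F) (h1 : ∀ x, e (u : A) x - x ∈ Cv e Y)
    (h2 : ∀ x ∈ Cv e Y, ∀ y ∈ Cv e Y, polar Q (e (u : A) x - x) y = 0) : u = 1 :=
  h.uw c (fun _ hg _ hx => inv_Y c hg hx) (fun _ hu => h.mem_H c hu) hu h1 h2

theorem radC_Y (c : Loc F Hh Y 𝒯) : RadC Q (Cv e Y) := h.radC_of fun _ hu => h.uw_Y c hu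

theorem radC_X (c : Loc F Hh Y 𝒯) : RadC Q (Cv e (sSup 𝒯)) := h.radC_of fun _ hu =>
  h.uw c (fun _ hg _ hx => Cv_inv (fun _ hz => (nm_sSup c).inv hg hz) hx) (fun u hu h1 => c.cX u hu fun _ hT _ ht =>
    h.comm_of_sub (sSup_ms c le_rfl) (Dr_le F hu).1 h1 (le_sSup hT ht : _ ∈ sSup 𝒯)) hu

omit h in
theorem T1_sub : T1 e Y 𝒯 ⊆ 𝒯 := fun _ hT => hT.1

omit h in
theorem Cv_le_T1 {x : V} (hx : x ∈ Cv e Y) : x ∈ Cv e (sSup (T1 e Y 𝒯)) := fix_sSup fun _ hT t ht => hT.2 t ht x hx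

omit h in
theorem nm_T1 (c : Loc F Hh Y 𝒯) : Nm Hh (sSup (T1 e Y 𝒯)) := by
  intro g hg
  have h1 : sSup (T1 e Y 𝒯) ≤ (sSup (T1 e Y 𝒯)).comap (MulAut.conj g).toMonoidHom := sSup_le fun T hT t ht => by
    have h2 : Cam.cj g⁻¹ T ∈ T1 e Y 𝒯 := ⟨c.inv _ (inv_mem hg) T hT.1, fun s hs x hx => by
      have h3 := congrArg (e (g : A)) (hT.2 _ (mem_cj.1 hs) _ (inv_Y c (inv_mem hg) hx))
      rwa [inv_inv, ap_umul, ap_umul, ap_ap_inv, ap_ap_inv] at h3⟩
    refine le_sSup h2 ?_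
    have h3 := conj_mem_cj (a := g⁻¹) ht
    rwa [inv_inv] at h3
  exact fun t ht => h1 ht

/-- nilpotent elements of the enveloping ring kill the fixed vectors -/
theorem nil_kill (hA : SS A) {Z : Subgroup Aˣ} {j : A} (hj : j ∈ Bd Z) (hn : IsNilpotent j) {x : V} (hx : x ∈ Cv e Z) :
    e j x = 0 := by
  by_cases h0 : x = 0
  · rw [h0, map_zero]
  obtain ⟨a, ha⟩ := h.good.nondeg.exists_polar_eq h0 1
  have hm : ∀ t ∈ Z, (t : A) * ro e Q x x = ro e Q x x := fun t ht => ext_ap e fun y => by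
    rw [ap_mul, ro_apply, map_smul, hx t ht]
  obtain ⟨c, hc, h1⟩ := Bd_mul_fix hm hj
  obtain ⟨n, hn⟩ := hn
  obtain ⟨y, hy⟩ := hA.regular c
  have h2 : ∀ k : ℕ, j ^ k * ro e Q x x = c ^ k * ro e Q x x := fun k => by
    induction k with
    | zero => rw [pow_zero, pow_zero]
    | succ k ih => rw [pow_succ, mul_assoc, h1, ← mul_assoc, cen_comm hc, mul_assoc, ih, ← mul_assoc, ← pow_succ']
  have h3 : ∀ k : ℕ, c = c * y ^ k * c ^ k := fun k => by
    induction k with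
    | zero => rw [pow_zero, pow_zero, mul_one, mul_one]
    | succ k ih =>
      calc c = c * y * c := hy.symm
        _ = c * y * (c * y ^ k * c ^ k) := by rw [← ih]
        _ = _ := by rw [pow_succ' y, pow_succ' c, ← cen_comm hc (y ^ k)]; simp only [mul_assoc]
  have h4 : j * ro e Q x x = 0 := by rw [h1, h3 n, mul_assoc, ← h2, hn, zero_mul, mul_zero]
  have h5 := congrArg (fun b => e b a) h4
  simpa only [ap_mul, ro_apply, ha, one_smul, ap_zero] using h5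

theorem alt_eq_zero {s : A} (hs : star s = s) (h1 : ∀ v, polar Q v (e s v) = 0) {a : V} (ha : ∀ v, ∃ c : K, e s v = c • a) :
    s = 0 := by
  refine ext_ap e fun v => by_contra fun hv => ?_
  rw [ap_zero] at hv
  obtain ⟨u, hu⟩ := h.good.nondeg.exists_polar_eq hv 1
  obtain ⟨c, hc⟩ := ha v
  obtain ⟨d, hd⟩ := ha u
  have h2 := h1 u
  have h3 := hu
  rw [hd, polar_smul_right, polar_comm, smul_eq_mul] at h2
  rw [hc, polar_smul_left, smul_eq_mul] at h3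
  have h4 : d = 0 := (mul_eq_zero.1 h2).resolve_right fun H => by
    rw [H, mul_zero] at h3
    exact zero_ne_one h3
  rw [h.adj, hs, hd, h4, zero_smul, polar_zero_right] at hu
  exact zero_ne_one hu

omit h in
theorem comm_mem_Jr {B : Subring A} {a b : Aˣ} (ha : (a : A) ∈ B) (ha' : ((a⁻¹ : Aˣ) : A) ∈ B)
    (hb' : ((b⁻¹ : Aˣ) : A) ∈ B) (hb : (b : A) - 1 ∈ Jr B) : ((a * b * a⁻¹ * b⁻¹ : Aˣ) : A) - 1 ∈ Jr B := by
  have h1 := Jr_mul_right (Jr_mul_right (sub_mem (Jr_mul_left ha hb) (Jr_mul_right hb ha)) ha') hb'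
  convert h1 using 1
  simp only [Units.val_mul, mul_sub, sub_mul, mul_one, one_mul, Units.mul_inv, Units.mul_inv_cancel_right]
  abel

theorem sub_mem_IvY (c : Loc F Hh Y 𝒯) {t : Aˣ} (ht : t ∈ sSup (T1 e Y 𝒯)) (v : V) : e (t : A) v - v ∈ Iv e Y :=
  h.mem_Iv (fun _ hz => (y_iso c hz).1) fun y hy => by
    rw [polar_comm]
    exact h.sub_perp (sSup_ms c T1_sub t ht) (Cv_le_T1 hy t ht) v

theorem q_IvY (c : Loc F Hh Y 𝒯) {u : A} (hu : u ∈ Bd (sSup (T1 e Y 𝒯))) (h1 : star u * u = 1) {x : V}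
    (hx : x ∈ Iv e Y) : Q (e u x) = Q x := by
  have h2 := h.q_eq (y_iso c) (a := u) (b := 1) (fun x y => by rw [h.iso_polar h1, ap_one, ap_one])
    (fun _ hz => y_comm_Bd c T1_sub hz hu) (fun _ _ => by rw [mul_one, one_mul]) hx
  rwa [ap_one] at h2

/-- unitary elements of `1 + J` are central -/
theorem cen_of_Jr (c : Loc F Hh Y 𝒯) {u : Aˣ} (h1 : (u : A) * star (u : A) = 1)
    (h2 : (u : A) - 1 ∈ Jr (Bd (sSup (T1 e Y 𝒯)))) : ∀ t ∈ sSup (T1 e Y 𝒯), t * u = u * t := by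
  have hms := sSup_ms c (T1_sub (e := e) (Y := Y))
  have hiso := sSup_le_Iso c (T1_sub (e := e) (Y := Y))
  have hu : (u : A) ∈ Bd (sSup (T1 e Y 𝒯)) := by
    have h3 := add_mem (Jr_le h2) (one_mem _)
    rwa [sub_add_cancel] at h3
  have hu' : ((u⁻¹ : Aˣ) : A) ∈ Bd (sSup (T1 e Y 𝒯)) := by rw [star_eq_inv h1]; exact star_mem_Bd hms hu
  have h1' : star (u : A) * u = 1 := by rw [← star_eq_inv h1, Units.inv_mul]
  have h3 : ∀ t ∈ sSup (T1 e Y 𝒯), t * u * t⁻¹ * u⁻¹ ∈ F.Iso := fun t ht => h.mem_Iso fun v => by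
    have h4 := h.iso_Q (hiso (inv_mem ht)) (e (u⁻¹ : Aˣ) v)
    rw [ap_umul, ap_umul, ap_umul, h.iso_Q (hiso ht)]
    nth_rewrite 2 [← ap_ap_inv e u v]
    generalize e (u⁻¹ : Aˣ) v = w at h4 ⊢
    rw [← add_sub_cancel w (e (t⁻¹ : Aˣ) w)] at h4 ⊢
    rw [Q_add] at h4
    rw [map_add (e (u : A)), Q_add, h.q_IvY c hu h1' (h.sub_mem_IvY c (inv_mem ht) w), h.iso_polar h1']
    linear_combination h4
  have h4 : ∀ t ∈ sSup (T1 e Y 𝒯), ∀ s ∈ sSup (T1 e Y 𝒯), s * (t * u * t⁻¹ * u⁻¹) = t * u * t⁻¹ * u⁻¹ * s := by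
    intro t ht s hs
    have h5 := comm_mem_Jr (mem_Bd ht) (mem_Bd (inv_mem ht)) hu' h2
    have h6 := eq_one_of_Jr c T1_sub (nm_T1 c) (Subgroup.commutator_mem_commutator (hiso hs) (h3 t ht))
      (comm_mem_Jr (mem_Bd hs) (mem_Bd (inv_mem hs)) (by
        rw [mul_inv_rev, mul_inv_rev, mul_inv_rev, inv_inv, inv_inv, Units.val_mul, Units.val_mul, Units.val_mul]
        exact mul_mem hu (mul_mem (mem_Bd ht) (mul_mem hu' (mem_Bd (inv_mem ht))))) h5)
    exact commutatorElement_eq_one_iff_mul_comm.1 h6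
  have h5 : ∀ t ∈ sSup (T1 e Y 𝒯), ∀ s ∈ sSup (T1 e Y 𝒯),
      t * u * t⁻¹ * u⁻¹ * (s * u * s⁻¹ * u⁻¹) = s * u * s⁻¹ * u⁻¹ * (t * u * t⁻¹ * u⁻¹) := fun t ht s hs =>
    Units.ext (comm_Bd (z := ((t * u * t⁻¹ * u⁻¹ : Aˣ) : A)) (fun r hr => congrArg Units.val (h4 t ht r hr).symm) (by
      rw [Units.val_mul, Units.val_mul, Units.val_mul]
      exact mul_mem (mul_mem (mul_mem (mem_Bd hs) hu) (mem_Bd (inv_mem hs))) hu'))
  intro t ht
  have h6 := eq_one_of_perf (sSup_perf c T1_sub) (fun t => t * u * t⁻¹ * u⁻¹) (by group) (fun a ha b hb => by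
    rw [h5 a ha b hb, ← mul_assoc, ← mul_assoc, ← mul_assoc, ← h4 b hb a ha]
    group) h5 t ht
  exact commutatorElement_eq_one_iff_mul_comm.1 h6

theorem sq_zero (c : Loc F Hh Y 𝒯) (hT2 : ∀ T ∈ 𝒯, T ∉ T1 e Y 𝒯 → ∀ t ∈ T, ∀ x, e (t : A) x - x ∈ Cv e Y) {s : A}
    (hJ : s ∈ Jr (Bd (sSup (T1 e Y 𝒯)))) (hs : star s = s) (h1 : ∀ v, polar Q v (e s v) = 0) (h2 : s * s = 0) : s = 0 := by
  have hms := sSup_ms c (T1_sub (e := e) (Y := Y))
  have h3 : (1 + s) * star (1 + s) = 1 := by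
    rw [star_add, star_one, hs, add_mul, mul_add, mul_add, h2, one_mul, one_mul, mul_one, add_zero, add_assoc, h.aadd,
      add_zero]
  have h4 : ∀ t ∈ sSup (T1 e Y 𝒯), (t : A) * s = s * t := fun t ht => by
    have h5 := congrArg Units.val (h.cen_of_Jr c (u := mkU _ h3) h3 (by rwa [mkU_val, add_sub_cancel_left]) t ht)
    rwa [Units.val_mul, Units.val_mul, mkU_val, mul_add, add_mul, mul_one, one_mul, add_right_inj] at h5
  have h5 : ∀ t ∈ sSup (T1 e Y 𝒯), (t : A) * s = (t⁻¹ : Aˣ) * s := fun t ht => by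
    have ht' := inv_mem ht
    have h6 : ((t : A) + (t⁻¹ : Aˣ)) * s = s * (t + (t⁻¹ : Aˣ)) := by rw [add_mul, mul_add, h4 t ht, h4 _ ht']
    obtain ⟨w, hw, hw'⟩ := h.lemK (((t : A) + (t⁻¹ : Aˣ)) * s) (by
        rw [star_mul, hs, star_add, ← star_eq_inv (hms t ht), ← star_eq_inv (hms _ ht'), inv_inv, add_comm, h6])
      (fun v => by
        rw [add_mul, ap_add, polar_add_right, ap_mul e (t⁻¹ : Aˣ), ← h.inv_adj (hms t ht), ← hs, ← h.adj, hs, ← ap_mul,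
          ← h4 t ht, polar_comm, h.kadd])
      (fun v => by
        have h7 := h.q_eq (y_iso c) (a := s) (b := 0)
          (fun x y => by rw [h.adj, hs, ← ap_mul, h2, ap_zero, ap_zero, polar_zero_right, polar_zero_left])
          (fun _ hz => y_comm_Bd c T1_sub hz (Jr_le hJ)) (fun _ _ => by rw [mul_zero, zero_mul])
          (sub_mem (h.sub_mem_IvY c ht v) (h.sub_mem_IvY c ht' v))
        rw [ap_zero, QuadraticMap.map_zero, sub_sub_sub_cancel_right, h.vsub] at h7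
        rw [h6, ap_mul, ap_add, h7])
    have h7 := eq_one_of_Jr c T1_sub (nm_T1 c) hw (by
      rw [hw', add_sub_cancel_left]
      exact Jr_mul_left (add_mem (mem_Bd ht) (mem_Bd ht')) hJ)
    rw [h7, Units.val_one, left_eq_add, add_mul, ← h.asub, sub_eq_zero] at hw'
    exact hw'
  have h6 : ∀ t ∈ sSup (T1 e Y 𝒯), (t : A) * s = s := by
    let S : Subgroup Aˣ :=
      { carrier := {t | (t : A) * s = s}
        mul_mem' := fun {a b} (ha : _ * s = s) (hb : _ * s = s) => by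
          change _ * s = s
          rw [Units.val_mul, mul_assoc, hb, ha]
        one_mem' := one_mul s
        inv_mem' := fun {a} (ha : _ * s = s) => by
          change _ * s = s
          nth_rewrite 1 [← ha]
          rw [Units.inv_mul_cancel_left] }
    refine fun t ht => (show _ ≤ S from Subgroup.commutator_le.2 fun a ha b hb => ?_) (sSup_perf c T1_sub ht)
    change ((a * b * a⁻¹ * b⁻¹ : Aˣ) : A) * s = s
    rw [Units.val_mul, mul_assoc, ← h5 b hb, h4 b hb, ← mul_assoc, Units.val_mul, mul_assoc _ _ s, ← h5 a ha, h4 a ha,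
      ← mul_assoc, h5 _ (mul_mem ha hb), h4 _ (inv_mem (mul_mem ha hb)), mul_assoc, mul_assoc, ← Units.val_mul,
      Units.inv_mul, mul_one]
  have h7 : ∀ x ∈ Cv e (sSup (T1 e Y 𝒯)), ∀ v, polar Q (e s v) x = 0 := fun x hx v => by
    rw [h.adj, hs, h.nil_kill c.ss (Jr_le hJ) (Jr_nil hJ) hx, polar_zero_right]
  have h8 : ∀ v, e s v ∈ Cv e (sSup 𝒯) := fun v => fix_sSup fun T hT t ht => by
    by_cases h9 : T ∈ T1 e Y 𝒯
    · rw [← ap_mul, h6 t (le_sSup h9 ht)]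
    · exact h.fix_of_perp ((c.mem T hT).le ht).1 (hT2 T hT h9 t ht) fun x hx => h7 x (Cv_le_T1 hx) v
  have h9 : ∀ v, ∀ y ∈ Cv e (sSup 𝒯), polar Q (e s v) y = 0 := fun v y hy =>
    h7 y (fun t ht => hy t (sSup_le_sSup T1_sub ht)) v
  rcases h.radC_X c with h10 | ⟨a, h10⟩ | ⟨w, -, -, -, h10⟩
  · exact ext_ap e fun v => by rw [h10 _ (h8 v) (h9 v), ap_zero]
  · exact h.alt_eq_zero hs h1 fun v => h10 _ (h8 v)
  · exact h.alt_eq_zero hs h1 fun v => h10 _ (h8 v) (h9 v)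

/-- the ring generated by the members that are trivial on the fixed space of `Y` is semisimple -/
theorem semisimple (c : Loc F Hh Y 𝒯) (hT2 : ∀ T ∈ 𝒯, T ∉ T1 e Y 𝒯 → ∀ t ∈ T, ∀ x, e (t : A) x - x ∈ Cv e Y) :
    IsSemisimpleRing (Bd (sSup (T1 e Y 𝒯))) := by
  have hms := sSup_ms c (T1_sub (e := e) (Y := Y))
  have key : ∀ k : ℕ, ∀ s ∈ Jr (Bd (sSup (T1 e Y 𝒯))), star s = s → (∀ v, polar Q v (e s v) = 0) → s ^ 2 ^ k = 0 →
      s = 0 := fun k => by
    induction k with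
    | zero => exact fun s _ _ _ h1 => by rwa [pow_zero, pow_one] at h1
    | succ k ih =>
      intro s hJ hs h1 h2
      refine h.sq_zero c hT2 hJ hs h1 (ih _ (Jr_mul_left (Jr_le hJ) hJ) (by rw [star_mul, hs]) (fun v => ?_) ?_)
      · rw [ap_mul, ← hs, ← h.adj, hs, h.self]
      · rw [← pow_two, ← pow_mul, ← pow_succ', h2]
  refine semisimple_of_symm c.ss (sSup_perf c T1_sub) hms fun j hj => ?_
  have h1 := add_mem (Jr_star (fun _ hb => star_mem_Bd hms hb) hj) hj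
  obtain ⟨n, hn⟩ := Jr_nil h1
  have h2 := key n _ h1 (by rw [star_add, star_star, add_comm])
    (fun v => by rw [ap_add, polar_add_right, ← h.adj, polar_comm, h.kadd])
    (pow_eq_zero_of_le (Nat.lt_two_pow_self).le hn)
  rwa [← h.asub, sub_eq_zero] at h2

theorem iso_of_Bd (c : Loc F Hh Y 𝒯) (hs : IsSemisimpleRing (Bd (sSup (T1 e Y 𝒯)))) (u : Aˣ)
    (hu : (u : A) ∈ Bd (sSup (T1 e Y 𝒯))) (h1 : (u : A) - 1 ∈ ImI (sSup (T1 e Y 𝒯))) (h2 : (u : A) * star (u : A) = 1) :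
    u ∈ F.Iso := by
  have hms := sSup_ms c (T1_sub (e := e) (Y := Y))
  have h2' : star (u : A) * u = 1 := by rw [← star_eq_inv h2, Units.inv_mul]
  obtain ⟨ε, hε, hc, -, hε'⟩ := cen_idem_of_semisimple
    (I := (ImI (sSup (T1 e Y 𝒯))).comap (Bd (sSup (T1 e Y 𝒯))).subtype) fun x hx a => ImI_mul_Bd hx a.2
  refine h.mem_Iso fun v => ?_
  have h3 : e (star (ε : A)) v ∈ Iv e Y := h.mem_Iv (fun _ hz => (y_iso c hz).1) fun y hy => by
    rw [← h.adj, ImI_kill (a := (ε : A)) hε (Cv_le_T1 hy), polar_zero_left]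
  have h4 : v - e (star (ε : A)) v ∈ Cv e (sSup (T1 e Y 𝒯)) := fun t ht => by
    have h5 := congrArg Subtype.val ((cen_comm hc ⟨_, sub_mem (mem_Bd (inv_mem ht)) (one_mem _)⟩).symm.trans
      (hε' _ (sub_one_mem_ImI (inv_mem ht))))
    have h6 : star ((ε : A) * ((t⁻¹ : Aˣ) - 1)) = star (((t⁻¹ : Aˣ) : A) - 1) := congrArg star h5
    rw [star_mul, star_sub, star_one, star_eq_inv (hms t ht), star_star] at h6
    have h7 := congrArg (fun a => e a v) h6
    simp only [ap_mul, ap_sub, ap_one] at h7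
    rw [map_sub, sub_eq_sub_iff_sub_eq_sub, h7]
  have h5 := ImI_kill h1 h4
  rw [ap_sub, ap_one, sub_eq_zero] at h5
  rw [← add_sub_cancel (e (star (ε : A)) v) v, map_add (e (u : A)), Q_add, Q_add, h.iso_polar h2', h5,
    h.q_IvY c hu h2' h3]

end OD

end Cfsg.Agent.Cam.Cl.Ot
end

-- part: Cam/Cl/O2c
section
/-!
# Classical rows of S3689, orthogonal groups in characteristic two: the action on `W / Rad W` (helper53)
-/

set_option autoImplicit false
set_option linter.unusedSectionVars false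

namespace Cfsg.Agent.Cam.Cl.Ot

open Cfsg Cfsg.Agent.DS.Cl QuadraticMap Cfsg.Agent.LieClassical.OrthCore Cfsg.Agent.LieClassical.OrthTrans Module
  Cfsg.Agent.Cam.Cl.JB
open scoped commutatorElement

theorem qs_of_map {G G' : Type} [Group G] [Group G'] {T : Subgroup G} (f : G →* G') (hf : ∀ t ∈ T, f t = 1 → t = 1)
    (h : QS (T.map f)) : QS T := by
  have h1 : ∀ N ≤ T, ∀ t ∈ T, f t ∈ N.map f → t ∈ N := by
    rintro N hN t ht ⟨n, hn, e⟩
    have h2 := hf _ (mul_mem (inv_mem (hN hn)) ht) (by rw [map_mul, map_inv, e, inv_mul_cancel])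
    rwa [← inv_mul_eq_one.1 h2]
  refine ⟨fun t ht => h1 _ (nm_self T).commutator_le t ht ?_, fun hc => h.nc ?_, fun N hN hn => ?_⟩
  · rw [Subgroup.map_commutator]
    exact h.perf ⟨t, ht, rfl⟩
  · rintro _ ⟨a, ha, rfl⟩ _ ⟨b, hb, rfl⟩
    rw [← map_mul, ← map_mul, hc a ha b hb]
  · rcases h.dich (N.map f) (Subgroup.map_mono hN) (by
      rintro _ ⟨a, ha, rfl⟩ _ ⟨b, hb, rfl⟩
      exact ⟨_, hn a ha b hb, by rw [map_mul, map_mul, map_inv]⟩) with h2 | h2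
    · exact Or.inl (le_antisymm hN fun t ht => h1 N hN t ht (h2 ▸ ⟨t, ht, rfl⟩))
    · refine Or.inr fun a ha b hb => commutatorElement_eq_one_iff_mul_comm.1
        (hf _ (mul_mem (mul_mem (mul_mem (hN ha) hb) (inv_mem (hN ha))) (inv_mem hb)) ?_)
      rw [map_commutatorElement, commutatorElement_eq_one_iff_mul_comm]
      exact h2 _ ⟨a, ha, rfl⟩ _ ⟨b, hb, rfl⟩

variable {A : Type} [Ring A] [StarRing A] [Finite A] {K V : Type} [Field K] [AddCommGroup V] [Module K V] [Finite K]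
  [Finite V]

/-- the stabilizer of `W` -/
def St (F : FR A) (e : A ≃+* End K V) (W : Submodule K V) : Subgroup Aˣ where
  carrier := {u | u ∈ F.Iso ∧ (∀ x ∈ W, e (u : A) x ∈ W) ∧ ∀ x ∈ W, e (u⁻¹ : Aˣ) x ∈ W}
  mul_mem' := by
    rintro a b ⟨a1, a2, a3⟩ ⟨b1, b2, b3⟩
    exact ⟨mul_mem a1 b1, fun x hx => by rw [ap_umul]; exact a2 _ (b2 x hx),
      fun x hx => by rw [mul_inv_rev, ap_umul]; exact b3 _ (a3 x hx)⟩
  one_mem' := ⟨one_mem _, fun x hx => by rwa [ap_uone], fun x hx => by rwa [inv_one, ap_uone]⟩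
  inv_mem' := by
    rintro a ⟨a1, a2, a3⟩
    exact ⟨inv_mem a1, a3, by rwa [inv_inv]⟩

/-- the isometries that are trivial on `V / W` -/
def Pw (F : FR A) (e : A ≃+* End K V) (W : Submodule K V) : Subgroup Aˣ where
  carrier := {u | u ∈ F.Iso ∧ ∀ x, e (u : A) x - x ∈ W}
  mul_mem' := by
    rintro a b ⟨a1, a2⟩ ⟨b1, b2⟩
    refine ⟨mul_mem a1 b1, fun x => ?_⟩
    rw [ap_umul, ← sub_add_sub_cancel _ (e (b : A) x)]
    exact add_mem (a2 _) (b2 _)
  one_mem' := ⟨one_mem _, fun x => by rw [ap_uone, sub_self]; exact zero_mem _⟩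
  inv_mem' := fun ha => ⟨inv_mem ha.1, inv_sub_mem ha.2⟩

variable {F : FR A} {Q : QuadraticForm K V} {e : A ≃+* End K V} {W : Submodule K V} {w : V} {ε : A}

theorem mem_St {Z : Subgroup Aˣ} (h1 : Z ≤ F.Iso) (h2 : ∀ z ∈ Z, ∀ x ∈ W, e (z : A) x ∈ W) : Z ≤ St F e W :=
  fun z hz => ⟨h1 hz, h2 z hz, h2 _ (inv_mem hz)⟩

theorem Pw_le : Pw F e W ≤ St F e W := mem_St (fun _ hz => hz.1) fun z hz x hx => by
  have h1 := add_mem (hz.2 x) hx
  rwa [sub_add_cancel] at h1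

theorem nm_Pw : Nm (St F e W) (Pw F e W) := fun g hg u hu =>
  ⟨mul_mem (mul_mem hg.1 hu.1) (inv_mem hg.1), fun x => by
    have h1 := hg.2.1 _ (hu.2 (e (g⁻¹ : Aˣ) x))
    rwa [map_sub, ap_ap_inv, ← ap_umul, ← ap_umul] at h1⟩

theorem comm_le_Dr : ⁅Pw F e W, Pw F e W⁆ ≤ Dr F := Subgroup.commutator_mono (fun _ hz => hz.1) fun _ hz => hz.1

theorem comm_le_Pw : ⁅Pw F e W, Pw F e W⁆ ≤ Pw F e W := (nm_self _).commutator_le

/-- `ε` is the orthogonal projection on a complement of the radical `⟨w⟩` of `W` -/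
structure PD (F : FR A) (Q : QuadraticForm K V) (e : A ≃+* End K V) (W : Submodule K V) (w : V) (ε : A) : Prop where
  od : OD F Q e
  mem : w ∈ W
  perp : ∀ x ∈ W, polar Q w x = 0
  rad : ∀ x ∈ W, (∀ y ∈ W, polar Q x y = 0) → ∃ c : K, x = c • w
  idem : ε * ε = ε
  symm : star ε = ε
  im : ∀ x, e ε x ∈ W
  kill : e ε w = 0
  dec : ∀ x ∈ W, ∃ c : K, x = e ε x + c • w

theorem OD.exists_pd (h : OD F Q e) (hw : w ∈ W) (hw' : ∀ x ∈ W, polar Q w x = 0)
    (hrad : ∀ x ∈ W, (∀ y ∈ W, polar Q x y = 0) → ∃ c : K, x = c • w) : ∃ ε, PD F Q e W w ε := by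
  obtain ⟨ε, h1, h2, h3, h4, h5⟩ := h.exists_proj W hw hw' hrad
  exact ⟨ε, h, hw, hw', hrad, h1, h2, h3, h4, h5⟩

namespace PD

variable (p : PD F Q e W w ε)
include p

/-- the corner -/
def D : Blk A := Blk.corner ε p.idem p.symm

theorem ee (x : V) : e ε (e ε x) = e ε x := by rw [← ap_mul, p.idem]

theorem adj (x y : V) : polar Q (e ε x) y = polar Q x (e ε y) := by rw [p.od.adj, p.symm]

theorem map_w {u : Aˣ} (hu : u ∈ St F e W) : ∃ c : K, e (u : A) w = c • w :=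
  p.rad _ (hu.2.1 w p.mem) fun y hy => by rw [p.od.inv_adj hu.1.1, p.perp _ (hu.2.2 y hy)]

theorem key {u v : Aˣ} (hu : u ∈ St F e W) (hv : v ∈ St F e W) : ε * u * ε * (ε * v * ε) = ε * (u * v) * ε := by
  refine ext_ap e fun x => ?_
  obtain ⟨c, hc⟩ := p.dec _ (hv.2.1 _ (p.im x))
  obtain ⟨d, hd⟩ := p.map_w hu
  simp only [ap_mul]
  rw [p.ee]
  nth_rewrite 2 [hc]
  rw [map_add, map_add, map_smul, map_smul, hd, map_smul, p.kill, smul_zero, smul_zero, add_zero]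

/-- the action on `W / Rad W` -/
noncomputable def pi : St F e W →* p.D.Tˣ :=
  MonoidHom.toHomUnits
    { toFun := fun u => p.D.mk' (ε * (u : Aˣ) * ε) (Blk.corner_mem p.idem p.symm _)
      map_one' := p.D.val_inj (by
        change ε * ((1 : Aˣ) : A) * ε = ε
        rw [Units.val_one, mul_one, p.idem])
      map_mul' := fun u v => p.D.val_inj (p.key u.2 v.2).symm }

theorem val_pi (u : St F e W) : p.D.val (p.pi u) = ε * (u : Aˣ) * ε := rfl

theorem pi_ms (u : St F e W) : (p.pi u : p.D.T) * star (p.pi u : p.D.T) = 1 := p.D.val_inj (by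
  rw [Blk.val_mul, Blk.val_star, val_pi, star_mul, star_mul, p.symm, ← star_eq_inv u.2.1.1, ← mul_assoc ε _ ε,
    p.key u.2 (inv_mem u.2), Units.mul_inv, mul_one, p.idem]
  rfl)

theorem cen {c : p.D.T} (hc : c ∈ Subring.center p.D.T) : ∃ κ : K, ∀ x, e (p.D.val c) x = κ • e ε x := by
  obtain ⟨h1, h2⟩ := p.D.val_mem c
  by_cases h0 : ∃ x, e ε x ≠ 0
  · obtain ⟨x, hx⟩ := h0
    obtain ⟨y, hy⟩ := p.od.good.nondeg.exists_polar_eq hx 1
    refine ⟨polar Q y (e (p.D.val c) x), fun z => ?_⟩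
    have h3 := congrArg (fun a => e a x) (p.D.mem_center_iff.1 hc _ (Blk.corner_mem p.idem p.symm (ro e Q y z)))
    simp only [ap_mul, ro_apply, map_smul] at h3
    rw [← ap_mul e ε (p.D.val c), h1, ← ap_mul e (p.D.val c) ε, h2, polar_comm Q y (e ε x), hy, one_smul] at h3
    exact h3.symm
  · push Not at h0
    exact ⟨0, fun x => by rw [← h1, ap_mul, h0, zero_smul]⟩

theorem star_cen {c : p.D.T} (hc : c ∈ Subring.center p.D.T) : star c = c := by
  obtain ⟨κ, hκ⟩ := p.cen hc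
  refine p.D.val_inj (ext_ap e fun x => p.od.ext_f fun y => ?_)
  rw [Blk.val_star, p.od.adj', hκ, hκ, polar_smul_left, polar_smul_right, p.adj]

theorem two : (2 : p.D.T) = 0 := by
  rw [← one_add_one_eq_two]
  exact p.D.val_inj (by rw [map_add, p.od.aadd, map_zero])

/-- the symplectic structure on the corner -/
def FD : FR p.D.T where
  l := p.D.mk' (ε * F.l * ε) (Blk.corner_mem p.idem p.symm _)
  L := Lmax p.D.T
  l_add := p.D.val_inj (by
    change ε * F.l * ε + star (ε * F.l * ε) = ε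
    rw [star_mul, star_mul, p.symm, ← mul_assoc, ← add_mul, ← mul_add, F.l_add, mul_one, p.idem])
  par := Or.inr rfl

theorem pi_mem (u : St F e W) : p.pi u ∈ p.FD.Iso := Fwd.mem_Iso_max rfl (p.pi_ms u)

variable (hw : Q w ≠ 0)
include hw

theorem fix_w {u : Aˣ} (hu : u ∈ St F e W) : e (u : A) w = w := by
  obtain ⟨c, hc⟩ := p.map_w hu
  have h1 := p.od.iso_Q hu.1 w
  rw [hc, QuadraticMap.map_smul, smul_eq_mul, mul_eq_right₀ hw] at h1
  have h2 : (c - 1) * (c - 1) = 0 := by linear_combination h1 + (1 - c) * p.od.two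
  rw [hc, sub_eq_zero.1 (mul_self_eq_zero.1 h2), one_smul]

theorem ker {u : St F e W} (h1 : p.pi u = 1) : ∀ x ∈ W, e ((u : Aˣ) : A) x = x := by
  have h2 : ε * (u : Aˣ) * ε = ε := by rw [← p.val_pi, h1]; rfl
  intro x hx
  obtain ⟨c, hc⟩ := p.dec x hx
  obtain ⟨d, hd⟩ := p.dec _ (u.2.2.1 _ (p.im x))
  rw [← ap_mul e ε, ← ap_mul e (ε * _), h2] at hd
  have h3 := p.od.iso_Q u.2.1 (e ε x)
  rw [hd, Q_add, QuadraticMap.map_smul, polar_smul_right, polar_comm, p.perp _ (p.im x), smul_zero, add_zero,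
    add_eq_left, smul_eq_mul, mul_eq_zero, mul_self_eq_zero] at h3
  rw [h3.resolve_right hw, zero_smul, add_zero] at hd
  rw [hc, map_add, map_smul, hd, p.fix_w hw u.2]

omit hw in
theorem exists_refl {v : V} (hv : v ∈ W) (hQ : Q v ≠ 0) :
    ∃ u ∈ Pw F e W, ∀ x, e (u : A) x = x - ((Q v)⁻¹ * polar Q v x) • v := by
  obtain ⟨u, hu, hu'⟩ := p.od.exists_refl hQ
  exact ⟨u, ⟨hu, fun x => by rw [hu', sub_sub_cancel_left]; exact neg_mem (W.smul_mem _ hv)⟩, hu'⟩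

theorem map_Pw (hA : SS p.D.T) : ((Pw F e W).subgroupOf (St F e W)).map p.pi = p.FD.Iso := by
  refine le_antisymm (by rintro _ ⟨u, -, rfl⟩; exact p.pi_mem u) fun u hu => ?_
  refine (Subgroup.closure_le _).2 ?_ ((NCTV.boxTV _ hA p.two (fun _ hc => p.star_cen hc) ⟨_, p.FD.l_add⟩).2 u hu.1)
  rintro t ⟨s, ⟨h0, hs, hr⟩, ht⟩
  obtain ⟨h1, h2⟩ := p.D.val_mem s
  have hs' : ∀ x y, polar Q (e (p.D.val s) x) y = polar Q x (e (p.D.val s) y) := fun x y => by
    rw [p.od.adj, ← Blk.val_star, hs]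
  obtain ⟨x, hx⟩ : ∃ x, e (p.D.val s) x ≠ 0 := by
    by_contra h3
    push Not at h3
    exact h0 (p.D.val_inj (ext_ap e fun x => by rw [h3, map_zero, ap_zero]))
  obtain ⟨y, hy⟩ := p.od.good.nondeg.exists_polar_eq hx 1
  obtain ⟨c, hc, h3⟩ := hr (p.D.mk' _ (Blk.corner_mem p.idem p.symm (ro e Q y x)))
  obtain ⟨κ, hκ⟩ := p.cen hc
  have h4 : ∀ v, polar Q y (e (p.D.val s) v) • e (p.D.val s) x = κ • e (p.D.val s) v := fun v => by
    have h5 : e (p.D.val s * (ε * ro e Q y x * ε) * p.D.val s) v = e (p.D.val c * p.D.val s) v :=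
      congrArg (fun a => e (p.D.val a) v) h3
    simp only [ap_mul, ro_apply, map_smul, hκ] at h5
    rwa [← ap_mul e ε (p.D.val s), h1, ← ap_mul e (p.D.val s) ε, h2] at h5
  have h5 : κ = 1 := by
    have h6 := h4 x
    rw [polar_comm, hy] at h6
    exact (smul_left_injective K hx h6).symm
  set a := e (p.D.val s) x with ha
  set μ := polar Q y (e (p.D.val s) y) with hμ
  have h6 : ∀ v, e (p.D.val s) v = (μ * polar Q a v) • a := fun v => by
    rw [← one_smul K (e _ v), ← h5, ← h4, ← hs', ← one_smul K (e _ y), ← h5, ← h4, polar_smul_left, smul_eq_mul]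
  have h7 : μ ≠ 0 := fun H => hx (by rw [ha, h6, H, zero_mul, zero_smul])
  have h8 : e ε a = a := by rw [ha, ← ap_mul, h1]
  have h9 : a ∈ W := h8 ▸ p.im a
  obtain ⟨d, hd⟩ := p.od.sqrt ((μ⁻¹ - Q a) / Q w)
  have h10 : Q (a + d • w) = μ⁻¹ := by
    rw [Q_add, QuadraticMap.map_smul, polar_smul_right, polar_comm, p.perp a h9, smul_zero, add_zero, hd, smul_eq_mul,
      div_mul_cancel₀ _ hw, add_sub_cancel]
  obtain ⟨r, hr, hr'⟩ := p.exists_refl (add_mem h9 (W.smul_mem d p.mem)) (by rw [h10]; exact inv_ne_zero h7)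
  refine ⟨⟨r, Pw_le hr⟩, hr, Units.ext (p.D.val_inj (ext_ap e fun v => ?_))⟩
  have h11 : e ε (a + d • w) = a := by rw [map_add, map_smul, h8, p.kill, smul_zero, add_zero]
  rw [val_pi, ht, map_add, ap_add, h6, ap_mul, ap_mul, hr', map_sub, map_smul, h11, ← p.adj, h11, h10, inv_inv, p.ee,
    p.od.vsub]
  rfl

theorem map_comm (hA : SS p.D.T) :
    (⁅(Pw F e W).subgroupOf (St F e W), (Pw F e W).subgroupOf (St F e W)⁆ : Subgroup _).map p.pi = Dr p.FD := by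
  rw [Subgroup.map_commutator, p.map_Pw hw hA, Dr]

omit p hw in
theorem map_comm' : (⁅(Pw F e W).subgroupOf (St F e W), (Pw F e W).subgroupOf (St F e W)⁆ : Subgroup _).map
    (St F e W).subtype = ⁅Pw F e W, Pw F e W⁆ := by
  rw [Subgroup.map_commutator, Subgroup.map_subgroupOf_eq_of_le Pw_le]

theorem qs (hA : SS p.D.T) (hU : ∀ u ∈ Dr F, (∀ x, e (u : A) x - x ∈ W) →
    (∀ x ∈ W, ∀ y ∈ W, polar Q (e (u : A) x - x) y = 0) → u = 1) (hq : QS (Dr p.FD)) : QS ⁅Pw F e W, Pw F e W⁆ := by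
  rw [← map_comm']
  refine (qs_of_map p.pi (fun t ht h1 => ?_) (by rwa [p.map_comm hw hA])).map _ fun t _ h1 s _ => by
    rw [show t = 1 from Subtype.ext h1, one_mul, mul_one]
  have h2 : (t : Aˣ) ∈ ⁅Pw F e W, Pw F e W⁆ := map_comm'.le ⟨t, ht, rfl⟩
  exact Subtype.ext (hU _ (comm_le_Dr h2) (comm_le_Pw h2).2 fun x hx y _ => by
    rw [p.ker hw h1 x hx, sub_self, polar_zero_left])

omit p hw in
theorem perf_subgroupOf {Z : Subgroup Aˣ} (h1 : Z ≤ St F e W) (h2 : Z ≤ ⁅Z, Z⁆) :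
    Z.subgroupOf (St F e W) ≤ ⁅Z.subgroupOf (St F e W), Z.subgroupOf (St F e W)⁆ := by
  rw [← Subgroup.map_le_map_iff_of_injective (St F e W).subtype_injective, Subgroup.map_commutator,
    Subgroup.map_subgroupOf_eq_of_le h1]
  exact h2

theorem triv (hA : SS p.D.T) (hS : p.FD.Span) {Z : Subgroup Aˣ} (h1 : Z ≤ St F e W) (h2 : Z ≤ ⁅Z, Z⁆)
    (h3 : Cm Z ⁅Pw F e W, Pw F e W⁆) : ∀ z ∈ Z, ∀ x ∈ W, e (z : A) x = x := by
  have h4 : ∀ z ∈ Z.subgroupOf (St F e W), (p.pi z : p.D.T) ∈ Subring.center p.D.T := fun z hz => cen_of_comm hS (by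
    rintro _ ⟨u, hu, rfl⟩
    obtain ⟨t, ht, rfl⟩ : u ∈ Subgroup.map p.pi _ := (p.map_comm hw hA).ge hu
    have h5 : t * z = z * t := Subtype.ext (h3 _ hz _ (map_comm'.le ⟨t, ht, rfl⟩)).symm
    change ((p.pi t : p.D.Tˣ) : p.D.T) * _ = _
    rw [← Units.val_mul, ← Units.val_mul, ← map_mul, ← map_mul, h5])
  intro z hz
  exact p.ker hw (u := ⟨z, h1 hz⟩) (eq_one_of_perf (perf_subgroupOf h1 h2) p.pi (map_one _)
    (fun a _ b _ => map_mul _ a b) (fun a _ b hb => units_comm (h4 b hb) _) _ hz)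

theorem triv' (hS : Group.IsSolvable (Dr p.FD)) {Z : Subgroup Aˣ} (h1 : Z ≤ St F e W) (h2 : Z ≤ ⁅Z, Z⁆) :
    ∀ z ∈ Z, ∀ x ∈ W, e (z : A) x = x := by
  have h3 := perf_map (perf_subgroupOf h1 h2) p.pi
  have h4 : (Z.subgroupOf (St F e W)).map p.pi ≤ Dr p.FD :=
    le_Dr_of_perf h3 (by rintro _ ⟨u, -, rfl⟩; exact p.pi_mem u)
  have h5 := eq_bot_of_perf_solvable h3 (Group.isSolvable_of_isSolvable_injective (Subgroup.inclusion_injective h4))
  intro z hz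
  exact p.ker hw (u := ⟨z, h1 hz⟩) (Subgroup.mem_bot.1 (h5 ▸ ⟨⟨z, h1 hz⟩, hz, rfl⟩))

omit hw in
theorem mem_of_refl {Z : Subgroup Aˣ} (hn : Nm (Pw F e W) Z) {x v : V} (hx : x ∈ Iv e Z) (hv : v ∈ W)
    (h1 : polar Q v x ≠ 0) (h2 : Q v ≠ 0) : v ∈ Iv e Z := by
  obtain ⟨r, hr, hr'⟩ := p.exists_refl hv h2
  have h3 := sub_mem hx (Iv_inv (hn r hr) hx)
  rw [hr', sub_sub_cancel] at h3
  exact (Submodule.smul_mem_iff _ (mul_ne_zero (inv_ne_zero h2) h1)).1 h3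

theorem mem_or {Z : Subgroup Aˣ} (hn : Nm (Pw F e W) Z) {x v : V} (hx : x ∈ Iv e Z) (hW : x ∈ W) (hv : v ∈ W)
    (h1 : polar Q v x ≠ 0) : v ∈ Iv e Z ∨ v + w ∈ Iv e Z := by
  by_cases h2 : Q v = 0
  · refine Or.inr (p.mem_of_refl hn hx (add_mem hv p.mem) ?_ ?_)
    · rwa [polar_add_left, p.perp x hW, add_zero]
    · rwa [Q_add, h2, polar_comm, p.perp v hv, zero_add, add_zero]
  · exact Or.inl (p.mem_of_refl hn hx hv h1 h2)

/-- the commutator space of a perfect group normalized by the reflections is `W` -/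
theorem le_Iv {Z : Subgroup Aˣ} (hZ : Z ≤ Pw F e W) (hn : Nm (Pw F e W) Z) (hp : Z ≤ ⁅Z, Z⁆) {x y : V} (hx : x ∈ Iv e Z)
    (hy : y ∈ W) (hxy : polar Q y x ≠ 0) : W ≤ Iv e Z := by
  have hM : Iv e Z ≤ W := Iv_le fun z hz => (hZ hz).2
  suffices h1 : w ∈ Iv e Z by
    have h2 : ∀ v ∈ W, polar Q v x ≠ 0 → v ∈ Iv e Z := fun v hv h3 =>
      (p.mem_or hw hn hx (hM hx) hv h3).elim id fun h4 => (add_mem_cancel_right h1).1 h4
    intro v hv
    by_cases h3 : polar Q v x = 0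
    · exact (add_mem_cancel_right (h2 y hy hxy)).1 (h2 _ (add_mem hv hy) (by rwa [polar_add_left, h3, zero_add]))
    · exact h2 v hv h3
  by_contra h1
  have h2 : ∀ m ∈ Iv e Z, ∀ v ∈ W, polar Q v m ≠ 0 → ∃ v' ∈ Iv e Z, polar Q v' m ≠ 0 := fun m hm v hv h3 =>
    (p.mem_or hw hn hm (hM hm) hv h3).elim (fun h4 => ⟨v, h4, h3⟩) fun h4 =>
      ⟨_, h4, by rwa [polar_add_left, p.perp m (hM hm), add_zero]⟩
  have h3 : ∀ m ∈ Iv e Z, m ≠ 0 → Q m = Q w := fun m hm h0 => by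
    obtain ⟨v, hv, h4⟩ : ∃ v ∈ W, polar Q v m ≠ 0 := by
      by_contra h4
      push Not at h4
      obtain ⟨c, rfl⟩ := p.rad m (hM hm) fun v hv => by rw [polar_comm, h4 v hv]
      exact h1 ((Submodule.smul_mem_iff _ (left_ne_zero_of_smul h0)).1 hm)
    obtain ⟨v', hv', h5⟩ := h2 m hm v hv h4
    by_contra h6
    refine h1 ((add_mem_cancel_left hm).1 (p.mem_of_refl hn hv' (add_mem (hM hm) p.mem) ?_ ?_))
    · rwa [polar_add_left, p.perp _ (hM hv'), add_zero, polar_comm]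
    · rwa [Q_add, polar_comm, p.perp m (hM hm), add_zero, ← p.od.ksub, sub_ne_zero]
  have h4 : ∀ m ∈ Iv e Z, ∀ m' ∈ Iv e Z, m ≠ 0 → m' ≠ 0 → m ≠ m' → polar Q m m' = Q w := fun m hm m' hm' a1 a2 a3 => by
    have h5 := h3 _ (add_mem hm hm') (by rwa [← p.od.vsub, sub_ne_zero])
    rwa [Q_add, h3 m hm a1, h3 m' hm' a2, p.od.kadd, zero_add] at h5
  obtain ⟨y', hy', h5⟩ := h2 x hx y hy hxy
  have hx0 : x ≠ 0 := fun H => h5 (by rw [H, polar_zero_right])
  have hy0 : y' ≠ 0 := fun H => h5 (by rw [H, polar_zero_left])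
  have hne : x ≠ y' := fun H => h5 (by rw [H, p.od.self])
  have h6 : (Iv e Z : Set V) ⊆ {0, x, y', x + y'} := fun z hz => by
    by_contra h7
    simp only [Set.mem_insert_iff, Set.mem_singleton_iff, not_or] at h7
    have h8 := h4 x hx _ (add_mem hy' hz) hx0 (by rw [← p.od.vsub, sub_ne_zero]; exact Ne.symm h7.2.2.1) fun H =>
      h7.2.2.2 (by rw [H, add_comm y', add_assoc, p.od.vadd, add_zero])
    rw [polar_add_right, h4 x hx y' hy' hx0 hy0 hne, h4 x hx z hz hx0 h7.1 (Ne.symm h7.2.1), p.od.kadd] at h8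
    exact hw h8.symm
  have h7 : Nat.card (Iv e Z) ≤ 4 := (Set.ncard_le_ncard h6).trans ((Set.ncard_insert_le _ _).trans (Nat.succ_le_succ
    ((Set.ncard_insert_le _ _).trans (Nat.succ_le_succ ((Set.ncard_insert_le _ _).trans (by rw [Set.ncard_singleton]))))))
  let f : Z →* Function.End (Iv e Z) :=
    { toFun := fun z m => ⟨e ((z : Aˣ) : A) m, Iv_inv (nm_self Z z z.2) m.2⟩
      map_one' := funext fun m => Subtype.ext (ap_uone e _)
      map_mul' := fun a b => funext fun m => Subtype.ext (ap_umul e _ _ _) }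
  have h8 : ∀ z ∈ Z, ∀ m ∈ Iv e Z, e (z : A) m = m := fun z hz m hm =>
    congrArg (fun σ : Equiv.Perm (Iv e Z) => (σ ⟨m, hm⟩ : V)) (H76.PermFour.perfect_hom_eq_one
      (Subgroup.isPerfect_iff.2 (le_antisymm (nm_self Z).commutator_le hp)) (H76.PermFour.solvable_perm_of_card_le h7)
      f.toHomPerm ⟨z, hz⟩)
  refine hx0 ((Submodule.mem_bot K).1 ((Iv_le (W := ⊥) fun z hz v => (Submodule.mem_bot K).2 (by_contra fun h9 => ?_)) hx))
  have h10 := fun m hm => p.od.sub_perp (hZ hz).1.1 (h8 z hz m hm) v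
  by_cases h11 : e (z : A) v - v = x
  · exact h5 (by rw [polar_comm, ← h11, h10 y' hy'])
  · exact hw (by rw [← h4 _ (sub_mem_Iv hz v) x hx h9 hx0 h11, h10 x hx])

end PD

end Cfsg.Agent.Cam.Cl.Ot
end

-- part: Cam/Cl/O2
section
/-!
# Classical rows of S3689: the box `O2` (helper53)
-/

set_option autoImplicit false
set_option linter.unusedSectionVars false

namespace Cfsg.Agent.Cam.Cl.Ot

open Cfsg Cfsg.Agent.DS.Cl QuadraticMap Cfsg.Agent.LieClassical.OrthCore Cfsg.Agent.LieClassical.OrthTrans Module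
  Cfsg.Agent.Cam.Cl.JB
open scoped commutatorElement

variable {A : Type} [Ring A] [StarRing A] [Finite A] {K V : Type} [Field K] [AddCommGroup V] [Module K V] [Finite K]
  [Finite V] {F : FR A} {Q : QuadraticForm K V} {e : A ≃+* End K V} {Hh Y : Subgroup Aˣ} {𝒯 : Set (Subgroup Aˣ)}
  {w : V} {ε : A}

theorem H_le_St (c : Loc F Hh Y 𝒯) : Hh ≤ St F e (Cv e Y) :=
  mem_St (c.le.trans (Dr_le F)) fun _ hz _ hx => OD.inv_Y c hz hx

theorem exists_moved {T : Subgroup Aˣ} (hT : T ∈ 𝒯) (h1 : T ∉ T1 e Y 𝒯) : ∃ t ∈ T, ∃ x ∈ Cv e Y, e (t : A) x ≠ x := by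
  by_contra h2
  push Not at h2
  exact h1 ⟨hT, h2⟩

theorem OD.ro_mem_ImI (h : OD F Q e) {Z : Subgroup Aˣ} (hZ : ∀ z ∈ Z, (z : A) * star (z : A) = 1) {x : V}
    (hx : x ∈ Iv e Z) (y : V) : ro e Q x y ∈ ImI Z := by
  let W : Submodule K V :=
    { carrier := {x | ro e Q x y ∈ ImI Z}
      add_mem' := fun {a b} ha hb => by
        change _ ∈ ImI Z
        rw [show ro e Q (a + b) y = ro e Q a y + ro e Q b y from ext_ap e fun v => by
          rw [ap_add, ro_apply, ro_apply, ro_apply, polar_add_left, add_smul]]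
        exact add_mem ha hb
      zero_mem' := by
        change _ ∈ ImI Z
        rw [show ro e Q 0 y = 0 from ext_ap e fun v => by rw [ro_apply, polar_zero_left, zero_smul, ap_zero]]
        exact zero_mem _
      smul_mem' := fun c a ha => by
        change _ ∈ ImI Z
        rw [show ro e Q (c • a) y = e.symm (c • 1) * ro e Q a y from ext_ap e fun v => by
          rw [ap_mul, ro_apply, ro_apply, polar_smul_left, RingEquiv.apply_symm_apply, smul_assoc]; rfl]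
        exact Ideal.mul_mem_left _ _ ha }
  refine (Iv_le (W := W) fun z hz v => ?_) hx
  change _ ∈ ImI Z
  rw [show ro e Q (e (z : A) v - v) y = ro e Q v y * ((z⁻¹ : Aˣ) - 1) from ext_ap e fun u => by
    rw [ap_mul, ro_apply, ro_apply, polar_sub_left, h.inv_adj (hZ z hz), ap_sub, ap_one, polar_sub_right]]
  exact Ideal.mul_mem_left _ _ (sub_one_mem_ImI (inv_mem hz))

/-- a non-singular radical -/
theorem case_ns (hQS : BoxQS) (c : Loc F Hh Y 𝒯) (p : PD F Q e (Cv e Y) w ε) (hw : Q w ≠ 0) {T : Subgroup Aˣ}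
    (hT : T ∈ 𝒯) (h1 : T ∉ T1 e Y 𝒯) : Out F Hh 𝒯 T ∧ ∀ t ∈ T, ∀ x, e (t : A) x - x ∈ Cv e Y := by
  have h := p.od
  have hH := H_le_St (e := e) c
  have hTS := (c.t_le T hT).trans hH
  have hq := (c.mem T hT).qs
  have hA : SS p.D.T := Blk.ss_corner c.ss p.idem p.symm fun h0 => h1 ⟨hT, fun t ht x hx => by
    obtain ⟨d, hd⟩ := p.dec x hx
    rw [hd, h0, ap_zero, zero_add, map_smul, p.fix_w hw (hTS ht)]⟩
  rcases hQS _ hA p.FD with h2 | ⟨h2, h3, -⟩ | ⟨h2 | h2, -⟩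
  · exact absurd ⟨hT, p.triv' hw h2 hTS hq.perf⟩ h1
  swap
  · exact absurd rfl h2
  swap
  · exact absurd p.two h2
  have h4 := p.qs hw hA (fun _ hu => h.uw_Y c hu) h2
  have h5 : ⁅Pw F e (Cv e Y), Pw F e (Cv e Y)⁆ ≤ Hh := fun u hu => h.mem_H c (comm_le_Dr hu) (comm_le_Pw hu).2
  have h6 : Nm (St F e (Cv e Y)) ⁅Pw F e (Cv e Y), Pw F e (Cv e Y)⁆ := nm_Pw.commutator nm_Pw
  have h7 : T = ⁅Pw F e (Cv e Y), Pw F e (Cv e Y)⁆ :=
    (h4.eq_or_cm_of_fam (fun T hT => (c.mem T hT).qs) c.comm (fun g hg => c.inv g (h5 hg)) hT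
      (h6.mono hTS)).resolve_right fun h7 => h1 ⟨hT, p.triv hw hA h3 hTS hq.perf h7.symm⟩
  have h8 : T ≤ Pw F e (Cv e Y) := h7 ▸ comm_le_Pw
  have h9 : Cv e Y ≤ Iv e T := by
    obtain ⟨t, ht, x, y, hy, hxy⟩ : ∃ t ∈ T, ∃ x, ∃ y ∈ Cv e Y, polar Q (e (t : A) x - x) y ≠ 0 := by
      by_contra h9
      push Not at h9
      exact hq.ne_bot (eq_bot_iff.2 fun t ht => h.uw_Y c (c.le (c.t_le T hT ht)) (h8 ht).2 fun x _ => h9 t ht x)
    exact p.le_Iv hw h8 (h7 ▸ h6.mono Pw_le) hq.perf (sub_mem_Iv ht x) hy (by rwa [polar_comm])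
  have h10 : Iv e T = Cv e Y := le_antisymm (Iv_le fun t ht => (h8 ht).2) h9
  have hw0 : w ≠ 0 := fun H => hw (by rw [H, QuadraticMap.map_zero])
  refine ⟨⟨Or.inr ⟨⟨ro e Q w w, h.ro_mem_ImI (fun t ht => (h8 ht).1.1) (h9 p.mem) w, fun t ht => ext_ap e fun x => ?_,
    fun H => ?_⟩, fun P h11 h12 h13 z hz a ha => ?_⟩, Or.inl (h7 ▸ h6.mono hH)⟩, fun t ht => (h8 ht).2⟩
  · rw [ap_mul, ro_apply, ro_apply, polar_comm, h.inv_adj (h8 ht).1.1, p.fix_w hw (inv_mem (hTS ht)), polar_comm]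
  · obtain ⟨x, hx⟩ := h.good.nondeg.exists_polar_eq hw0 1
    have h11 := ro_apply e Q w w x
    rw [H, ap_zero, hx, one_smul] at h11
    exact hw0 h11.symm
  · have h14 := p.triv hw hA h3 (mem_St h11 fun z hz x hx => by
      rw [← h10] at hx ⊢
      exact Iv_inv (h13.nm z hz) hx) h12 (h7 ▸ h13)
    refine (ImI_le (I := FixI P) fun t ht z hz => ext_ap e fun x => ?_) ha z hz
    have h15 := h.fix_of_perp (h8 ht).1.1 (h8 ht).2 fun y hy => h.sub_perp (h11 hz).1 (h14 z hz y hy) x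
    rw [map_sub] at h15
    rw [ap_mul, ap_sub, ap_sub, ap_one, ap_one, sub_eq_sub_iff_sub_eq_sub, h15]

/-- a non-degenerate fixed space -/
theorem case_nd (hPc : BoxPc) (c : Loc F Hh Y 𝒯) (p : PD F Q e (Cv e Y) 0 ε) {T : Subgroup Aˣ}
    (hT : T ∈ 𝒯) (h1 : T ∉ T1 e Y 𝒯) : Out F Hh 𝒯 T ∧ ∀ t ∈ T, ∀ x, e (t : A) x - x ∈ Cv e Y := by
  have h := p.od
  have hH := H_le_St (e := e) c
  have hfix : ∀ x ∈ Cv e Y, e ε x = x := fun x hx => by
    obtain ⟨d, hd⟩ := p.dec x hx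
    rw [smul_zero, add_zero] at hd
    exact hd.symm
  have h2 : ∀ u ∈ St F e (Cv e Y), ε * u * ε = u * ε := fun u hu => ext_ap e fun x => by
    rw [ap_mul, ap_mul, ap_mul, hfix _ (hu.2.1 _ (p.im x))]
  have h3 : ∀ u ∈ St F e (Cv e Y), (u : A) * ε = ε * u := fun u hu => by
    have h3 := congrArg star (h2 _ (inv_mem hu))
    rw [star_mul, star_mul, star_mul, p.symm, star_eq_inv hu.1.1, star_star, ← mul_assoc, h2 u hu] at h3
    exact h3
  have h4 : ∀ y ∈ Y, (y : A) * ε = ε := fun y hy => ext_ap e fun x => by rw [ap_mul, p.im x y hy]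
  obtain ⟨t, ht, x, hx, htx⟩ := exists_moved hT h1
  have h5 : (t : A) * ε ≠ ε := fun H => htx (by rw [← hfix x hx, ← ap_mul, H])
  obtain ⟨h6, h7, D', h8, h9, h10⟩ := hPc A F Hh Y 𝒯 c (BD.corner c.ss F ε p.idem p.symm).toBlk
    (BD.corner c.ss F ε p.idem p.symm).fr
    (Blk.ss_corner c.ss p.idem p.symm fun H => h5 (by rw [H, mul_zero]))
    (fun z hz => ⟨by change ε * (z * ε) = z * ε; rw [← cen_comm hz, ← mul_assoc, p.idem],
      by change z * ε * ε = z * ε; rw [mul_assoc, p.idem]⟩)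
    (fun u hu v hv => h.mem_Iso fun x => by
      suffices key : ∀ a : A, ε * a = a → star a * a = ε → a * (ε * F.l * ε) * star a - ε * F.l * ε ∈ F.L →
          (v : A) = a + (1 - ε) → Q (e v x) = Q x from
        key _ ((BD.corner c.ss F ε p.idem p.symm).toBlk.val_mem u).1
          (congrArg (BD.corner c.ss F ε p.idem p.symm).toBlk.val (FR.Iso.sm hu)) hu.2 hv
      intro a a1 a3 a4 hv
      have a5 := h.mem_L.1 a4 (e a x)
      have a6 : e ε (e a x) = e a x := by rw [← ap_mul, a1]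
      rw [ap_sub, polar_sub_right, ap_mul, ← ap_mul e (star a), a3, ap_mul, h.adj, ← ap_mul e (star a), a3] at a5
      simp only [ap_mul, p.ee, a6, ← p.adj, h.lq, sub_eq_zero] at a5
      have a7 : ∀ z, polar Q (e ε z) (x - e ε x) = 0 := fun z => by rw [p.adj, map_sub, p.ee, sub_self, polar_zero_right]
      rw [hv, ap_add, ap_sub, ap_one, Q_add, ← a5, ← a6, a7, ← a7 x, ← Q_add, add_sub_cancel])
    (fun y hy x hx => by
      rw [← hx.1, ← mul_assoc, h4 y hy, hx.1, ← hx.2, mul_assoc, ← h3 y (hH (c.y_le hy)), h4 y hy])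
    (fun T hT t ht => by
      have a1 := hH (c.t_le T hT ht)
      refine ⟨h3 t a1, p.pi ⟨t, a1⟩, ⟨p.pi_ms _, ?_⟩, h2 t a1⟩
      change ε * t * ε * (ε * F.l * ε) * star (ε * t * ε) - ε * F.l * ε ∈ F.L
      have a2 := F.conj_mem a1.1.2 ε
      convert a2 using 1
      rw [h2 t a1, star_mul, p.symm, mul_sub, sub_mul, mul_assoc (t : A) ε, ← mul_assoc ε, ← mul_assoc ε, p.idem,
        ← mul_assoc (t : A), ← mul_assoc (t : A), h3 t a1, mul_assoc _ ε (ε * _), ← mul_assoc ε ε, p.idem,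
        ← star_eq_inv a1.1.1, ← h3 _ (inv_mem a1)]
      simp only [mul_assoc])
    T hT ⟨t, ht, h5⟩
  change D'.e = ε at h9
  refine ⟨⟨Or.inl ⟨D', h8, h7, ?_⟩, Or.inr ⟨D', h8, h9 ▸ h6⟩⟩, fun t ht x => ?_⟩
  · rw [h9]
    refine h10.symm.imp (fun h11 z z' hz hz' => ?_) id
    have h12 : ∀ z : A, (∀ t ∈ T, z * t = t * z) → z * ε = ε * z := fun z hz => h9 ▸ h8.comm hz D'.e_mem
    have h13 : ∀ z : A, (∀ t ∈ T, z * t = t * z) → z * ε ∈ (BD.corner c.ss F ε p.idem p.symm).car := fun z hz =>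
      ⟨by rw [← mul_assoc, ← h12 z hz, mul_assoc, p.idem], by rw [mul_assoc, p.idem]⟩
    have h14 := h11.2 _ (h13 z hz) (fun t ht => by
      rw [mul_assoc, ← h3 t (hH (c.t_le T hT ht)), ← mul_assoc, hz t ht, mul_assoc]) _ (h13 z' hz')
    rwa [mul_assoc z ε, (h13 z' hz').1, mul_assoc z' ε, (h13 z hz).1, ← mul_assoc, ← mul_assoc] at h14
  · have h11 := congrArg (fun a => e a x) (h8.mul_sub ht)
    simp only [h9, ap_mul, ap_sub, ap_one] at h11
    exact h11 ▸ p.im _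

theorem case_T2 (hPc : BoxPc) (hQS : BoxQS) (h : OD F Q e) (c : Loc F Hh Y 𝒯) {T : Subgroup Aˣ} (hT : T ∈ 𝒯)
    (h1 : T ∉ T1 e Y 𝒯) : Out F Hh 𝒯 T ∧ ∀ t ∈ T, ∀ x, e (t : A) x - x ∈ Cv e Y := by
  rcases h.radC_Y c with h2 | ⟨a, h2⟩ | ⟨w, h2, h3, h4, h5⟩
  · obtain ⟨ε, p⟩ := h.exists_pd (zero_mem (Cv e Y)) (fun x _ => polar_zero_left Q x) fun x hx hx' =>
      ⟨0, by rw [h2 x hx hx', smul_zero]⟩
    exact case_nd hPc c p hT h1
  · refine absurd ⟨hT, fun t ht x hx => ?_⟩ h1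
    have hH := H_le_St (e := e) c
    let φ : Aˣ → Function.End V := fun u x => by classical exact if x ∈ Cv e Y then e (u : A) x else x
    have h3 : ∀ u, ∀ x ∈ Cv e Y, φ u x = e (u : A) x := fun u x hx => if_pos hx
    have h4 : ∀ u, ∀ x, x ∉ Cv e Y → φ u x = x := fun u x hx => if_neg hx
    have h5 : ∀ u ∈ T, ∀ v ∈ T, ∀ x ∈ Cv e Y, (φ u * φ v) x = e (u : A) (e (v : A) x) := fun u _ v hv x hx => by
      change φ u (φ v x) = _
      rw [h3 v x hx, h3 u _ ((hH (c.t_le T hT hv)).2.1 x hx)]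
    have h6 : ∀ u v, ∀ x, x ∉ Cv e Y → (φ u * φ v) x = x := fun u v x hx => by
      change φ u (φ v x) = _
      rw [h4 v x hx, h4 u x hx]
    have h7 := eq_one_of_perf (c.mem T hT).qs.perf φ (funext fun x => by
      by_cases hx : x ∈ Cv e Y
      · rw [h3 _ x hx, ap_uone]; rfl
      · exact h4 _ x hx) (fun u hu v hv => funext fun x => by
      by_cases hx : x ∈ Cv e Y
      · rw [h3 _ x hx, h5 u hu v hv x hx, ap_umul]
      · rw [h4 _ x hx, h6 u v x hx]) (fun u hu v hv => funext fun x => by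
      by_cases hx : x ∈ Cv e Y
      · rw [h5 u hu v hv x hx, h5 v hv u hu x hx]
        by_cases h0 : x = 0
        · simp only [h0, map_zero]
        obtain ⟨d, hd⟩ := h2 x hx
        have h8 : ∀ s ∈ T, ∃ k : K, e (s : A) x = k • x := fun s hs => by
          obtain ⟨k, hk⟩ := h2 _ ((hH (c.t_le T hT hs)).2.1 x hx)
          have h9 : d ≠ 0 := fun H => h0 (by rw [hd, H, zero_smul])
          exact ⟨k * d⁻¹, by rw [hk, mul_smul, hd, inv_smul_smul₀ h9]⟩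
        obtain ⟨k, hk⟩ := h8 u hu
        obtain ⟨k', hk'⟩ := h8 v hv
        rw [hk, hk', map_smul, map_smul, hk, hk', smul_comm]
      · rw [h6 u v x hx, h6 v u x hx]) t ht
    rw [← h3 t x hx, h7]
    rfl
  · obtain ⟨ε, p⟩ := h.exists_pd h2 h3 h5
    exact case_ns hQS c p h4 hT h1

/-- **The box `O2`.** -/
theorem boxO2 (h1 : BoxBk) (h2 : BoxPc) (h3 : BoxQS) : BoxO2 := by
  rintro A _ _ _ F Hh Y 𝒯 c ⟨K, V, _, _, _, _, _, Q, e, a1, a2, a3, a4, a5⟩ T hT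
  have h : OD F Q e := ⟨a1, a2, a3, a4, a5⟩
  by_cases h4 : T ∈ T1 e Y 𝒯
  · have h5 := fun T hT h5 => (case_T2 h2 h3 h c (T := T) hT h5).2
    have h6 := h.semisimple c h5
    obtain ⟨h7, h8⟩ := h1 A F Hh Y 𝒯 _ c OD.T1_sub (fun T hT h7 t ht a ha => ext_ap e fun x => by
      have h8 := ImI_kill ha (OD.Cv_le_T1 (h5 T hT h7 t ht x))
      rw [map_sub, sub_eq_zero] at h8
      rw [ap_mul, h8]) h6 (h.iso_of_Bd c h6) T h4
    exact ⟨Or.inl h7, Or.inr h8⟩
  · exact (case_T2 h2 h3 h c hT h4).1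

end Cfsg.Agent.Cam.Cl.Ot
end

-- part: Cam/Cl/CycA
section
/-!
# Classical rows of S3689, box Cyc: ring lemmas (helper70)

Counting left ideals (`lemP`), nilpotent elements, unipotent units.
-/

set_option autoImplicit false

namespace Cfsg.Agent.Cam.Cl.Cy

open Cfsg Cfsg.Agent.DS.Cl Cfsg.Agent.Cam.Cl

section ring

variable {A : Type} [Ring A]

theorem card_sup_inf (X Y : Ideal A) :
    Nat.card ↥(X ⊔ Y) * Nat.card ↥(X ⊓ Y) = Nat.card X * Nat.card Y := by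
  have h1 := Submodule.card_eq_card_quotient_mul_card
    (Submodule.comap X.subtype X ⊓ Submodule.comap X.subtype Y)
  have h2 := Submodule.card_eq_card_quotient_mul_card (Submodule.comap (X ⊔ Y).subtype Y)
  have h3 := Nat.card_congr (LinearMap.quotientInfEquivSupQuotient X Y).toEquiv
  have h4 := Nat.card_congr (Submodule.comapSubtypeEquivOfLe (le_sup_right : Y ≤ X ⊔ Y)).toEquiv
  have h5 := Nat.card_congr (Submodule.comapSubtypeEquivOfLe (inf_le_left : X ⊓ Y ≤ X)).toEquiv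
  rw [Submodule.comap_inf] at h5
  rw [h1, h2, h3, h4, h5]
  ring

theorem card_le_of_le [Finite A] {X Y : Ideal A} (h : X ≤ Y) : Nat.card X ≤ Nat.card Y :=
  Nat.card_le_card_of_injective _ (Submodule.inclusion_injective h)

theorem eq_of_le_of_card [Finite A] {X Y : Ideal A} (h : X ≤ Y) (hc : Nat.card Y ≤ Nat.card X) : X = Y :=
  Submodule.toAddSubgroup_injective (AddSubgroup.eq_of_le_of_card_ge (H := X.toAddSubgroup) (K := Y.toAddSubgroup) h hc)

theorem eq_zero_of_nil {n x b : A} (hn : IsNilpotent n) (h : x = b * x * n) : x = 0 := by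
  obtain ⟨k, hk⟩ := hn
  have h1 : ∀ j : ℕ, x = b ^ j * x * n ^ j := by
    intro j
    induction j with
    | zero => simp
    | succ j ih =>
      calc x = b ^ j * x * n ^ j := ih
        _ = b ^ j * (b * x * n) * n ^ j := by rw [← h]
        _ = _ := by rw [pow_succ, pow_succ']; simp only [mul_assoc]
  rw [h1 k, hk, mul_zero]

theorem exists_top {n : A} (hn : IsNilpotent n) (h0 : n ≠ 0) : ∃ m : ℕ, n ^ (m + 1) ≠ 0 ∧ n ^ (m + 2) = 0 := by
  classical
  have h1 := Nat.find_spec hn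
  have h2 : ∀ m, m < Nat.find hn → n ^ m ≠ 0 := fun m hm => Nat.find_min hn hm
  obtain h3 | h3 | ⟨m, h3⟩ : Nat.find hn = 0 ∨ Nat.find hn = 1 ∨ ∃ m, Nat.find hn = m + 2 := by
    rcases Nat.find hn with _ | _ | m
    · exact Or.inl rfl
    · exact Or.inr (Or.inl rfl)
    · exact Or.inr (Or.inr ⟨m, rfl⟩)
  · rw [h3, pow_zero] at h1
    exact absurd (by rw [← mul_one n, h1, mul_zero]) h0
  · rw [h3, pow_one] at h1
    exact absurd h1 h0
  · exact ⟨m, h2 _ (by omega), h3 ▸ h1⟩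

theorem binom {x n : A} (h : Commute x n) (k : ℕ) :
    ∃ y, (x + n) ^ (k + 1) = x ^ (k + 1) + ((k + 1 : ℕ) : A) * x ^ k * n + y * n ^ 2 := by
  induction k with
  | zero => exact ⟨0, by simp⟩
  | succ k ih =>
    obtain ⟨y, hy⟩ := ih
    refine ⟨((k + 1 : ℕ) : A) * x ^ k + y * (x + n), ?_⟩
    have h1 : n * x = x * n := h.eq.symm
    have h2 : n ^ 2 * (x + n) = (x + n) * n ^ 2 := ((h.symm.add_right (Commute.refl n)).pow_left 2).eq
    rw [pow_succ, hy, add_mul, add_mul, mul_assoc y, h2, mul_add, mul_add, mul_assoc _ n x, h1]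
    push_cast
    rw [pow_succ x (k + 1), pow_succ x k, pow_two]
    noncomm_ring

theorem pow_add_eq {x y n : A} (hx : Commute n x) (hy : Commute n y) (k : ℕ) :
    ∃ w, Commute n w ∧ (x + y * n) ^ k = x ^ k + w * n := by
  have h1 : Commute n (x + y * n) := hx.add_right (hy.mul_right (Commute.refl n))
  induction k with
  | zero => exact ⟨0, Commute.zero_right n, by simp⟩
  | succ k ih =>
    obtain ⟨w, hw, he⟩ := ih
    refine ⟨x ^ k * y + w * (x + y * n), ((hx.pow_right k).mul_right hy).add_right (hw.mul_right h1), ?_⟩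
    rw [pow_succ, he, add_mul, mul_assoc w, h1.eq, pow_succ]
    noncomm_ring

variable [Finite A]

/-- **Lemma P.** -/
theorem lemP {n φ φ0 r w : A} (hn : IsNilpotent n) (hφ : φ = φ0 + w * n) (c0 : Commute n φ0) (cw : Commute n w)
    (cr : Commute n r) (hr : φ0 * r * φ0 = φ0) :
    Nat.card (Ideal.span {φ0}) ≤ Nat.card (Ideal.span {φ}) ∧
      (Nat.card (Ideal.span {φ}) = Nat.card (Ideal.span {φ0}) → ∀ a b : A, a * φ = b * n → ∃ c, a * φ = c * (n * φ)) := by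
  have cφ : Commute n φ := hφ ▸ c0.add_right (cw.mul_right (Commute.refl n))
  have step : ∀ i : ℕ, Nat.card (Ideal.span {n ^ i * φ}) * Nat.card (Ideal.span {n ^ (i + 1) * φ0}) =
      Nat.card (Ideal.span {n ^ i * φ0}) * Nat.card ↥(Ideal.span {n ^ i * φ} ⊓ Ideal.span {n ^ (i + 1)}) := by
    intro i
    have e1 : n ^ i * φ = n ^ i * φ0 + w * n ^ (i + 1) := by
      rw [hφ, mul_add, ← mul_assoc, (cw.pow_left i).eq, mul_assoc, pow_succ]
    have h1 : Ideal.span {n ^ i * φ} ⊔ Ideal.span {n ^ (i + 1)} = Ideal.span {n ^ i * φ0} ⊔ Ideal.span {n ^ (i + 1)} := by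
      apply le_antisymm
      · refine sup_le ((Ideal.span_singleton_le_iff_mem _).2 ?_) le_sup_right
        rw [e1]
        exact Submodule.add_mem_sup (Ideal.mem_span_singleton_self _) (Ideal.mem_span_singleton'.2 ⟨w, rfl⟩)
      · refine sup_le ((Ideal.span_singleton_le_iff_mem _).2 ?_) le_sup_right
        rw [← sub_eq_iff_eq_add.2 e1, sub_eq_add_neg, ← neg_mul]
        exact Submodule.add_mem_sup (Ideal.mem_span_singleton_self _) (Ideal.mem_span_singleton'.2 ⟨-w, rfl⟩)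
    have h2 : Ideal.span {n ^ i * φ0} ⊓ Ideal.span {n ^ (i + 1)} = Ideal.span {n ^ (i + 1) * φ0} := by
      apply le_antisymm
      · rintro x ⟨hx1, hx2⟩
        obtain ⟨a, rfl⟩ := Ideal.mem_span_singleton'.1 hx1
        obtain ⟨b, hb⟩ := Ideal.mem_span_singleton'.1 hx2
        refine Ideal.mem_span_singleton'.2 ⟨b * r, ?_⟩
        have h3 : a * (n ^ i * φ0) = a * (n ^ i * φ0) * r * φ0 := by
          rw [mul_assoc a, mul_assoc a, mul_assoc (n ^ i), mul_assoc (n ^ i), hr]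
        rw [h3, ← hb, mul_assoc b r, ← mul_assoc r, ← (cr.pow_left (i + 1)).eq]
        simp only [mul_assoc]
      · rw [Ideal.span_singleton_le_iff_mem]
        refine ⟨Ideal.mem_span_singleton'.2 ⟨n, by rw [← mul_assoc, ← pow_succ']⟩,
          Ideal.mem_span_singleton'.2 ⟨φ0, (c0.pow_left (i + 1)).eq.symm⟩⟩
    have h3 := card_sup_inf (Ideal.span {n ^ i * φ}) (Ideal.span {n ^ (i + 1)})
    have h4 := card_sup_inf (Ideal.span {n ^ i * φ0}) (Ideal.span {n ^ (i + 1)})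
    rw [h1] at h3
    rw [h2] at h4
    have h5 : 0 < Nat.card (Ideal.span {n ^ (i + 1)}) := Nat.card_pos
    apply Nat.eq_of_mul_eq_mul_right h5
    calc _ = (Nat.card (Ideal.span {n ^ i * φ}) * Nat.card (Ideal.span {n ^ (i + 1)})) *
          Nat.card (Ideal.span {n ^ (i + 1) * φ0}) := by ring
      _ = (Nat.card ↥(Ideal.span {n ^ i * φ0} ⊔ Ideal.span {n ^ (i + 1)}) * Nat.card (Ideal.span {n ^ (i + 1) * φ0})) *
          Nat.card ↥(Ideal.span {n ^ i * φ} ⊓ Ideal.span {n ^ (i + 1)}) := by rw [← h3]; ring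
      _ = _ := by rw [h4]; ring
  have hle : ∀ i : ℕ, Ideal.span {n ^ (i + 1) * φ} ≤ Ideal.span {n ^ i * φ} ⊓ Ideal.span {n ^ (i + 1)} := by
    intro i
    rw [Ideal.span_singleton_le_iff_mem]
    exact ⟨Ideal.mem_span_singleton'.2 ⟨n, by rw [← mul_assoc, ← pow_succ']⟩,
      Ideal.mem_span_singleton'.2 ⟨φ, (cφ.pow_left (i + 1)).eq.symm⟩⟩
  have main : ∀ k i : ℕ, n ^ (i + k) = 0 →
      Nat.card (Ideal.span {n ^ i * φ0}) ≤ Nat.card (Ideal.span {n ^ i * φ}) := by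
    intro k
    induction k with
    | zero =>
      intro i hi
      rw [add_zero] at hi
      rw [hi, zero_mul, zero_mul]
    | succ k ih =>
      intro i hi
      have h1 := (ih (i + 1) (by rwa [add_assoc, add_comm 1 k])).trans (card_le_of_le (hle i))
      have h2 : 0 < Nat.card (Ideal.span {n ^ (i + 1) * φ0}) := Nat.card_pos
      apply Nat.le_of_mul_le_mul_right _ h2
      rw [step i]
      exact Nat.mul_le_mul_left _ h1
  obtain ⟨k, hk⟩ := hn
  have h0 := main k 0 (by rwa [zero_add])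
  rw [pow_zero, one_mul, one_mul] at h0
  refine ⟨h0, fun he a b hab => ?_⟩
  have h1 := step 0
  rw [pow_zero, one_mul, one_mul, he] at h1
  have h2 := Nat.eq_of_mul_eq_mul_left Nat.card_pos h1
  have h3 := main k 1 (by rw [pow_add, hk, mul_zero])
  have h4 := hle 0
  rw [pow_zero, one_mul] at h4
  have h5 := eq_of_le_of_card h4 (by rw [← h2]; exact h3)
  have h6 : a * φ ∈ Ideal.span {φ} ⊓ Ideal.span {n ^ (0 + 1)} :=
    ⟨Ideal.mem_span_singleton'.2 ⟨a, rfl⟩, Ideal.mem_span_singleton'.2 ⟨b, by rw [hab, zero_add, pow_one]⟩⟩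
  rw [← h5, zero_add, pow_one] at h6
  obtain ⟨c, hc⟩ := Ideal.mem_span_singleton'.1 h6
  exact ⟨c, hc.symm⟩

end ring

section uni

variable {A : Type} [Ring A]

theorem uni_of_pow {p : ℕ} (hp : p.Prime) (h0 : (p : A) = 0) {v : Aˣ} {k : ℕ} (hv : v ^ p ^ k = 1) : Uni v := by
  rcases subsingleton_or_nontrivial A with hA | hA
  · exact ⟨0, Subsingleton.elim _ _⟩
  have := Fact.mk hp
  have := (CharP.charP_iff_prime_eq_zero (R := A) hp).2 h0
  refine ⟨p ^ k, ?_⟩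
  rw [sub_pow_char_pow_of_commute p k (Commute.one_right _), ← Units.val_pow_eq_pow_val, hv, one_pow, Units.val_one,
    sub_self]

theorem pow_of_uni {p : ℕ} (hp : p.Prime) (h0 : (p : A) = 0) {v : Aˣ} (hv : Uni v) : ∃ k, v ^ p ^ k = 1 := by
  rcases subsingleton_or_nontrivial A with hA | hA
  · exact ⟨0, Units.ext (Subsingleton.elim _ _)⟩
  have := Fact.mk hp
  have := (CharP.charP_iff_prime_eq_zero (R := A) hp).2 h0
  obtain ⟨k, hk⟩ := hv
  refine ⟨k, Units.ext ?_⟩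
  have h1 : ((v : A) - 1) ^ p ^ k = 0 := pow_eq_zero_of_le (Nat.lt_pow_self hp.one_lt).le hk
  rw [sub_pow_char_pow_of_commute p k (Commute.one_right _), one_pow, sub_eq_zero] at h1
  rw [Units.val_pow_eq_pow_val, h1, Units.val_one]

theorem uni_mul {v z : Aˣ} (hc : v * z = z * v) (hv : Uni v) (hz : Uni z) : Uni (v * z) := by
  have h1 : Commute (v : A) z := by
    have := congrArg Units.val hc
    exact this
  have h2 : ((v * z : Aˣ) : A) - 1 = (v - 1) + v * (z - 1) := by rw [Units.val_mul]; noncomm_ring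
  have h3 : Commute (v : A) (z - 1) := h1.sub_right (Commute.one_right _)
  rw [Uni, h2]
  exact Commute.isNilpotent_add (((Commute.refl (v : A)).sub_left (Commute.one_left _)).mul_right
    (h3.sub_left (Commute.one_left _))) hv (h3.isNilpotent_mul_left hz)

theorem uni_inv {v : Aˣ} (hv : Uni v) : Uni v⁻¹ := by
  have h2 : ((v⁻¹ : Aˣ) : A) - 1 = -((v⁻¹ : Aˣ) : A) * (v - 1) := by
    rw [mul_sub, neg_mul, Units.inv_mul]; noncomm_ring
  rw [Uni, h2]
  refine Commute.isNilpotent_mul_left ?_ hv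
  exact (((Commute.refl (v : A)).units_inv_left).sub_right (Commute.one_right _)).neg_left

/-- the `p`-part: a power that fixes a given `p`-element and makes another element a `p`-element -/
theorem exists_exp {G : Type} [Group G] [Finite G] {p : ℕ} (hp : p.Prime) {v : G} {k : ℕ} (hv : v ^ p ^ k = 1) (z : G) :
    ∃ r l : ℕ, v ^ r = v ∧ (z ^ r) ^ p ^ l = 1 := by
  obtain ⟨l, m, hm, hl⟩ := Nat.exists_eq_pow_mul_and_not_dvd (orderOf_pos z).ne' p hp.ne_one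
  have hc : (p ^ k).Coprime m := ((Nat.Prime.coprime_iff_not_dvd hp).2 hm).pow_left k
  obtain ⟨r, h1, h2⟩ := Nat.chineseRemainder hc 1 0
  refine ⟨r, l, ?_, ?_⟩
  · rw [pow_eq_pow_mod r hv, h1, ← pow_eq_pow_mod 1 hv, pow_one]
  · rw [← pow_mul, ← orderOf_dvd_iff_pow_eq_one, hl, mul_comm r]
    exact Nat.mul_dvd_mul_left _ ((Nat.modEq_zero_iff_dvd).1 h2)

end uni

end Cfsg.Agent.Cam.Cl.Cy
end

-- part: Cam/Cl/CycB
section
/-!
# Classical rows of S3689, box Cyc: one diagonal (helper70)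

`DD F T T' α β` are the data of `UDiag F T T'`.  The shape `ShB`, the unipotent lifts, and the consequences of Lemma P.
-/

set_option autoImplicit false
set_option linter.unusedSectionVars false

namespace Cfsg.Agent.Cam.Cl.Cy

open Cfsg Cfsg.Agent.DS.Cl Cfsg.Agent.Cam.Cl
open scoped commutatorElement

variable {A : Type} [Ring A] [StarRing A]

/-- the data of a proper diagonal -/
structure DD (F : FR A) (T T' : Subgroup Aˣ) {U : Type} [Group U] (α β : U →* Aˣ) : Prop where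
  ss : SS A
  m : Mem F T
  m' : Mem F T'
  perf : commutator U = ⊤
  range : α.range = T
  iso : ∀ u, β u ∈ F.Iso
  comm : ∀ u u', α u * β u' = β u' * α u
  mem : ∀ w, w ∈ T' ↔ ∃ u, w = α u * β u
  cen : ∀ u, Cen (α u) ↔ Cen (β u)
  cen' : ∀ u, Cen (α u * β u) → Cen (α u)

omit [StarRing A] in
theorem cen_one : Cen (1 : Aˣ) := Subring.one_mem _

omit [StarRing A] in
theorem Cen.comm' {c : Aˣ} (h : Cen c) (t : Aˣ) : c * t = t * c := Units.ext (cen_comm h t).symm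

theorem Mem.unit {F : FR A} {T : Subgroup Aˣ} (h : Mem F T) : ∀ t ∈ T, (t : A) * star (t : A) = 1 :=
  fun _ ht => (h.le ht).1

theorem Mem.star_eq {F : FR A} {T : Subgroup Aˣ} (h : Mem F T) {t : Aˣ} (ht : t ∈ T) :
    star (t : A) = (t⁻¹ : Aˣ) := (star_eq_inv (Mem.unit h t ht)).symm

namespace DD

variable {F : FR A} {T T' : Subgroup Aˣ} {U : Type} [Group U] {α β : U →* Aˣ} (h : DD F T T' α β)
include h

theorem a_mem (u : U) : α u ∈ T := h.range ▸ ⟨u, rfl⟩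

theorem w_mem (u : U) : α u * β u ∈ T' := (h.mem _).2 ⟨u, rfl⟩

theorem exists_u {t : Aˣ} (ht : t ∈ T) : ∃ u, α u = t := by
  rw [← h.range] at ht
  exact ht

theorem b_comm (u : U) {t : Aˣ} (ht : t ∈ T) : (β u : A) * t = t * β u := by
  obtain ⟨u', rfl⟩ := h.exists_u ht
  exact congrArg Units.val (h.comm u' u).symm

theorem w_mul (u u' : U) : α (u * u') * β (u * u') = α u * β u * (α u' * β u') := by
  rw [map_mul, map_mul, mul_assoc, mul_assoc, ← mul_assoc (α u'), h.comm u' u, mul_assoc]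

theorem w_inv (u : U) : α u⁻¹ * β u⁻¹ = (α u * β u)⁻¹ := by
  rw [eq_inv_iff_mul_eq_one, ← h.w_mul, inv_mul_cancel, map_one, map_one, mul_one]

theorem top_perf : (⊤ : Subgroup U) ≤ ⁅(⊤ : Subgroup U), ⊤⁆ := by
  rw [← commutator_def, h.perf]

/-- `β` is not commutative -/
theorem not_comm (hc : ∀ u u', β u * β u' = β u' * β u) : False := by
  have h1 := eq_one_of_perf h.top_perf β (map_one β) (fun a _ b _ => map_mul β a b) fun a _ b _ => hc a b
  refine h.m.qs.nc fun s hs t _ => ?_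
  obtain ⟨u, rfl⟩ := h.exists_u hs
  exact Cen.comm' ((h.cen u).2 (by rw [h1 u trivial]; exact cen_one)) t

theorem b_perf : β.range ≤ ⁅β.range, β.range⁆ := by
  rw [MonoidHom.range_eq_map]
  exact perf_map h.top_perf β

/-! ### the shape `ShB` -/

theorem shB_triv (hB : ShB F T) (u : U) {a : A} (ha : a ∈ ImI T) : a * β u = a :=
  hB.triv β.range (by rintro _ ⟨u, rfl⟩; exact h.iso u) h.b_perf
    (by rintro _ ⟨u, rfl⟩ t ht; exact Units.ext (h.b_comm u ht)) _ ⟨u, rfl⟩ a ha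

theorem shB_le (hB : ShB F T) : ImI T ≤ ImI T' := by
  have h1 : ∀ x ∈ ImI T, ∀ t ∈ T, x * ((t : A) - 1) ∈ ImI T' := by
    intro x hx t ht
    obtain ⟨u, rfl⟩ := h.exists_u ht
    have h2 := Ideal.mul_mem_left _ x (sub_one_mem_ImI (h.w_mem u))
    rwa [Units.val_mul, ← h.b_comm u ht, mul_sub, ← mul_assoc, h.shB_triv hB u hx, ← mul_sub] at h2
  let q := (ImI T').mkQ
  have h2 := eq_one_of_perf (M := Multiplicative (A ⧸ ImI T')) h.m.qs.perf
    (fun t => Multiplicative.ofAdd (q ((t : A) - 1))) (by simp) (fun a ha b hb => by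
      rw [← ofAdd_add, ← map_add]
      congr 1
      rw [Submodule.mkQ_apply, Submodule.mkQ_apply, Submodule.Quotient.eq]
      have h3 := h1 _ (sub_one_mem_ImI ha) b hb
      rwa [show ((a : A) - 1) * ((b : A) - 1) = ((a * b : Aˣ) : A) - 1 - (a - 1 + (b - 1)) by
        rw [Units.val_mul]; noncomm_ring] at h3) (fun a _ b _ => mul_comm _ _)
  exact ImI_le fun t ht => (Submodule.Quotient.mk_eq_zero _).1 (h2 t ht)

theorem shB_ne (hB : ShB F T) : ImI T ≠ ImI T' := by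
  intro he
  refine h.not_comm fun u u' => Units.ext ?_
  have key : ∀ u u' : U, ((β u : A) - 1) * ((β u' : A) - 1) = 0 := by
    intro u u'
    have h1 := h.shB_triv hB u' (he ▸ sub_one_mem_ImI (h.w_mem u))
    have h2 := h.shB_triv hB u' (sub_one_mem_ImI (h.a_mem u))
    have h3 : (α u : A) * (((β u : A) - 1) * ((β u' : A) - 1)) = 0 := by
      rw [Units.val_mul] at h1
      calc _ = (((α u : A) * β u - 1) * β u' - ((α u : A) * β u - 1)) - (((α u : A) - 1) * β u' - (α u - 1)) := by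
            noncomm_ring
        _ = 0 := by rw [h1, h2, sub_self, sub_self, sub_self]
    exact (Units.mul_right_eq_zero _).1 h3
  have h1 := key u u'
  have h2 := key u' u
  rw [Units.val_mul, Units.val_mul]
  calc (β u : A) * β u' = ((β u : A) - 1) * (β u' - 1) + β u + β u' - 1 := by noncomm_ring
    _ = ((β u' : A) - 1) * (β u - 1) + β u + β u' - 1 := by rw [h1, h2]
    _ = _ := by noncomm_ring

theorem shB_not_shS (hB : ShB F T) : ¬ ShS T' := by
  rintro ⟨D, hD, -⟩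
  obtain ⟨a, ha1, ha2, ha0⟩ := hB.rad
  have h1 : a ∈ FixI T' := by
    intro w hw
    obtain ⟨u, rfl⟩ := (h.mem w).1 hw
    rw [Units.val_mul, ← mul_assoc, ha2 _ (h.a_mem u), h.shB_triv hB u ha1]
  have h2 := hD.full (Mem.unit h.m') h.m'.qs.ne_bot h1
  obtain ⟨b, rfl⟩ := Ideal.mem_span_singleton'.1 (hD.ImI_le (h.shB_le hB ha1))
  rw [mul_assoc, D.idem] at h2
  exact ha0 h2

/-! ### unipotent lifts -/

theorem exists_uni [Finite A] {p : ℕ} (hp : p.Prime) (h0 : (p : A) = 0) {v : Aˣ} (hv : v ∈ T) (hu : Uni v) :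
    ∃ u, α u = v ∧ Uni (β u) := by
  obtain ⟨u, rfl⟩ := h.exists_u hv
  obtain ⟨k, hk⟩ := pow_of_uni hp h0 hu
  obtain ⟨r, l, h1, h2⟩ := exists_exp hp hk (β u)
  exact ⟨u ^ r, by rw [map_pow, h1], by rw [map_pow]; exact uni_of_pow hp h0 h2⟩

theorem uni_w {u : U} (h1 : Uni (α u)) (h2 : Uni (β u)) : Uni (α u * β u) := uni_mul (h.comm u u) h1 h2

theorem uni_inj {u u' : U} (h1 : Uni (α u)) (h2 : Uni (α u')) (he : α u * β u = α u' * β u') : α u = α u' := by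
  have h3 : Cen (α (u * u'⁻¹)) := h.cen' _ (by rw [h.w_mul, h.w_inv, he, mul_inv_cancel]; exact cen_one)
  have h4 : α u * (α u')⁻¹ = (α u')⁻¹ * α u := by
    have h5 := Cen.comm' h3 (α u')
    rw [map_mul, map_inv, inv_mul_cancel_right] at h5
    rw [eq_inv_mul_iff_mul_eq, ← h5]
  have h5 := SS.eq_one_of_cen_uni h.ss h3 (by rw [map_mul, map_inv]; exact uni_mul h4 h1 (uni_inv h2))
  rwa [map_mul, map_inv, mul_inv_eq_one] at h5

theorem b_ne_one {u : U} (h1 : Uni (α u)) (h2 : α u ≠ 1) : β u ≠ 1 := fun h3 =>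
  h2 (SS.eq_one_of_cen_uni h.ss ((h.cen u).2 (by rw [h3]; exact cen_one)) h1)

/-! ### the semisimple shape -/

variable {D : Blk A} (hD : Sh T D)
include hD

theorem b_comm_D (u : U) {x : A} (hx : x ∈ D.car) : (β u : A) * x = x * β u := hD.comm (fun _ ht => h.b_comm u ht) hx

theorem n_comm (u : U) {x : A} (hx : x ∈ D.car) : Commute ((β u : A) - 1) x :=
  (show Commute (β u : A) x from h.b_comm_D hD u hx).sub_left (Commute.one_left x)

omit h in
theorem pow_mem_D {v : Aˣ} (hv : v ∈ T) (j : ℕ) : ((v : A) - 1) ^ (j + 1) ∈ D.car := by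
  induction j with
  | zero => rw [zero_add, pow_one]; exact hD.mem v hv
  | succ j ih => rw [pow_succ]; exact mul_mem ih (hD.mem v hv)

/-- Lemma P for the diagonal -/
theorem lemP' [Finite A] {u : U} (hu : Uni (β u)) (j : ℕ) :
    Nat.card (Ideal.span {((α u : A) - 1) ^ (j + 1)}) ≤
        Nat.card (Ideal.span {(((α u * β u : Aˣ) : A) - 1) ^ (j + 1)}) ∧
      (Nat.card (Ideal.span {(((α u * β u : Aˣ) : A) - 1) ^ (j + 1)}) =
          Nat.card (Ideal.span {((α u : A) - 1) ^ (j + 1)}) →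
        ∀ a b : A, a * (((α u * β u : Aˣ) : A) - 1) ^ (j + 1) = b * (β u - 1) →
          ∃ c, a * (((α u * β u : Aˣ) : A) - 1) ^ (j + 1) =
            c * ((β u - 1) * (((α u * β u : Aˣ) : A) - 1) ^ (j + 1))) := by
  have h1 := pow_mem_D hD (h.a_mem u) j
  obtain ⟨r, hr⟩ := hD.ss.regular (D.mk' _ h1)
  have hr' : ((α u : A) - 1) ^ (j + 1) * D.val r * ((α u : A) - 1) ^ (j + 1) = ((α u : A) - 1) ^ (j + 1) :=
    congrArg D.val hr
  have c1 : Commute ((β u : A) - 1) (α u) :=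
    (show Commute (β u : A) (α u) from h.b_comm u (h.a_mem u)).sub_left (Commute.one_left _)
  obtain ⟨w, hw, he⟩ := pow_add_eq (c1.sub_right (Commute.one_right _)) c1 (j + 1)
  have e1 : ((α u * β u : Aˣ) : A) - 1 = (α u - 1) + α u * (β u - 1) := by rw [Units.val_mul]; noncomm_ring
  exact lemP (r := D.val r) hu (by rw [e1, he]) (h.n_comm hD u h1) hw (h.n_comm hD u (D.val_mem r)) hr'

/-- Lemma P with `j = 1` -/
theorem lemP1 [Finite A] {u : U} (hu : Uni (β u))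
    (he : Nat.card (Ideal.span {(((α u * β u : Aˣ) : A) - 1) ^ (0 + 1)}) =
      Nat.card (Ideal.span {((α u : A) - 1) ^ (0 + 1)})) {a f : A} (ha : a * ((α u : A) - 1) = 0)
    (hf : ((α u : A) - 1) * f = 0) (hc : Commute ((β u : A) - 1) f) :
    ∃ b, a * f * (β u - 1) = b * (β u - 1) * (β u - 1) := by
  have c1 : Commute ((β u : A) - 1) (α u) :=
    (show Commute (β u : A) (α u) from h.b_comm u (h.a_mem u)).sub_left (Commute.one_left _)
  have e1 : ((α u * β u : Aˣ) : A) - 1 = (α u - 1) + α u * (β u - 1) := by rw [Units.val_mul]; noncomm_ring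
  have ha' : a * (α u : A) = a := by rwa [mul_sub, mul_one, sub_eq_zero] at ha
  have h1 : a * (((α u * β u : Aˣ) : A) - 1) ^ (0 + 1) = a * (β u - 1) := by
    rw [zero_add, pow_one, e1, mul_add, ha, zero_add, ← mul_assoc, ha']
  obtain ⟨c, hc'⟩ := (h.lemP' hD hu 0).2 he a a h1
  rw [h1, zero_add, pow_one, e1] at hc'
  refine ⟨c * α u * f, ?_⟩
  set n : A := β u - 1
  calc a * f * n = a * n * f := by rw [mul_assoc, ← hc.eq, mul_assoc]
    _ = c * n * ((α u - 1) * f) + c * (n * α u) * (n * f) := by rw [hc']; noncomm_ring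
    _ = c * α u * (n * f) * n := by rw [hf, mul_zero, zero_add, c1.eq, hc.eq]; simp only [mul_assoc]; rw [← mul_assoc n f, hc.eq, mul_assoc]
    _ = _ := by rw [hc.eq]; simp only [mul_assoc]

theorem b_compl_one [Finite A] {u : U} (hu : Uni (β u))
    (he : Nat.card (Ideal.span {(((α u * β u : Aˣ) : A) - 1) ^ (0 + 1)}) =
      Nat.card (Ideal.span {((α u : A) - 1) ^ (0 + 1)})) : (1 - D.e) * ((β u : A) - 1) = 0 := by
  have hi : (1 - D.e) * (1 - D.e) = 1 - D.e := by rw [sub_mul, one_mul, mul_sub, mul_one, D.idem, sub_self, sub_zero]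
  have hc : Commute ((β u : A) - 1) (1 - D.e) := (Commute.one_right _).sub_right (h.n_comm hD u D.e_mem)
  obtain ⟨b, hb⟩ := h.lemP1 hD hu he (a := 1 - D.e) (f := 1 - D.e)
    (by rw [mul_sub, hD.compl_mul (h.a_mem u), mul_one, sub_self])
    (by rw [sub_mul, hD.mul_compl (h.a_mem u), one_mul, sub_self]) hc
  rw [hi] at hb
  refine eq_zero_of_nil (b := b) hu ?_
  calc (1 - D.e) * ((β u : A) - 1) = (1 - D.e) * ((β u : A) - 1) * (1 - D.e) := by rw [mul_assoc, hc.eq, ← mul_assoc, hi]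
    _ = b * ((β u : A) - 1) * ((β u - 1) * (1 - D.e)) := by rw [hb, mul_assoc]
    _ = b * (((β u : A) - 1) * (1 - D.e)) * (β u - 1) := by rw [hc.eq]; simp only [mul_assoc]; rw [← mul_assoc (β u - 1 : A), hc.eq, mul_assoc]
    _ = _ := by rw [hc.eq]

/-- `β` is trivial outside of the support -/
theorem b_compl {u₀ : U} (h1 : ¬ Cen (α u₀)) (h2 : (1 - D.e) * ((β u₀ : A) - 1) = 0) (u : U) :
    (1 - D.e) * (β u : A) = 1 - D.e := by
  have hi : (1 - D.e) * (1 - D.e) = 1 - D.e := by rw [sub_mul, one_mul, mul_sub, mul_one, D.idem, sub_self, sub_zero]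
  have hc : ∀ u, (β u : A) * (1 - D.e) = (1 - D.e) * β u := fun u => by
    rw [mul_sub, sub_mul, mul_one, one_mul, h.b_comm_D hD u D.e_mem]
  let N : Subgroup U :=
    { carrier := {u | (1 - D.e) * (β u : A) = 1 - D.e}
      mul_mem' := fun {a b} ha hb => by
        change (1 - D.e) * (β (a * b) : A) = 1 - D.e
        rw [map_mul, Units.val_mul, ← mul_assoc, ha, hb]
      one_mem' := by
        change (1 - D.e) * (β 1 : A) = 1 - D.e
        rw [map_one, Units.val_one, mul_one]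
      inv_mem' := fun {a} ha => by
        change (1 - D.e) * (β a⁻¹ : A) = 1 - D.e
        rw [map_inv, Units.mul_inv_eq_iff_eq_mul, ha] }
  have hN : ∀ s : U, ∀ a ∈ N, s * a * s⁻¹ ∈ N := by
    intro s a ha
    change (1 - D.e) * (β (s * a * s⁻¹) : A) = 1 - D.e
    rw [map_mul, map_mul, map_inv, Units.val_mul, Units.val_mul, ← mul_assoc, ← mul_assoc, ← hc, mul_assoc (β s : A), ha,
      hc, Units.mul_inv_cancel_right]
  have h3 : N.map α = T := by
    refine (h.m.qs.dich (N.map α) (by rintro _ ⟨a, -, rfl⟩; exact h.a_mem a) ?_).resolve_right fun h4 => h1 ?_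
    · rintro s hs _ ⟨a, ha, rfl⟩
      obtain ⟨s, rfl⟩ := h.exists_u hs
      exact ⟨_, hN s a ha, by rw [map_mul, map_mul, map_inv]⟩
    · refine h.m.zc _ (h.a_mem u₀) (h4 _ ⟨u₀, ?_, rfl⟩)
      change (1 - D.e) * (β u₀ : A) = 1 - D.e
      rwa [mul_sub, mul_one, sub_eq_zero] at h2
  have h4 : ∀ u, ∃ c ∈ Subring.center A, (1 - D.e) * (β u : A) = c * (1 - D.e) := by
    intro u
    obtain ⟨a, ha, e⟩ : α u ∈ N.map α := h3 ▸ h.a_mem u
    have h5 : Cen (β (a⁻¹ * u)) := (h.cen _).1 (by rw [map_mul, map_inv, e, inv_mul_cancel]; exact cen_one)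
    refine ⟨_, h5, ?_⟩
    have h6 : (1 - D.e) * (β a : A) = 1 - D.e := ha
    calc (1 - D.e) * (β u : A) = (1 - D.e) * β a * β (a⁻¹ * u) := by
          rw [mul_assoc, ← Units.val_mul, ← map_mul, mul_inv_cancel_left]
      _ = _ := by rw [h6, cen_comm h5]
  have h5 := eq_one_of_perf h.top_perf (fun u => (1 - D.e) * (β u : A) + D.e) (by simp) (fun a _ b _ => by
      have h6 : (1 - D.e) * D.e = 0 := by rw [sub_mul, one_mul, D.idem, sub_self]
      have h7 : D.e * (1 - D.e) = 0 := by rw [mul_sub, mul_one, D.idem, sub_self]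
      rw [add_mul, mul_add, mul_add, D.idem, ← mul_assoc D.e, h7, zero_mul, zero_add, mul_assoc _ _ D.e,
        h.b_comm_D hD a D.e_mem, ← mul_assoc _ D.e, h6, zero_mul, add_zero, mul_assoc, ← mul_assoc (β a : A), hc,
        ← mul_assoc, ← mul_assoc, hi, map_mul, Units.val_mul, mul_assoc])
    (fun a _ b _ => by
      obtain ⟨c, hc1, hc2⟩ := h4 a
      obtain ⟨d, hd1, hd2⟩ := h4 b
      have h6 : Commute D.e (1 - D.e) := (Commute.one_right _).sub_right (Commute.refl _)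
      have h7 : ∀ x, Commute x c := fun x => cen_comm hc1 x
      have h8 : ∀ x, Commute x d := fun x => cen_comm hd1 x
      rw [hc2, hd2]
      exact (((h7 _).symm.mul_left (((h8 _).mul_right (Commute.refl _)).add_right h6.symm)).add_left
        (((h8 _).mul_right h6).add_right (Commute.refl _))).eq) u trivial
  exact eq_sub_of_add_eq h5

variable (hb : ∀ u, (1 - D.e) * (β u : A) = 1 - D.e)
include hb

/-- an element of `β U` that is trivial on the support is trivial -/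
theorem b_eq_one {u : U} (he : D.e * ((β u : A) - 1) = 0) : β u = 1 := by
  apply Units.ext
  rw [mul_sub, mul_one, sub_eq_zero] at he
  calc (β u : A) = D.e * β u + (1 - D.e) * β u := by noncomm_ring
    _ = 1 := by rw [he, hb, add_sub_cancel]

theorem not_tyA (hA : TyA T D.e) : False := by
  refine h.not_comm fun u u' => Units.ext ?_
  have h1 := hA (β u) (β u') (fun t ht => h.b_comm u ht) fun t ht => h.b_comm u' ht
  have h2 : ∀ u u' : U, (β u : A) * β u' = β u * β u' * D.e + (1 - D.e) := fun u u' => by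
    rw [← Units.val_mul, ← map_mul, h.b_comm_D hD _ D.e_mem, ← hb (u * u')]
    noncomm_ring
  rw [Units.val_mul, Units.val_mul, h2 u u', h2 u' u, h1]

theorem not_tyR [Finite A] {u : U} (hu : Uni (β u)) (hv : Uni (α u)) (hv1 : α u ≠ 1)
    (he : Nat.card (Ideal.span {(((α u * β u : Aˣ) : A) - 1) ^ (0 + 1)}) =
      Nat.card (Ideal.span {((α u : A) - 1) ^ (0 + 1)})) {a f : A} (ha : a * ((α u : A) - 1) = 0)
    (hf : ((α u : A) - 1) * f = 0) (h0 : a * D.e * f ≠ 0) : False := by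
  have h1 := hD.mem _ (h.a_mem u)
  obtain ⟨r, hr⟩ := hD.ss.regular (D.mk' _ h1)
  have hr' : ((α u : A) - 1) * D.val r * ((α u : A) - 1) = (α u : A) - 1 := congrArg D.val hr
  have hr1 := D.val_mem r
  set x : A := α u - 1 with hx
  set n : A := β u - 1 with hn
  have m1 : D.e - x * D.val r ∈ D.car := sub_mem D.e_mem (mul_mem h1 hr1)
  have m2 : D.e - D.val r * x ∈ D.car := sub_mem D.e_mem (mul_mem hr1 h1)
  have e1 : (D.e - x * D.val r) * x = 0 := by rw [sub_mul, D.e_mul x h1, hr', sub_self]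
  have e2 : x * (D.e - D.val r * x) = 0 := by rw [mul_sub, D.mul_e x h1, ← mul_assoc, hr', sub_self]
  have e3 : star x = -((α u)⁻¹ : Aˣ) * x := by
    rw [hx, star_sub, star_one, Mem.star_eq h.m (h.a_mem u), mul_sub, neg_mul, Units.inv_mul]; noncomm_ring
  have e4 : star x = x * -((α u)⁻¹ : Aˣ) := by
    rw [hx, star_sub, star_one, Mem.star_eq h.m (h.a_mem u), sub_mul, mul_neg, Units.mul_inv]; noncomm_ring
  have e5 : star (D.e - D.val r * x) * x = 0 := by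
    have h2 := congrArg star e2
    rw [star_mul, star_zero, e4, ← mul_assoc, mul_neg, neg_eq_zero, Units.mul_left_eq_zero] at h2
    exact h2
  have e6 : x * star (D.e - x * D.val r) = 0 := by
    have h2 := congrArg star e1
    rw [star_mul, star_zero, e3, mul_assoc, neg_mul, neg_eq_zero, Units.mul_right_eq_zero] at h2
    exact h2
  let I : AddSubgroup A :=
    { carrier := {z | z ∈ D.car ∧ (∃ b, z * n = b * n * n) ∧ ∃ b, star z * n = b * n * n}
      add_mem' := by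
        rintro y z ⟨hy, ⟨b, hb⟩, ⟨b', hb'⟩⟩ ⟨hz, ⟨c, hc⟩, ⟨c', hc'⟩⟩
        exact ⟨add_mem hy hz, ⟨b + c, by rw [add_mul, hb, hc, add_mul, add_mul]⟩,
          ⟨b' + c', by rw [star_add, add_mul, hb', hc', add_mul, add_mul]⟩⟩
      zero_mem' := ⟨zero_mem _, ⟨0, by simp⟩, ⟨0, by simp⟩⟩
      neg_mem' := by
        rintro y ⟨hy, ⟨b, hb⟩, ⟨b', hb'⟩⟩
        exact ⟨neg_mem hy, ⟨-b, by rw [neg_mul, hb, neg_mul, neg_mul]⟩,
          ⟨-b', by rw [star_neg, neg_mul, hb', neg_mul, neg_mul]⟩⟩ }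
  rcases D.ss_elim hD.ss I (fun z hz => hz.1) (by
      rintro z ⟨hz, ⟨b, hb⟩, ⟨b', hb'⟩⟩ y hy
      have c1 := h.n_comm hD u (D.star_mem y hy)
      refine ⟨mul_mem hy hz, ⟨y * b, by rw [mul_assoc, hb]; simp only [mul_assoc]⟩, ⟨b' * star y, ?_⟩⟩
      rw [star_mul, mul_assoc, ← c1.eq, ← mul_assoc, hb', mul_assoc, c1.eq, ← mul_assoc, mul_assoc b', c1.eq,
        ← mul_assoc])
    (fun z hz => ⟨D.star_mem z hz.1, hz.2.2, by rw [star_star]; exact hz.2.1⟩) with h3 | h3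
  · have h4 : (D.e - x * D.val r) * (D.e - D.val r * x) ∈ I :=
      ⟨mul_mem m1 m2, h.lemP1 hD hu he e1 e2 (h.n_comm hD u m2), by
        rw [star_mul]; exact h.lemP1 hD hu he e5 e6 (h.n_comm hD u (D.star_mem _ m1))⟩
    rw [h3, AddSubgroup.mem_bot] at h4
    apply h0
    calc a * D.e * f = (a * D.e - a * x * D.val r) * (D.e * f - D.val r * (x * f)) := by
          rw [ha, hf, zero_mul, mul_zero, sub_zero, sub_zero, ← mul_assoc, mul_assoc a D.e D.e, D.idem]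
      _ = a * ((D.e - x * D.val r) * (D.e - D.val r * x)) * f := by noncomm_ring
      _ = 0 := by rw [h4, mul_zero, zero_mul]
  · obtain ⟨b, hb'⟩ := h3.2.1
    have c1 := h.n_comm hD u D.e_mem
    refine h.b_ne_one hv hv1 (h.b_eq_one hD hb (eq_zero_of_nil (b := b) hu ?_))
    calc D.e * n = D.e * n * D.e := by rw [mul_assoc, c1.eq, ← mul_assoc, D.idem]
      _ = b * n * (n * D.e) := by rw [hb', mul_assoc]
      _ = b * (n * D.e) * n := by rw [c1.eq]; simp only [mul_assoc]; rw [← mul_assoc n, c1.eq, mul_assoc]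
      _ = _ := by rw [c1.eq]

omit hb in
theorem star_pow_mul {v : Aˣ} (hv : v ∈ T) (j : ℕ) {y : A} (h1 : ((v : A) - 1) ^ j * y = 0) :
    star (((v : A) - 1) ^ j) * y = 0 := by
  have e3 : star ((v : A) - 1) = -(v⁻¹ : Aˣ) * (v - 1) := by
    rw [star_sub, star_one, Mem.star_eq h.m hv, mul_sub, neg_mul, Units.inv_mul]; noncomm_ring
  have c : Commute (-((v⁻¹ : Aˣ) : A)) (v - 1) :=
    (((Commute.refl (v : A)).units_inv_left).sub_right (Commute.one_right _)).neg_left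
  rw [star_pow, e3, c.mul_pow, mul_assoc, h1, mul_zero]

theorem not_tyN {u : U} (hu : Uni (β u)) {j : ℕ} (h1 : ((α u : A) - 1) ^ (j + 2) = 0)
    (h2 : ((α u : A) - 1) ^ (j + 1) ≠ 0) (h3 : IsUnit ((j + 1 + 1 : ℕ) : A))
    (he : (((α u * β u : Aˣ) : A) - 1) ^ (j + 2) = 0) : False := by
  have hv1 : α u ≠ 1 := fun h4 => h2 (by rw [h4, Units.val_one, sub_self, zero_pow (Nat.succ_ne_zero j)])
  have hz : (β u : A) - 1 ≠ 0 := fun h4 => h.b_ne_one ⟨_, h1⟩ hv1 (Units.ext (sub_eq_zero.1 h4))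
  obtain ⟨m, hm1, hm2⟩ := exists_top hu hz
  have c0 : Commute (β u : A) (α u - 1) := h.b_comm_D hD u (hD.mem _ (h.a_mem u))
  have c1 := h.n_comm hD u (hD.mem _ (h.a_mem u))
  have c2 : Commute ((β u : A) - 1) (β u) := (Commute.refl _).sub_left (Commute.one_left _)
  have e1 : ((α u * β u : Aˣ) : A) - 1 = (α u - 1) * β u + (β u - 1) := by rw [Units.val_mul]; noncomm_ring
  obtain ⟨y, hy⟩ := binom (c1.mul_right c2).symm (j + 1)
  set x : A := α u - 1 with hx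
  set n : A := β u - 1 with hn
  rw [← e1, he, c0.symm.mul_pow, h1, zero_mul, zero_add, c0.symm.mul_pow] at hy
  have h4 := congrArg (· * n ^ m) hy
  simp only [zero_mul, add_mul] at h4
  rw [mul_assoc y, ← pow_add, add_comm 2 m, hm2, mul_zero, add_zero, mul_assoc, mul_assoc, eq_comm,
    h3.mul_right_eq_zero, ← pow_succ', (c0.pow_pow (j + 1) (j + 1)).eq.symm, mul_assoc, ← Units.val_pow_eq_pow_val,
    Units.mul_right_eq_zero] at h4
  have h5 := Blk.kill hD.ss (y := n ^ (m + 1)) (fun z hz => ((h.n_comm hD u hz).pow_left _).eq)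
    (pow_mem_D hD (h.a_mem u) j) h2 h4 (h.star_pow_mul hD (h.a_mem u) _ h4)
  apply hm1
  have h6 : (1 - D.e) * n = 0 := by rw [hn, mul_sub, hb, mul_one, sub_self]
  calc n ^ (m + 1) = D.e * n ^ (m + 1) + (1 - D.e) * n * n ^ m := by rw [pow_succ']; noncomm_ring
    _ = 0 := by rw [h5, h6, zero_mul, add_zero]

theorem fix_le : FixI T ≤ FixI T' := by
  intro a ha w hw
  obtain ⟨u, rfl⟩ := (h.mem w).1 hw
  have h1 := hD.full (Mem.unit h.m) h.m.qs.ne_bot ha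
  have h2 : a * (1 - D.e) = a := by rw [mul_sub, h1, mul_one, sub_zero]
  rw [Units.val_mul, ← mul_assoc, ha _ (h.a_mem u), ← h2, mul_assoc, hb]

omit hb in
theorem e_eq {D' : Blk A} (hD' : Sh T' D') (he : FixI T = FixI T') : D'.e = D.e := by
  have h1 : (1 - D.e) * D'.e = 0 := hD'.full (Mem.unit h.m') h.m'.qs.ne_bot (he ▸ fun t ht => hD.compl_mul ht)
  have h2 : (1 - D'.e) * D.e = 0 := hD.full (Mem.unit h.m) h.m.qs.ne_bot (he ▸ fun t ht => hD'.compl_mul ht)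
  rw [sub_mul, one_mul, sub_eq_zero] at h1 h2
  have h3 := congrArg star h2
  rw [star_mul, D.star_e, D'.star_e] at h3
  rw [h1, ← h3]

end DD

end Cfsg.Agent.Cam.Cl.Cy
end

-- part: Cam/Cl/Cyc
section
/-!
# Classical rows of S3689, box Cyc: the endings and the theorem (helper70)
-/

set_option autoImplicit false
set_option linter.unusedSectionVars false

namespace Cfsg.Agent.Cam.Cl.Cy

open Cfsg Cfsg.Agent.DS.Cl Cfsg.Agent.Cam.Cl
open scoped commutatorElement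

variable {A : Type} [Ring A] [StarRing A]

/-- a quasisimple group with trivial centre contains a four-group -/
theorem exists_four {G : Type} [Group G] [Finite G] {T : Subgroup G} (hq : QS T) (hc : NoCen T) :
    ∃ a ∈ T, ∃ b ∈ T, a * a = 1 ∧ b * b = 1 ∧ a * b = b * a ∧ a ≠ 1 ∧ b ≠ 1 ∧ a ≠ b := by
  have hnt : Nontrivial T := (Subgroup.nontrivial_iff_ne_bot T).2 hq.ne_bot
  have hs : IsSimpleGroup T := ⟨fun N hN => by
    rcases hq.dich (N.map T.subtype) (Subgroup.map_subtype_le N) (by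
      rintro s hs _ ⟨n, hn, rfl⟩
      exact ⟨_, hN.conj_mem n hn ⟨s, hs⟩, rfl⟩) with h1 | h1
    · right
      rw [eq_top_iff]
      intro t _
      obtain ⟨n, hn, e⟩ : (t : G) ∈ N.map T.subtype := by rw [h1]; exact t.2
      rwa [← Subtype.ext e]
    · left
      rw [eq_bot_iff]
      intro n hn
      exact Subtype.ext (hc n n.2 (h1 n ⟨n, hn, rfl⟩))⟩
  obtain ⟨E, hE⟩ := Cfsg.Agent.S0204.result (G := T) (fun hcy => hq.nc fun s hs t ht =>
    congrArg Subtype.val (hcy.isMulCommutative.is_comm.comm (⟨s, hs⟩ : T) ⟨t, ht⟩))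
  classical
  have := Fintype.ofFinite E
  have h4 : Fintype.card E = 4 := by rw [← Nat.card_eq_fintype_card, hE.card_four]
  obtain ⟨a, ha⟩ : ∃ a : E, a ≠ 1 := Fintype.exists_ne_of_one_lt_card (by omega) 1
  obtain ⟨b, -, hb⟩ : ∃ b ∈ (Finset.univ : Finset E), b ∉ ({1, a} : Finset E) :=
    Finset.exists_mem_notMem_of_card_lt_card (Finset.card_le_two.trans_lt (by rw [Finset.card_univ, h4]; norm_num))
  rw [Finset.mem_insert, Finset.mem_singleton, not_or] at hb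
  have hv : ∀ x y : E, ((x : T) : G) = (y : T) → x = y := fun x y h => Subtype.ext (Subtype.ext h)
  exact ⟨a, (a : T).2, b, (b : T).2, congrArg (fun x : E => ((x : T) : G)) (IsKleinFour.mul_self a),
    congrArg (fun x : E => ((x : T) : G)) (IsKleinFour.mul_self b),
    congrArg (fun x : E => ((x : T) : G)) (IsKleinFour.isMulCommutative.is_comm.comm a b),
    fun h => ha (hv a 1 h), fun h => hb.1 (hv b 1 h), fun h => hb.2 (hv b a h.symm)⟩

section one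

variable {F : FR A} {T : Subgroup Aˣ} {D : Blk A} (hm : Mem F T) (hD : Sh T D)
include hm hD

theorem tyI_sq (hI : TyI T) {v : Aˣ} (hv : v ∈ T) (hu : Uni v) : ((v : A) - 1) ^ 2 = 0 := by
  set y : A := (v : A) + (v⁻¹ : Aˣ) - 2 with hy
  have e1 : y = (v⁻¹ : Aˣ) * D.e * (((v : A) - 1) * (v - 1)) := by
    rw [mul_assoc, ← mul_assoc D.e, hD.mul_sub hv, hy]
    calc (v : A) + (v⁻¹ : Aˣ) - 2 = ((v⁻¹ : Aˣ) * v) * v + (v⁻¹ : Aˣ) - 2 * ((v⁻¹ : Aˣ) * v) := by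
          rw [Units.inv_mul, one_mul, mul_one]
      _ = _ := by noncomm_ring
  have e2 : ((v : A) - 1) ^ 2 = v * y := by
    rw [hy, mul_sub, mul_add, Units.mul_inv]; noncomm_ring
  have h1 : y ∈ D.car := e1 ▸ mul_mem (hD.mul_e_mem (inv_mem hv)) (mul_mem (hD.mem v hv) (hD.mem v hv))
  have h2 : ∀ x ∈ D.car, y * x = x * y := fun x hx => hD.comm (fun t ht => by
    rw [hy, sub_mul, mul_sub, hI t ht v hv, two_mul, mul_two]) hx
  have h3 : star y = y := by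
    rw [hy, star_sub, star_add, Mem.star_eq hm hv, Mem.star_eq hm (inv_mem hv), inv_inv, star_ofNat, add_comm]
  have h4 : IsNilpotent y := by
    have e3 : y = (v⁻¹ : Aˣ) * ((v : A) - 1) ^ 2 := by rw [e2, Units.inv_mul_cancel_left]
    rw [e3]
    exact Commute.isNilpotent_mul_left
      ((((Commute.refl (v : A)).units_inv_left).sub_right (Commute.one_right _)).pow_right 2) (hu.pow_of_pos two_ne_zero)
  by_contra hne
  have h5 : y ≠ 0 := fun h => hne (by rw [e2, h, mul_zero])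
  obtain ⟨m, hm1, hm2⟩ := exists_top h4 h5
  have h6 : ∀ k, y ^ (k + 1) ∈ D.car := fun k => by
    induction k with
    | zero => rwa [zero_add, pow_one]
    | succ k ih => rw [pow_succ]; exact mul_mem ih h1
  have h7 := Blk.kill hD.ss h2 (h6 m) hm1 (by rw [← pow_succ, hm2]) (by rw [star_pow, h3, ← pow_succ, hm2])
  rw [D.e_mul y h1] at h7
  exact h5 h7

theorem tyN_of_tyI (hI : TyI T) (hU : HasUni T) (h2 : IsUnit (2 : A)) : TyN T := by
  obtain ⟨v, hv, hv1, hu⟩ := hU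
  exact ⟨v, hv, 1, le_rfl, tyI_sq hm hD hI hv hu, by
    rw [pow_one]; exact fun h => hv1 (Units.ext (sub_eq_zero.1 h)), by simpa using h2⟩

theorem noCen_of_tyI [Finite A] (hA : SS A) (hI : TyI T) (hU : HasUni T) (h2 : (2 : A) = 0) : NoCen T := by
  obtain ⟨v, hv, hv1, hu⟩ := hU
  intro c hc hcc
  have h1 := tyI_sq hm hD hI hv hu
  have h3 : ((v⁻¹ : Aˣ) : A) = v := by
    refine Units.inv_eq_of_mul_eq_one_right ?_
    calc (v : A) * v = ((v : A) - 1) ^ 2 + 2 * (v - 1) + 1 := by noncomm_ring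
      _ = 1 := by rw [h1, h2]; simp
  have h4 : Cen c := hm.zc c hc hcc
  have h5 : (c : A) + (c⁻¹ : Aˣ) ∈ Subring.center A := add_mem h4 (inv_cen h4)
  by_cases h6 : (c : A) + (c⁻¹ : Aˣ) = 0
  · refine SS.eq_one_of_cen_uni hA h4 ⟨2, ?_⟩
    calc ((c : A) - 1) ^ 2 = c * c + 1 - 2 * c := by noncomm_ring
      _ = c * (c + (c⁻¹ : Aˣ)) := by rw [h2, mul_add, Units.mul_inv, zero_mul, sub_zero]
      _ = 0 := by rw [h6, mul_zero]
  · have h7 := hA.isUnit_of_cen h5 (by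
      rw [star_add, Mem.star_eq hm hc, Mem.star_eq hm (inv_mem hc), inv_inv, add_comm]) h6
    refine absurd (SS.eq_one_of_cen_uni hA (hm.zc v hv fun s hs => Units.ext ?_) hu) hv1
    have h8 := hI s hs _ (mul_mem hc hv)
    rw [mul_inv_rev, Units.val_mul, Units.val_mul, h3, cen_comm (inv_cen h4), ← add_mul, ← mul_assoc, cen_comm h5,
      mul_assoc, mul_assoc] at h8
    exact (h7.mul_left_cancel h8).symm

theorem five_of_tyI (hI : TyI T) {w : Aˣ} (hw : w ∈ T) (h5 : w ^ 5 = 1) (h1 : w ≠ 1) :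
    (1 + (w : A) + (w : A) ^ 2 + (w : A) ^ 3 + (w : A) ^ 4) * D.e = 0 := by
  set τ : A := (w : A) + (w⁻¹ : Aˣ) with hτ
  have e1 : 1 + (w : A) + (w : A) ^ 2 + (w : A) ^ 3 + (w : A) ^ 4 = w * (w * (τ * τ + τ - 1)) := by
    have e2 : (w : A) * (w⁻¹ : Aˣ) = 1 := Units.mul_inv w
    have e3 : ((w⁻¹ : Aˣ) : A) * w = 1 := Units.inv_mul w
    calc _ = (w : A) ^ 4 + w * w * 1 + w * 1 * w + w * 1 * (w⁻¹ : Aˣ) + w ^ 3 + w * 1 - w * w := by
          rw [mul_one, mul_one, e2]; noncomm_ring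
      _ = (w : A) ^ 4 + w * w * (w * (w⁻¹ : Aˣ)) + w * (w * (w⁻¹ : Aˣ)) * w + w * (w * (w⁻¹ : Aˣ)) * (w⁻¹ : Aˣ) + w ^ 3 +
          w * (w * (w⁻¹ : Aˣ)) - w * w := by rw [e2]
      _ = _ := by rw [hτ]; noncomm_ring
  have h2 : ∀ x ∈ D.car, (τ * τ + τ - 1) * x = x * (τ * τ + τ - 1) := fun x hx => by
    have c : Commute τ x := hD.comm (fun t ht => (hI t ht w hw).symm) hx
    exact (((c.mul_left c).add_left c).sub_left (Commute.one_left x)).eq
  have h3 : ((w : A) - 1) * (τ * τ + τ - 1) = 0 := by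
    have h4 : (w : A) ^ 5 = 1 := by rw [← Units.val_pow_eq_pow_val, h5, Units.val_one]
    have h6 : ((w : A) - 1) * (w * (w * (τ * τ + τ - 1))) = 0 := by
      rw [← e1]
      calc _ = (w : A) ^ 5 - 1 := by noncomm_ring
        _ = 0 := by rw [h4, sub_self]
    rwa [← mul_assoc, ← mul_assoc, show ((w : A) - 1) * w * w = w * (w * (w - 1)) by noncomm_ring, mul_assoc, mul_assoc,
      Units.mul_right_eq_zero, Units.mul_right_eq_zero] at h6
  have h4 := Blk.kill hD.ss h2 (hD.mem w hw) (fun h => h1 (Units.ext (sub_eq_zero.1 h))) h3 (by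
    rw [star_sub, star_one, Mem.star_eq hm hw,
      show ((w⁻¹ : Aˣ) : A) - 1 = -(w⁻¹ : Aˣ) * (w - 1) by rw [mul_sub, neg_mul, Units.inv_mul]; noncomm_ring,
      mul_assoc, h3, mul_zero])
  rw [e1, mul_assoc, mul_assoc, h2 _ D.e_mem, h4, mul_zero, mul_zero]

/-- an element acting as `-1` on the support is central -/
theorem cen_of_neg {a : Aˣ} (ha : a ∈ T) (h1 : (1 + (a : A)) * D.e = 0) : ∀ s ∈ T, a * s = s * a := by
  intro s hs
  have e1 : (a : A) = 1 - D.e - D.e := by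
    rw [← hD.mul_compl ha, mul_sub, mul_one, sub_sub, ← add_one_mul, add_comm, h1, sub_zero]
  apply Units.ext
  rw [Units.val_mul, Units.val_mul, e1, sub_mul, sub_mul, mul_sub, mul_sub, hD.comm_e hs, one_mul, mul_one]

end one

namespace DD

variable {F : FR A} {T T' : Subgroup Aˣ} {U : Type} [Group U] {α β : U →* Aˣ} (h : DD F T T' α β)
include h

theorem w_eq_one (hc : NoCen T') {u : U} (h1 : α u = 1) : α u * β u = 1 ∧ β u = 1 := by
  have h2 : Cen (β u) := (h.cen u).1 (by rw [h1]; exact cen_one)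
  have h3 := hc _ (h.w_mem u) fun s _ => by rw [h1, one_mul]; exact Cen.comm' h2 s
  exact ⟨h3, by rwa [h1, one_mul] at h3⟩

theorem a_eq_one (hc : NoCen T) {u : U} (h1 : α u * β u = 1 ∨ β u = 1) : α u = 1 := by
  refine hc _ (h.a_mem u) fun s _ => Cen.comm' ?_ s
  rcases h1 with h1 | h1
  · exact h.cen' u (by rw [h1]; exact cen_one)
  · exact (h.cen u).2 (by rw [h1]; exact cen_one)

variable {D : Blk A} (hD : Sh T D) (hb : ∀ u, (1 - D.e) * (β u : A) = 1 - D.e)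
include hD hb

theorem not_tyII [Finite A] (h1 : TyII T D.e) (h2 : TyII T' D.e) : False := by
  obtain ⟨hu, hc, h1⟩ := h1
  obtain ⟨-, hc', h2⟩ := h2
  obtain ⟨a, ha, b, hb', haa, hbb, hab, ha1, hb1, hne⟩ := exists_four h.m.qs hc
  have h3 := h1 a ha b hb' haa hbb hab ha1 hb1 hne
  obtain ⟨u, rfl⟩ := h.exists_u ha
  obtain ⟨u', rfl⟩ := h.exists_u hb'
  have h4 := h2 _ (h.w_mem u) _ (h.w_mem u')
    (by rw [← h.w_mul]; exact (h.w_eq_one hc' (by rw [map_mul, haa])).1)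
    (by rw [← h.w_mul]; exact (h.w_eq_one hc' (by rw [map_mul, hbb])).1)
    (by
      rw [← h.w_mul, ← h.w_mul, ← mul_inv_eq_one, ← h.w_inv, ← h.w_mul]
      exact (h.w_eq_one hc' (by rw [map_mul, map_inv, map_mul, map_mul, hab, mul_inv_cancel])).1)
    (fun h5 => ha1 (h.a_eq_one hc (Or.inl h5))) (fun h5 => hb1 (h.a_eq_one hc (Or.inl h5)))
    (fun h5 => hne (by
      have h6 := h.a_eq_one hc (u := u * u'⁻¹) (Or.inl (by rw [h.w_mul, h.w_inv, h5, mul_inv_cancel]))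
      rwa [map_mul, map_inv, mul_inv_eq_one] at h6))
  rw [Units.val_mul, Units.val_mul] at h4
  have haa' : (α u : A) * α u = 1 := congrArg Units.val haa
  have hbb' : (α u' : A) * α u' = 1 := congrArg Units.val hbb
  have hab' : Commute (α u : A) (α u') := congrArg Units.val hab
  have sa : star (α u : A) = α u := by rw [Mem.star_eq h.m ha, Units.inv_eq_of_mul_eq_one_right haa']
  have sb : star (α u' : A) = α u' := by rw [Mem.star_eq h.m hb', Units.inv_eq_of_mul_eq_one_right hbb']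
  have cca : Commute (β u : A) (α u) := h.b_comm u ha
  have ccb : Commute (β u : A) (α u') := h.b_comm u hb'
  have cda : Commute (β u' : A) (α u) := h.b_comm u' ha
  have cdb : Commute (β u' : A) (α u') := h.b_comm u' hb'
  have eb : Commute (α u' : A) D.e := hD.comm_e hb'
  have ec : Commute (β u : A) D.e := h.b_comm_D hD u D.e_mem
  have ed : Commute (β u' : A) D.e := h.b_comm_D hD u' D.e_mem
  have ma := hD.mem _ ha
  have mb := hD.mul_e_mem hb'
  have ea := hD.sub_mul ha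
  have cD : ∀ x ∈ D.car, Commute (β u : A) x := fun x hx => h.b_comm_D hD u hx
  have dD : ∀ x ∈ D.car, Commute (β u' : A) x := fun x hx => h.b_comm_D hD u' hx
  set a : A := ((α u : Aˣ) : A)
  set b : A := ((α u' : Aˣ) : A)
  set c : A := ((β u : Aˣ) : A)
  set d : A := ((β u' : Aˣ) : A)
  -- the idempotents `(a - 1) (1 + σ b)`
  have key : ∀ σ : ℤ, σ * σ = 1 → (a - 1) * (1 + σ • b) ≠ 0 → D.e * ((1 - c) * (1 + σ • d)) = 0 := by
    intro σ hσ h0
    have m1 : (a - 1) * (1 + σ • b) ∈ D.car := by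
      rw [← ea, mul_assoc, mul_add, mul_one, mul_smul_comm, ← eb.eq]
      exact mul_mem ma (add_mem D.e_mem (zsmul_mem mb σ))
    have c1 : Commute (a - 1) (1 + σ • b) :=
      (Commute.one_right _).add_right ((hab'.sub_left (Commute.one_left _)).smul_right σ)
    have s1 : star ((a - 1) * (1 + σ • b)) = (a - 1) * (1 + σ • b) := by
      rw [star_mul, star_add, star_sub, star_one, star_zsmul, sa, sb, c1.eq]
    have k1 : (a - 1) * (1 + a * c) = (a - 1) * (1 - c) := by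
      rw [mul_add, mul_sub (a - 1), ← mul_assoc, sub_mul a 1 a, haa']; noncomm_ring
    have k2 : (1 + σ • b) * (1 + b * d) = (1 + σ • b) * (1 + σ • d) := by
      rw [mul_add, mul_add, ← mul_assoc, add_mul 1 _ b, smul_mul_assoc, hbb', add_mul 1 _ (σ • d), smul_mul_smul_comm, hσ]
      simp only [add_mul, add_comm, _root_.zsmul_eq_mul, _root_.mul_one, _root_.one_mul, _root_.one_smul]
    have c2 : Commute (1 + σ • b) (1 + a * c) :=
      (Commute.one_right _).add_right ((Commute.one_left _).add_left ((hab'.symm.mul_right ccb.symm).smul_left σ))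
    have c3 : Commute (1 + σ • b) (1 - c) :=
      (Commute.one_right _).sub_right ((Commute.one_left _).add_left (ccb.symm.smul_left σ))
    have k3 : (a - 1) * (1 + σ • b) * ((1 - c) * (1 + σ • d)) = 0 := by
      have k4 : (a - 1) * (1 + σ • b) * ((1 + a * c) * (1 + b * d) * D.e) = 0 := by rw [h4, mul_zero]
      have c4 : Commute ((1 - c) * (1 + σ • d)) D.e :=
        ((Commute.one_left _).sub_left ec).mul_left ((Commute.one_left _).add_left (ed.smul_left σ))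
      calc _ = (a - 1) * (1 + σ • b) * D.e * ((1 - c) * (1 + σ • d)) := by rw [D.mul_e _ m1]
        _ = (a - 1) * ((1 + σ • b) * (1 - c)) * (1 + σ • d) * D.e := by rw [mul_assoc, ← c4.eq]; simp only [mul_assoc]
        _ = (a - 1) * (1 - c) * ((1 + σ • b) * (1 + σ • d)) * D.e := by rw [c3.eq]; simp only [mul_assoc]
        _ = (a - 1) * ((1 + a * c) * (1 + σ • b)) * (1 + b * d) * D.e := by rw [← k1, ← k2]; simp only [mul_assoc]
        _ = 0 := by rw [← c2.eq, ← k4]; simp only [mul_assoc]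
    exact Blk.kill hD.ss (fun x hx => (((Commute.one_left x).sub_left (cD x hx)).mul_left
      ((Commute.one_left x).add_left ((dD x hx).smul_left σ))).eq) m1 h0 k3 (by rw [s1, k3])
  have k1 := key 1 rfl fun h0 => hb1 (hc _ hb' (cen_of_neg h.m hD hb' (hu.mul_right_eq_zero.1 ?_)))
  · have k2 := key (-1) rfl fun h0 => hne ?_
    · refine ha1 (h.a_eq_one hc (Or.inr (h.b_eq_one hD hb (hu.mul_right_eq_zero.1 ?_))))
      calc 2 * (D.e * (c - 1)) = -(D.e * ((1 - c) * (1 + (1 : ℤ) • d)) + D.e * ((1 - c) * (1 + (-1 : ℤ) • d))) := by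
            noncomm_ring
        _ = 0 := by rw [k1, k2, add_zero, neg_zero]
    · have k3 := hc _ (mul_mem ha hb') (cen_of_neg h.m hD (mul_mem ha hb') (hu.mul_right_eq_zero.1 (by
        rw [Units.val_mul]
        calc 2 * ((1 + a * b) * D.e) = (1 + a) * (1 + b) * D.e - (a - 1) * (1 + (-1 : ℤ) • b) * D.e := by noncomm_ring
          _ = 0 := by rw [h3, h0, zero_mul, sub_zero])))
      rw [← mul_one (α u), ← hbb, ← mul_assoc, k3, one_mul]
  · calc 2 * ((1 + b) * D.e) = (1 + a) * (1 + b) * D.e - (a - 1) * (1 + (1 : ℤ) • b) * D.e := by noncomm_ring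
      _ = 0 := by rw [h3, h0, zero_mul, sub_zero]

theorem not_tyIV (h1 : TyIV T D.e) (hc' : NoCen T')
    (h2 : ∀ w ∈ T', w ^ 5 = 1 → w ≠ 1 → (1 + (w : A) + (w : A) ^ 2 + (w : A) ^ 3 + (w : A) ^ 4) * D.e = 0) : False := by
  obtain ⟨h0, hc, h1, t, ht, ht5, ht1, s, hs, s', hs', hst⟩ := h1
  obtain ⟨u, rfl⟩ := h.exists_u ht
  have hc5 : β u ^ 5 = 1 := by rw [← map_pow]; exact (h.w_eq_one hc' (by rw [map_pow, ht5])).2
  have hcm : Commute (α u) (β u) := h.comm u u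
  have h3 := h2 _ (h.w_mem u) (by rw [hcm.mul_pow, ht5, hc5, mul_one]) fun h4 => ht1 (h.a_eq_one hc (Or.inl h4))
  have hcl : ∀ z : A, Commute z D.e → (∀ t ∈ T, z * t = t * z) → Commute z s := by
    intro z hz1 hz2
    have h4 : Subring.closure (insert D.e ((fun u : Aˣ => (u : A)) '' T)) ≤ Subring.centralizer {z} := by
      rw [Subring.closure_le]
      rintro x (rfl | ⟨t, ht, rfl⟩) y hy
      · rw [Set.mem_singleton_iff.1 hy]; exact hz1
      · rw [Set.mem_singleton_iff.1 hy]; exact hz2 t ht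
    exact h4 hs z rfl
  have cs : Commute (β u : A) s := hcl _ (h.b_comm_D hD u D.e_mem) fun t ht => h.b_comm u ht
  have es : Commute D.e s := hcl _ (Commute.refl _) fun t ht => (hD.comm_e ht).symm
  have et : Commute (α u : A) D.e := hD.comm_e ht
  have ec : Commute (β u : A) D.e := h.b_comm_D hD u D.e_mem
  have tc : Commute (α u : A) (β u) := congrArg Units.val hcm
  have t5 : (α u : A) ^ 5 = 1 := by rw [← Units.val_pow_eq_pow_val, ht5, Units.val_one]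
  have c5 : (β u : A) ^ 5 = 1 := by rw [← Units.val_pow_eq_pow_val, hc5, Units.val_one]
  have h4 : ∀ k : ℕ, 1 ≤ k → k ≤ 4 → (1 + (α u : A) ^ k + ((α u : A) ^ k) ^ 2 + ((α u : A) ^ k) ^ 3 +
      ((α u : A) ^ k) ^ 4) * D.e = 0 := by
    intro k hk1 hk2
    have h5 := h1 _ (pow_mem ht k) (by rw [← pow_mul, mul_comm, pow_mul, ht5, one_pow]) (by
      intro h6
      have h7 : orderOf (α u) = 5 := by
        have : Fact (Nat.Prime 5) := ⟨by norm_num⟩
        exact orderOf_eq_prime ht5 ht1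
      have h8 := Nat.le_of_dvd hk1 (orderOf_dvd_of_pow_eq_one h6)
      omega)
    rwa [Units.val_pow_eq_pow_val] at h5
  rw [Units.val_mul] at h3
  set t : A := ((α u : Aˣ) : A)
  set c : A := ((β u : Aˣ) : A)
  let P : A → A := fun x => 1 + x + x ^ 2 + x ^ 3 + x ^ 4
  have h5 : ∀ a : ℕ, P (t ^ (2 * a) * c) * D.e = 0 → P (t ^ a * c) * D.e = 0 := by
    intro a ha
    have k1 : SemiconjBy s (t ^ a * c) (t ^ (2 * a) * c) := by
      have k2 : SemiconjBy s t (t ^ 2) := hst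
      rw [pow_mul]
      exact (k2.pow_right a).mul_right cs.symm
    have k2 : SemiconjBy s (P (t ^ a * c)) (P (t ^ (2 * a) * c)) :=
      ((((SemiconjBy.one_right s).add_right k1).add_right (k1.pow_right 2)).add_right (k1.pow_right 3)).add_right
        (k1.pow_right 4)
    have k3 : Commute (t ^ a * c) D.e := (et.pow_left a).mul_left ec
    have k4 : Commute (P (t ^ a * c)) D.e :=
      ((((Commute.one_left _).add_left k3).add_left (k3.pow_left 2)).add_left (k3.pow_left 3)).add_left (k3.pow_left 4)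
    calc P (t ^ a * c) * D.e = s' * (s * P (t ^ a * c)) * D.e := by
          rw [← mul_assoc, hs', ← k4.eq, mul_assoc, D.idem]
      _ = 0 := by rw [k2.eq, mul_assoc, mul_assoc, ← es.eq, ← mul_assoc (P _), ha, zero_mul, mul_zero]
  have r : ∀ k : ℕ, t ^ k = t ^ (k % 5) := fun k => pow_eq_pow_mod k t5
  have p1 : P (t ^ 1 * c) * D.e = 0 := by rw [pow_one]; exact h3
  have p3 := h5 3 (by rw [r]; exact p1)
  have p4 := h5 4 (by rw [r]; exact p3)
  have p2 := h5 2 p4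
  have e : ∀ a k : ℕ, (t ^ a * c) ^ k = (t ^ k) ^ a * c ^ k := fun a k => by
    rw [(tc.pow_left a).mul_pow, ← pow_mul, ← pow_mul, mul_comm]
  have h6 : P c * D.e = D.e := by
    have k1 := h4 1 (by norm_num) (by norm_num)
    have k2 := h4 2 (by norm_num) (by norm_num)
    have k3 := h4 3 (by norm_num) (by norm_num)
    have k4 := h4 4 (by norm_num) (by norm_num)
    have k5 : ∀ (k : ℕ) (x : A), x * D.e = 0 → x * c ^ k * D.e = 0 := fun k x hx => by
      rw [mul_assoc, (ec.pow_left k).eq, ← mul_assoc, hx, zero_mul]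
    have k6 : (P c + P (t ^ 1 * c) + P (t ^ 2 * c) + P (t ^ 3 * c) + P (t ^ 4 * c)) * D.e =
        (2 + 2 + 1) * D.e + P (t ^ 1) * c ^ 1 * D.e + P (t ^ 2) * c ^ 2 * D.e + P (t ^ 3) * c ^ 3 * D.e +
          P (t ^ 4) * c ^ 4 * D.e := by
      simp only [P, e]
      noncomm_ring
    rw [add_mul, add_mul, add_mul, add_mul, p1, p2, p3, p4, k5 _ _ k1, k5 _ _ k2, k5 _ _ k3, k5 _ _ k4, h0] at k6
    simpa only [_root_.add_zero, _root_.zero_add, _root_.one_mul] using k6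
  refine ht1 (h.a_eq_one hc (Or.inr (h.b_eq_one hD hb ?_)))
  calc D.e * (c - 1) = (c - 1) * (P c * D.e) := by rw [h6, mul_sub, sub_mul, ec.eq, mul_one, one_mul]
    _ = (c ^ 5 - 1) * D.e := by simp only [P]; noncomm_ring
    _ = 0 := by rw [c5, sub_self, zero_mul]

theorem not_tyI (hc : NoCen T) (h1 : TyI T) (h2 : TyI T') : False := by
  have key : ∀ t ∈ T, t * t = 1 := by
    intro t ht
    obtain ⟨u, rfl⟩ := h.exists_u ht
    by_cases h3 : ∀ s ∈ T, s * α u * s⁻¹ * α u = α u * (s * α u * s⁻¹)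
    · -- `t` commutes with its conjugates
      let N : Subgroup Aˣ := Subgroup.closure {x | ∃ s ∈ T, x = s * α u * s⁻¹}
      have h4 : N ≤ T := by
        rw [Subgroup.closure_le]
        rintro _ ⟨s, hs, rfl⟩
        exact nm_self T s hs _ ht
      have h5 : Nm T N := by
        intro r hr
        have h6 : N ≤ N.comap (MulAut.conj r).toMonoidHom := by
          rw [Subgroup.closure_le]
          rintro _ ⟨s, hs, rfl⟩
          refine Subgroup.subset_closure ⟨r * s, mul_mem hr hs, ?_⟩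
          change r * (s * α u * s⁻¹) * r⁻¹ = _
          group
        exact fun x hx => h6 hx
      have h6 : N ≤ Subgroup.centralizer {α u} := by
        rw [Subgroup.closure_le]
        rintro _ ⟨s, hs, rfl⟩
        exact Subgroup.mem_centralizer_singleton_iff.2 (h3 s hs)
      have h7 : α u = 1 := hc _ ht (by
        rcases h.m.qs.dich N h4 h5 with h7 | h7
        · exact fun s hs => (Subgroup.mem_centralizer_singleton_iff.1 (h6 (h7 ▸ hs))).symm
        · exact h7 _ (Subgroup.subset_closure ⟨1, one_mem _, by group⟩))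
      rw [h7, mul_one]
    · push Not at h3
      obtain ⟨s, hs, h3⟩ := h3
      obtain ⟨u', rfl⟩ := h.exists_u hs
      rw [← map_mul]
      refine h.a_eq_one hc (Or.inr (h.b_eq_one hD hb ?_))
      have ht' := nm_self T _ hs _ ht
      have k0 : ∀ v : U, ∀ t ∈ T, Commute (t : A) (β v) := fun v t ht => (h.b_comm v ht).symm
      have k1 := h2 _ (h.w_mem u') _ (h.w_mem u)
      have k2 := h1 _ hs _ ht
      have k3 : ((α u)⁻¹ : Aˣ) = ((α u : A) + ((α u)⁻¹ : Aˣ)) - α u := by rw [add_sub_cancel_left]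
      have k4 : ((α u' * α u * (α u')⁻¹)⁻¹ : Aˣ) =
          ((α u : A) + ((α u)⁻¹ : Aˣ)) - (α u' * α u * (α u')⁻¹ : Aˣ) := by
        rw [eq_sub_iff_add_eq, mul_inv_rev, mul_inv_rev, inv_inv]
        simp only [Units.val_mul]
        rw [← mul_assoc, ← add_mul, ← mul_add, add_comm, k2, Units.mul_inv_cancel_right]
      have k5 : ∀ r ∈ T, Commute (r : A) ((α u : A) + ((α u)⁻¹ : Aˣ)) := fun r hr => h1 r hr _ ht
      set τ : A := (α u : A) + ((α u)⁻¹ : Aˣ) with hτ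
      set t' : Aˣ := α u' * α u * (α u')⁻¹ with ht'e
      set y : A := (β (u' * u * u'⁻¹) : A) - β (u' * u⁻¹ * u'⁻¹) with hy
      have k6 : ((α u * β u : Aˣ) : A) + ((α u * β u)⁻¹ : Aˣ) = t' * y + τ * β (u' * u⁻¹ * u'⁻¹) := by
        have k7 : ((α u * β u : Aˣ) : A) + ((α u * β u)⁻¹ : Aˣ) =
            (α u' * β u' : Aˣ) * (((α u * β u : Aˣ) : A) + ((α u * β u)⁻¹ : Aˣ)) * ((α u' * β u')⁻¹ : Aˣ) := by
          rw [k1, Units.mul_inv_cancel_right]
        rw [k7, mul_add, add_mul, ← Units.val_mul, ← Units.val_mul, ← Units.val_mul, ← Units.val_mul, ← h.w_inv,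
          ← h.w_inv, ← h.w_mul, ← h.w_mul, ← h.w_mul, ← h.w_mul, Units.val_mul, Units.val_mul, hy, mul_sub,
          map_mul α, map_mul α, map_inv α, ← ht'e,
          show α (u' * u⁻¹ * u'⁻¹) = t'⁻¹ by rw [ht'e]; simp only [map_mul, map_inv]; group, k4, sub_mul]
        abel
      have k7 : Commute (α u : A) (((α u * β u : Aˣ) : A) + ((α u * β u)⁻¹ : Aˣ)) := by
        have k8 : Commute (α u : A) ((α u * β u : Aˣ) : A) := by
          rw [Units.val_mul]; exact (Commute.refl _).mul_right (k0 u _ ht)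
        exact k8.add_right k8.units_inv_right
      have k8 : Commute (α u : A) y := (k0 _ _ ht).sub_right (k0 _ _ ht)
      have k9 : ((t' : A) * α u - α u * t') * y = 0 := by
        have k10 := k7.eq
        have k11 := ((k5 _ ht).mul_right (k0 (u' * u⁻¹ * u'⁻¹) _ ht)).eq
        rw [k6, mul_add, add_mul _ _ (α u : A), k11, add_left_inj, mul_assoc, ← k8.eq] at k10
        rw [sub_mul, mul_assoc, mul_assoc, k10, sub_self]
      have k10 : (t' : A) * α u - α u * t' ∈ D.car := by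
        rw [show (t' : A) * α u - α u * t' = (t' - 1) * (α u - 1) - (α u - 1) * (t' - 1) by noncomm_ring]
        exact sub_mem (mul_mem (hD.mem _ ht') (hD.mem _ ht)) (mul_mem (hD.mem _ ht) (hD.mem _ ht'))
      have k11 := Blk.kill hD.ss (y := y) (fun x hx => by
          rw [hy, sub_mul, mul_sub, h.b_comm_D hD _ hx, h.b_comm_D hD _ hx]) k10
        (fun k12 => h3 (Units.ext (sub_eq_zero.1 k12))) k9 (by
          rw [star_sub, star_mul, star_mul, Mem.star_eq h.m ht, Mem.star_eq h.m ht', k3, k4]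
          have k12 := (k5 _ ht).eq
          have k13 := (k5 _ ht').eq
          calc _ = (τ * α u - α u * τ - (τ * t' - t' * τ)) * y - (t' * α u - α u * t') * y := by noncomm_ring
            _ = 0 := by rw [k12, k13, k9]; simp)
      rw [hy, mul_sub, sub_eq_zero] at k11
      have k12 : D.e * (β (u' * (u * u) * u'⁻¹) : A) = D.e := by
        rw [show u' * (u * u) * u'⁻¹ = u' * u * u'⁻¹ * (u' * u * u'⁻¹) by group, map_mul, Units.val_mul, ← mul_assoc, k11,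
          mul_assoc, ← Units.val_mul, ← map_mul, show u' * u⁻¹ * u'⁻¹ * (u' * u * u'⁻¹) = 1 by group, map_one,
          Units.val_one, mul_one]
      have k13 := h.b_eq_one hD hb (u := u' * (u * u) * u'⁻¹) (by rw [mul_sub, k12, mul_one, sub_self])
      rw [map_mul, map_mul, map_inv, mul_inv_eq_one, mul_eq_left] at k13
      rw [k13, Units.val_one, sub_self, mul_zero]
  refine h.m.qs.nc fun s hs t ht => ?_
  have h3 := key _ (mul_mem hs ht)
  calc s * t = (t * t) * (s * t) * (s * s) := by rw [key t ht, key s hs, one_mul, mul_one]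
    _ = t * (t * s * t * s) * s := by group
    _ = _ := by
      have h4 : t * s * t * s = 1 := by
        have h5 := key _ (mul_mem ht hs)
        rwa [← mul_assoc] at h5
      rw [h4, mul_one]

end DD

/-- **Box Cyc.** -/
theorem boxCyc : BoxCyc := by
  intro A _ _ _ F p hA hp h0 ι _ _ σ T hσ hm hsh hd
  classical
  choose U gU α β h1 h2 h3 h4 h5 h6 h7 using hd
  have h : ∀ i, DD F (T i) (T (σ i)) (α i) (β i) := fun i =>
    ⟨hA, hm i, hm (σ i), h1 i, h2 i, h3 i, h4 i, h5 i, h6 i, h7 i⟩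
  have hS : ∀ i, ShS (T i) := by
    by_contra hne
    push Not at hne
    obtain ⟨i, hi⟩ := hne
    have hB : ∀ j : {i // ¬ ShS (T i)}, ShB F (T j) := fun j => (hsh j).resolve_left j.2
    have h8 := pot (f := fun j : {i // ¬ ShS (T i)} => (⟨σ j, (h j).shB_not_shS (hB j)⟩ : {i // ¬ ShS (T i)}))
      (fun a b hab => Subtype.ext (hσ (congrArg Subtype.val hab))) (fun j => Nat.card (ImI (T j)))
      (fun j => card_le_of_le ((h j).shB_le (hB j))) ⟨i, hi⟩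
    exact (h i).shB_ne (hB ⟨i, hi⟩) (eq_of_le_of_card ((h i).shB_le (hB ⟨i, hi⟩)) h8.le)
  choose D hD hU hT using hS
  let X := Σ i, {v : Aˣ // v ∈ T i ∧ Uni v}
  have hx : ∀ x : X, ∃ u, α x.1 u = x.2.1 ∧ Uni (β x.1 u) := fun x => (h x.1).exists_uni hp h0 x.2.2.1 x.2.2.2
  choose u hu1 hu2 using hx
  let f : X → X := fun x => ⟨σ x.1, α x.1 (u x) * β x.1 (u x), (h x.1).w_mem _,
    (h x.1).uni_w (by rw [hu1]; exact x.2.2.2) (hu2 x)⟩
  have hf : Function.Injective f := by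
    rintro ⟨i, v⟩ ⟨i', v'⟩ e
    obtain rfl : i = i' := hσ (congrArg Sigma.fst e)
    have e1 : α i (u ⟨i, v⟩) * β i (u ⟨i, v⟩) = α i (u ⟨i, v'⟩) * β i (u ⟨i, v'⟩) :=
      congrArg (fun x : X => x.2.1) e
    have k1 : α i (u ⟨i, v⟩) = v.1 := hu1 ⟨i, v⟩
    have k2 : α i (u ⟨i, v'⟩) = v'.1 := hu1 ⟨i, v'⟩
    have e2 := (h i).uni_inj (by rw [k1]; exact v.2.2) (by rw [k2]; exact v'.2.2) e1
    rw [k1, k2] at e2
    rw [Subtype.ext e2]
  have hP : ∀ (j : ℕ) (x : X), Nat.card (Ideal.span {(((α x.1 (u x) * β x.1 (u x) : Aˣ) : A) - 1) ^ (j + 1)}) =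
      Nat.card (Ideal.span {((α x.1 (u x) : A) - 1) ^ (j + 1)}) := by
    intro j x
    let φ : Aˣ → ℕ := fun v => Nat.card (Ideal.span {((v : A) - 1) ^ (j + 1)})
    have h8 : φ (f x).2.1 = φ x.2.1 := pot hf (fun x : X => φ x.2.1) (fun x => by
      have h9 : φ (α x.1 (u x)) ≤ φ (α x.1 (u x) * β x.1 (u x)) := ((h x.1).lemP' (hD x.1) (hu2 x) j).1
      exact (congrArg φ (hu1 x)).symm.le.trans h9) x
    exact h8.trans (congrArg φ (hu1 x)).symm
  have hb : ∀ i w, (1 - (D i).e) * (β i w : A) = 1 - (D i).e := by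
    intro i
    obtain ⟨v, hv, hv1, hvu⟩ := hU i
    let x : X := ⟨i, v, hv, hvu⟩
    have k4 : α i (u x) = v := hu1 x
    exact (h i).b_compl (hD i) (u₀ := u x)
      (fun hc => hv1 (SS.eq_one_of_cen_uni hA (k4 ▸ hc) hvu)) ((h i).b_compl_one (hD i) (hu2 x) (hP 0 x))
  have he : ∀ i, (D (σ i)).e = (D i).e := fun i => (h i).e_eq (hD i) (hD (σ i))
    (eq_of_le_of_card ((h i).fix_le (hD i) (hb i))
      (pot hσ (fun i => Nat.card (FixI (T i))) (fun i => card_le_of_le ((h i).fix_le (hD i) (hb i))) i).le)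
  have hN : ∀ i, ¬ TyN (T i) := by
    rintro i ⟨v, hv, j, hj, k1, k2, k3⟩
    obtain ⟨j, rfl⟩ : ∃ j', j = j' + 1 := ⟨j - 1, by omega⟩
    let x : X := ⟨i, v, hv, ⟨_, k1⟩⟩
    have k4 : α i (u x) = v := hu1 x
    have k5 := hP (j + 1) x
    refine (h i).not_tyN (hD i) (hb i) (hu2 x) (j := j) (by rw [k4]; exact k1) (by rw [k4]; exact k2) k3 ?_
    rw [← Ideal.span_singleton_eq_bot, ← eq_of_le_of_card (bot_le (a := Ideal.span _)) (k5.le.trans (le_of_eq ?_))]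
    rw [k4, k1, Ideal.span_singleton_eq_bot.2 rfl]
  have hT' : ∀ i, TyI (T i) ∨ TyII (T i) (D i).e ∨ TyIV (T i) (D i).e := by
    intro i
    rcases hT i with k | ⟨v, hv, hv1, hvu, a, g, ha, hg, k⟩ | k | k
    · exact ((h i).not_tyA (hD i) (hb i) k).elim
    · let x : X := ⟨i, v, hv, hvu⟩
      have k4 : α i (u x) = v := hu1 x
      exact ((h i).not_tyR (hD i) (hb i) (hu2 x) (by rw [k4]; exact hvu) (by rw [k4]; exact hv1) (hP 0 x)
        (by rw [k4]; exact ha) (by rw [k4]; exact hg) k).elim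
    · exact (hN i k).elim
    · exact k
  have := hA.nontrivial
  obtain ⟨i₀⟩ := ‹Nonempty ι›
  rcases SS.natCast_cases hA 2 with h2 | h2
  · rw [Nat.cast_ofNat] at h2
    have k1 : ∀ i, TyI (T i) ∨ TyIV (T i) (D i).e := fun i => by
      rcases hT' i with k | k | k
      · exact Or.inl k
      · exact absurd (h2 ▸ k.1) not_isUnit_zero
      · exact Or.inr k
    have k2 : ∀ i, NoCen (T i) := fun i => (k1 i).elim (fun k => noCen_of_tyI (hm i) (hD i) hA k (hU i) h2) fun k => k.2.1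
    by_cases k3 : ∀ i, TyI (T i)
    · exact (h i₀).not_tyI (hD i₀) (hb i₀) (k2 i₀) (k3 i₀) (k3 _)
    · push Not at k3
      obtain ⟨i, hi⟩ := k3
      refine (h i).not_tyIV (hD i) (hb i) ((k1 i).resolve_left hi) (k2 _) fun w hw k4 k5 => ?_
      rw [← he i]
      exact (k1 (σ i)).elim (fun k => five_of_tyI (hm _) (hD _) k hw k4 k5) fun k => k.2.2.1 w hw k4 k5
  · rw [Nat.cast_ofNat] at h2
    have k1 : ∀ i, TyII (T i) (D i).e := fun i => by
      rcases hT' i with k | k | k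
      · exact (hN i (tyN_of_tyI (hm i) (hD i) k (hU i) h2)).elim
      · exact k
      · exact absurd (k.1 ▸ h2) not_isUnit_zero
    exact (h i₀).not_tyII (hD i₀) (hb i₀) (k1 i₀) (he i₀ ▸ k1 (σ i₀))

end Cfsg.Agent.Cam.Cl.Cy
end

-- part: Cam/Cl/Rows
section
/-!
# Classical rows of S3689, unconditional (helper12)
-/

set_option autoImplicit false

namespace Cfsg.Agent.Cam.Cl.Rw

/-- the six classical rows -/
theorem rows : BoxPSL ∧ BoxPSp ∧ BoxPSU ∧ BoxOOdd ∧ BoxOPlus ∧ BoxOMinus :=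
  Asm.rows Qs.boxQS (Ot.boxO2 (JB.boxBk (Pc.boxPc Qs.boxQS)) (Pc.boxPc Qs.boxQS) Qs.boxQS) Cy.boxCyc

end Cfsg.Agent.Cam.Cl.Rw
end

private theorem dce_72b362a28369 : _root_.True := by
  try have : _root_.True := by simp only [_root_.Cfsg.Agent.Cam.Cl.Ot.Iv.eq_1]
  try have : _root_.True := by simp only [_root_.Cfsg.Agent.Cam.Cl.Ot.ro.eq_1]
  try have : _root_.True := by simp only [_root_.Cfsg.Agent.Cam.Cl.Uni.eq_1]
  exact _root_.True.intro
end

-- part: Cam/Ex/Cb2_mg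
section
prune_inst 0xd5600f405de21200000005967300012638000000004004001ca00502018ada608d42204009001d11080a08000834046002980080404000000e000000000101209008d0008348010c260099800080000000000000000000000000000000041004000000000
set_option linter.all false
open scoped Cfsg.Agent.FastGrp

-- part: Cam/Ex/Cb0
section
/-!
# The finite check, part 0: lists and root tables (helper12)

Vectors are lists of integers; `Tab` says that a list of triples (positive root, coroot functional, norm) is the table of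
the positive roots.
-/

set_option autoImplicit false
set_option linter.unusedVariables false
set_option linter.unusedSectionVars false

namespace Cfsg.Agent.Cam.Ex.Cb

open CoxeterSystem Cfsg Cfsg.Lie
open Cfsg.Agent.ChevalleyStructure.CoxeterGeom Cfsg.Agent.ChevalleyStructure.CoxeterGeomTypes
open Cfsg.Agent.Tits.Roots Cfsg.Agent.Nodes.RGDChev Cfsg.Agent.Nodes.Coroot Cfsg.Agent.Nodes.SubComb
open Cfsg.Agent.H931.KC (hr psi psi_apply psi_sr eq_psi)
open Cfsg.Agent.H92.NE (bl bl_apply bl_comm bl_sr bl_sr_sr FormOK bl_rep)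
open Cfsg.Agent.H129.WData (Mat)

/-- vectors -/
abbrev V : Type := List ℤ

/-- the coordinates -/
noncomputable def gt (x : V) : ℕ → ℤ :=
  List.rec (motive := fun _ => ℕ → ℤ) (fun _ => 0) (fun a _ ih n => Nat.casesOn (motive := fun _ => ℤ) n a ih) x

theorem gt_nil (n : ℕ) : gt [] n = 0 := rfl
theorem gt_succ (a : ℤ) (x : V) (n : ℕ) : gt (a :: x) (n + 1) = gt x n := rfl

/-- the dot product -/
noncomputable def dot (x : V) : V → ℤ :=
  List.rec (motive := fun _ => V → ℤ) (fun _ => 0)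
    (fun a _ ih y => List.casesOn (motive := fun _ => ℤ) y 0 (fun b y' => Int.add (Int.mul a b) (ih y'))) x

theorem dot_cons_nil (a : ℤ) (x : V) : dot (a :: x) [] = 0 := rfl
theorem dot_cons (a b : ℤ) (x y : V) : dot (a :: x) (b :: y) = a * b + dot x y := rfl

/-- `x - c y` -/
noncomputable def axpy (c : ℤ) (x : V) : V → V :=
  List.rec (motive := fun _ => V → V) (fun _ => [])
    (fun a x' ih y => List.casesOn (motive := fun _ => V) y (a :: x')
      (fun b y' => Int.sub a (Int.mul c b) :: ih y')) x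

theorem axpy_cons_nil (c a : ℤ) (x : V) : axpy c (a :: x) [] = a :: x := rfl
theorem axpy_cons (c a b : ℤ) (x y : V) : axpy c (a :: x) (b :: y) = (a - c * b) :: axpy c x y := rfl

/-- equality of integers -/
def ieq (a b : ℤ) : Bool := decide (a = b)

theorem ieq_iff {a b : ℤ} : ieq a b = true ↔ a = b := decide_eq_true_iff

/-- equality of vectors -/
noncomputable def leq (x : V) : V → Bool :=
  List.rec (motive := fun _ => V → Bool) (fun y => List.casesOn (motive := fun _ => Bool) y true (fun _ _ => false))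
    (fun a _ ih y => List.casesOn (motive := fun _ => Bool) y false (fun b y' => cond (ieq a b) (ih y') false)) x

theorem leq_iff {x y : V} : leq x y = true ↔ x = y := by
  induction x generalizing y with
  | nil =>
    cases y with
    | nil => exact ⟨fun _ => rfl, fun _ => rfl⟩
    | cons b y => exact ⟨fun h => absurd h Bool.false_ne_true, fun h => absurd h (List.cons_ne_nil b y).symm⟩
  | cons a x ih =>
    cases y with
    | nil => exact ⟨fun h => absurd h Bool.false_ne_true, fun h => absurd h (List.cons_ne_nil a x)⟩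
    | cons b y =>
      show cond (ieq a b) (leq x y) false = true ↔ _
      rw [List.cons.injEq, ← ih, ← ieq_iff]
      cases ieq a b <;> simp

/-- all -/
noncomputable def al {α : Type} (p : α → Bool) (x : List α) : Bool :=
  List.rec (motive := fun _ => Bool) true (fun a _ ih => cond (p a) ih false) x

theorem al_iff {α : Type} {p : α → Bool} {x : List α} : al p x = true ↔ ∀ a ∈ x, p a = true := by
  induction x with
  | nil => exact ⟨fun _ a ha => absurd ha List.not_mem_nil, fun _ => rfl⟩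
  | cons a x ih =>
    show cond (p a) (al p x) false = true ↔ _
    rw [List.forall_mem_cons, ← ih]
    cases p a <;> simp

/-- any -/
noncomputable def an {α : Type} (p : α → Bool) (x : List α) : Bool :=
  List.rec (motive := fun _ => Bool) false (fun a _ ih => cond (p a) true ih) x

theorem an_iff {α : Type} {p : α → Bool} {x : List α} : an p x = true ↔ ∃ a ∈ x, p a = true := by
  induction x with
  | nil => exact ⟨fun h => absurd h Bool.false_ne_true, fun ⟨a, ha, _⟩ => absurd ha List.not_mem_nil⟩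
  | cons a x ih =>
    show cond (p a) true (an p x) = true ↔ _
    rw [List.exists_mem_cons_iff, ← ih]
    cases p a <;> simp

/-- filter -/
noncomputable def fl {α : Type} (p : α → Bool) (x : List α) : List α :=
  List.rec (motive := fun _ => List α) [] (fun a _ ih => cond (p a) (a :: ih) ih) x

theorem mem_fl {α : Type} {p : α → Bool} {x : List α} {a : α} : a ∈ fl p x ↔ a ∈ x ∧ p a = true := by
  induction x with
  | nil => exact ⟨fun h => absurd h List.not_mem_nil, fun h => absurd h.1 List.not_mem_nil⟩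
  | cons b x ih =>
    show a ∈ cond (p b) (b :: fl p x) (fl p x) ↔ _
    cases h : p b
    · rw [cond_false, ih, List.mem_cons]
      constructor
      · exact fun h1 => ⟨Or.inr h1.1, h1.2⟩
      · rintro ⟨rfl | h1, h2⟩
        · rw [h] at h2; exact absurd h2 Bool.false_ne_true
        · exact ⟨h1, h2⟩
    · rw [cond_true, List.mem_cons, ih, List.mem_cons]
      constructor
      · rintro (rfl | h1)
        · exact ⟨Or.inl rfl, h⟩
        · exact ⟨Or.inr h1.1, h1.2⟩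
      · rintro ⟨rfl | h1, h2⟩
        · exact Or.inl rfl
        · exact Or.inr ⟨h1, h2⟩

/-- count -/
noncomputable def cnt {α : Type} (p : α → Bool) (x : List α) : ℕ :=
  List.rec (motive := fun _ => ℕ) 0 (fun a _ ih => cond (p a) (Nat.succ ih) ih) x

theorem cnt_eq {α : Type} (p : α → Bool) (x : List α) : cnt p x = x.countP p := by
  induction x with
  | nil => rfl
  | cons a x ih =>
    show cond (p a) (Nat.succ (cnt p x)) (cnt p x) = _
    rw [List.countP_cons, ih]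
    cases p a <;> simp

/-- the vector of a list -/
noncomputable def toF (l : ℕ) (x : V) : Lat l := fun i => gt x i

theorem toF_apply {l : ℕ} (x : V) (i : Fin l) : toF l x i = gt x i := rfl

theorem gt_of_le {x : V} {n : ℕ} (h : x.length ≤ n) : gt x n = 0 := by
  induction x generalizing n with
  | nil => rfl
  | cons a x ih =>
    cases n with
    | zero => simp at h
    | succ n => rw [gt_succ]; exact ih (by simpa using h)

theorem dot_eq {l : ℕ} {x : V} (hx : x.length = l) (y : V) : dot x y = ∑ i : Fin l, toF l x i * toF l y i := by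
  subst hx
  induction x generalizing y with
  | nil => rfl
  | cons a x ih =>
    cases y with
    | nil =>
      rw [dot_cons_nil]
      exact (Finset.sum_eq_zero fun i _ => by rw [toF_apply [], gt_nil, mul_zero]).symm
    | cons b y =>
      rw [dot_cons, ih y]
      show _ = ∑ i : Fin (x.length + 1), _
      rw [Fin.sum_univ_succ]
      rfl

theorem psi_toF {l : ℕ} {x : V} (hx : x.length = l) (y : V) : psi (toF l y) (toF l x) = dot x y := by
  rw [dot_eq hx, psi_apply]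

theorem length_axpy (c : ℤ) (x y : V) : (axpy c x y).length = x.length := by
  induction x generalizing y with
  | nil => rfl
  | cons a x ih =>
    cases y with
    | nil => rfl
    | cons b y => rw [axpy_cons, List.length_cons, ih, List.length_cons]

theorem gt_axpy (c : ℤ) {x : V} (y : V) {n : ℕ} (h : n < x.length) : gt (axpy c x y) n = gt x n - c * gt y n := by
  induction x generalizing y n with
  | nil => simp at h
  | cons a x ih =>
    cases y with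
    | nil => rw [axpy_cons_nil, gt_nil, mul_zero, sub_zero]
    | cons b y =>
      cases n with
      | zero => rfl
      | succ n => rw [axpy_cons, gt_succ, gt_succ, gt_succ]; exact ih y (by simpa using h)

theorem toF_axpy {l : ℕ} (c : ℤ) {x : V} (hx : x.length = l) (y : V) :
    toF l (axpy c x y) = toF l x - c • toF l y := by
  funext i
  rw [toF_apply, gt_axpy c y (by rw [hx]; exact i.2)]
  rfl

theorem gt_ofFn {l : ℕ} (f : Fin l → ℤ) (i : Fin l) : gt (List.ofFn f) i = f i := by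
  induction l with
  | zero => exact i.elim0
  | succ l ih =>
    rw [List.ofFn_succ]
    refine Fin.cases rfl (fun i => ?_) i
    exact ih (fun j => f j.succ) i

theorem toF_ofFn {l : ℕ} (f : Fin l → ℤ) : toF l (List.ofFn f) = f := funext (gt_ofFn f)

theorem ofFn_toF {l : ℕ} {x : V} (hx : x.length = l) : List.ofFn (toF l x) = x := by
  subst hx
  induction x with
  | nil => rfl
  | cons a x ih =>
    show List.ofFn (n := x.length + 1) _ = _
    rw [List.ofFn_succ]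
    exact congrArg (a :: ·) ih

theorem toF_inj {l : ℕ} {x y : V} (hx : x.length = l) (hy : y.length = l) (h : toF l x = toF l y) : x = y := by
  rw [← ofFn_toF hx, h, ofFn_toF hy]

theorem psi_sub_smul {l : ℕ} (x y a : Lat l) (c : ℤ) : psi (x - c • y) a = psi x a - c * psi y a := by
  rw [psi_apply, psi_apply, psi_apply, Finset.mul_sum, ← Finset.sum_sub_distrib]
  exact Finset.sum_congr rfl fun i _ => by rw [Pi.sub_apply, Pi.smul_apply, smul_eq_mul]; ring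

theorem psi_neg {l : ℕ} (x a : Lat l) : psi (-x) a = -psi x a := by
  rw [psi_apply, psi_apply, ← Finset.sum_neg_distrib]
  exact Finset.sum_congr rfl fun i _ => by rw [Pi.neg_apply]; ring

theorem psi_sr' {l : ℕ} (i : Fin l) (a : Lat l) : psi (sr i) a = a i := by
  rw [psi_apply, Finset.sum_eq_single i]
  · rw [sr_self, mul_one]
  · intro j _ hj
    rw [sr_ne hj, mul_zero]
  · intro h
    exact absurd (Finset.mem_univ i) h

/-- an additive map is determined by its values on the simple roots -/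
theorem eq_sum {l : ℕ} {K : Type} [CommRing K] (φ : Lat l →+ K) (x : Lat l) : φ x = ∑ i, (x i : K) * φ (sr i) := by
  have h : x = ∑ i, x i • (sr i : Lat l) := by
    funext j
    rw [Finset.sum_apply, Finset.sum_eq_single j]
    · rw [Pi.smul_apply, sr_self, smul_eq_mul, mul_one]
    · intro i _ hi
      rw [Pi.smul_apply, sr_ne (Ne.symm hi), smul_zero]
    · intro h
      exact absurd (Finset.mem_univ j) h
  conv_lhs => rw [h]
  rw [map_sum]
  exact Finset.sum_congr rfl fun j _ => by rw [map_zsmul, zsmul_eq_mul]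

/-- a table entry: positive root, coroot functional, norm -/
structure Ent where
  /-- the root -/
  b : V
  /-- the values of the coroot on the simple roots -/
  cv : V
  /-- the norm -/
  n : ℤ

/-- the data of a type -/
structure Dt where
  /-- the positive roots -/
  T : List Ent
  /-- the maximal norm -/
  mx : ℤ
  /-- the rows of the Cartan matrix -/
  C : List V
  /-- the highest root -/
  H : V

/-- the row `j` -/
noncomputable def row (C : List V) : ℕ → V :=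
  List.rec (motive := fun _ => ℕ → V) (fun _ => []) (fun a _ ih n => Nat.casesOn (motive := fun _ => V) n a ih) C

/-- no repetition -/
noncomputable def nd (x : List V) : Bool :=
  List.rec (motive := fun _ => Bool) true (fun a x' ih => cond (an (leq a) x') false ih) x

theorem nodup_of_nd {x : List V} (h : nd x = true) : x.Nodup := by
  induction x with
  | nil => exact List.nodup_nil
  | cons a x ih =>
    have h' : cond (an (leq a) x) false (nd x) = true := h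
    cases h1 : an (leq a) x
    · rw [h1, cond_false] at h'
      refine List.nodup_cons.2 ⟨fun h2 => ?_, ih h'⟩
      have : an (leq a) x = true := an_iff.2 ⟨a, h2, leq_iff.2 rfl⟩
      rw [h1] at this
      exact Bool.false_ne_true this
    · rw [h1, cond_true] at h'
      exact absurd h' Bool.false_ne_true

/-- the check of a table -/
def TabChk (D : ChevalleyDatum) (l : ℕ) (Bm : Mat l) (d : Dt) : Prop :=
  FormOK D l Bm ∧
  (∀ e ∈ d.T, e.b.length = l ∧ e.cv.length = l ∧ (∀ i : Fin l, 0 ≤ gt e.b i) ∧ 0 < e.n ∧ e.n ≤ d.mx ∧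
    dot e.b e.cv = 2 ∧ (∀ i : Fin l, 2 * ∑ j : Fin l, Bm i j * gt e.b j = e.n * gt e.cv i) ∧
    an (fun r => leq (List.ofFn (vec D l r)) e.b) (List.range D.nroots) = true) ∧
  al (fun r => an (fun e => leq (List.ofFn (vec D l r)) e.b || leq (List.ofFn (-vec D l r)) e.b) d.T)
    (List.range D.nroots) = true ∧
  nd (d.T.map Ent.b) = true ∧ (∀ j i : Fin l, gt (row d.C j) i = cartanOf D l j i) ∧
  (∀ i : Fin l, gt d.H i = hr D l i)

variable {D : ChevalleyDatum} {l : ℕ} {M : CoxeterMatrix (Fin l)} (hp : IsType D l M)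

/-- far roots -/
noncomputable def far (d : Dt) (e c : Ent) : Bool :=
  cond (ieq (dot e.b c.cv) 0) (decide (d.mx < Int.add e.n c.n)) false

/-- the table of the positive roots -/
structure Tab (d : Dt) : Prop where
  lb : ∀ e ∈ d.T, e.b.length = l
  lc : ∀ e ∈ d.T, e.cv.length = l
  rt : ∀ e ∈ d.T, Rt hp (toF l e.b)
  pos : ∀ e ∈ d.T, 0 ≤ toF l e.b
  sur : ∀ a, Rt hp a → ∃ e ∈ d.T, a = toF l e.b ∨ a = -toF l e.b
  cpe : ∀ e ∈ d.T, ∀ a, cp hp a (toF l e.b) = psi (toF l e.cv) a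
  fr : ∀ e ∈ d.T, ∀ c ∈ d.T, far d e c = true → ¬ Rt hp (toF l e.b + toF l c.b) ∧ ¬ Rt hp (-toF l e.b + toF l c.b)
  nodup : (d.T.map Ent.b).Nodup
  car : ∀ j : Fin l, toF l (row d.C j) = cartanOf D l j
  hi : toF l d.H = hr D l

theorem two_bl {Bm : Mat l} (hF : FormOK D l Bm) {y : Lat l} (hy : Rt hp y) (a : Lat l) :
    2 * bl Bm y a = bl Bm y y * cp hp a y := by
  have := finite_W hp M.toCoxeterSystem
  obtain ⟨u, j, rfl⟩ := hy
  have key : ∀ z : Fin l → ℤ, 2 * bl Bm z (sr j) = Bm j j * pairing (cartanOf D l) j z := by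
    intro z
    rw [bl_sr]
    unfold pairing
    rw [Finset.mul_sum, Finset.mul_sum]
    refine Finset.sum_congr rfl fun j' _ => ?_
    rw [← mul_assoc, hF.2 j j', mul_assoc]
  show _ = _ * cpr _ _ _ _
  rw [cpr_rep_sr, bl_rep hp hF, bl_sr_sr, ← key, ← bl_rep hp hF u (sr j), rep_apply_inv, bl_comm hF.1]

theorem tab_of {Bm : Mat l} {d : Dt} (h : TabChk D l Bm d) : Tab hp d := by
  obtain ⟨hF, h1, h2, h3, h4, h5⟩ := h
  have hrt : ∀ e ∈ d.T, Rt hp (toF l e.b) := by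
    intro e he
    obtain ⟨r, hr1, hr2⟩ := an_iff.1 (h1 e he).2.2.2.2.2.2.2
    rw [← leq_iff.1 hr2, toF_ofFn]
    exact isRoot_vec hp M.toCoxeterSystem (List.mem_range.1 hr1)
  have hsur : ∀ a, Rt hp a → ∃ e ∈ d.T, a = toF l e.b ∨ a = -toF l e.b := by
    intro a ha
    obtain ⟨r, hr1, rfl⟩ := (isRoot_iff hp M.toCoxeterSystem a).1 ha
    obtain ⟨e, he, h6⟩ := an_iff.1 (al_iff.1 h2 r (List.mem_range.2 hr1))
    refine ⟨e, he, ?_⟩
    rcases Bool.or_eq_true_iff.1 h6 with h7 | h7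
    · left; rw [← leq_iff.1 h7, toF_ofFn]
    · right; rw [← leq_iff.1 h7, toF_ofFn, neg_neg]
  have hb : ∀ e ∈ d.T, ∀ a, 2 * bl Bm (toF l e.b) a = e.n * psi (toF l e.cv) a := by
    intro e he a
    rw [eq_psi (bl Bm (toF l e.b)) a, psi_apply, Finset.mul_sum, Finset.mul_sum]
    refine Finset.sum_congr rfl fun i _ => ?_
    have h6 := (h1 e he).2.2.2.2.2.2.1 i
    rw [bl_sr]
    simp only [toF_apply]
    linear_combination a i * h6
  have hn : ∀ e ∈ d.T, bl Bm (toF l e.b) (toF l e.b) = e.n := by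
    intro e he
    have h6 := hb e he (toF l e.b)
    rw [psi_toF (h1 e he).1, (h1 e he).2.2.2.2.2.1] at h6
    omega
  have hmx : ∀ a, Rt hp a → bl Bm a a ≤ d.mx := by
    intro a ha
    obtain ⟨e, he, h6 | h6⟩ := hsur a ha
    · rw [h6, hn e he]; exact (h1 e he).2.2.2.2.1
    · rw [h6, map_neg, bl_comm hF.1, map_neg, neg_neg, hn e he]; exact (h1 e he).2.2.2.2.1
  refine ⟨fun e he => (h1 e he).1, fun e he => (h1 e he).2.1, hrt, fun e he i => (h1 e he).2.2.1 i, hsur, ?_, ?_,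
    nodup_of_nd h3, fun j => funext (h4 j), funext h5⟩
  · intro e he a
    have h6 := two_bl hp hF (hrt e he) a
    rw [hb e he, hn e he] at h6
    exact (mul_left_cancel₀ (h1 e he).2.2.2.1.ne' h6).symm
  · intro e he c hc hf
    unfold far at hf
    cases h6 : ieq (dot e.b c.cv) 0
    · rw [h6, cond_false] at hf; exact absurd hf Bool.false_ne_true
    rw [h6, cond_true, decide_eq_true_iff] at hf
    have hf' : d.mx < e.n + c.n := hf
    have h7 : bl Bm (toF l c.b) (toF l e.b) = 0 := by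
      have h8 := hb c hc (toF l e.b)
      rw [psi_toF (h1 e he).1, ieq_iff.1 h6] at h8
      omega
    have h8 : bl Bm (toF l e.b) (toF l c.b) = 0 := by rw [bl_comm hF.1, h7]
    constructor
    · intro h9
      have h10 := hmx _ h9
      rw [map_add, bl_comm hF.1 (toF l e.b), bl_comm hF.1 (toF l c.b), map_add, map_add, h7, h8, hn e he, hn c hc] at h10
      omega
    · intro h9
      have h10 := hmx _ h9
      rw [map_add, map_neg, bl_comm hF.1 (toF l e.b), bl_comm hF.1 (toF l c.b), map_add, map_add, map_neg, map_neg, h7,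
        h8, hn e he, hn c hc] at h10
      omega

end Cfsg.Agent.Cam.Ex.Cb
end

-- part: Cam/Ex/Cb1
section
/-!
# The finite check, part 1: transport, words, counting, moduli (helper12)
-/

set_option autoImplicit false
set_option linter.unusedVariables false
set_option linter.unusedSectionVars false

namespace Cfsg.Agent.Cam.Ex.Cb

open CoxeterSystem Cfsg Cfsg.Lie
open Cfsg.Agent.ChevalleyStructure.CoxeterGeom Cfsg.Agent.ChevalleyStructure.CoxeterGeomTypes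
open Cfsg.Agent.Tits.Roots Cfsg.Agent.Nodes.RGDChev Cfsg.Agent.Nodes.Coroot Cfsg.Agent.Nodes.SubComb
open Cfsg.Agent.H931.KC (hr psi psi_apply psi_sr eq_psi)
open Cfsg.Agent.BpExc.Fr (repAut)
open Cfsg.Agent.BpExc.SubBN (WS rfl_mul_self)

variable {D : ChevalleyDatum} {l : ℕ} {M : CoxeterMatrix (Fin l)} (hp : IsType D l M)

theorem wa_mul (v w : M.Group) (a : Lat l) : wa hp (v * w) a = wa hp v (wa hp w a) := rep_mul_apply _ _ v w a
theorem wa_inv (w : M.Group) (a : Lat l) : wa hp w⁻¹ (wa hp w a) = a := rep_inv_apply _ _ w a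
theorem wa_inv' (w : M.Group) (a : Lat l) : wa hp w (wa hp w⁻¹ a) = a := rep_apply_inv _ _ w a
theorem wa_one (a : Lat l) : wa hp 1 a = a := by
  show rep _ _ 1 a = a
  rw [map_one, Module.End.one_apply]
theorem wa_neg (w : M.Group) (a : Lat l) : wa hp w (-a) = -wa hp w a := map_neg _ a
theorem wa_add (w : M.Group) (a b : Lat l) : wa hp w (a + b) = wa hp w a + wa hp w b := map_add _ a b
theorem wa_sub (w : M.Group) (a b : Lat l) : wa hp w (a - b) = wa hp w a - wa hp w b := map_sub _ a b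
theorem wa_smul (w : M.Group) (c : ℤ) (a : Lat l) : wa hp w (c • a) = c • wa hp w a := map_smul _ c a
theorem wa_inj {w : M.Group} {a b : Lat l} (h : wa hp w a = wa hp w b) : a = b := by
  rw [← wa_inv hp w a, h, wa_inv]

theorem rt_wa (w : M.Group) (a : Lat l) : Rt hp (wa hp w a) ↔ Rt hp a :=
  ⟨fun h => by have := h.act w⁻¹; rwa [rep_inv_apply] at this, fun h => h.act w⟩

theorem rt_sr (i : Fin l) : Rt hp (sr i) := ⟨1, i, (wa_one hp _).symm⟩

theorem cp_wa (w : M.Group) (a : Lat l) {c : Lat l} (hc : Rt hp c) : cp hp (wa hp w a) (wa hp w c) = cp hp a c := by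
  have := finite_W hp M.toCoxeterSystem
  exact cpr_rep _ _ w a hc

theorem cp_self {c : Lat l} (hc : Rt hp c) : cp hp c c = 2 := by
  have := finite_W hp M.toCoxeterSystem
  exact cpr_self _ _ hc

theorem cp_neg_right (a : Lat l) {c : Lat l} (hc : Rt hp c) : cp hp a (-c) = -cp hp a c := by
  have := finite_W hp M.toCoxeterSystem
  exact cpr_neg_right _ _ a hc

theorem cp_neg (a : Lat l) {c : Lat l} (hc : Rt hp c) : cp hp (-a) c = -cp hp a c := by
  have := finite_W hp M.toCoxeterSystem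
  exact cpr_neg _ _ a hc

theorem cp_add (a b : Lat l) {c : Lat l} (hc : Rt hp c) : cp hp (a + b) c = cp hp a c + cp hp b c := by
  have := finite_W hp M.toCoxeterSystem
  exact cpr_add _ _ a b hc

theorem cp_zero_comm {a c : Lat l} (ha : Rt hp a) (hc : Rt hp c) : cp hp a c = 0 ↔ cp hp c a = 0 := by
  have := finite_W hp M.toCoxeterSystem
  exact cpr_zero_comm _ _ ha hc

theorem wa_rfl (u : M.Group) (j : Fin l) (a : Lat l) :
    wa hp (rfl' M.toCoxeterSystem u j) a = a - cp hp a (wa hp u (sr j)) • wa hp u (sr j) := by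
  have := finite_W hp M.toCoxeterSystem
  exact rep_rfl'_eq _ _ u j a

theorem wa_simple (j : Fin l) (a : Lat l) :
    wa hp (M.toCoxeterSystem.simple j) a = a - psi (cartanOf D l j) a • sr j := by
  show rep _ _ _ a = _
  rw [rep_simple_eq, psi_apply]
  unfold pairing
  congr 2
  exact Finset.sum_congr rfl fun i _ => mul_comm _ _

/-- induction over a reflection group -/
theorem WW_ind {S : Set (Lat l)} {P : M.Group → Prop} (h1 : P 1)
    (h2 : ∀ u j w, wa hp u (sr j) ∈ S → P w → P (rfl' M.toCoxeterSystem u j * w)) {w : M.Group} (hw : w ∈ WW hp S) :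
    P w := by
  unfold WW WS at hw
  induction hw using Subgroup.closure_induction_left with
  | one => exact h1
  | mul_left x hx y _ ih =>
    obtain ⟨u, j, h3, rfl⟩ := hx
    exact h2 u j y h3 ih
  | inv_mul_cancel x hx y _ ih =>
    obtain ⟨u, j, h3, rfl⟩ := hx
    rw [inv_eq_of_mul_eq_one_right (rfl_mul_self u j)]
    exact h2 u j y h3 ih

theorem rfl_mem {S : Set (Lat l)} {u : M.Group} {j : Fin l} (h : wa hp u (sr j) ∈ S) :
    rfl' M.toCoxeterSystem u j ∈ WW hp S := Subgroup.subset_closure ⟨u, j, h, rfl⟩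

section comp

variable {K : Type} [AddCommGroup K]

/-- composition with an element of `W` -/
noncomputable def cw (φ : Lat l →+ K) (w : M.Group) : Lat l →+ K :=
  φ.comp (rep M.toCoxeterSystem hp.isCartan w).toAddMonoidHom

theorem cw_apply (φ : Lat l →+ K) (w : M.Group) (a : Lat l) : cw hp φ w a = φ (wa hp w a) := rfl

theorem cw_add (φ ψ : Lat l →+ K) (w : M.Group) : cw hp φ w + cw hp ψ w = cw hp (φ + ψ) w := rfl

theorem cw_ne {φ : Lat l →+ K} (h : φ ≠ 0) (w : M.Group) : cw hp φ w ≠ 0 := by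
  intro h1
  refine h (AddMonoidHom.ext fun a => ?_)
  have := DFunLike.congr_fun h1 (wa hp w⁻¹ a)
  rw [cw_apply, wa_inv'] at this
  exact this

theorem mem_cw {φ : Lat l →+ K} {w : M.Group} {a : Lat l} : a ∈ Psi hp (cw hp φ w) ↔ wa hp w a ∈ Psi hp φ :=
  and_congr (rt_wa hp w a).symm Iff.rfl

theorem neg_mem_Psi {φ : Lat l →+ K} {a : Lat l} (h : a ∈ Psi hp φ) : -a ∈ Psi hp φ :=
  ⟨h.1.neg, by rw [map_neg, h.2, neg_zero]⟩

/-- `W (Psi φ)` fixes `φ` -/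
theorem fixs_of_mem {φ : Lat l →+ K} {S : Set (Lat l)} (hS : ∀ a ∈ S, φ a = 0) {w : M.Group} (hw : w ∈ WW hp S) :
    Fixs hp w φ := by
  refine WW_ind hp (P := fun w => Fixs hp w φ) (fun a => by rw [wa_one]) (fun u j w h1 h2 a => ?_) hw
  rw [wa_mul, wa_rfl, map_sub, map_zsmul, hS _ h1, smul_zero, sub_zero, h2 a]

theorem conj_mem_WW {φ : Lat l →+ K} {v : M.Group} (hv : v ∈ WW hp (Psi hp φ)) (w : M.Group) :
    w⁻¹ * v * w ∈ WW hp (Psi hp (cw hp φ w)) := by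
  refine WW_ind hp (P := fun v => w⁻¹ * v * w ∈ WW hp (Psi hp (cw hp φ w))) ?_ (fun u j v h1 h2 => ?_) hv
  · show w⁻¹ * 1 * w ∈ _
    rw [mul_one, inv_mul_cancel]
    exact one_mem _
  · have e : w⁻¹ * (rfl' M.toCoxeterSystem u j * v) * w = rfl' M.toCoxeterSystem (w⁻¹ * u) j * (w⁻¹ * v * w) := by
      unfold rfl'
      group
    show w⁻¹ * (rfl' M.toCoxeterSystem u j * v) * w ∈ _
    rw [e]
    refine mul_mem (rfl_mem hp ?_) h2
    rw [mem_cw, wa_mul, wa_inv']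
    exact h1

theorem neg_conj {φ : Lat l →+ K} {v : M.Group} (hv : Neg hp v φ) (w : M.Group) :
    Neg hp (w⁻¹ * v * w) (cw hp φ w) := by
  intro a
  rw [cw_apply, cw_apply, wa_mul, wa_mul, wa_inv', hv]

theorem K1_cw {p : ℕ} {φ : Lat l →+ K} (h : K1 hp p (Psi hp φ)) (w : M.Group) : K1 hp p (Psi hp (cw hp φ w)) := by
  intro c hc h1
  refine h (wa hp w c) (hc.act w) fun a ha => ?_
  have h2 : wa hp w⁻¹ a ∈ Psi hp (cw hp φ w) := by rw [mem_cw, wa_inv']; exact ha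
  obtain ⟨h3, h4⟩ := h1 _ h2
  refine ⟨?_, h4.imp id fun h5 h6 => h5 ?_⟩
  · rw [← cp_wa hp w _ hc, wa_inv'] at h3
    exact h3
  · rw [← rt_wa hp w, wa_add, wa_inv']
    exact h6

theorem ncard_comp {K' : Type} [AddCommGroup K'] {φ : Lat l →+ K} {ψ : Lat l →+ K'} (h : Lat l ≃+ Lat l)
    (hr : ∀ a, Rt hp (h a) ↔ Rt hp a) (e : ∀ a, Rt hp a → (ψ a = 0 ↔ φ (h a) = 0)) :
    (Psi hp ψ).ncard = (Psi hp φ).ncard := by
  have e1 : Psi hp φ = h '' Psi hp ψ := by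
    ext a
    constructor
    · intro ha
      have h1 : Rt hp (h.symm a) := by rw [← hr, AddEquiv.apply_symm_apply]; exact ha.1
      refine ⟨h.symm a, ⟨h1, (e _ h1).2 ?_⟩, AddEquiv.apply_symm_apply _ _⟩
      rw [AddEquiv.apply_symm_apply]
      exact ha.2
    · rintro ⟨b, hb, rfl⟩
      exact ⟨(hr b).2 hb.1, (e b hb.1).1 hb.2⟩
  rw [e1, Set.ncard_image_of_injective _ h.injective]

theorem ncard_cw (φ : Lat l →+ K) (w : M.Group) : (Psi hp (cw hp φ w)).ncard = (Psi hp φ).ncard :=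
  ncard_comp hp (repAut M.toCoxeterSystem hp.isCartan w) (rt_wa hp w) fun _ _ => Iff.rfl

end comp

/-- conjugation of a lattice automorphism -/
noncomputable def gw (g : Lat l ≃+ Lat l) (w : M.Group) : Lat l ≃+ Lat l :=
  ((repAut M.toCoxeterSystem hp.isCartan w).trans g).trans (repAut M.toCoxeterSystem hp.isCartan w⁻¹)

theorem gw_apply (g : Lat l ≃+ Lat l) (w : M.Group) (a : Lat l) : gw hp g w a = wa hp w⁻¹ (g (wa hp w a)) := rfl

/-- `Cmb` without `g0` -/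
structure Cm (p q r : ℕ) (g : Lat l ≃+ Lat l) (A B : Lat l →+ ZMod r) : Prop where
  prime : r.Prime
  five : 5 ≤ r
  two : 2 ≤ q
  root : ∀ a, Rt hp (g a) ↔ Rt hp a
  gcp : ∀ a c, Rt hp c → cp hp (g a) (g c) = cp hp a c
  a0 : A ≠ 0
  b0 : B ≠ 0
  x0 : A + B ≠ 0
  frA : ∀ a, A (g a) = (q : ZMod r) * A a
  frB : ∀ a, B (g a) = (q : ZMod r) * B a
  k2a : ∃ w ∈ WW hp (Psi hp A), Neg hp w B
  k2b : ∃ w ∈ WW hp (Psi hp B), Neg hp w A
  k1x : K1 hp p (Psi hp (A + B))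
  k1a : K1 hp p (Psi hp A)
  k3 : ∀ c, A1c hp (Psi hp (A + B)) c → (∀ w, Neg hp w (A + B) → wa hp w c = c ∨ wa hp w c = -c) →
    (4 ≤ q ∨ (g c ≠ c ∧ g c ≠ -c)) → A c = 0
  max : (Psi hp A).ncard ≤ (Psi hp (A + B)).ncard
  k5 : ∀ Z : Lat l →+ ZMod r, Z ≠ 0 → Psi hp (A + B) ⊆ Psi hp Z → (∀ a, Z (g a) = (q : ZMod r) * Z a) →
    (∃ w, Neg hp w (A + B) ∧ Neg hp w Z) → (Psi hp Z).ncard ≤ (Psi hp (A + B)).ncard

variable {hp}

theorem cm_of {p q r : ℕ} {g0 g : Lat l ≃+ Lat l} {A B : Lat l →+ ZMod r} (C : Cmb hp p q r g0 g A B) :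
    Cm hp p q r g A B :=
  ⟨C.prime, C.five, C.two, C.root, C.gcp, C.a0, C.b0, C.x0, C.frA, C.frB, C.k2a, C.k2b, C.k1x, C.k1a, C.k3, C.max, C.k5⟩

theorem Cm.frX {p q r : ℕ} {g : Lat l ≃+ Lat l} {A B : Lat l →+ ZMod r} (C : Cm hp p q r g A B) (a : Lat l) :
    (A + B) (g a) = (q : ZMod r) * (A + B) a := by
  rw [AddMonoidHom.add_apply, AddMonoidHom.add_apply, C.frA, C.frB, mul_add]

theorem Cm.act {p q r : ℕ} {g : Lat l ≃+ Lat l} {A B : Lat l →+ ZMod r} (C : Cm hp p q r g A B) (w : M.Group) :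
    Cm hp p q r (gw hp g w) (cw hp A w) (cw hp B w) where
  prime := C.prime
  five := C.five
  two := C.two
  root a := by rw [gw_apply, rt_wa, C.root, rt_wa]
  gcp a c hc := by
    rw [gw_apply, gw_apply, cp_wa hp _ _ ((C.root _).2 (hc.act w)), C.gcp _ _ (hc.act w), cp_wa hp _ _ hc]
  a0 := cw_ne hp C.a0 w
  b0 := cw_ne hp C.b0 w
  x0 := by rw [cw_add]; exact cw_ne hp C.x0 w
  frA a := by rw [cw_apply, cw_apply, gw_apply, wa_inv', C.frA]
  frB a := by rw [cw_apply, cw_apply, gw_apply, wa_inv', C.frB]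
  k2a := by
    obtain ⟨v, h1, h2⟩ := C.k2a
    exact ⟨_, conj_mem_WW hp h1 w, neg_conj hp h2 w⟩
  k2b := by
    obtain ⟨v, h1, h2⟩ := C.k2b
    exact ⟨_, conj_mem_WW hp h1 w, neg_conj hp h2 w⟩
  k1x := by rw [cw_add]; exact K1_cw hp C.k1x w
  k1a := K1_cw hp C.k1a w
  k3 c h1 h2 h3 := by
    rw [cw_add] at h1 h2
    rw [cw_apply]
    refine C.k3 _ ⟨(mem_cw hp).1 h1.1, fun a ha => ?_⟩ (fun v hv => ?_) (h3.imp id fun h4 => ⟨fun h5 => h4.1 ?_,
      fun h5 => h4.2 ?_⟩)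
    · have h4 : wa hp w⁻¹ a ∈ Psi hp (cw hp (A + B) w) := by rw [mem_cw, wa_inv']; exact ha
      rcases h1.2 _ h4 with h5 | h5 | h5
      · left; rw [← h5, wa_inv']
      · right; left; rw [← wa_neg, ← h5, wa_inv']
      · right; right; rw [← cp_wa hp w _ h1.1.1, wa_inv'] at h5; exact h5
    · rcases h2 _ (neg_conj hp hv w) with h4 | h4
      · left
        rw [wa_mul, wa_mul] at h4
        conv_rhs => rw [← h4, wa_inv']
      · right
        rw [wa_mul, wa_mul] at h4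
        rw [← wa_neg, ← h4, wa_inv']
    · rw [gw_apply, h5, wa_inv]
    · rw [gw_apply, h5, wa_neg, wa_inv]
  max := by rw [cw_add, ncard_cw, ncard_cw]; exact C.max
  k5 Z h1 h2 h3 h4 := by
    rw [cw_add] at h2 h4 ⊢
    rw [ncard_cw, ← ncard_cw hp Z w⁻¹]
    refine C.k5 _ (cw_ne hp h1 _) (fun a ha => ?_) (fun a => ?_) ?_
    · rw [mem_cw]
      apply h2
      rw [mem_cw, wa_inv']
      exact ha
    · have h5 := h3 (wa hp w⁻¹ a)
      rw [gw_apply, wa_inv'] at h5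
      exact h5
    · obtain ⟨v, h5, h6⟩ := h4
      refine ⟨w⁻¹⁻¹ * v * w⁻¹, fun a => ?_, neg_conj hp h6 w⁻¹⟩
      have h7 := h5 (wa hp w⁻¹ a)
      rw [cw_apply, cw_apply, wa_inv'] at h7
      rw [inv_inv, wa_mul, wa_mul, h7]

/-- `a - b` is conjugate to `a + b` -/
theorem Cm.exists_sub {p q r : ℕ} {g : Lat l ≃+ Lat l} {A B : Lat l →+ ZMod r} (C : Cm hp p q r g A B) :
    ∃ w, ∀ a, (A + B) (wa hp w a) = A a - B a := by
  obtain ⟨w, h1, h2⟩ := C.k2a
  refine ⟨w, fun a => ?_⟩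
  rw [AddMonoidHom.add_apply, h2 a, fixs_of_mem hp (fun a ha => ha.2) h1 a, sub_eq_add_neg]

/-- `x` is real -/
theorem Cm.exists_neg {p q r : ℕ} {g : Lat l ≃+ Lat l} {A B : Lat l →+ ZMod r} (C : Cm hp p q r g A B) :
    ∃ w, Neg hp w (A + B) := by
  obtain ⟨w, h1, h2⟩ := C.k2a
  obtain ⟨v, h3, h4⟩ := C.k2b
  refine ⟨v * w, fun a => ?_⟩
  rw [AddMonoidHom.add_apply, AddMonoidHom.add_apply, wa_mul, h4, fixs_of_mem hp (fun a ha => ha.2) h3, h2,
    fixs_of_mem hp (fun a ha => ha.2) h1 a, neg_add]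

variable (hp)

theorem a1c_fix {S : Set (Lat l)} (hS : ∀ a ∈ S, Rt hp a) {c : Lat l} (hc : A1c hp S c) {u : M.Group}
    (hu : u ∈ WW hp S) : wa hp u c = c ∨ wa hp u c = -c := by
  have hr := hS c hc.1
  have key : ∀ v j, wa hp v (sr j) ∈ S → wa hp (rfl' M.toCoxeterSystem v j) c = c ∨
      wa hp (rfl' M.toCoxeterSystem v j) c = -c := by
    intro v j h1
    rw [wa_rfl]
    rcases hc.2 _ h1 with h2 | h2 | h2
    · right; rw [h2, cp_self hp hr, two_smul]; abel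
    · right; rw [h2, cp_neg_right hp _ hr, cp_self hp hr, neg_smul_neg, two_smul]; abel
    · left; rw [(cp_zero_comm hp (hS _ h1) hr).1 h2, zero_smul, sub_zero]
  refine WW_ind hp (P := fun u => wa hp u c = c ∨ wa hp u c = -c) (Or.inl (wa_one hp c)) (fun v j w h1 h2 => ?_) hu
  show wa hp (_ * w) c = c ∨ wa hp (_ * w) c = -c
  rw [wa_mul]
  rcases h2 with h2 | h2
  · rw [h2]; exact key v j h1
  · rw [h2, wa_neg]
    rcases key v j h1 with h3 | h3
    · right; rw [h3]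
    · left; rw [h3, neg_neg]

variable {hp}

/-- `K3` with one element of `W` -/
theorem Cm.k3' (hc : BoxConn) (hl : l ≤ 7) {p q r : ℕ} {g : Lat l ≃+ Lat l} {A B : Lat l →+ ZMod r}
    (C : Cm hp p q r g A B) {c : Lat l} (h1 : A1c hp (Psi hp (A + B)) c) {w0 : M.Group} (hn : Neg hp w0 (A + B))
    (hw : wa hp w0 c = c ∨ wa hp w0 c = -c) (hq : 4 ≤ q ∨ (g c ≠ c ∧ g c ≠ -c)) : A c = 0 := by
  refine C.k3 c h1 (fun w hw1 => ?_) hq
  have h2 : Fixs hp (w * w0⁻¹) (A + B) := by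
    intro a
    have h3 := hn (wa hp w0⁻¹ a)
    rw [wa_inv'] at h3
    rw [wa_mul, hw1, h3]
  have h3 := hc D l M hp hl r C.prime C.five {A + B} (w * w0⁻¹) (fun φ hφ => by rw [Set.mem_singleton_iff.1 hφ]; exact h2)
  have e : {a | Rt hp a ∧ ∀ φ ∈ ({A + B} : Set (Lat l →+ ZMod r)), φ a = 0} = Psi hp (A + B) := by
    ext a
    exact and_congr Iff.rfl ⟨fun h => h _ rfl, fun h φ hφ => by rw [Set.mem_singleton_iff.1 hφ]; exact h⟩
  rw [e] at h3
  have h4 := a1c_fix hp (fun a ha => ha.1) h1 h3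
  have e2 : wa hp w c = wa hp (w * w0⁻¹) (wa hp w0 c) := by rw [wa_mul, wa_inv]
  rw [e2]
  rcases hw with h5 | h5
  · rw [h5]; exact h4
  · rw [h5, wa_neg]
    rcases h4 with h6 | h6
    · right; rw [h6]
    · left; rw [h6, neg_neg]

/-! ### moduli -/

/-- `m ∣ n` -/
def zr (m n : ℤ) : Bool := ieq (Int.emod n m) 0

theorem zr_iff {m n : ℤ} : zr m n = true ↔ m ∣ n := by
  unfold zr
  rw [ieq_iff]
  exact Int.dvd_iff_emod_eq_zero.symm

/-- `n` is a unit -/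
def nz (m K n : ℤ) : Bool := cond (ieq m 0) (zr n K) (!zr m n)

/-- the class of the modulus -/
def Md (r : ℕ) (m K : ℤ) : Prop := (m = 0 ∧ ¬ (r : ℤ) ∣ K) ∨ (m = r ∧ m ≠ 0)

theorem Md.dvd {r : ℕ} {m K : ℤ} (h : Md r m K) : (r : ℤ) ∣ m := by
  rcases h with h | h
  · rw [h.1]; exact dvd_zero _
  · rw [h.1]

theorem Md.zero {r : ℕ} {m K n : ℤ} (h : Md r m K) (h1 : zr m n = true) : (n : ZMod r) = 0 :=
  (ZMod.intCast_zmod_eq_zero_iff_dvd n r).2 (h.dvd.trans (zr_iff.1 h1))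

theorem Md.ne {r : ℕ} {m K n : ℤ} (h : Md r m K) (h1 : nz m K n = true) : (n : ZMod r) ≠ 0 := by
  rw [Ne, ZMod.intCast_zmod_eq_zero_iff_dvd]
  intro h2
  unfold nz at h1
  rcases h with h | h
  · rw [ieq_iff.2 h.1, cond_true] at h1
    exact h.2 (h2.trans (zr_iff.1 h1))
  · have h3 : ieq m 0 = false := by
      cases h4 : ieq m 0
      · rfl
      · exact absurd (ieq_iff.1 h4) h.2
    rw [h3, cond_false, zr_iff.2 (h.1 ▸ h2)] at h1
    exact Bool.false_ne_true h1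

theorem md6 {r : ℕ} (hr : r.Prime) (h5 : 5 ≤ r) : Md r 0 46656 := by
  refine Or.inl ⟨rfl, fun h => ?_⟩
  have h1 : r ∣ (2 * 3) ^ 6 := by exact_mod_cast h
  rcases (Nat.Prime.dvd_mul hr).1 (hr.dvd_of_dvd_pow h1) with h2 | h2
  · have := Nat.le_of_dvd (by norm_num) h2; omega
  · have := Nat.le_of_dvd (by norm_num) h2; omega

theorem md210 {r : ℕ} (hr : r.Prime) (h5 : 8 ≤ r) : Md r 0 85766121000000 := by
  refine Or.inl ⟨rfl, fun h => ?_⟩
  have h1 : r ∣ (2 * 3 * (5 * 7)) ^ 6 := by exact_mod_cast h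
  rcases (Nat.Prime.dvd_mul hr).1 (hr.dvd_of_dvd_pow h1) with h2 | h2 <;>
    rcases (Nat.Prime.dvd_mul hr).1 h2 with h2 | h2 <;>
    · have := Nat.le_of_dvd (by norm_num) h2; omega

theorem un6 {r : ℕ} (hr : r.Prime) (h5 : 5 ≤ r) {n : ℤ} (h : n ∣ 46656) : (n : ZMod r) ≠ 0 :=
  (md6 hr h5).ne (zr_iff.2 h)

theorem four_le {q r : ℕ} (hr : r.Prime) (h5 : 5 ≤ r) (h2 : 2 ≤ q) (h : (q : ZMod r) = 1 ∨ (q : ZMod r) = -1) :
    4 ≤ q := by
  by_contra h4
  have h6 : q = 2 ∨ q = 3 := by omega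
  rcases h6 with rfl | rfl <;> rcases h with h | h
  · exact un6 hr h5 (n := 1) (by norm_num) (by push_cast at h ⊢; linear_combination h)
  · exact un6 hr h5 (n := 3) (by norm_num) (by push_cast at h ⊢; linear_combination h)
  · exact un6 hr h5 (n := 2) (by norm_num) (by push_cast at h ⊢; linear_combination h)
  · exact un6 hr h5 (n := 4) (by norm_num) (by push_cast at h ⊢; linear_combination h)

/-! ### words -/

variable (hp)

/-- a simple reflection -/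
noncomputable def sI (M : CoxeterMatrix (Fin l)) (j : ℕ) : M.Group :=
  if h : j < l then M.toCoxeterSystem.simple ⟨j, h⟩ else 1

/-- the element of a word -/
noncomputable def wd (M : CoxeterMatrix (Fin l)) (ω : List ℕ) : M.Group := (ω.map (sI M)).prod

/-- a simple reflection on functionals -/
noncomputable def fs (C : List V) (j : ℕ) (μ : V) : V := axpy (gt μ j) μ (row C j)

/-- a word on functionals -/
noncomputable def fw (C : List V) (ω : List ℕ) : V → V :=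
  List.rec (motive := fun _ => V → V) (fun μ => μ) (fun j _ ih μ => ih (fs C j μ)) ω

theorem length_fs (C : List V) (j : ℕ) (μ : V) : (fs C j μ).length = μ.length := length_axpy _ _ _

theorem length_fw (C : List V) (ω : List ℕ) (μ : V) : (fw C ω μ).length = μ.length := by
  induction ω generalizing μ with
  | nil => rfl
  | cons j ω ih => exact (ih (fs C j μ)).trans (length_fs C j μ)

variable {hp} {d : Dt} (hT : Tab hp d)
include hT

theorem Tab.psi_fs (j : ℕ) {μ : V} (hμ : μ.length = l) (a : Lat l) :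
    psi (toF l (fs d.C j μ)) a = psi (toF l μ) (wa hp (sI M j) a) := by
  unfold fs sI
  rw [toF_axpy _ hμ, psi_sub_smul]
  by_cases h : j < l
  · rw [dif_pos h, wa_simple, map_sub, map_zsmul, psi_sr, smul_eq_mul, ← hT.car ⟨j, h⟩, mul_comm]
    rfl
  · rw [dif_neg h, wa_one, gt_of_le (by omega), zero_mul, sub_zero]

theorem Tab.psi_fw (ω : List ℕ) {μ : V} (hμ : μ.length = l) (a : Lat l) :
    psi (toF l (fw d.C ω μ)) a = psi (toF l μ) (wa hp (wd M ω) a) := by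
  induction ω generalizing μ with
  | nil =>
    show psi (toF l μ) a = psi (toF l μ) (wa hp 1 a)
    rw [wa_one]
  | cons j ω ih =>
    show psi (toF l (fw d.C ω (fs d.C j μ))) a = psi (toF l μ) (wa hp (sI M j * wd M ω) a)
    rw [ih ((length_fs _ _ _).trans hμ), hT.psi_fs j hμ, wa_mul]

/-! ### counting -/

theorem Tab.psi_b {e : Ent} (he : e ∈ d.T) (μ : V) : psi (toF l μ) (toF l e.b) = dot e.b μ := psi_toF (hT.lb e he) μ

theorem Tab.cp_b {e c : Ent} (he : e ∈ d.T) (hc : c ∈ d.T) : cp hp (toF l e.b) (toF l c.b) = dot e.b c.cv := by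
  rw [hT.cpe c hc, hT.psi_b he]

theorem Tab.ncard_eq {K : Type} [AddCommGroup K] (φ : Lat l →+ K) {P : Ent → Bool}
    (hP : ∀ e ∈ d.T, P e = true ↔ φ (toF l e.b) = 0) : (Psi hp φ).ncard = 2 * cnt P d.T := by
  classical
  set L : List (Lat l) := (d.T.filter P).map fun e => toF l e.b with hL
  have hnd : L.Nodup := by
    have h1 : (d.T.map fun e => toF l e.b).Nodup := by
      have h2 : (d.T.map fun e => toF l e.b) = (d.T.map Ent.b).map (toF l) := by rw [List.map_map]; rfl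
      rw [h2]
      refine List.Nodup.map_on (fun x hx y hy h => ?_) hT.nodup
      obtain ⟨e, he, rfl⟩ := List.mem_map.1 hx
      obtain ⟨e', he', rfl⟩ := List.mem_map.1 hy
      exact toF_inj (hT.lb e he) (hT.lb e' he') h
    exact h1.sublist (List.filter_sublist.map _)
  have hmem : ∀ a, a ∈ L ↔ ∃ e ∈ d.T, P e = true ∧ toF l e.b = a := by
    intro a
    rw [hL, List.mem_map]
    constructor
    · rintro ⟨e, he, h1⟩
      exact ⟨e, (List.mem_filter.1 he).1, (List.mem_filter.1 he).2, h1⟩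
    · rintro ⟨e, he, h1, h2⟩
      exact ⟨e, List.mem_filter.2 ⟨he, h1⟩, h2⟩
  have e1 : Psi hp φ = (↑L.toFinset : Set (Lat l)) ∪ (fun a => -a) '' (↑L.toFinset : Set (Lat l)) := by
    ext a
    constructor
    · intro ha
      obtain ⟨e, he, h1 | h1⟩ := hT.sur a ha.1
      · left
        rw [Finset.mem_coe, List.mem_toFinset, hmem]
        exact ⟨e, he, (hP e he).2 (h1 ▸ ha.2), h1.symm⟩
      · right
        refine ⟨toF l e.b, ?_, h1.symm⟩
        rw [Finset.mem_coe, List.mem_toFinset, hmem]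
        refine ⟨e, he, (hP e he).2 ?_, rfl⟩
        have h2 := ha.2
        rwa [h1, map_neg, neg_eq_zero] at h2
    · rintro (h1 | ⟨b, h1, rfl⟩)
      · rw [Finset.mem_coe, List.mem_toFinset, hmem] at h1
        obtain ⟨e, he, h2, rfl⟩ := h1
        exact ⟨hT.rt e he, (hP e he).1 h2⟩
      · rw [Finset.mem_coe, List.mem_toFinset, hmem] at h1
        obtain ⟨e, he, h2, rfl⟩ := h1
        exact neg_mem_Psi hp ⟨hT.rt e he, (hP e he).1 h2⟩
  have hd : Disjoint (↑L.toFinset : Set (Lat l)) ((fun a => -a) '' (↑L.toFinset : Set (Lat l))) := by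
    rw [Set.disjoint_left]
    rintro a h1 ⟨b, h2, rfl⟩
    rw [Finset.mem_coe, List.mem_toFinset, hmem] at h1 h2
    obtain ⟨e, he, -, h3⟩ := h1
    obtain ⟨e', he', -, rfl⟩ := h2
    have h4 := hT.pos e he
    rw [h3] at h4
    exact (hT.rt e' he').not_pos_neg (hT.pos e' he') (neg_nonneg.1 h4)
  rw [e1, Set.ncard_union_eq hd, Set.ncard_image_of_injective _ neg_injective, Set.ncard_coe_finset,
    List.toFinset_card_of_nodup hnd, hL, List.length_map, ← List.countP_eq_length_filter, cnt_eq, two_mul]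

theorem Tab.le_ncard {K : Type} [AddCommGroup K] (φ : Lat l →+ K) {P : Ent → Bool}
    (hP : ∀ e ∈ d.T, P e = true → φ (toF l e.b) = 0) : 2 * cnt P d.T ≤ (Psi hp φ).ncard := by
  classical
  rw [hT.ncard_eq φ (P := fun e => decide (φ (toF l e.b) = 0)) (fun e _ => decide_eq_true_iff), cnt_eq, cnt_eq]
  exact Nat.mul_le_mul_left 2 (List.countP_mono_left fun e he h => decide_eq_true (hP e he h))

theorem Tab.not_K1 {K : Type} [AddCommGroup K] {φ : Lat l →+ K} {c : Ent} (hc : c ∈ d.T)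
    (h : ∀ e ∈ d.T, φ (toF l e.b) = 0 → far d e c = true) (p : ℕ) : ¬ K1 hp p (Psi hp φ) := by
  intro h1
  refine h1 _ (hT.rt c hc) fun a ha => ?_
  have key : ∀ e ∈ d.T, far d e c = true → cp hp (toF l e.b) (toF l c.b) = 0 := by
    intro e he h2
    rw [hT.cp_b he hc]
    unfold far at h2
    cases h3 : ieq (dot e.b c.cv) 0
    · rw [h3, cond_false] at h2; exact absurd h2 Bool.false_ne_true
    · exact ieq_iff.1 h3
  obtain ⟨e, he, h2 | h2⟩ := hT.sur a ha.1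
  · have h3 := h e he (h2 ▸ ha.2)
    rw [h2]
    exact ⟨key e he h3, Or.inr (hT.fr e he c hc h3).1⟩
  · have h4 := ha.2
    rw [h2, map_neg, neg_eq_zero] at h4
    have h3 := h e he h4
    rw [h2]
    exact ⟨by rw [cp_neg hp _ (hT.rt c hc), key e he h3, neg_zero], Or.inr (hT.fr e he c hc h3).2⟩

end Cfsg.Agent.Cam.Ex.Cb
end

-- part: Cam/Ex/Cb2
section
/-!
# The finite check, part 2: the types, restricted roots (helper12)
-/

set_option autoImplicit false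
set_option linter.unusedVariables false
set_option linter.unusedSectionVars false

namespace Cfsg.Agent.Cam.Ex.Cb

open CoxeterSystem Cfsg Cfsg.Lie
open Cfsg.Agent.ChevalleyStructure.CoxeterGeom Cfsg.Agent.ChevalleyStructure.CoxeterGeomTypes
open Cfsg.Agent.Tits.Roots Cfsg.Agent.Nodes.RGDChev Cfsg.Agent.Nodes.Coroot Cfsg.Agent.Nodes.SubComb
open Cfsg.Agent.H931.KC (hr psi psi_apply psi_sr eq_psi Kac exists_alcove dvd_iff)

variable {D : ChevalleyDatum} {l : ℕ} {M : CoxeterMatrix (Fin l)} (hp : IsType D l M)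

/-- `φ` and `κ` kill the same roots -/
def Exa {K : Type} [AddCommGroup K] (φ : Lat l →+ K) (κ : V) : Prop :=
  ∀ a, Rt hp a → (φ a = 0 ↔ psi (toF l κ) a = 0)

/-- the vectors with entries in `S` -/
noncomputable def pats (S : V) (n : ℕ) : List V :=
  Nat.rec (motive := fun _ => List V) [[]] (fun _ ih => S.flatMap fun s => ih.map (s :: ·)) n

theorem mem_pats {S : V} {n : ℕ} (f : Fin n → ℤ) (h : ∀ i, f i ∈ S) : List.ofFn f ∈ pats S n := by
  induction n with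
  | zero => exact List.mem_singleton.2 List.ofFn_zero
  | succ n ih =>
    rw [List.ofFn_succ]
    exact List.mem_flatMap.2 ⟨f 0, h 0, List.mem_map.2 ⟨_, ih (fun i => f i.succ) fun i => h _, rfl⟩⟩

/-- the check of a pattern of Kac coordinates -/
noncomputable def tchk (l : ℕ) (d : Dt) (WT : List (V × List ℕ × V)) (P0 : ℤ) (P : V) : Bool :=
  (ieq P0 0 && al (fun i => zr 2 (gt d.H i * gt P i)) (List.range l)) ||
  ((ieq P0 0 && al (fun i => zr 3 (gt d.H i * gt P i)) (List.range l)) ||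
  (decide (0 < P0 + dot P d.H) &&
    (al (fun i => zr (P0 + dot P d.H) (gt P i)) (List.range l) ||
    (an (fun t => leq t.1 (P0 :: P) &&
      al (fun e => zr (P0 + dot P d.H) (dot e.b (fw d.C t.2.1 P)) == ieq (dot e.b t.2.2) 0) d.T) WT ||
    an (fun c => al (fun e => far d e c) (fl (fun e => zr (P0 + dot P d.H) (dot e.b P)) d.T)) d.T))))

variable {hp} {d : Dt} (hT : Tab hp d)

include hT in
theorem Tab.of_T {P : Lat l → Prop} (hn : ∀ a, P a → P (-a)) (h : ∀ e ∈ d.T, P (toF l e.b)) (a : Lat l)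
    (ha : Rt hp a) : P a := by
  obtain ⟨e, he, h1 | h1⟩ := hT.sur a ha
  · rw [h1]; exact h e he
  · rw [h1]; exact hn _ (h e he)

include hT in
/-- **The types.** -/
theorem Tab.types {WT : List (V × List ℕ × V)}
    (hc : al (fun P => tchk l d WT 0 P && tchk l d WT 1 P) (pats [0, 1] l) = true) {r : ℕ} (hr' : r.Prime)
    (h5 : 5 ≤ r) {p : ℕ} {φ : Lat l →+ ZMod r} (h0 : φ ≠ 0) (hK : K1 hp p (Psi hp φ)) :
    ∃ w, ∃ t ∈ WT, Exa hp (cw hp φ w) t.2.2 := by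
  classical
  have : NeZero r := ⟨hr'.ne_zero⟩
  obtain ⟨w, c, c0, hk, hw⟩ := exists_alcove hp hr'.pos (psi fun i => ((φ (sr i)).val : ℤ))
  have hb : ∀ x, ((psi (fun i => ((φ (sr i)).val : ℤ)) x : ℤ) : ZMod r) = φ x := by
    intro x
    rw [eq_sum φ x, psi_apply]
    push_cast
    exact Finset.sum_congr rfl fun i _ => by rw [ZMod.natCast_zmod_val]
  have h1 : ∀ x, φ (wa hp w x) = 0 ↔ (r : ℤ) ∣ ∑ i, x i * c i := by
    intro x
    rw [← hb, ZMod.intCast_zmod_eq_zero_iff_dvd]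
    have h2 := hw x
    constructor
    · intro h3
      have := dvd_add h2 h3
      rwa [sub_add_cancel] at this
    · intro h3
      have := dvd_sub h3 h2
      rwa [sub_sub_cancel] at this
  set f : Fin l → ℕ := fun i => if c i = 0 then 0 else 1 with hf
  set f0 : ℕ := if c0 = 0 then 0 else 1 with hf0
  set P : V := List.ofFn fun i => (f i : ℤ) with hP
  have hfz : ∀ i, f i = 0 ↔ c i = 0 := fun i => by by_cases h : c i = 0 <;> simp [hf, h]
  have hf0z : f0 = 0 ↔ c0 = 0 := by by_cases h : c0 = 0 <;> simp [hf0, h]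
  have hPl : P.length = l := List.length_ofFn
  have hPg : ∀ i : Fin l, gt P i = f i := gt_ofFn _
  have hPF : toF l P = fun i => (f i : ℤ) := toF_ofFn _
  have hmem : P ∈ pats [0, 1] l := mem_pats _ fun i => by by_cases h : c i = 0 <;> simp [hf, h]
  have h2 := Bool.and_eq_true_iff.1 (al_iff.1 hc P hmem)
  have h3 : tchk l d WT (f0 : ℤ) P = true := by
    by_cases h : c0 = 0
    · have : f0 = 0 := hf0z.2 h
      rw [this]; exact h2.1
    · have : f0 = 1 := by simp [hf0, h]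
      rw [this]; exact h2.2
  have hgcd : ∀ m : ℤ, (ieq (f0 : ℤ) 0 && al (fun i => zr m (gt d.H i * gt P i)) (List.range l)) = true → m ∣ r := by
    intro m hm
    obtain ⟨h4, h6⟩ := Bool.and_eq_true_iff.1 hm
    have h7 : c0 = 0 := hf0z.1 (by exact_mod_cast ieq_iff.1 h4)
    rw [← hk.sum, h7, Nat.cast_zero, zero_add]
    refine Finset.dvd_sum fun i _ => ?_
    by_cases h : c i = 0
    · rw [h, Nat.cast_zero, mul_zero]; exact dvd_zero _
    · have h8 := zr_iff.1 (al_iff.1 h6 i (List.mem_range.2 i.2))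
      have h9 : f i = 1 := by simp [hf, h]
      rw [hPg, h9, Nat.cast_one, mul_one, ← toF_apply, hT.hi] at h8
      exact h8.mul_right _
  have hpr : ∀ m : ℕ, 2 ≤ m → m ≤ 3 → ¬ (m : ℤ) ∣ r := by
    intro m h6 h7 h8
    rcases (Nat.dvd_prime hr').1 (Int.natCast_dvd_natCast.1 h8) with h9 | h9 <;> omega
  unfold tchk at h3
  rcases Bool.or_eq_true_iff.1 h3 with h4 | h4
  · exact absurd (hgcd 2 h4) (hpr 2 le_rfl (by norm_num))
  rcases Bool.or_eq_true_iff.1 h4 with h4 | h4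
  · exact absurd (hgcd 3 h4) (hpr 3 (by norm_num) le_rfl)
  obtain ⟨hN, h4⟩ := Bool.and_eq_true_iff.1 h4
  rw [decide_eq_true_iff] at hN
  obtain ⟨N, hNe⟩ := Int.eq_ofNat_of_zero_le hN.le
  have hk' : Kac D l N f f0 := by
    refine ⟨by omega, ?_⟩
    rw [← hNe, dot_eq hPl, hT.hi, hPF]
    congr 1
    exact Finset.sum_congr rfl fun i _ => mul_comm _ _
  have hE : ∀ a, Rt hp a → (φ (wa hp w a) = 0 ↔ (N : ℤ) ∣ psi (toF l P) a) := by
    refine hT.of_T (fun a h => by rw [wa_neg, map_neg, neg_eq_zero, map_neg, dvd_neg]; exact h) fun e he => ?_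
    rw [h1, dvd_iff hp hk (hT.rt e he) (hT.pos e he), psi_apply, hPF, dvd_iff hp hk' (hT.rt e he) (hT.pos e he)]
    simp only [hfz, hf0z]
  rw [hNe] at h4
  rcases Bool.or_eq_true_iff.1 h4 with h4 | h4
  · exfalso
    refine cw_ne hp h0 w (AddMonoidHom.ext fun a => ?_)
    rw [eq_sum (cw hp φ w) a]
    refine Finset.sum_eq_zero fun i _ => ?_
    have h6 : cw hp φ w (sr i) = 0 := by
      rw [cw_apply, hE _ (rt_sr hp i), psi_sr]
      exact zr_iff.1 (al_iff.1 h4 i (List.mem_range.2 i.2))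
    rw [h6, mul_zero]
  rcases Bool.or_eq_true_iff.1 h4 with h4 | h4
  · obtain ⟨t, ht, h6⟩ := an_iff.1 h4
    have h7 := (Bool.and_eq_true_iff.1 h6).2
    refine ⟨w * wd M t.2.1, t, ht, ?_⟩
    refine hT.of_T (fun a h => by rw [map_neg, neg_eq_zero, map_neg, neg_eq_zero]; exact h) fun e he => ?_
    rw [cw_apply, wa_mul, hE _ ((hT.rt e he).act _), ← hT.psi_fw _ hPl, hT.psi_b he, hT.psi_b he, ← zr_iff, ← ieq_iff,
      beq_iff_eq.1 (al_iff.1 h7 e he)]
  · exfalso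
    obtain ⟨c', hc', h6⟩ := an_iff.1 h4
    refine hT.not_K1 hc' (fun e he h7 => ?_) p (K1_cw hp hK w)
    refine al_iff.1 h6 e (mem_fl.2 ⟨he, ?_⟩)
    rw [cw_apply, hE _ (hT.rt e he), hT.psi_b he] at h7
    exact zr_iff.2 h7

variable (hp)

/-- corank one -/
def Ex1 {K : Type} [AddCommGroup K] (φ : Lat l →+ K) (j : Fin l) : Prop := ∀ a, Rt hp a → (φ a = 0 ↔ a j = 0)

/-- corank two -/
def Ex2 {K : Type} [AddCommGroup K] (φ : Lat l →+ K) (i j : Fin l) : Prop :=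
  ∀ a, Rt hp a → (φ a = 0 ↔ a i = 0 ∧ a j = 0)

variable {hp}

theorem Exa.ex1 {K : Type} [AddCommGroup K] {φ : Lat l →+ K} {κ : V} (h : Exa hp φ κ) {j : Fin l}
    (hκ : toF l κ = sr j) : Ex1 hp φ j := fun a ha => by rw [h a ha, hκ, psi_sr']

theorem psi_add {l : ℕ} (x y a : Lat l) : psi (x + y) a = psi x a + psi y a := by
  rw [psi_apply, psi_apply, psi_apply, ← Finset.sum_add_distrib]
  exact Finset.sum_congr rfl fun i _ => by rw [Pi.add_apply]; ring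

theorem Exa.ex2 {K : Type} [AddCommGroup K] {φ : Lat l →+ K} {κ : V} (h : Exa hp φ κ) {i j : Fin l}
    (hκ : toF l κ = sr i + sr j) : Ex2 hp φ i j := fun a ha => by
  rw [h a ha, hκ, psi_add, psi_sr', psi_sr']
  rcases ha.pos_or_neg with h1 | h1
  · have h2 : 0 ≤ a i := h1 i
    have h3 : 0 ≤ a j := h1 j
    omega
  · have h2 : a i ≤ 0 := h1 i
    have h3 : a j ≤ 0 := h1 j
    omega

theorem eq_one_coord {K : Type} [CommRing K] (φ : Lat l →+ K) (j : Fin l) (h : ∀ k, k ≠ j → φ (sr k) = 0) (a : Lat l) :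
    φ a = (a j : K) * φ (sr j) := by
  rw [eq_sum φ a, Finset.sum_eq_single j]
  · intro k _ hk
    rw [h k hk, mul_zero]
  · intro h
    exact absurd (Finset.mem_univ j) h

theorem eq_two_coord {K : Type} [CommRing K] (φ : Lat l →+ K) {i j : Fin l} (hij : i ≠ j)
    (h : ∀ k, k ≠ i → k ≠ j → φ (sr k) = 0) (a : Lat l) : φ a = (a i : K) * φ (sr i) + (a j : K) * φ (sr j) := by
  rw [eq_sum φ a, Finset.sum_eq_add i j hij]
  · intro k _ hk
    rw [h k hk.1 hk.2, mul_zero]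
  · intro h
    exact absurd (Finset.mem_univ i) h
  · intro h
    exact absurd (Finset.mem_univ j) h

theorem Ex1.eq {K : Type} [CommRing K] {φ : Lat l →+ K} {j : Fin l} (h : Ex1 hp φ j) (a : Lat l) :
    φ a = (a j : K) * φ (sr j) :=
  eq_one_coord φ j (fun k hk => (h _ (rt_sr hp k)).2 (sr_ne (Ne.symm hk))) a

theorem Ex1.ne {K : Type} [CommRing K] {φ : Lat l →+ K} {j : Fin l} (h : Ex1 hp φ j) : φ (sr j) ≠ 0 := fun h1 => by
  have := (h _ (rt_sr hp j)).1 h1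
  rw [sr_self] at this
  exact one_ne_zero this

theorem Ex2.eq {K : Type} [CommRing K] {φ : Lat l →+ K} {i j : Fin l} (hij : i ≠ j) (h : Ex2 hp φ i j) (a : Lat l) :
    φ a = (a i : K) * φ (sr i) + (a j : K) * φ (sr j) :=
  eq_two_coord φ hij (fun k hk hk' => (h _ (rt_sr hp k)).2 ⟨sr_ne (Ne.symm hk), sr_ne (Ne.symm hk')⟩) a

theorem Ex2.ne1 {K : Type} [CommRing K] {φ : Lat l →+ K} {i j : Fin l} (h : Ex2 hp φ i j) : φ (sr i) ≠ 0 := fun h1 => by
  have := ((h _ (rt_sr hp i)).1 h1).1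
  rw [sr_self] at this
  exact one_ne_zero this

/-- a coordinate of the image -/
noncomputable def crd (h : Lat l ≃+ Lat l) (j : Fin l) : Lat l →+ ℤ := (psi (sr j)).comp h.toAddMonoidHom

theorem crd_apply (h : Lat l ≃+ Lat l) (j : Fin l) (a : Lat l) : crd h j a = h a j := psi_sr' j _

theorem eig_ne {K : Type} [Field K] {φ : Lat l →+ K} {a0 : Lat l} (h0 : φ a0 ≠ 0) (h : Lat l ≃+ Lat l) {e : K}
    (he : ∀ a, φ (h a) = e * φ a) : e ≠ 0 := by
  rintro rfl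
  have := he (h.symm a0)
  rw [AddEquiv.apply_symm_apply, zero_mul] at this
  exact h0 this

/-- **Corank one.** -/
theorem Ex1.res {K : Type} [Field K] {φ : Lat l →+ K} {j : Fin l} (hx : Ex1 hp φ j) (h : Lat l ≃+ Lat l)
    (hr : ∀ a, Rt hp (h a) ↔ Rt hp a) {e : K} (he : ∀ a, φ (h a) = e * φ a) :
    (e = 1 ∧ ∀ a, h a j = a j) ∨ (e = -1 ∧ ∀ a, h a j = -a j) := by
  have h1 : ∀ a, h a j = a j * h (sr j) j := by
    intro a
    have := eq_one_coord (crd h j) j (fun k hk => by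
      rw [crd_apply]
      refine (hx _ ((hr _).2 (rt_sr hp k))).1 ?_
      rw [he, (hx _ (rt_sr hp k)).2 (sr_ne (Ne.symm hk)), mul_zero]) a
    rwa [crd_apply, crd_apply, Int.cast_id] at this
  have h2 := h1 (h.symm (sr j))
  rw [AddEquiv.apply_symm_apply, sr_self] at h2
  have h3 := he (sr j)
  rw [hx.eq (h (sr j))] at h3
  have h4 := mul_right_cancel₀ hx.ne h3
  rcases Int.eq_one_or_neg_one_of_mul_eq_one' h2.symm with h5 | h5
  · exact Or.inl ⟨by rw [← h4, h5.2, Int.cast_one], fun a => by rw [h1, h5.2, mul_one]⟩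
  · exact Or.inr ⟨by rw [← h4, h5.2, Int.cast_neg, Int.cast_one], fun a => by rw [h1, h5.2, mul_neg, mul_one]⟩

/-- membership in a list of pairs -/
noncomputable def inR (RR : List (ℤ × ℤ)) (x y : ℤ) : Bool := an (fun ρ => ieq ρ.1 x && ieq ρ.2 y) RR

theorem inR_iff {RR : List (ℤ × ℤ)} {x y : ℤ} : inR RR x y = true ↔ (x, y) ∈ RR := by
  unfold inR
  rw [an_iff]
  constructor
  · rintro ⟨ρ, h1, h2⟩
    obtain ⟨h3, h4⟩ := Bool.and_eq_true_iff.1 h2
    rw [← ieq_iff.1 h3, ← ieq_iff.1 h4]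
    exact h1
  · exact fun h => ⟨_, h, Bool.and_eq_true_iff.2 ⟨ieq_iff.2 rfl, ieq_iff.2 rfl⟩⟩

/-- `RR` is the list of the restricted roots -/
noncomputable def rrOK (d : Dt) (i j : ℕ) (RR : List (ℤ × ℤ)) : Bool :=
  al (fun e => (ieq (gt e.b i) 0 && ieq (gt e.b j) 0) ||
    (inR RR (gt e.b i) (gt e.b j) && inR RR (-gt e.b i) (-gt e.b j))) d.T &&
  al (fun ρ => !(ieq ρ.1 0 && ieq ρ.2 0) && an (fun e => (ieq (gt e.b i) ρ.1 && ieq (gt e.b j) ρ.2) ||
    (ieq (-gt e.b i) ρ.1 && ieq (-gt e.b j) ρ.2)) d.T) RR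

/-- the restricted roots -/
structure RROK (hp : IsType D l M) (i j : Fin l) (RR : List (ℤ × ℤ)) : Prop where
  ne : i ≠ j
  mem : ∀ a, Rt hp a → ¬ (a i = 0 ∧ a j = 0) → (a i, a j) ∈ RR
  sur : ∀ ρ ∈ RR, ∃ a, Rt hp a ∧ a i = ρ.1 ∧ a j = ρ.2 ∧ ¬ (a i = 0 ∧ a j = 0)

include hT in
theorem Tab.rrok {i j : Fin l} (hij : i ≠ j) {RR : List (ℤ × ℤ)} (h : rrOK d i j RR = true) : RROK hp i j RR := by
  obtain ⟨h1, h2⟩ := Bool.and_eq_true_iff.1 h
  refine ⟨hij, fun a ha h3 => ?_, fun ρ hρ => ?_⟩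
  · obtain ⟨e, he, h4⟩ := hT.sur a ha
    rcases Bool.or_eq_true_iff.1 (al_iff.1 h1 e he) with h5 | h5
    · obtain ⟨h6, h7⟩ := Bool.and_eq_true_iff.1 h5
      rw [ieq_iff] at h6 h7
      exfalso
      apply h3
      rcases h4 with rfl | rfl
      · exact ⟨h6, h7⟩
      · exact ⟨neg_eq_zero.2 h6, neg_eq_zero.2 h7⟩
    · obtain ⟨h6, h7⟩ := Bool.and_eq_true_iff.1 h5
      rcases h4 with rfl | rfl
      · exact inR_iff.1 h6
      · exact inR_iff.1 h7
  · obtain ⟨h3, h4⟩ := Bool.and_eq_true_iff.1 (al_iff.1 h2 ρ hρ)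
    obtain ⟨e, he, h5⟩ := an_iff.1 h4
    have h6 : ¬ (ρ.1 = 0 ∧ ρ.2 = 0) := by
      rintro ⟨h7, h8⟩
      rw [ieq_iff.2 h7, ieq_iff.2 h8] at h3
      exact Bool.false_ne_true h3
    rcases Bool.or_eq_true_iff.1 h5 with h7 | h7
    · obtain ⟨h8, h9⟩ := Bool.and_eq_true_iff.1 h7
      rw [ieq_iff] at h8 h9
      exact ⟨toF l e.b, hT.rt e he, h8, h9, fun h10 => h6 ⟨h8.symm.trans h10.1, h9.symm.trans h10.2⟩⟩
    · obtain ⟨h8, h9⟩ := Bool.and_eq_true_iff.1 h7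
      rw [ieq_iff] at h8 h9
      exact ⟨-toF l e.b, (hT.rt e he).neg, h8, h9, fun h10 => h6 ⟨h8.symm.trans h10.1, h9.symm.trans h10.2⟩⟩

theorem RROK.ne_zero {i j : Fin l} {RR : List (ℤ × ℤ)} (R : RROK hp i j RR) {K : Type} [CommRing K] {φ : Lat l →+ K}
    (hx : Ex2 hp φ i j) {ρ : ℤ × ℤ} (hρ : ρ ∈ RR) : (ρ.1 : K) * φ (sr i) + (ρ.2 : K) * φ (sr j) ≠ 0 := by
  obtain ⟨a, ha, h1, h2, h3⟩ := R.sur ρ hρ
  rw [← h1, ← h2, ← hx.eq R.ne a]
  exact fun h => h3 ((hx a ha).1 h)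

/-- the number of positive roots killed by `x ω_i + y ω_j` -/
noncomputable def c0 (d : Dt) (i j : ℕ) (x y : ℤ) : ℕ := cnt (fun e => ieq (gt e.b i * x + gt e.b j * y) 0) d.T

/-- the candidates for the induced matrix -/
noncomputable def cand (d : Dt) (i j : ℕ) (RR : List (ℤ × ℤ)) (p q : ℤ × ℤ) : Bool :=
  al (fun ρ => inR RR (ρ.1 * p.1 + ρ.2 * q.1) (ρ.1 * p.2 + ρ.2 * q.2)) RR &&
    (Nat.beq (c0 d i j p.1 q.1) (c0 d i j 1 0) && Nat.beq (c0 d i j p.2 q.2) (c0 d i j 0 1))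

/-- the matrix induced by `h` -/
def Mx (h : Lat l ≃+ Lat l) (i j : Fin l) (p q : ℤ × ℤ) : Prop :=
  ∀ a, h a i = a i * p.1 + a j * q.1 ∧ h a j = a i * p.2 + a j * q.2

include hT in
/-- **Corank two.** -/
theorem Tab.res2 {i j : Fin l} {RR : List (ℤ × ℤ)} (R : RROK hp i j RR) {K : Type} [Field K] {φ : Lat l →+ K}
    (hx : Ex2 hp φ i j) (h : Lat l ≃+ Lat l) (hr : ∀ a, Rt hp (h a) ↔ Rt hp a) {e : K}
    (he : ∀ a, φ (h a) = e * φ a) : ∃ p ∈ RR, ∃ q ∈ RR, cand d i j RR p q = true ∧ Mx h i j p q ∧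
      (p.1 : K) * φ (sr i) + (p.2 : K) * φ (sr j) = e * φ (sr i) ∧
      (q.1 : K) * φ (sr i) + (q.2 : K) * φ (sr j) = e * φ (sr j) := by
  have he0 := eig_ne hx.ne1 h he
  have hz : ∀ a, Rt hp a → ((h a i = 0 ∧ h a j = 0) ↔ (a i = 0 ∧ a j = 0)) := by
    intro a ha
    rw [← hx _ ((hr a).2 ha), ← hx a ha, he, mul_eq_zero, or_iff_right he0]
  have hk : ∀ k, k ≠ i → k ≠ j → h (sr k) i = 0 ∧ h (sr k) j = 0 := fun k h1 h2 =>
    (hz _ (rt_sr hp k)).2 ⟨sr_ne (Ne.symm h1), sr_ne (Ne.symm h2)⟩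
  have hM : Mx h i j (h (sr i) i, h (sr i) j) (h (sr j) i, h (sr j) j) := by
    intro a
    have h1 := eq_two_coord (crd h i) R.ne (fun k h1 h2 => by rw [crd_apply]; exact (hk k h1 h2).1) a
    have h2 := eq_two_coord (crd h j) R.ne (fun k h1 h2 => by rw [crd_apply]; exact (hk k h1 h2).2) a
    simp only [crd_apply, Int.cast_id] at h1 h2
    exact ⟨h1, h2⟩
  have hm : ∀ a, Rt hp a → ¬ (a i = 0 ∧ a j = 0) → (h a i, h a j) ∈ RR := fun a ha h1 =>
    R.mem _ ((hr a).2 ha) fun h2 => h1 ((hz a ha).1 h2)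
  refine ⟨_, hm _ (rt_sr hp i) fun h1 => ?_, _, hm _ (rt_sr hp j) fun h1 => ?_, ?_, hM, ?_, ?_⟩
  · exact one_ne_zero ((sr_self i).symm.trans h1.1)
  · exact one_ne_zero ((sr_self j).symm.trans h1.2)
  · have hc : ∀ (k : Fin l) (x y x' y' : ℤ), (∀ a, h a k = a i * x + a j * y) → (∀ a : Lat l, a k = a i * x' + a j * y') →
        Nat.beq (c0 d i j x y) (c0 d i j x' y') = true := by
      intro k x y x' y' h1 h2
      have h3 := ncard_comp hp (φ := psi (sr k)) (ψ := crd h k) h hr fun a _ => Iff.rfl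
      rw [hT.ncard_eq (crd h k) (P := fun e => ieq (gt e.b i * x + gt e.b j * y) 0)
        (fun e _ => by rw [ieq_iff, crd_apply, h1]; rfl), hT.ncard_eq (psi (sr k))
        (P := fun e => ieq (gt e.b i * x' + gt e.b j * y') 0) (fun e _ => by rw [ieq_iff, psi_sr', h2 (toF l e.b)]; rfl)] at h3
      unfold c0
      rw [Nat.beq_eq]
      omega
    refine Bool.and_eq_true_iff.2 ⟨al_iff.2 fun ρ hρ => ?_, Bool.and_eq_true_iff.2
      ⟨hc i _ _ _ _ (fun a => (hM a).1) fun a => by ring, hc j _ _ _ _ (fun a => (hM a).2) fun a => by ring⟩⟩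
    obtain ⟨a, ha, h1, h2, h3⟩ := R.sur ρ hρ
    have h4 := hm a ha h3
    rw [(hM a).1, (hM a).2, h1, h2] at h4
    exact inR_iff.2 h4
  · rw [← he, hx.eq R.ne (h (sr i))]
  · rw [← he, hx.eq R.ne (h (sr j))]

/-- `(x, y)` is a unit multiple of a restricted root -/
noncomputable def rowK (RR : List (ℤ × ℤ)) (x y : ℤ) : Bool :=
  an (fun ρ => an (fun N => ieq x (N * ρ.1) && ieq y (N * ρ.2)) [1, 2, 3]) RR

theorem RROK.row_ne {i j : Fin l} {RR : List (ℤ × ℤ)} (R : RROK hp i j RR) {r : ℕ} (hr' : r.Prime) (h5 : 5 ≤ r)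
    {φ : Lat l →+ ZMod r} (hx : Ex2 hp φ i j) {x y : ℤ} (h : rowK RR x y = true) :
    (x : ZMod r) * φ (sr i) + (y : ZMod r) * φ (sr j) ≠ 0 := by
  have := Fact.mk hr'
  obtain ⟨ρ, hρ, h1⟩ := an_iff.1 h
  obtain ⟨N, hN, h2⟩ := an_iff.1 h1
  obtain ⟨h3, h4⟩ := Bool.and_eq_true_iff.1 h2
  have h6 : (N : ZMod r) ≠ 0 := un6 hr' h5 (by
    simp only [List.mem_cons, List.not_mem_nil, or_false] at hN
    rcases hN with rfl | rfl | rfl <;> norm_num)
  rw [ieq_iff.1 h3, ieq_iff.1 h4]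
  intro h7
  refine mul_ne_zero h6 (R.ne_zero hx hρ) ?_
  push_cast at h7
  linear_combination h7

theorem charpoly {K : Type} [Field K] {s t e p1 p2 q1 q2 : K} (hs : s ≠ 0) (h1 : p1 * s + p2 * t = e * s)
    (h2 : q1 * s + q2 * t = e * t) : e ^ 2 - (p1 + q2) * e + (p1 * q2 - p2 * q1) = 0 := by
  refine (mul_eq_zero.1 (?_ : _ * s = 0)).resolve_right hs
  linear_combination (q2 - e) * h1 - p2 * h2

/-- reflections whose eigenvectors are walls -/
noncomputable def clsB (RR : List (ℤ × ℤ)) (p q : ℤ × ℤ) : Bool :=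
  ieq (p.1 + q.2) 0 && (ieq (p.1 * q.2 - p.2 * q.1) (-1) &&
    ((rowK RR (p.1 - 1) p.2 || rowK RR q.1 (q.2 - 1)) && (rowK RR (p.1 + 1) p.2 || rowK RR q.1 (q.2 + 1))))

theorem RROK.not_clsB {i j : Fin l} {RR : List (ℤ × ℤ)} (R : RROK hp i j RR) {r : ℕ} (hr' : r.Prime) (h5 : 5 ≤ r)
    {φ : Lat l →+ ZMod r} (hx : Ex2 hp φ i j) {p q : ℤ × ℤ} {e : ZMod r}
    (h1 : (p.1 : ZMod r) * φ (sr i) + (p.2 : ZMod r) * φ (sr j) = e * φ (sr i))
    (h2 : (q.1 : ZMod r) * φ (sr i) + (q.2 : ZMod r) * φ (sr j) = e * φ (sr j)) : clsB RR p q ≠ true := by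
  have := Fact.mk hr'
  intro h
  obtain ⟨h3, h⟩ := Bool.and_eq_true_iff.1 h
  obtain ⟨h4, h⟩ := Bool.and_eq_true_iff.1 h
  obtain ⟨h6, h7⟩ := Bool.and_eq_true_iff.1 h
  have h8 := charpoly hx.ne1 h1 h2
  have h3' : (p.1 : ZMod r) + q.2 = 0 := by exact_mod_cast congrArg (Int.cast : ℤ → ZMod r) (ieq_iff.1 h3)
  have h4' : (p.1 : ZMod r) * q.2 - p.2 * q.1 = -1 := by
    exact_mod_cast congrArg (Int.cast : ℤ → ZMod r) (ieq_iff.1 h4)
  rw [h3', h4'] at h8
  have h9 : (e - 1) * (e + 1) = 0 := by linear_combination h8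
  rcases mul_eq_zero.1 h9 with h10 | h10
  · rcases Bool.or_eq_true_iff.1 h6 with h11 | h11
    · exact R.row_ne hr' h5 hx h11 (by push_cast; linear_combination h1 + φ (sr i) * h10)
    · exact R.row_ne hr' h5 hx h11 (by push_cast; linear_combination h2 + φ (sr j) * h10)
  · rcases Bool.or_eq_true_iff.1 h7 with h11 | h11
    · exact R.row_ne hr' h5 hx h11 (by push_cast; linear_combination h1 + φ (sr i) * h10)
    · exact R.row_ne hr' h5 hx h11 (by push_cast; linear_combination h2 + φ (sr j) * h10)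

/-- isolated roots -/
noncomputable def a1chk (d : Dt) (κ : V) (c : Ent) : Bool :=
  ieq (dot c.b κ) 0 && al (fun e => !ieq (dot e.b κ) 0 || (leq e.b c.b || ieq (dot e.b c.cv) 0)) d.T

include hT in
theorem Tab.a1c {K : Type} [AddCommGroup K] {φ : Lat l →+ K} {κ : V} (hx : Exa hp φ κ) {c : Ent} (hc : c ∈ d.T)
    (h : a1chk d κ c = true) : A1c hp (Psi hp φ) (toF l c.b) := by
  obtain ⟨h1, h2⟩ := Bool.and_eq_true_iff.1 h
  refine ⟨⟨hT.rt c hc, (hx _ (hT.rt c hc)).2 ((hT.psi_b hc κ).trans (ieq_iff.1 h1))⟩, fun a ha => ?_⟩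
  refine hT.of_T (P := fun a => psi (toF l κ) a = 0 → a = toF l c.b ∨ a = -toF l c.b ∨ cp hp a (toF l c.b) = 0)
    (fun a h3 h4 => ?_) (fun e he h3 => ?_) a ha.1 ((hx a ha.1).1 ha.2)
  · rw [map_neg, neg_eq_zero] at h4
    rcases h3 h4 with h6 | h6 | h6
    · right; left; rw [h6]
    · left; rw [h6, neg_neg]
    · right; right; rw [cp_neg hp _ (hT.rt c hc), h6, neg_zero]
  · rw [hT.psi_b he] at h3
    have h4 := al_iff.1 h2 e he
    rw [ieq_iff.2 h3, Bool.not_true, Bool.false_or] at h4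
    rcases Bool.or_eq_true_iff.1 h4 with h6 | h6
    · left; rw [leq_iff.1 h6]
    · right; right; rw [hT.cp_b he hc]; exact ieq_iff.1 h6

include hT in
theorem Tab.ncard_ex {K : Type} [AddCommGroup K] {φ : Lat l →+ K} {κ : V} (hx : Exa hp φ κ) :
    (Psi hp φ).ncard = 2 * cnt (fun e => ieq (dot e.b κ) 0) d.T :=
  hT.ncard_eq φ fun e he => by rw [ieq_iff, hx _ (hT.rt e he), hT.psi_b he]

/-- the unit vector -/
noncomputable def uv (l i : ℕ) : V := (List.range l).map fun k => if k = i then 1 else 0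

theorem length_uv (l i : ℕ) : (uv l i).length = l := by simp [uv]

theorem gt_map_range (f : ℕ → ℤ) {n k : ℕ} (h : k < n) : gt ((List.range n).map f) k = f k := by
  have h1 : (List.range n).map f = List.ofFn fun i : Fin n => f i := by
    apply List.ext_getElem <;> simp
  rw [h1]
  exact gt_ofFn (fun i : Fin n => f i) ⟨k, h⟩

theorem toF_uv (i : Fin l) : toF l (uv l i) = sr i := by
  funext k
  rw [toF_apply, uv, gt_map_range _ k.2]
  by_cases h : k = i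
  · rw [h, if_pos rfl, sr_self]
  · rw [if_neg (fun h1 => h (Fin.ext h1)), sr_ne h]

include hT in
theorem Tab.wd_apply (ω : List ℕ) (a : Lat l) (i : Fin l) :
    wa hp (wd M ω) a i = psi (toF l (fw d.C ω (uv l i))) a := by
  rw [hT.psi_fw ω (length_uv l i), toF_uv, psi_sr']

/-- the word `ω` is `-1` -/
noncomputable def negchk (l : ℕ) (d : Dt) (ω : List ℕ) : Bool :=
  al (fun i => leq (axpy (-1) (fw d.C ω (uv l i)) (uv l i)) (uv l l)) (List.range l)

theorem toF_uv_self : toF l (uv l l) = 0 := by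
  funext k
  rw [toF_apply, uv, gt_map_range _ k.2, if_neg k.2.ne]
  rfl

include hT in
theorem Tab.neg_word {ω : List ℕ} (h : negchk l d ω = true) (a : Lat l) : wa hp (wd M ω) a = -a := by
  funext i
  have h1 := congrArg (toF l) (leq_iff.1 (al_iff.1 h i (List.mem_range.2 i.2)))
  rw [toF_axpy _ ((length_fw _ _ _).trans (length_uv l i)), toF_uv_self, toF_uv, neg_one_smul, sub_neg_eq_add,
    add_eq_zero_iff_eq_neg] at h1
  rw [hT.wd_apply, h1, psi_neg, psi_sr', Pi.neg_apply]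

end Cfsg.Agent.Cam.Ex.Cb
end

-- part: Cam/Ex/CbT
section
/-!
# The finite check: the root tables (helper12, generated by `tools/cam12/gen_tab.py`)
-/

set_option autoImplicit false
set_option linter.unusedVariables false
set_option linter.style.longLine false
set_option maxRecDepth 100000

namespace Cfsg.Agent.Cam.Ex.Cb

open Cfsg Cfsg.Lie

/-- the table of `G2` -/
def dG2 : Dt where
  T := [
    ⟨[0, 1], [-1, 2], 6⟩,
    ⟨[1, 0], [2, -3], 2⟩,
    ⟨[1, 1], [-1, 3], 2⟩,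
    ⟨[2, 1], [1, 0], 2⟩,
    ⟨[3, 1], [1, -1], 6⟩,
    ⟨[3, 2], [0, 1], 6⟩]
  mx := 6
  C := [[2, -3], [-1, 2]]
  H := [3, 2]

theorem chkG2 : TabChk chevG2 2 ![![2, -3], ![-3, 6]] dG2 := by
  unfold TabChk
  decide +kernel

theorem tabG2 : Tab tG2 dG2 := tab_of tG2 chkG2

/-- the table of `D4` -/
def dD4 : Dt where
  T := [
    ⟨[0, 0, 0, 1], [0, -1, 0, 2], 2⟩,
    ⟨[0, 0, 1, 0], [0, -1, 2, 0], 2⟩,
    ⟨[0, 1, 0, 0], [-1, 2, -1, -1], 2⟩,
    ⟨[1, 0, 0, 0], [2, -1, 0, 0], 2⟩,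
    ⟨[0, 1, 0, 1], [-1, 1, -1, 1], 2⟩,
    ⟨[0, 1, 1, 0], [-1, 1, 1, -1], 2⟩,
    ⟨[1, 1, 0, 0], [1, 1, -1, -1], 2⟩,
    ⟨[0, 1, 1, 1], [-1, 0, 1, 1], 2⟩,
    ⟨[1, 1, 0, 1], [1, 0, -1, 1], 2⟩,
    ⟨[1, 1, 1, 0], [1, 0, 1, -1], 2⟩,
    ⟨[1, 1, 1, 1], [1, -1, 1, 1], 2⟩,
    ⟨[1, 2, 1, 1], [0, 1, 0, 0], 2⟩]
  mx := 2
  C := [[2, -1, 0, 0], [-1, 2, -1, -1], [0, -1, 2, 0], [0, -1, 0, 2]]
  H := [1, 2, 1, 1]

theorem chkD4 : TabChk chevD4 4 ![![2, -1, 0, 0], ![-1, 2, -1, -1], ![0, -1, 2, 0], ![0, -1, 0, 2]] dD4 := by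
  unfold TabChk
  decide +kernel

theorem tabD4 : Tab tD4 dD4 := tab_of tD4 chkD4

/-- the table of `F4` -/
def dF4 : Dt where
  T := [
    ⟨[0, 0, 0, 1], [0, 0, -1, 2], 4⟩,
    ⟨[0, 0, 1, 0], [0, -1, 2, -1], 4⟩,
    ⟨[0, 1, 0, 0], [-1, 2, -2, 0], 2⟩,
    ⟨[1, 0, 0, 0], [2, -1, 0, 0], 2⟩,
    ⟨[0, 0, 1, 1], [0, -1, 1, 1], 4⟩,
    ⟨[0, 1, 1, 0], [-1, 0, 2, -2], 2⟩,
    ⟨[1, 1, 0, 0], [1, 1, -2, 0], 2⟩,
    ⟨[0, 1, 1, 1], [-1, 0, 0, 2], 2⟩,
    ⟨[0, 2, 1, 0], [-1, 1, 0, -1], 4⟩,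
    ⟨[1, 1, 1, 0], [1, -1, 2, -2], 2⟩,
    ⟨[0, 2, 1, 1], [-1, 1, -1, 1], 4⟩,
    ⟨[1, 1, 1, 1], [1, -1, 0, 2], 2⟩,
    ⟨[1, 2, 1, 0], [0, 1, 0, -2], 2⟩,
    ⟨[0, 2, 2, 1], [-1, 0, 1, 0], 4⟩,
    ⟨[1, 2, 1, 1], [0, 1, -2, 2], 2⟩,
    ⟨[2, 2, 1, 0], [1, 0, 0, -1], 4⟩,
    ⟨[1, 2, 2, 1], [0, -1, 2, 0], 2⟩,
    ⟨[2, 2, 1, 1], [1, 0, -1, 1], 4⟩,
    ⟨[1, 3, 2, 1], [-1, 1, 0, 0], 2⟩,
    ⟨[2, 2, 2, 1], [1, -1, 1, 0], 4⟩,
    ⟨[2, 3, 2, 1], [1, 0, 0, 0], 2⟩,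
    ⟨[2, 4, 2, 1], [0, 1, -1, 0], 4⟩,
    ⟨[2, 4, 3, 1], [0, 0, 1, -1], 4⟩,
    ⟨[2, 4, 3, 2], [0, 0, 0, 1], 4⟩]
  mx := 4
  C := [[2, -1, 0, 0], [-1, 2, -2, 0], [0, -1, 2, -1], [0, 0, -1, 2]]
  H := [2, 4, 3, 2]

theorem chkF4 : TabChk chevF4 4 ![![2, -1, 0, 0], ![-1, 2, -2, 0], ![0, -2, 4, -2], ![0, 0, -2, 4]] dF4 := by
  unfold TabChk
  decide +kernel

theorem tabF4 : Tab tF4 dF4 := tab_of tF4 chkF4

/-- the table of `E6` -/
def dE6 : Dt where
  T := [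
    ⟨[0, 0, 0, 0, 0, 1], [0, 0, 0, 0, -1, 2], 2⟩,
    ⟨[0, 0, 0, 0, 1, 0], [0, 0, 0, -1, 2, -1], 2⟩,
    ⟨[0, 0, 0, 1, 0, 0], [0, -1, -1, 2, -1, 0], 2⟩,
    ⟨[0, 0, 1, 0, 0, 0], [-1, 0, 2, -1, 0, 0], 2⟩,
    ⟨[0, 1, 0, 0, 0, 0], [0, 2, 0, -1, 0, 0], 2⟩,
    ⟨[1, 0, 0, 0, 0, 0], [2, 0, -1, 0, 0, 0], 2⟩,
    ⟨[0, 0, 0, 0, 1, 1], [0, 0, 0, -1, 1, 1], 2⟩,
    ⟨[0, 0, 0, 1, 1, 0], [0, -1, -1, 1, 1, -1], 2⟩,
    ⟨[0, 0, 1, 1, 0, 0], [-1, -1, 1, 1, -1, 0], 2⟩,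
    ⟨[0, 1, 0, 1, 0, 0], [0, 1, -1, 1, -1, 0], 2⟩,
    ⟨[1, 0, 1, 0, 0, 0], [1, 0, 1, -1, 0, 0], 2⟩,
    ⟨[0, 0, 0, 1, 1, 1], [0, -1, -1, 1, 0, 1], 2⟩,
    ⟨[0, 0, 1, 1, 1, 0], [-1, -1, 1, 0, 1, -1], 2⟩,
    ⟨[0, 1, 0, 1, 1, 0], [0, 1, -1, 0, 1, -1], 2⟩,
    ⟨[0, 1, 1, 1, 0, 0], [-1, 1, 1, 0, -1, 0], 2⟩,
    ⟨[1, 0, 1, 1, 0, 0], [1, -1, 0, 1, -1, 0], 2⟩,
    ⟨[0, 0, 1, 1, 1, 1], [-1, -1, 1, 0, 0, 1], 2⟩,
    ⟨[0, 1, 0, 1, 1, 1], [0, 1, -1, 0, 0, 1], 2⟩,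
    ⟨[0, 1, 1, 1, 1, 0], [-1, 1, 1, -1, 1, -1], 2⟩,
    ⟨[1, 0, 1, 1, 1, 0], [1, -1, 0, 0, 1, -1], 2⟩,
    ⟨[1, 1, 1, 1, 0, 0], [1, 1, 0, 0, -1, 0], 2⟩,
    ⟨[0, 1, 1, 1, 1, 1], [-1, 1, 1, -1, 0, 1], 2⟩,
    ⟨[0, 1, 1, 2, 1, 0], [-1, 0, 0, 1, 0, -1], 2⟩,
    ⟨[1, 0, 1, 1, 1, 1], [1, -1, 0, 0, 0, 1], 2⟩,
    ⟨[1, 1, 1, 1, 1, 0], [1, 1, 0, -1, 1, -1], 2⟩,
    ⟨[0, 1, 1, 2, 1, 1], [-1, 0, 0, 1, -1, 1], 2⟩,
    ⟨[1, 1, 1, 1, 1, 1], [1, 1, 0, -1, 0, 1], 2⟩,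
    ⟨[1, 1, 1, 2, 1, 0], [1, 0, -1, 1, 0, -1], 2⟩,
    ⟨[0, 1, 1, 2, 2, 1], [-1, 0, 0, 0, 1, 0], 2⟩,
    ⟨[1, 1, 1, 2, 1, 1], [1, 0, -1, 1, -1, 1], 2⟩,
    ⟨[1, 1, 2, 2, 1, 0], [0, 0, 1, 0, 0, -1], 2⟩,
    ⟨[1, 1, 1, 2, 2, 1], [1, 0, -1, 0, 1, 0], 2⟩,
    ⟨[1, 1, 2, 2, 1, 1], [0, 0, 1, 0, -1, 1], 2⟩,
    ⟨[1, 1, 2, 2, 2, 1], [0, 0, 1, -1, 1, 0], 2⟩,
    ⟨[1, 1, 2, 3, 2, 1], [0, -1, 0, 1, 0, 0], 2⟩,
    ⟨[1, 2, 2, 3, 2, 1], [0, 1, 0, 0, 0, 0], 2⟩]
  mx := 2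
  C := [[2, 0, -1, 0, 0, 0], [0, 2, 0, -1, 0, 0], [-1, 0, 2, -1, 0, 0], [0, -1, -1, 2, -1, 0], [0, 0, 0, -1, 2, -1], [0, 0, 0, 0, -1, 2]]
  H := [1, 2, 2, 3, 2, 1]

theorem chkE6 : TabChk chevE6 6 ![![2, 0, -1, 0, 0, 0], ![0, 2, 0, -1, 0, 0], ![-1, 0, 2, -1, 0, 0], ![0, -1, -1, 2, -1, 0], ![0, 0, 0, -1, 2, -1], ![0, 0, 0, 0, -1, 2]] dE6 := by
  unfold TabChk
  decide +kernel

theorem tabE6 : Tab tE6 dE6 := tab_of tE6 chkE6

/-- the table of `E7` -/
def dE7 : Dt where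
  T := [
    ⟨[0, 0, 0, 0, 0, 0, 1], [0, 0, 0, 0, 0, -1, 2], 2⟩,
    ⟨[0, 0, 0, 0, 0, 1, 0], [0, 0, 0, 0, -1, 2, -1], 2⟩,
    ⟨[0, 0, 0, 0, 1, 0, 0], [0, 0, 0, -1, 2, -1, 0], 2⟩,
    ⟨[0, 0, 0, 1, 0, 0, 0], [0, -1, -1, 2, -1, 0, 0], 2⟩,
    ⟨[0, 0, 1, 0, 0, 0, 0], [-1, 0, 2, -1, 0, 0, 0], 2⟩,
    ⟨[0, 1, 0, 0, 0, 0, 0], [0, 2, 0, -1, 0, 0, 0], 2⟩,
    ⟨[1, 0, 0, 0, 0, 0, 0], [2, 0, -1, 0, 0, 0, 0], 2⟩,
    ⟨[0, 0, 0, 0, 0, 1, 1], [0, 0, 0, 0, -1, 1, 1], 2⟩,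
    ⟨[0, 0, 0, 0, 1, 1, 0], [0, 0, 0, -1, 1, 1, -1], 2⟩,
    ⟨[0, 0, 0, 1, 1, 0, 0], [0, -1, -1, 1, 1, -1, 0], 2⟩,
    ⟨[0, 0, 1, 1, 0, 0, 0], [-1, -1, 1, 1, -1, 0, 0], 2⟩,
    ⟨[0, 1, 0, 1, 0, 0, 0], [0, 1, -1, 1, -1, 0, 0], 2⟩,
    ⟨[1, 0, 1, 0, 0, 0, 0], [1, 0, 1, -1, 0, 0, 0], 2⟩,
    ⟨[0, 0, 0, 0, 1, 1, 1], [0, 0, 0, -1, 1, 0, 1], 2⟩,
    ⟨[0, 0, 0, 1, 1, 1, 0], [0, -1, -1, 1, 0, 1, -1], 2⟩,
    ⟨[0, 0, 1, 1, 1, 0, 0], [-1, -1, 1, 0, 1, -1, 0], 2⟩,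
    ⟨[0, 1, 0, 1, 1, 0, 0], [0, 1, -1, 0, 1, -1, 0], 2⟩,
    ⟨[0, 1, 1, 1, 0, 0, 0], [-1, 1, 1, 0, -1, 0, 0], 2⟩,
    ⟨[1, 0, 1, 1, 0, 0, 0], [1, -1, 0, 1, -1, 0, 0], 2⟩,
    ⟨[0, 0, 0, 1, 1, 1, 1], [0, -1, -1, 1, 0, 0, 1], 2⟩,
    ⟨[0, 0, 1, 1, 1, 1, 0], [-1, -1, 1, 0, 0, 1, -1], 2⟩,
    ⟨[0, 1, 0, 1, 1, 1, 0], [0, 1, -1, 0, 0, 1, -1], 2⟩,
    ⟨[0, 1, 1, 1, 1, 0, 0], [-1, 1, 1, -1, 1, -1, 0], 2⟩,
    ⟨[1, 0, 1, 1, 1, 0, 0], [1, -1, 0, 0, 1, -1, 0], 2⟩,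
    ⟨[1, 1, 1, 1, 0, 0, 0], [1, 1, 0, 0, -1, 0, 0], 2⟩,
    ⟨[0, 0, 1, 1, 1, 1, 1], [-1, -1, 1, 0, 0, 0, 1], 2⟩,
    ⟨[0, 1, 0, 1, 1, 1, 1], [0, 1, -1, 0, 0, 0, 1], 2⟩,
    ⟨[0, 1, 1, 1, 1, 1, 0], [-1, 1, 1, -1, 0, 1, -1], 2⟩,
    ⟨[0, 1, 1, 2, 1, 0, 0], [-1, 0, 0, 1, 0, -1, 0], 2⟩,
    ⟨[1, 0, 1, 1, 1, 1, 0], [1, -1, 0, 0, 0, 1, -1], 2⟩,
    ⟨[1, 1, 1, 1, 1, 0, 0], [1, 1, 0, -1, 1, -1, 0], 2⟩,
    ⟨[0, 1, 1, 1, 1, 1, 1], [-1, 1, 1, -1, 0, 0, 1], 2⟩,
    ⟨[0, 1, 1, 2, 1, 1, 0], [-1, 0, 0, 1, -1, 1, -1], 2⟩,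
    ⟨[1, 0, 1, 1, 1, 1, 1], [1, -1, 0, 0, 0, 0, 1], 2⟩,
    ⟨[1, 1, 1, 1, 1, 1, 0], [1, 1, 0, -1, 0, 1, -1], 2⟩,
    ⟨[1, 1, 1, 2, 1, 0, 0], [1, 0, -1, 1, 0, -1, 0], 2⟩,
    ⟨[0, 1, 1, 2, 1, 1, 1], [-1, 0, 0, 1, -1, 0, 1], 2⟩,
    ⟨[0, 1, 1, 2, 2, 1, 0], [-1, 0, 0, 0, 1, 0, -1], 2⟩,
    ⟨[1, 1, 1, 1, 1, 1, 1], [1, 1, 0, -1, 0, 0, 1], 2⟩,
    ⟨[1, 1, 1, 2, 1, 1, 0], [1, 0, -1, 1, -1, 1, -1], 2⟩,
    ⟨[1, 1, 2, 2, 1, 0, 0], [0, 0, 1, 0, 0, -1, 0], 2⟩,
    ⟨[0, 1, 1, 2, 2, 1, 1], [-1, 0, 0, 0, 1, -1, 1], 2⟩,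
    ⟨[1, 1, 1, 2, 1, 1, 1], [1, 0, -1, 1, -1, 0, 1], 2⟩,
    ⟨[1, 1, 1, 2, 2, 1, 0], [1, 0, -1, 0, 1, 0, -1], 2⟩,
    ⟨[1, 1, 2, 2, 1, 1, 0], [0, 0, 1, 0, -1, 1, -1], 2⟩,
    ⟨[0, 1, 1, 2, 2, 2, 1], [-1, 0, 0, 0, 0, 1, 0], 2⟩,
    ⟨[1, 1, 1, 2, 2, 1, 1], [1, 0, -1, 0, 1, -1, 1], 2⟩,
    ⟨[1, 1, 2, 2, 1, 1, 1], [0, 0, 1, 0, -1, 0, 1], 2⟩,
    ⟨[1, 1, 2, 2, 2, 1, 0], [0, 0, 1, -1, 1, 0, -1], 2⟩,
    ⟨[1, 1, 1, 2, 2, 2, 1], [1, 0, -1, 0, 0, 1, 0], 2⟩,
    ⟨[1, 1, 2, 2, 2, 1, 1], [0, 0, 1, -1, 1, -1, 1], 2⟩,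
    ⟨[1, 1, 2, 3, 2, 1, 0], [0, -1, 0, 1, 0, 0, -1], 2⟩,
    ⟨[1, 1, 2, 2, 2, 2, 1], [0, 0, 1, -1, 0, 1, 0], 2⟩,
    ⟨[1, 1, 2, 3, 2, 1, 1], [0, -1, 0, 1, 0, -1, 1], 2⟩,
    ⟨[1, 2, 2, 3, 2, 1, 0], [0, 1, 0, 0, 0, 0, -1], 2⟩,
    ⟨[1, 1, 2, 3, 2, 2, 1], [0, -1, 0, 1, -1, 1, 0], 2⟩,
    ⟨[1, 2, 2, 3, 2, 1, 1], [0, 1, 0, 0, 0, -1, 1], 2⟩,
    ⟨[1, 1, 2, 3, 3, 2, 1], [0, -1, 0, 0, 1, 0, 0], 2⟩,
    ⟨[1, 2, 2, 3, 2, 2, 1], [0, 1, 0, 0, -1, 1, 0], 2⟩,
    ⟨[1, 2, 2, 3, 3, 2, 1], [0, 1, 0, -1, 1, 0, 0], 2⟩,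
    ⟨[1, 2, 2, 4, 3, 2, 1], [0, 0, -1, 1, 0, 0, 0], 2⟩,
    ⟨[1, 2, 3, 4, 3, 2, 1], [-1, 0, 1, 0, 0, 0, 0], 2⟩,
    ⟨[2, 2, 3, 4, 3, 2, 1], [1, 0, 0, 0, 0, 0, 0], 2⟩]
  mx := 2
  C := [[2, 0, -1, 0, 0, 0, 0], [0, 2, 0, -1, 0, 0, 0], [-1, 0, 2, -1, 0, 0, 0], [0, -1, -1, 2, -1, 0, 0], [0, 0, 0, -1, 2, -1, 0], [0, 0, 0, 0, -1, 2, -1], [0, 0, 0, 0, 0, -1, 2]]
  H := [2, 2, 3, 4, 3, 2, 1]

theorem chkE7 : TabChk chevE7 7 ![![2, 0, -1, 0, 0, 0, 0], ![0, 2, 0, -1, 0, 0, 0], ![-1, 0, 2, -1, 0, 0, 0], ![0, -1, -1, 2, -1, 0, 0], ![0, 0, 0, -1, 2, -1, 0], ![0, 0, 0, 0, -1, 2, -1], ![0, 0, 0, 0, 0, -1, 2]] dE7 := by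
  unfold TabChk
  (refine of_decide_eq_true ?_; delta Cfsg.Agent.ChevalleyStructure.CoxeterGeomTypes.cartanOf Cfsg.Agent.H92.NE.FormOK Cfsg.Agent.H92.NE.instDecidableFormOK; rewrite [Cfsg.Agent.ChevFast.E7.cartan]; decide +kernel)

theorem tabE7 : Tab tE7 dE7 := tab_of tE7 chkE7

end Cfsg.Agent.Cam.Ex.Cb
end

private theorem dce_f4b42c69f9f3 : _root_.True := by
  try have : _root_.True := by simp only [_root_.Cfsg.Agent.Cam.Ex.Cb.uv.eq_1]
  exact _root_.True.intro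
end

-- part: Cam/Ex/Cb3
section
prune_inst 0xf5707f447de210000018059673003c26be00019200488c003ca0074607cffe62ad4320614b001d11081a8c440834046002980090404000000e000000011d058110089202c1c9a108200090000080000000000000000000000000000000041004200000000
set_option linter.all false
open scoped Cfsg.Agent.FastGrp

/-!
# The finite check, part 3: pairs and certificates (helper12)
-/

set_option autoImplicit false
set_option linter.unusedVariables false
set_option linter.unusedSectionVars false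

namespace Cfsg.Agent.Cam.Ex.Cb

open CoxeterSystem Cfsg Cfsg.Lie
open Cfsg.Agent.ChevalleyStructure.CoxeterGeom Cfsg.Agent.ChevalleyStructure.CoxeterGeomTypes
open Cfsg.Agent.Tits.Roots Cfsg.Agent.Nodes.RGDChev Cfsg.Agent.Nodes.Coroot Cfsg.Agent.Nodes.SubComb
open Cfsg.Agent.H931.KC (hr psi psi_apply psi_sr eq_psi)

variable {D : ChevalleyDatum} {l : ℕ} {M : CoxeterMatrix (Fin l)} {hp : IsType D l M}

/-- `φ = c μ` -/
def Is {l r : ℕ} (φ : Lat l →+ ZMod r) (c : ZMod r) (μ : V) : Prop :=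
  ∀ a, φ a = c * ((psi (toF l μ) a : ℤ) : ZMod r)

theorem Ex1.is {r : ℕ} {φ : Lat l →+ ZMod r} {j : Fin l} (h : Ex1 hp φ j) {μ : V} (hμ : toF l μ = sr j) :
    Is φ (φ (sr j)) μ := fun a => by rw [h.eq a, hμ, psi_sr', mul_comm]

theorem gt_mem {x : V} {n : ℕ} (h : n < x.length) : gt x n ∈ x := by
  induction x generalizing n with
  | nil => simp at h
  | cons a x ih =>
    cases n with
    | zero => exact List.mem_cons_self
    | succ n => rw [gt_succ]; exact List.mem_cons_of_mem _ (ih (by simpa using h))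

theorem Is.eq_zero {r : ℕ} {φ : Lat l →+ ZMod r} {c : ZMod r} {μ : V} (h : Is φ c μ) (hμ : μ.length = l) {m K : ℤ}
    (hm : Md r m K) (h1 : al (zr m) μ = true) : φ = 0 := by
  refine AddMonoidHom.ext fun a => ?_
  rw [h a, psi_apply]
  push_cast
  rw [Finset.sum_eq_zero, mul_zero]
  · rfl
  · intro i _
    rw [toF_apply, hm.zero (al_iff.1 h1 _ (gt_mem (by rw [hμ]; exact i.2))), mul_zero]

theorem Is.zero {r : ℕ} {φ : Lat l →+ ZMod r} {c : ZMod r} {μ : V} (h : Is φ c μ) {v : V} (hv : v.length = l)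
    {m K : ℤ} (hm : Md r m K) (h1 : zr m (dot v μ) = true) : φ (toF l v) = 0 := by
  rw [h, psi_toF hv, hm.zero h1, mul_zero]

theorem Is.ne {r : ℕ} (hr' : r.Prime) {φ : Lat l →+ ZMod r} {c : ZMod r} {μ : V} (h : Is φ c μ) (hc : c ≠ 0) {v : V}
    (hv : v.length = l) {m K : ℤ} (hm : Md r m K) (h1 : nz m K (dot v μ) = true) : φ (toF l v) ≠ 0 := by
  have := Fact.mk hr'
  rw [h, psi_toF hv]
  exact mul_ne_zero hc (hm.ne h1)

theorem Is.not_nz {r : ℕ} (hr' : r.Prime) {φ : Lat l →+ ZMod r} {c : ZMod r} {μ : V} (h : Is φ c μ) (hc : c ≠ 0)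
    {v : V} (hv : v.length = l) {m K : ℤ} (hm : Md r m K) (h1 : φ (toF l v) = 0) : (!nz m K (dot v μ)) = true := by
  cases h2 : nz m K (dot v μ)
  · rfl
  · exact absurd h1 (h.ne hr' hc hv hm h2)

/-- congruent vectors -/
def Cg {l : ℕ} (r : ℕ) (u v : Lat l) : Prop := ∃ z : Lat l, u = v + (r : ℤ) • z

theorem Cg.map {r : ℕ} {u v : Lat l} (h : Cg r u v) (φ : Lat l →+ ZMod r) : φ u = φ v := by
  obtain ⟨z, rfl⟩ := h
  rw [map_add, map_zsmul, zsmul_eq_mul, Int.cast_natCast, ZMod.natCast_self, zero_mul, add_zero]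

/-- `X` is stable under the reflections in `Ps` -/
noncomputable def orbS (l : ℕ) (m : ℤ) (Ps : List Ent) (X : List V) : Bool :=
  al (fun v => Nat.beq v.length l &&
    al (fun e => an (fun v' => al (zr m) (axpy 1 (axpy (dot v e.cv) v e.b) v')) X) Ps) X

variable {d : Dt} (hT : Tab hp d)

include hT in
theorem Tab.orb {r : ℕ} {m : ℤ} (hm : (r : ℤ) ∣ m) {S : Set (Lat l)} (hS : ∀ a ∈ S, Rt hp a) {Ps : List Ent}
    (hPs : ∀ e ∈ d.T, (toF l e.b ∈ S ∨ -toF l e.b ∈ S) → e ∈ Ps) {X : List V} (h : orbS l m Ps X = true)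
    {w : M.Group} (hw : w ∈ WW hp S) : ∀ v ∈ X, ∃ v' ∈ X, Cg r (wa hp w (toF l v)) (toF l v') := by
  refine WW_ind hp (P := fun w => ∀ v ∈ X, ∃ v' ∈ X, Cg r (wa hp w (toF l v)) (toF l v'))
    (fun v hv => ⟨v, hv, 0, by rw [wa_one, smul_zero, add_zero]⟩) (fun u j w h1 h2 v hv => ?_) hw
  obtain ⟨v1, hv1, z, hz⟩ := h2 v hv
  obtain ⟨h3, h4⟩ := Bool.and_eq_true_iff.1 (al_iff.1 h v1 hv1)
  have hl : v1.length = l := Nat.eq_of_beq_eq_true h3
  obtain ⟨e, he, h5⟩ := hT.sur _ (hS _ h1)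
  have h6 : e ∈ Ps := hPs e he (h5.imp (fun h => by rw [← h]; exact h1) fun h => by rw [← h]; exact h1)
  obtain ⟨v2, hv2, h7⟩ := an_iff.1 (al_iff.1 h4 e h6)
  have h8 : wa hp (rfl' M.toCoxeterSystem u j) (toF l v1) = toF l (axpy (dot v1 e.cv) v1 e.b) := by
    rw [wa_rfl, toF_axpy _ hl, ← psi_toF hl, ← hT.cpe e he]
    rcases h5 with h5 | h5
    · rw [h5]
    · rw [h5, cp_neg_right hp _ (hT.rt e he), neg_smul_neg]
  have hl2 : (axpy (dot v1 e.cv) v1 e.b).length = l := (length_axpy _ _ _).trans hl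
  have h9 : ∀ i : Fin l, ∃ k : ℤ, toF l (axpy (dot v1 e.cv) v1 e.b) i - toF l v2 i = r * k := by
    intro i
    have h10 := zr_iff.1 (al_iff.1 h7 _ (gt_mem (n := i) (by rw [length_axpy, hl2]; exact i.2)))
    rw [gt_axpy _ _ (by rw [hl2]; exact i.2), one_mul] at h10
    exact hm.trans h10
  choose k hk using h9
  refine ⟨v2, hv2, k + wa hp (rfl' M.toCoxeterSystem u j) z, ?_⟩
  rw [wa_mul, hz, wa_add, wa_smul, h8, smul_add, ← add_assoc]
  congr 1
  funext i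
  rw [Pi.add_apply, Pi.smul_apply, smul_eq_mul, ← hk i]
  ring

include hT in
theorem Tab.orb_neg {r : ℕ} {m : ℤ} (hm : (r : ℤ) ∣ m) {S : Set (Lat l)} (hS : ∀ a ∈ S, Rt hp a) {Ps : List Ent}
    (hPs : ∀ e ∈ d.T, (toF l e.b ∈ S ∨ -toF l e.b ∈ S) → e ∈ Ps) {X : List V} (h : orbS l m Ps X = true)
    {φ : Lat l →+ ZMod r} (hw : ∃ w ∈ WW hp S, Neg hp w φ) :
    ∀ v ∈ X, ∃ v' ∈ X, φ (toF l v') + φ (toF l v) = 0 := by
  obtain ⟨w, h1, h2⟩ := hw
  intro v hv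
  obtain ⟨v', hv', h3⟩ := hT.orb hm hS hPs h h1 v hv
  exact ⟨v', hv', by rw [← h3.map φ, h2, neg_add_cancel]⟩

/-- the orbit certificate -/
noncomputable def orbK (l : ℕ) (d : Dt) (m K : ℤ) (a b : V) (X : List V) : Bool :=
  orbS l m (fl (fun e => !nz m K (dot e.b b)) d.T) X && an (fun v => al (fun v' => nz m K (dot v' a + dot v a)) X) X

include hT in
theorem Tab.not_orbK {r : ℕ} (hr' : r.Prime) {m K : ℤ} (hm : Md r m K) {A B : Lat l →+ ZMod r} {c : ZMod r}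
    (hc : c ≠ 0) {a b : V} (hA : Is A c a) (hB : Is B c b) (hw : ∃ w ∈ WW hp (Psi hp B), Neg hp w A) {X : List V} :
    orbK l d m K a b X ≠ true := by
  have := Fact.mk hr'
  intro h
  obtain ⟨h1, h2⟩ := Bool.and_eq_true_iff.1 h
  obtain ⟨v, hv, h3⟩ := an_iff.1 h2
  obtain ⟨v', hv', h4⟩ := hT.orb_neg hm.dvd (fun a ha => ha.1) (fun e he h5 => mem_fl.2 ⟨he, hB.not_nz hr' hc
    (hT.lb e he) hm (h5.elim (fun h => h.2) fun h => by have := h.2; rwa [map_neg, neg_eq_zero] at this)⟩) h1 hw v hv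
  have hl : ∀ v ∈ X, v.length = l := fun v hv => Nat.eq_of_beq_eq_true (Bool.and_eq_true_iff.1 (al_iff.1 h1 v hv)).1
  rw [hA, hA, psi_toF (hl v hv), psi_toF (hl v' hv'), ← mul_add] at h4
  refine hm.ne (al_iff.1 h3 v' hv') ?_
  push_cast
  exact (mul_eq_zero.1 h4).resolve_left hc

/-- `μ + λ` -/
noncomputable def pl (μ lam : V) : V := axpy (-1) μ lam

/-- `μ - λ` -/
noncomputable def mi (μ lam : V) : V := axpy 1 μ lam

/-- the elimination of a pair -/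
noncomputable def killc (l : ℕ) (d : Dt) (m K : ℤ) (μ : V) (nx : ℕ) (G : List V) (CT : List (V × Bool × List V))
    (lam : V) : Bool :=
  al (zr m) (pl μ lam) || (al (zr m) (mi μ lam) || (an (fun g => nz m K (dot g (pl μ lam))) G ||
    (Nat.blt nx (cnt (fun e => zr m (dot e.b (pl μ lam))) d.T) ||
    (an (fun c => al (fun e => far d e c) (fl (fun e => !nz m K (dot e.b (pl μ lam))) d.T)) d.T ||
    an (fun t => leq t.1 lam && cond t.2.1 (orbK l d m K (pl μ lam) (mi μ lam) t.2.2)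
      (orbK l d m K (mi μ lam) (pl μ lam) t.2.2)) CT))))

include hT in
theorem Tab.not_kill {p q r : ℕ} {g : Lat l ≃+ Lat l} {A B : Lat l →+ ZMod r} (C : Cm hp p q r g A B) {m K : ℤ}
    (hm : Md r m K) {μ lam : V} (hμ : μ.length = l) {c : ZMod r} (hc : c ≠ 0) (hA : Is A c (pl μ lam))
    (hB : Is B c (mi μ lam)) {nx : ℕ} (hn : (Psi hp (A + B)).ncard ≤ 2 * nx) {G : List V}
    (hG : ∀ v ∈ G, v.length = l ∧ A (toF l v) = 0) {CT : List (V × Bool × List V)} :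
    killc l d m K μ nx G CT lam ≠ true := by
  intro h
  rcases Bool.or_eq_true_iff.1 h with h | h
  · exact C.a0 (hA.eq_zero ((length_axpy _ _ _).trans hμ) hm h)
  rcases Bool.or_eq_true_iff.1 h with h | h
  · exact C.b0 (hB.eq_zero ((length_axpy _ _ _).trans hμ) hm h)
  rcases Bool.or_eq_true_iff.1 h with h | h
  · obtain ⟨v, hv, h1⟩ := an_iff.1 h
    exact hA.ne C.prime hc (hG v hv).1 hm h1 (hG v hv).2
  rcases Bool.or_eq_true_iff.1 h with h | h
  · have h1 := hT.le_ncard A (P := fun e => zr m (dot e.b (pl μ lam))) fun e he h2 => hA.zero (hT.lb e he) hm h2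
    have h2 := C.max
    rw [Nat.blt_eq] at h
    omega
  rcases Bool.or_eq_true_iff.1 h with h | h
  · obtain ⟨c', hc', h1⟩ := an_iff.1 h
    exact hT.not_K1 hc' (fun e he h2 => al_iff.1 h1 e (mem_fl.2 ⟨he, hA.not_nz C.prime hc (hT.lb e he) hm h2⟩)) p C.k1a
  · obtain ⟨t, -, h1⟩ := an_iff.1 h
    have h2 := (Bool.and_eq_true_iff.1 h1).2
    cases h3 : t.2.1
    · rw [h3, cond_false] at h2
      exact hT.not_orbK C.prime hm hc hB hA C.k2a h2
    · rw [h3, cond_true] at h2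
      exact hT.not_orbK C.prime hm hc hA hB C.k2b h2

/-! ### the double cosets -/

/-- negative integers -/
def isNeg (a : ℤ) : Bool := Int.casesOn (motive := fun _ => Bool) a (fun _ => false) (fun _ => true)

/-- one step of the reduction to a dominant functional -/
noncomputable def step (C : List V) (J : List ℕ) (v : V) (k : V → V) : V :=
  List.rec (motive := fun _ => V) v (fun j _ ih => cond (isNeg (gt v j)) (k (fs C j v)) ih) J

/-- the reduction to a dominant functional -/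
noncomputable def dom (C : List V) (J : List ℕ) (n : ℕ) : V → V :=
  Nat.rec (motive := fun _ => V → V) (fun v => v) (fun _ ih v => step C J v ih) n

theorem step_spec (C : List V) (J : List ℕ) (v : V) (k : V → V) :
    step C J v k = v ∨ ∃ j ∈ J, step C J v k = k (fs C j v) := by
  induction J with
  | nil => exact Or.inl rfl
  | cons j J ih =>
    have e : step C (j :: J) v k = cond (isNeg (gt v j)) (k (fs C j v)) (step C J v k) := rfl
    rw [e]
    cases isNeg (gt v j)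
    · exact ih.imp id fun ⟨j', h1, h2⟩ => ⟨j', List.mem_cons_of_mem _ h1, h2⟩
    · exact Or.inr ⟨j, List.mem_cons_self, rfl⟩

variable (hp) in
/-- `u` fixes the coordinates in the support of `κ` -/
def St (κ : V) (u : M.Group) : Prop := ∀ a, ∀ k : Fin l, gt κ k ≠ 0 → wa hp u a k = a k

theorem St.one (κ : V) : St hp κ 1 := fun a k _ => by rw [wa_one]

theorem St.mul {κ : V} {u v : M.Group} (hu : St hp κ u) (hv : St hp κ v) : St hp κ (u * v) := fun a k hk => by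
  rw [wa_mul, hu _ k hk, hv _ k hk]

theorem St.inv {κ : V} {u : M.Group} (hu : St hp κ u) : St hp κ u⁻¹ := fun a k hk => by
  have := hu (wa hp u⁻¹ a) k hk
  rw [wa_inv'] at this
  exact this.symm

theorem St.simple {κ : V} {j : Fin l} (hj : gt κ j = 0) : St hp κ (M.toCoxeterSystem.simple j) := fun a k hk => by
  have h : k ≠ j := fun h => hk (by rw [h]; exact hj)
  rw [wa_simple, Pi.sub_apply, Pi.smul_apply, sr_ne h, smul_zero, sub_zero]

theorem St.sI {κ : V} {j : ℕ} (hj : gt κ j = 0) : St hp κ (sI M j) := by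
  unfold Cb.sI
  by_cases h : j < l
  · rw [dif_pos h]; exact St.simple (j := ⟨j, h⟩) hj
  · rw [dif_neg h]; exact St.one κ

theorem St.psi {κ : V} {u : M.Group} (hu : St hp κ u) {μ : V} (hμ : ∀ k : Fin l, gt κ k = 0 → gt μ k = 0) (a : Lat l) :
    psi (toF l μ) (wa hp u a) = psi (toF l μ) a := by
  rw [psi_apply, psi_apply]
  refine Finset.sum_congr rfl fun k _ => ?_
  by_cases h : gt κ k = 0
  · rw [toF_apply, hμ k h, mul_zero, mul_zero]
  · rw [hu a k h]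

include hT in
theorem Tab.dom_spec {κ : V} {J : List ℕ} (hJ : ∀ j ∈ J, gt κ j = 0) (n : ℕ) {v : V} (hv : v.length = l) :
    ∃ u, St hp κ u ∧ ∀ a, psi (toF l (dom d.C J n v)) a = psi (toF l v) (wa hp u a) := by
  induction n generalizing v with
  | zero => exact ⟨1, St.one κ, fun a => by rw [wa_one]; rfl⟩
  | succ n ih =>
    have e : dom d.C J (n + 1) v = step d.C J v (dom d.C J n) := rfl
    rw [e]
    rcases step_spec d.C J v (dom d.C J n) with h | ⟨j, hj, h⟩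
    · exact ⟨1, St.one κ, fun a => by rw [wa_one, h]⟩
    · obtain ⟨u, h1, h2⟩ := ih ((length_fs d.C j v).trans hv)
      exact ⟨sI M j * u, (St.sI (hJ j hj)).mul h1, fun a => by rw [h, h2, hT.psi_fs j hv, wa_mul]⟩

/-- the check of the list of the double cosets -/
noncomputable def pchk (l : ℕ) (d : Dt) (κ μ : V) (J : List ℕ) (L : List V) : Bool :=
  al (fun k => (ieq (gt κ k) 0 && ieq (gt μ k) 0) || ieq (gt κ k) 1) (List.range l) &&
  (al (fun j => ieq (gt κ j) 0) J && (an (leq μ) L && (al (fun v => Nat.beq v.length l) L &&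
    al (fun v => al (fun e => an (leq (dom d.C J 40 (axpy (dot e.b v) v e.cv))) L)
      (fl (fun e => ieq (dot e.b κ) 1 || ieq (dot e.b κ) (-1)) d.T)) L)))

include hT in
theorem Tab.pair {κ μ : V} {J : List ℕ} {L : List V} (h : pchk l d κ μ J L = true) :
    μ.length = l ∧ (∀ k : Fin l, gt κ k = 0 → gt μ k = 0) ∧
    ∀ w, ∃ u, St hp κ u ∧ ∃ lam ∈ L, ∀ a, psi (toF l μ) (wa hp (w * u) a) = psi (toF l lam) a := by
  obtain ⟨h1, h⟩ := Bool.and_eq_true_iff.1 h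
  obtain ⟨h2, h⟩ := Bool.and_eq_true_iff.1 h
  obtain ⟨h3, h⟩ := Bool.and_eq_true_iff.1 h
  obtain ⟨h4, h5⟩ := Bool.and_eq_true_iff.1 h
  obtain ⟨μ', hμL, h6⟩ := an_iff.1 h3
  rw [← leq_iff.1 h6] at hμL
  have hl : ∀ v ∈ L, v.length = l := fun v hv => Nat.eq_of_beq_eq_true (al_iff.1 h4 v hv)
  have hκ : ∀ k : Fin l, (gt κ k = 0 ∧ gt μ k = 0) ∨ gt κ k = 1 := by
    intro k
    rcases Bool.or_eq_true_iff.1 (al_iff.1 h1 k (List.mem_range.2 k.2)) with h7 | h7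
    · exact Or.inl ⟨ieq_iff.1 (Bool.and_eq_true_iff.1 h7).1, ieq_iff.1 (Bool.and_eq_true_iff.1 h7).2⟩
    · exact Or.inr (ieq_iff.1 h7)
  refine ⟨hl μ hμL, fun k hk => ((hκ k).resolve_right (by omega)).2, fun w => ?_⟩
  induction w using M.toCoxeterSystem.simple_induction_right with
  | one => exact ⟨1, St.one κ, μ, hμL, fun a => by rw [mul_one, wa_one]⟩
  | mul_simple_right w i ih =>
    obtain ⟨u, hu, lam, hlam, e1⟩ := ih
    rcases hκ i with h7 | h7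
    · refine ⟨M.toCoxeterSystem.simple i * u, (St.simple h7.1).mul hu, lam, hlam, fun a => ?_⟩
      rw [mul_assoc, ← mul_assoc (M.toCoxeterSystem.simple i), simple_mul_simple_self, one_mul, e1]
    · have hβ : Rt hp (wa hp u⁻¹ (sr i)) := (rt_sr hp i).act _
      have h8 : psi (toF l κ) (wa hp u⁻¹ (sr i)) = 1 := by rw [hu.inv.psi (fun k hk => hk), psi_sr, toF_apply, h7]
      obtain ⟨e, he, h9⟩ := hT.sur _ hβ
      have h10 : e ∈ fl (fun e => ieq (dot e.b κ) 1 || ieq (dot e.b κ) (-1)) d.T := by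
        refine mem_fl.2 ⟨he, Bool.or_eq_true_iff.2 ?_⟩
        rcases h9 with h9 | h9
        · left; rw [ieq_iff, ← hT.psi_b he, ← h9, h8]
        · right; rw [h9, map_neg, hT.psi_b he] at h8; rw [ieq_iff]; omega
      obtain ⟨lam', hlam', h11⟩ := an_iff.1 (al_iff.1 (al_iff.1 h5 lam hlam) e h10)
      obtain ⟨u', hu', h12⟩ := hT.dom_spec (κ := κ) (J := J) (fun j hj => ieq_iff.1 (al_iff.1 h2 j hj)) 40
        ((length_axpy (dot e.b lam) lam e.cv).trans (hl lam hlam))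
      refine ⟨u * u', hu.mul hu', lam', hlam', fun a => ?_⟩
      have e2 : w * M.toCoxeterSystem.simple i * (u * u') = w * u * (rfl' M.toCoxeterSystem u⁻¹ i * u') := by
        unfold rfl'
        group
      rw [← leq_iff.1 h11, h12, e2, wa_mul hp (w * u), e1, wa_mul, wa_rfl, toF_axpy _ (hl lam hlam), psi_sub_smul,
        map_sub, map_zsmul, smul_eq_mul, ← hT.cpe e he, ← hT.psi_b he]
      rcases h9 with h9 | h9
      · rw [h9, mul_comm]
      · rw [h9, cp_neg_right hp _ (hT.rt e he), map_neg, neg_mul_neg, mul_comm]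

include hT in
/-- **The normal form of a pair.** -/
theorem Tab.pair_nf {κ μ : V} {J : List ℕ} {L : List V} (h : pchk l d κ μ J L = true) {p q r : ℕ}
    {g : Lat l ≃+ Lat l} {A B : Lat l →+ ZMod r} (C : Cm hp p q r g A B) {c : ZMod r} (hx : Is (A + B) c μ) :
    ∃ u, cw hp A u + cw hp B u = A + B ∧ ∃ lam ∈ L, ∃ c' : ZMod r, c' ≠ 0 ∧ Is (cw hp A u) c' (pl μ lam) ∧
      Is (cw hp B u) c' (mi μ lam) := by
  have := Fact.mk C.prime
  obtain ⟨h1, h2, h3⟩ := hT.pair h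
  obtain ⟨w, hw⟩ := C.exists_sub
  obtain ⟨u, hu, lam, hlam, h4⟩ := h3 w
  have h5 : ∀ a, A (wa hp u a) + B (wa hp u a) = c * ((psi (toF l μ) a : ℤ) : ZMod r) := fun a => by
    rw [← AddMonoidHom.add_apply, hx, hu.psi h2]
  have h6 : ∀ a, A (wa hp u a) - B (wa hp u a) = c * ((psi (toF l lam) a : ℤ) : ZMod r) := fun a => by
    rw [← hw, hx, ← wa_mul, h4]
  have h7 : (2 : ZMod r) ≠ 0 := by exact_mod_cast un6 C.prime C.five (n := 2) (by norm_num)
  have h8 : c ≠ 0 := by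
    rintro rfl
    exact C.x0 (AddMonoidHom.ext fun a => by rw [hx, zero_mul]; rfl)
  refine ⟨u, AddMonoidHom.ext fun a => ?_, lam, hlam, c / 2, div_ne_zero h8 h7, fun a => ?_, fun a => ?_⟩
  · rw [AddMonoidHom.add_apply, cw_apply, cw_apply, h5, hx]
  · rw [cw_apply, pl, toF_axpy _ h1, psi_sub_smul]
    push_cast
    field_simp
    linear_combination h5 a + h6 a
  · rw [cw_apply, mi, toF_axpy _ h1, psi_sub_smul]
    push_cast
    field_simp
    linear_combination h5 a - h6 a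

/-- all pairs are eliminated or belong to `SV` -/
noncomputable def kchk (l : ℕ) (d : Dt) (m K : ℤ) (κ μ : V) (G : List V) (CT : List (V × Bool × List V))
    (L SV : List V) : Bool :=
  al (fun lam => an (leq lam) SV || killc l d m K μ (cnt (fun e => ieq (dot e.b κ) 0) d.T) G CT lam) L

include hT in
/-- **The survivors.** -/
theorem Tab.surv {κ μ : V} {J : List ℕ} {L : List V} (h : pchk l d κ μ J L = true) {m K : ℤ} {G : List V}
    {CT : List (V × Bool × List V)} {SV : List V} (hk : kchk l d m K κ μ G CT L SV = true) {p q r : ℕ}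
    (hm : Md r m K) {g : Lat l ≃+ Lat l} {A B : Lat l →+ ZMod r} (C : Cm hp p q r g A B) (hκ : Exa hp (A + B) κ)
    {c : ZMod r} (hx : Is (A + B) c μ)
    (hG : ∀ u, cw hp A u + cw hp B u = A + B → ∀ v ∈ G, v.length = l ∧ cw hp A u (toF l v) = 0) :
    ∃ u, cw hp A u + cw hp B u = A + B ∧ ∃ lam ∈ SV, ∃ c' : ZMod r, c' ≠ 0 ∧ Is (cw hp A u) c' (pl μ lam) ∧
      Is (cw hp B u) c' (mi μ lam) := by
  obtain ⟨u, hu, lam, hlam, c', hc', hA, hB⟩ := hT.pair_nf h C hx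
  refine ⟨u, hu, lam, ?_, c', hc', hA, hB⟩
  rcases Bool.or_eq_true_iff.1 (al_iff.1 hk lam hlam) with h1 | h1
  · obtain ⟨v, hv, h2⟩ := an_iff.1 h1
    rw [leq_iff.1 h2]
    exact hv
  · exact absurd h1 (hT.not_kill (C.act u) hm (hT.pair h).1 hc' hA hB (by rw [hu, hT.ncard_ex hκ]) (hG u hu))

end Cfsg.Agent.Cam.Ex.Cb

private theorem dce_87c029babd58 : _root_.True := by
  try have : _root_.True := by simp only [_root_.Cfsg.Agent.Cam.Ex.wa.congr_simp]
  try have : _root_.True := by simp only [_root_.Cfsg.Agent.Cam.Ex.Cb.pl.eq_1]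
  try have : _root_.True := by simp only [_root_.Cfsg.Agent.Cam.Ex.Cb.mi.eq_1]
  exact _root_.True.intro
end

-- part: Cam/Ex/Cb4
section
prune_inst 0xf5706f407de210000018059633001b243c000090000004003ca00446014fde20ad4328414b201d03083a80002804042002980080404000000e0000000005050110081000c1c90008000090800082000000000000000000000000000000041004200000000
set_option linter.all false
open scoped Cfsg.Agent.FastGrp

/-!
# The finite check, part 4: eigenvalues and the final configurations (helper12)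
-/

set_option autoImplicit false
set_option linter.unusedVariables false
set_option linter.unusedSectionVars false

namespace Cfsg.Agent.Cam.Ex.Cb

open CoxeterSystem Cfsg Cfsg.Lie
open Cfsg.Agent.ChevalleyStructure.CoxeterGeom Cfsg.Agent.ChevalleyStructure.CoxeterGeomTypes
open Cfsg.Agent.Tits.Roots Cfsg.Agent.Nodes.RGDChev Cfsg.Agent.Nodes.Coroot Cfsg.Agent.Nodes.SubComb
open Cfsg.Agent.H931.KC (hr psi psi_apply psi_sr eq_psi)

variable {D : ChevalleyDatum} {l : ℕ} {M : CoxeterMatrix (Fin l)} {hp : IsType D l M} {d : Dt} (hT : Tab hp d)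

/-- reduction of an integral functional -/
noncomputable def red (n : ℕ) (μ : Lat l) : Lat l →+ ZMod n := (Int.castAddHom (ZMod n)).comp (psi μ)

theorem red_apply (n : ℕ) (μ a : Lat l) : red n μ a = ((psi μ a : ℤ) : ZMod n) := rfl

theorem cg_wa (hp : IsType D l M) {n : ℕ} {z : Lat l} (hz : ∀ j, (n : ℤ) ∣ psi (cartanOf D l j) z) (w : M.Group) :
    Cg n (wa hp w z) z := by
  induction w using M.toCoxeterSystem.simple_induction_right with
  | one => exact ⟨0, by rw [wa_one, smul_zero, add_zero]⟩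
  | mul_simple_right w i ih =>
    obtain ⟨y, hy⟩ := ih
    obtain ⟨k, hk⟩ := hz i
    refine ⟨y - k • wa hp w (sr i), ?_⟩
    rw [wa_mul, wa_simple, wa_sub, wa_smul, hy, hk, smul_sub, smul_smul, add_sub_assoc]

theorem cp_sr (hp : IsType D l M) (a : Lat l) (j : Fin l) : cp hp a (sr j) = psi (cartanOf D l j) a := by
  have := finite_W hp M.toCoxeterSystem
  show cpr _ _ _ _ = _
  rw [cpr_sr, psi_apply]
  exact Finset.sum_congr rfl fun i _ => mul_comm _ _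

/-- `K3` after a change of the frame -/
theorem Cm.k3u (hc : BoxConn) (hl : l ≤ 7) {p q r : ℕ} {g : Lat l ≃+ Lat l} {A B : Lat l →+ ZMod r}
    (C : Cm hp p q r g A B) {c : Lat l} (h1 : A1c hp (Psi hp (A + B)) c) {w0 : M.Group} (hn : Neg hp w0 (A + B))
    (hw : wa hp w0 c = c ∨ wa hp w0 c = -c) (hq : 4 ≤ q) {u : M.Group} (hu : cw hp A u + cw hp B u = A + B) :
    cw hp A u c = 0 :=
  (C.act u).k3' hc hl (by rw [hu]; exact h1) (by rw [hu]; exact hn) hw (Or.inl hq)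

theorem neg_of_word {K : Type} [AddCommGroup K] {w : M.Group} (hw : ∀ a, wa hp w a = -a) (φ : Lat l →+ K) :
    Neg hp w φ := fun a => by rw [hw, map_neg]

include hT in
theorem Tab.not_K1_two {K : Type} [AddCommGroup K] {φ : Lat l →+ K} {κ : V} (hx : Exa hp φ κ) {c : Ent} (hc : c ∈ d.T)
    (h : al (fun e => !ieq (dot e.b κ) 0 || ieq (dot e.b c.cv) 0) d.T = true) : ¬ K1 hp 2 (Psi hp φ) := by
  intro h1
  refine h1 _ (hT.rt c hc) fun a ha => ⟨?_, Or.inl rfl⟩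
  refine hT.of_T (P := fun a => psi (toF l κ) a = 0 → cp hp a (toF l c.b) = 0) (fun a h3 h4 => ?_)
    (fun e he h3 => ?_) a ha.1 ((hx a ha.1).1 ha.2)
  · rw [map_neg, neg_eq_zero] at h4
    rw [cp_neg hp _ (hT.rt c hc), h3 h4, neg_zero]
  · rw [hT.psi_b he] at h3
    have h4 := al_iff.1 h e he
    rw [ieq_iff.2 h3, Bool.not_true, Bool.false_or] at h4
    rw [hT.cp_b he hc, ieq_iff.1 h4]

/-! ### corank two -/

/-- the classification of the candidates -/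
noncomputable def chk2 (d : Dt) (i j : ℕ) (RR : List (ℤ × ℤ)) (X : ℤ × ℤ → ℤ × ℤ → Bool) : Bool :=
  al (fun p => al (fun q => !cand d i j RR p q || (decide (p = (1, 0) ∧ q = (0, 1)) ||
    (decide (p = (-1, 0) ∧ q = (0, -1)) || (clsB RR p q || X p q)))) RR) RR

include hT in
theorem Tab.cls2 {i j : Fin l} {RR : List (ℤ × ℤ)} (R : RROK hp i j RR) {X : ℤ × ℤ → ℤ × ℤ → Bool}
    (hc : chk2 d i j RR X = true) {r : ℕ} (hr' : r.Prime) (h5 : 5 ≤ r) {φ : Lat l →+ ZMod r} (hx : Ex2 hp φ i j)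
    (h : Lat l ≃+ Lat l) (hr : ∀ a, Rt hp (h a) ↔ Rt hp a) {e : ZMod r} (he : ∀ a, φ (h a) = e * φ a) :
    ((e = 1 ∨ e = -1) ∧ ∀ a, (h a j : ZMod r) = e * a j) ∨ ∃ p q, X p q = true ∧ Mx h i j p q ∧
      e ^ 2 - ((p.1 + q.2 : ℤ) : ZMod r) * e + ((p.1 * q.2 - p.2 * q.1 : ℤ) : ZMod r) = 0 := by
  have := Fact.mk hr'
  obtain ⟨p, hp', q, hq, h1, h2, h3, h4⟩ := hT.res2 R hx h hr he
  have h6 := al_iff.1 (al_iff.1 hc p hp') q hq
  rw [h1, Bool.not_true, Bool.false_or] at h6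
  rcases Bool.or_eq_true_iff.1 h6 with h6 | h6
  · obtain ⟨rfl, rfl⟩ := decide_eq_true_iff.1 h6
    have h7 : e = 1 := by
      refine mul_right_cancel₀ hx.ne1 ?_
      rw [← h3]; push_cast; ring
    exact Or.inl ⟨Or.inl h7, fun a => by rw [(h2 a).2, h7]; push_cast; ring⟩
  rcases Bool.or_eq_true_iff.1 h6 with h6 | h6
  · obtain ⟨rfl, rfl⟩ := decide_eq_true_iff.1 h6
    have h7 : e = -1 := by
      refine mul_right_cancel₀ hx.ne1 ?_
      rw [← h3]; push_cast; ring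
    exact Or.inl ⟨Or.inr h7, fun a => by rw [(h2 a).2, h7]; push_cast; ring⟩
  rcases Bool.or_eq_true_iff.1 h6 with h6 | h6
  · exact absurd h6 (R.not_clsB hr' h5 hx h3 h4)
  · exact Or.inr ⟨p, q, h6, h2, by push_cast; exact charpoly hx.ne1 h3 h4⟩

include hT in
/-- `K5` -/
theorem Tab.not_scalar {p q r : ℕ} {g : Lat l ≃+ Lat l} {A B : Lat l →+ ZMod r} (C : Cm hp p q r g A B) {κ : V}
    (hκ : Exa hp (A + B) κ) {i j : Fin l} (hx : Ex2 hp (A + B) i j) {w0 : M.Group} (hw : ∀ a, wa hp w0 a = -a)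
    (hc : Nat.blt (cnt (fun e => ieq (dot e.b κ) 0) d.T) (cnt (fun e => ieq (gt e.b j) 0) d.T) = true)
    (h : ∀ a, (g a j : ZMod r) = (q : ZMod r) * a j) : False := by
  have := Fact.mk C.prime
  have h1 := C.k5 (red r (sr j)) (fun h2 => ?_) (fun a ha => ⟨ha.1, ?_⟩) (fun a => ?_)
    ⟨w0, neg_of_word hw _, neg_of_word hw _⟩
  · have h2 := hT.le_ncard (red r (sr j)) (P := fun e => ieq (gt e.b j) 0) fun e he h3 => by
      rw [red_apply, psi_sr', toF_apply, ieq_iff.1 h3, Int.cast_zero]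
    rw [hT.ncard_ex hκ] at h1
    rw [Nat.blt_eq] at hc
    omega
  · have h3 := DFunLike.congr_fun h2 (sr j)
    rw [red_apply, psi_sr', sr_self, Int.cast_one] at h3
    exact one_ne_zero h3
  · rw [red_apply, psi_sr', ((hx a ha.1).1 ha.2).2, Int.cast_zero]
  · rw [red_apply, red_apply, psi_sr', psi_sr', h]

/-- `γ` is moved -/
noncomputable def movchk (d : Dt) (i j : ℕ) (p q : ℤ × ℤ) (c : Ent) : Bool :=
  an (fun b => !ieq (dot b.b c.cv) 0 && al (fun e => ieq (dot e.b c.cv) 0 ||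
    !((ieq (gt e.b i) (gt b.b i * p.1 + gt b.b j * q.1) && ieq (gt e.b j) (gt b.b i * p.2 + gt b.b j * q.2)) ||
      (ieq (-gt e.b i) (gt b.b i * p.1 + gt b.b j * q.1) && ieq (-gt e.b j) (gt b.b i * p.2 + gt b.b j * q.2)))) d.T) d.T

include hT in
theorem Tab.moved {i j : Fin l} {p q : ℤ × ℤ} {c : Ent} (hc : c ∈ d.T) (h : movchk d i j p q c = true)
    {g : Lat l ≃+ Lat l} (hr : ∀ a, Rt hp (g a) ↔ Rt hp a) (hcp : ∀ a c, Rt hp c → cp hp (g a) (g c) = cp hp a c)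
    (hM : Mx g i j p q) : g (toF l c.b) ≠ toF l c.b ∧ g (toF l c.b) ≠ -toF l c.b := by
  obtain ⟨b, hb, h1⟩ := an_iff.1 h
  obtain ⟨h2, h3⟩ := Bool.and_eq_true_iff.1 h1
  have h4 : cp hp (g (toF l b.b)) (g (toF l c.b)) ≠ 0 := by
    rw [hcp _ _ (hT.rt c hc), hT.cp_b hb hc]
    intro h5
    rw [ieq_iff.2 h5] at h2
    exact Bool.false_ne_true h2
  have h5 : cp hp (g (toF l b.b)) (toF l c.b) = 0 := by
    obtain ⟨e, he, h6⟩ := hT.sur _ ((hr _).2 (hT.rt b hb))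
    obtain ⟨h7, h8⟩ := hM (toF l b.b)
    have h9 : dot e.b c.cv = 0 := by
      rcases Bool.or_eq_true_iff.1 (al_iff.1 h3 e he) with h10 | h10
      · exact ieq_iff.1 h10
      · exfalso
        rcases h6 with h6 | h6
        · rw [h6] at h7 h8
          rw [show ieq (gt e.b i) (gt b.b i * p.1 + gt b.b j * q.1) = true from ieq_iff.2 h7,
            show ieq (gt e.b j) (gt b.b i * p.2 + gt b.b j * q.2) = true from ieq_iff.2 h8] at h10
          exact Bool.false_ne_true h10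
        · rw [h6] at h7 h8
          rw [show ieq (-gt e.b i) (gt b.b i * p.1 + gt b.b j * q.1) = true from ieq_iff.2 h7,
            show ieq (-gt e.b j) (gt b.b i * p.2 + gt b.b j * q.2) = true from ieq_iff.2 h8, Bool.and_self,
            Bool.or_true] at h10
          exact Bool.false_ne_true h10
    rcases h6 with h6 | h6
    · rw [h6, hT.cp_b he hc, h9]
    · rw [h6, cp_neg hp _ (hT.rt c hc), hT.cp_b he hc, h9, neg_zero]
  constructor
  · intro h6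
    rw [h6] at h4
    exact h4 h5
  · intro h6
    rw [h6, cp_neg_right hp _ (hT.rt c hc), h5, neg_zero] at h4
    exact h4 rfl

/-- the candidates for a real element -/
noncomputable def chkW (d : Dt) (i j : ℕ) (RR : List (ℤ × ℤ)) (z : V) (Mu : List (ℤ × ℤ)) : Bool :=
  al (fun p => al (fun q => !cand d i j RR p q ||
    (!(zr 3 (gt z i * p.1 + gt z j * q.1 - gt z i) && zr 3 (gt z i * p.2 + gt z j * q.2 - gt z j)) ||
    (rowK RR (p.1 + 1) p.2 || (rowK RR q.1 (q.2 + 1) ||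
    an (fun μ => an (fun N => (ieq (p.1 + 1) (N * μ.2) && ieq p.2 (-N * μ.1)) ||
      (ieq q.1 (N * μ.2) && ieq (q.2 + 1) (-N * μ.1))) [1, -1]) Mu)))) RR) RR

include hT in
theorem Tab.clsW {i j : Fin l} {RR : List (ℤ × ℤ)} (R : RROK hp i j RR) {z : V} {Mu : List (ℤ × ℤ)}
    (hc : chkW d i j RR z Mu = true) (hz : ∀ k, (3 : ℤ) ∣ psi (cartanOf D l k) (toF l z)) {r : ℕ} (hr' : r.Prime)
    (h5 : 5 ≤ r) {φ : Lat l →+ ZMod r} (hx : Ex2 hp φ i j) (hw : ∃ w, Neg hp w φ) :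
    ∃ μ ∈ Mu, (μ.2 : ZMod r) * φ (sr i) = μ.1 * φ (sr j) := by
  have := Fact.mk hr'
  obtain ⟨w, hw⟩ := hw
  obtain ⟨p, hp', q, hq, h1, h2, h3, h4⟩ := hT.res2 R hx (BpExc.Fr.repAut M.toCoxeterSystem hp.isCartan w)
    (rt_wa hp w) (e := -1) fun a => by rw [neg_one_mul]; exact hw a
  have h6 := al_iff.1 (al_iff.1 hc p hp') q hq
  obtain ⟨y, hy⟩ := cg_wa hp (n := 3) hz w
  have h7 : zr 3 (gt z i * p.1 + gt z j * q.1 - gt z i) = true := by
    have h8 : wa hp w (toF l z) i = _ := (h2 (toF l z)).1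
    rw [hy, Pi.add_apply, Pi.smul_apply, smul_eq_mul] at h8
    exact zr_iff.2 ⟨y i, by simp only [toF_apply] at h8; push_cast at h8; linear_combination -h8⟩
  have h8 : zr 3 (gt z i * p.2 + gt z j * q.2 - gt z j) = true := by
    have h8 : wa hp w (toF l z) j = _ := (h2 (toF l z)).2
    rw [hy, Pi.add_apply, Pi.smul_apply, smul_eq_mul] at h8
    exact zr_iff.2 ⟨y j, by simp only [toF_apply] at h8; push_cast at h8; linear_combination -h8⟩
  rw [h1, h7, h8, Bool.not_true, Bool.false_or, Bool.and_self, Bool.not_true, Bool.false_or] at h6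
  rcases Bool.or_eq_true_iff.1 h6 with h6 | h6
  · exact absurd (by push_cast; linear_combination h3) (R.row_ne hr' h5 hx h6)
  rcases Bool.or_eq_true_iff.1 h6 with h6 | h6
  · exact absurd (by push_cast; linear_combination h4) (R.row_ne hr' h5 hx h6)
  obtain ⟨μ, hμ, h9⟩ := an_iff.1 h6
  obtain ⟨N, hN, h10⟩ := an_iff.1 h9
  have hN' : (N : ZMod r) * N = 1 := by
    simp only [List.mem_cons, List.not_mem_nil, or_false] at hN
    rcases hN with rfl | rfl <;> push_cast <;> ring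
  refine ⟨μ, hμ, ?_⟩
  rcases Bool.or_eq_true_iff.1 h10 with h11 | h11
  · obtain ⟨h12, h13⟩ := Bool.and_eq_true_iff.1 h11
    have h14 := congrArg (Int.cast : ℤ → ZMod r) (ieq_iff.1 h12)
    have h15 := congrArg (Int.cast : ℤ → ZMod r) (ieq_iff.1 h13)
    push_cast at h14 h15
    linear_combination N * h3 - N * φ (sr i) * h14 - N * φ (sr j) * h15 -
      (μ.2 * φ (sr i) - μ.1 * φ (sr j)) * hN'
  · obtain ⟨h12, h13⟩ := Bool.and_eq_true_iff.1 h11
    have h14 := congrArg (Int.cast : ℤ → ZMod r) (ieq_iff.1 h12)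
    have h15 := congrArg (Int.cast : ℤ → ZMod r) (ieq_iff.1 h13)
    push_cast at h14 h15
    linear_combination N * h4 - N * φ (sr i) * h14 - N * φ (sr j) * h15 -
      (μ.2 * φ (sr i) - μ.1 * φ (sr j)) * hN'

theorem Ex2.is {r : ℕ} (hr' : r.Prime) (h5 : 5 ≤ r) {φ : Lat l →+ ZMod r} {i j : Fin l} (hij : i ≠ j)
    (h : Ex2 hp φ i j) {s t : ℤ} (hs : s ∣ 46656) (e : (t : ZMod r) * φ (sr i) = s * φ (sr j)) {μ : V}
    (hμ : toF l μ = s • sr i + t • sr j) : ∃ c, Is φ c μ := by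
  have := Fact.mk hr'
  have h1 := un6 hr' h5 hs
  refine ⟨φ (sr i) / s, fun a => ?_⟩
  have h2 : ∀ (c : ℤ) (x : Lat l), psi (c • x) a = c * psi x a := fun c x => by
    have := psi_sub_smul 0 x a (-c)
    rw [neg_smul, sub_neg_eq_add, zero_add, psi_apply 0] at this
    rw [this]
    simp
  rw [h.eq hij a, hμ, psi_add, h2, h2, psi_sr', psi_sr']
  push_cast
  field_simp
  linear_combination (-(a j : ZMod r)) * e

/-- the candidates with the eigenvector `μ` -/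
noncomputable def chkG (d : Dt) (i j : ℕ) (RR : List (ℤ × ℤ)) (s t : ℤ) : Bool :=
  zr s 46656 && al (fun p => al (fun q => !cand d i j RR p q ||
    (ieq (p.1 * s + p.2 * t) s || (ieq (p.1 * s + p.2 * t) (-s) ||
      zr ((p.1 * s + p.2 * t) * t - (q.1 * s + q.2 * t) * s) 46656))) RR) RR

include hT in
theorem Tab.clsG {i j : Fin l} {RR : List (ℤ × ℤ)} (R : RROK hp i j RR) {s t : ℤ} (hc : chkG d i j RR s t = true)
    {r : ℕ} (hr' : r.Prime) (h5 : 5 ≤ r) {φ : Lat l →+ ZMod r} (hx : Ex2 hp φ i j)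
    (e1 : (t : ZMod r) * φ (sr i) = s * φ (sr j)) (h : Lat l ≃+ Lat l) (hr : ∀ a, Rt hp (h a) ↔ Rt hp a) {e : ZMod r}
    (he : ∀ a, φ (h a) = e * φ a) : e = 1 ∨ e = -1 := by
  have := Fact.mk hr'
  obtain ⟨p, hp', q, hq, h1, h2, h3, h4⟩ := hT.res2 R hx h hr he
  obtain ⟨hs, hc⟩ := Bool.and_eq_true_iff.1 hc
  have hs' := un6 hr' h5 (zr_iff.1 hs)
  have h6 := al_iff.1 (al_iff.1 hc p hp') q hq
  rw [h1, Bool.not_true, Bool.false_or] at h6
  have h7 : (p.1 : ZMod r) * s + p.2 * t = e * s := by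
    refine mul_right_cancel₀ hx.ne1 ?_
    linear_combination s * h3 + p.2 * e1
  have h8 : (q.1 : ZMod r) * s + q.2 * t = e * t := by
    refine mul_right_cancel₀ hx.ne1 ?_
    linear_combination s * h4 + (q.2 - e) * e1
  rcases Bool.or_eq_true_iff.1 h6 with h6 | h6
  · have h9 := congrArg (Int.cast : ℤ → ZMod r) (ieq_iff.1 h6)
    push_cast at h9
    exact Or.inl (mul_right_cancel₀ hs' (by linear_combination h9 - h7))
  rcases Bool.or_eq_true_iff.1 h6 with h6 | h6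
  · have h9 := congrArg (Int.cast : ℤ → ZMod r) (ieq_iff.1 h6)
    push_cast at h9
    exact Or.inr (mul_right_cancel₀ hs' (by linear_combination h9 - h7))
  · exact absurd (by push_cast; linear_combination t * h7 - s * h8) (un6 hr' h5 (zr_iff.1 h6))

/-! ### linear algebra -/

/-- subtraction of a linear combination -/
noncomputable def comb (Bs : List V) : V → V → V :=
  List.rec (motive := fun _ => V → V → V) (fun _ acc => acc)
    (fun b _ ih cs acc => List.casesOn (motive := fun _ => V) cs acc (fun c cs' => ih cs' (axpy c acc b))) Bs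

theorem map_comb {K : Type} [AddCommGroup K] {φ : Lat l →+ K} {Bs : List V} (h : ∀ b ∈ Bs, φ (toF l b) = 0) (cs : V)
    {acc : V} (ha : acc.length = l) : φ (toF l (comb Bs cs acc)) = φ (toF l acc) := by
  induction Bs generalizing cs acc with
  | nil => rfl
  | cons b Bs ih =>
    cases cs with
    | nil => rfl
    | cons c cs =>
      show φ (toF l (comb Bs cs (axpy c acc b))) = _
      rw [ih (fun b hb => h b (List.mem_cons_of_mem _ hb)) cs ((length_axpy _ _ _).trans ha), toF_axpy _ ha, map_sub,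
        map_zsmul, h b List.mem_cons_self, smul_zero, sub_zero]

/-- `N (e_i - ν_i v)` lies in the span of `Bs` -/
noncomputable def rkchk (l : ℕ) (Bs : List V) (ν v : V) (N : ℤ) (Cf : List V) : Bool :=
  zr N 46656 && al (fun i => leq (comb Bs (row Cf i) (axpy (N * gt ν i) (axpy (-N) (uv l l) (uv l i)) v)) (uv l l))
    (List.range l)

theorem is_of_kills {r : ℕ} (hr' : r.Prime) (h5 : 5 ≤ r) {φ : Lat l →+ ZMod r} {Bs : List V}
    (h : ∀ b ∈ Bs, φ (toF l b) = 0) {ν v : V} {N : ℤ} {Cf : List V} (hc : rkchk l Bs ν v N Cf = true) :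
    Is φ (φ (toF l v)) ν := by
  have := Fact.mk hr'
  obtain ⟨h1, h2⟩ := Bool.and_eq_true_iff.1 hc
  have hN := un6 hr' h5 (zr_iff.1 h1)
  have h3 : ∀ i : Fin l, φ (sr i) = (gt ν i : ZMod r) * φ (toF l v) := by
    intro i
    have hl : (axpy (-N) (uv l l) (uv l i)).length = l := (length_axpy _ _ _).trans (length_uv _ _)
    have h4 := map_comb h (row Cf i) ((length_axpy (N * gt ν i) _ v).trans hl)
    rw [leq_iff.1 (al_iff.1 h2 i (List.mem_range.2 i.2)), toF_uv_self, toF_axpy _ hl, toF_axpy _ (length_uv _ _),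
      toF_uv_self, toF_uv, map_zero, map_sub, map_sub, map_zero, map_zsmul, map_zsmul, zsmul_eq_mul, zsmul_eq_mul] at h4
    push_cast at h4
    refine mul_left_cancel₀ hN ?_
    linear_combination -h4
  intro a
  rw [eq_sum φ a, psi_apply]
  push_cast
  rw [Finset.mul_sum]
  exact Finset.sum_congr rfl fun i _ => by rw [h3, toF_apply]; ring

theorem Is.c_ne {r : ℕ} {φ : Lat l →+ ZMod r} {c : ZMod r} {μ : V} (h : Is φ c μ) (h0 : φ ≠ 0) : c ≠ 0 := by
  rintro rfl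
  exact h0 (AddMonoidHom.ext fun a => by rw [h, zero_mul]; rfl)

include hT in
/-- conjugates of multiples of fundamental coweights -/
theorem Tab.eig_of_is {r : ℕ} (hr' : r.Prime) (h5 : 5 ≤ r) {φ : Lat l →+ ZMod r} (h0 : φ ≠ 0) {c : ZMod r} {ν : V}
    (hν : ν.length = l) (h : Is φ c ν) {ω : List ℕ} {j : Fin l} (h1 : leq (fw d.C ω ν) (uv l j) = true)
    (h2 : al (fun e => ieq (gt e.b j) 0 || zr (gt e.b j) 46656) d.T = true) {g : Lat l ≃+ Lat l}
    (hr : ∀ a, Rt hp (g a) ↔ Rt hp a) {e : ZMod r} (he : ∀ a, φ (g a) = e * φ a) : e = 1 ∨ e = -1 := by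
  have := Fact.mk hr'
  have hc := h.c_ne h0
  have h3 : Ex1 hp (cw hp φ (wd M ω)) j := by
    refine hT.of_T (fun a h => by rw [map_neg, neg_eq_zero, Pi.neg_apply, neg_eq_zero]; exact h) fun e he => ?_
    rw [cw_apply, h, ← hT.psi_fw ω hν, leq_iff.1 h1, toF_uv, psi_sr', toF_apply, mul_eq_zero, or_iff_right hc]
    rcases Bool.or_eq_true_iff.1 (al_iff.1 h2 e he) with h4 | h4
    · rw [ieq_iff.1 h4]; simp
    · constructor
      · exact fun h6 => absurd h6 (un6 hr' h5 (zr_iff.1 h4))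
      · intro h6; rw [h6, Int.cast_zero]
  have h4 := h3.res (gw hp g (wd M ω)) (fun a => by rw [gw_apply, rt_wa, hr, rt_wa]) (e := e)
    fun a => by rw [cw_apply, cw_apply, gw_apply, wa_inv', he]
  exact h4.imp (fun h => h.1) fun h => h.1

include hT in
theorem Tab.orb_ex {r : ℕ} {A B : Lat l →+ ZMod r} {κ : V} (hA : Exa hp A κ) (hw : ∃ w ∈ WW hp (Psi hp A), Neg hp w B)
    {X : List V} (h : orbS l 0 (fl (fun e => ieq (dot e.b κ) 0) d.T) X = true) :
    ∀ v ∈ X, ∃ v' ∈ X, B (toF l v') + B (toF l v) = 0 := by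
  refine hT.orb_neg (dvd_zero _) (fun a ha => ha.1) (fun e he h1 => mem_fl.2 ⟨he, ?_⟩) h hw
  rw [ieq_iff, ← hT.psi_b he, ← hA _ (hT.rt e he)]
  rcases h1 with h1 | h1
  · exact h1.2
  · have := h1.2
    rwa [map_neg, neg_eq_zero] at this

include hT in
theorem Tab.span_ex {r : ℕ} (hr' : r.Prime) (h5 : 5 ≤ r) {A B : Lat l →+ ZMod r} {κ : V} (hA : Exa hp A κ)
    (hw : ∃ w ∈ WW hp (Psi hp A), Neg hp w B) {v : V}
    (h : orbS l 0 (fl (fun e => ieq (dot e.b κ) 0) d.T) [v] = true) : B (toF l v) = 0 := by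
  have := Fact.mk hr'
  obtain ⟨v', hv', h1⟩ := hT.orb_ex hA hw h v List.mem_cons_self
  rw [List.mem_singleton.1 hv', ← two_mul] at h1
  exact (mul_eq_zero.1 h1).resolve_left (by exact_mod_cast un6 hr' h5 (n := 2) (by norm_num))

/-! ### the final configurations -/

section fin

variable {p q r : ℕ} {g : Lat l ≃+ Lat l} {A B : Lat l →+ ZMod r} (C : Cm hp p q r g A B) {m K : ℤ} (hm : Md r m K)
  {c : ZMod r} (hc : c ≠ 0) {a b : V} (hA : Is A c a) (hB : Is B c b)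

include C in
theorem Cm.g_mem {x : Lat l} (hx : x ∈ Psi hp A ∪ Psi hp B) : g x ∈ Psi hp A ∪ Psi hp B :=
  hx.imp (fun h => ⟨(C.root x).2 h.1, by rw [C.frA, h.2, mul_zero]⟩)
    fun h => ⟨(C.root x).2 h.1, by rw [C.frB, h.2, mul_zero]⟩

include hT C hm hc hA hB in
theorem Tab.all_mem {P : Lat l → Prop} (hn : ∀ x, P x → P (-x))
    (h : ∀ e ∈ d.T, (nz m K (dot e.b a) && nz m K (dot e.b b)) = false → P (toF l e.b)) :
    ∀ x ∈ Psi hp A ∪ Psi hp B, P x := by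
  intro x hx
  refine hT.of_T (P := fun x => (A x = 0 ∨ B x = 0) → P x) (fun x h1 h2 => hn x (h1 ?_)) (fun e he h1 => h e he ?_) x
    (hx.elim (fun h => h.1) fun h => h.1) (hx.imp (fun h => h.2) fun h => h.2)
  · rwa [map_neg, map_neg, neg_eq_zero, neg_eq_zero] at h2
  · rcases h1 with h1 | h1
    · have h2 := hA.not_nz C.prime hc (hT.lb e he) hm h1
      rw [Bool.not_eq_true'] at h2
      rw [h2, Bool.false_and]
    · have h2 := hB.not_nz C.prime hc (hT.lb e he) hm h1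
      rw [Bool.not_eq_true'] at h2
      rw [h2, Bool.and_false]

include hT hm hA hB in
theorem Tab.mem_of_zr {e : Ent} (he : e ∈ d.T) (h : (zr m (dot e.b a) || zr m (dot e.b b)) = true) :
    toF l e.b ∈ Psi hp A ∪ Psi hp B :=
  (Bool.or_eq_true_iff.1 h).imp (fun h => ⟨hT.rt e he, hA.zero (hT.lb e he) hm h⟩)
    fun h => ⟨hT.rt e he, hB.zero (hT.lb e he) hm h⟩

/-- the check of an involution -/
noncomputable def endI (l : ℕ) (d : Dt) (m K : ℤ) (a b θ : V) : Bool :=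
  an (fun i => !zr 2 (gt θ i)) (List.range l) &&
  (al (fun e => (nz m K (dot e.b a) && nz m K (dot e.b b)) || zr 2 (dot e.b θ)) d.T &&
  al (fun t => an (fun e => (zr m (dot e.b a) || zr m (dot e.b b)) && !zr 2 (dot e.b t)) d.T ||
    (leq t (uv l l) || leq t θ)) (pats [0, 1] l))

include hT C hm hc hA hB in
theorem Tab.end_inv {θ : V} (h : endI l d m K a b θ = true) :
    ∃ θ : Lat l →+ ZMod 2, θ ≠ 0 ∧ (∀ x, θ (g x) = θ x) ∧ Psi hp A ∪ Psi hp B ⊆ Psi hp θ := by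
  obtain ⟨h1, h⟩ := Bool.and_eq_true_iff.1 h
  obtain ⟨h2, h3⟩ := Bool.and_eq_true_iff.1 h
  have hz : ∀ n : ℤ, (n : ZMod 2) = 0 ↔ zr 2 n = true := fun n => by
    rw [zr_iff]; exact ZMod.intCast_zmod_eq_zero_iff_dvd n 2
  have h4 : ∃ x, red 2 (toF l θ) x ≠ 0 := by
    obtain ⟨i, hi, h5⟩ := an_iff.1 h1
    refine ⟨sr ⟨i, List.mem_range.1 hi⟩, fun h6 => ?_⟩
    rw [red_apply, psi_sr, hz, toF_apply] at h6
    rw [h6] at h5
    exact Bool.false_ne_true h5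
  have h5 : ∀ x ∈ Psi hp A ∪ Psi hp B, red 2 (toF l θ) x = 0 := by
    refine hT.all_mem C hm hc hA hB (fun x h6 => by rw [map_neg, h6, neg_zero]) fun e he h6 => ?_
    have h7 := al_iff.1 h2 e he
    rw [h6, Bool.false_or] at h7
    rw [red_apply, hT.psi_b he, hz, h7]
  refine ⟨red 2 (toF l θ), fun h6 => ?_, ?_, fun x hx => ⟨hx.elim (fun h => h.1) fun h => h.1, h5 x hx⟩⟩
  · obtain ⟨x, hx⟩ := h4
    rw [h6] at hx
    exact hx rfl
  set f : Fin l → ℤ := fun i => ((red 2 (toF l θ) (g (sr i))).val : ℤ) with hf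
  have h6 : ∀ x, red 2 (toF l θ) (g x) = red 2 f x := by
    intro x
    have h7 := eq_sum ((red 2 (toF l θ)).comp g.toAddMonoidHom) x
    rw [red_apply 2 f, psi_apply]
    push_cast
    refine h7.trans (Finset.sum_congr rfl fun i _ => ?_)
    rw [hf]
    push_cast
    rw [ZMod.natCast_zmod_val]
    rfl
  have h7 : List.ofFn f ∈ pats [0, 1] l := mem_pats f fun i => by
    have := ZMod.val_lt (red 2 (toF l θ) (g (sr i)))
    simp only [hf, List.mem_cons, List.not_mem_nil, or_false]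
    omega
  rcases Bool.or_eq_true_iff.1 (al_iff.1 h3 _ h7) with h8 | h8
  · exfalso
    obtain ⟨e, he, h9⟩ := an_iff.1 h8
    obtain ⟨h10, h11⟩ := Bool.and_eq_true_iff.1 h9
    have h12 := h5 _ (C.g_mem (hT.mem_of_zr hm hA hB he h10))
    rw [h6, red_apply, ← toF_ofFn f, hT.psi_b he, hz] at h12
    rw [h12] at h11
    exact Bool.false_ne_true h11
  rcases Bool.or_eq_true_iff.1 h8 with h8 | h8
  · exfalso
    obtain ⟨x, hx⟩ := h4
    apply hx
    rw [← g.apply_symm_apply x, h6, ← toF_ofFn f, leq_iff.1 h8, toF_uv_self, red_apply, psi_apply]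
    simp
  · intro x
    rw [h6, ← toF_ofFn f, leq_iff.1 h8]

/-- the check of a root -/
noncomputable def endR (d : Dt) (m K : ℤ) (a b : V) (c : Ent) : Bool :=
  al (fun e => (nz m K (dot e.b a) && nz m K (dot e.b b)) || (leq e.b c.b || ieq (dot e.b c.cv) 0)) d.T &&
  al (fun c' => an (fun e => (zr m (dot e.b a) || zr m (dot e.b b)) &&
    !(leq e.b c'.b || ieq (dot e.b c'.cv) 0)) d.T || leq c'.b c.b) d.T

include hT C hm hc hA hB in
theorem Tab.end_root {γ : Ent} (hγ : γ ∈ d.T) (h : endR d m K a b γ = true) :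
    ∃ c, Rt hp c ∧ (g c = c ∨ g c = -c) ∧ ∀ x ∈ Psi hp A ∪ Psi hp B, x = c ∨ x = -c ∨ cp hp x c = 0 := by
  obtain ⟨h1, h2⟩ := Bool.and_eq_true_iff.1 h
  have h3 : ∀ x ∈ Psi hp A ∪ Psi hp B, x = toF l γ.b ∨ x = -toF l γ.b ∨ cp hp x (toF l γ.b) = 0 := by
    refine hT.all_mem C hm hc hA hB (fun x h4 => ?_) fun e he h4 => ?_
    · rcases h4 with h4 | h4 | h4
      · right; left; rw [h4]
      · left; rw [h4, neg_neg]
      · right; right; rw [cp_neg hp _ (hT.rt γ hγ), h4, neg_zero]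
    · have h5 := al_iff.1 h1 e he
      rw [h4, Bool.false_or] at h5
      rcases Bool.or_eq_true_iff.1 h5 with h6 | h6
      · left; rw [leq_iff.1 h6]
      · right; right; rw [hT.cp_b he hγ, ieq_iff.1 h6]
  refine ⟨_, hT.rt γ hγ, ?_, h3⟩
  have h4 : Rt hp (g.symm (toF l γ.b)) := by rw [← C.root, g.apply_symm_apply]; exact hT.rt γ hγ
  obtain ⟨c', hc', h5⟩ := hT.sur _ h4
  have h6 : g (toF l c'.b) = toF l γ.b ∨ g (toF l c'.b) = -toF l γ.b := by
    rcases h5 with h5 | h5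
    · left; rw [← h5, g.apply_symm_apply]
    · right; rw [← neg_eq_iff_eq_neg, ← map_neg, ← h5, g.apply_symm_apply]
  rcases Bool.or_eq_true_iff.1 (al_iff.1 h2 c' hc') with h7 | h7
  · exfalso
    obtain ⟨e, he, h8⟩ := an_iff.1 h7
    obtain ⟨h9, h10⟩ := Bool.and_eq_true_iff.1 h8
    have h11 : g (toF l e.b) = g (toF l c'.b) ∨ g (toF l e.b) = g (-toF l c'.b) ∨
        cp hp (g (toF l e.b)) (g (toF l c'.b)) = 0 := by
      rw [map_neg]
      rcases h6 with h6 | h6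
      · rw [h6]; exact h3 _ (C.g_mem (hT.mem_of_zr hm hA hB he h9))
      · rw [h6, neg_neg, cp_neg_right hp _ (hT.rt γ hγ), neg_eq_zero]
        exact or_left_comm.1 (h3 _ (C.g_mem (hT.mem_of_zr hm hA hB he h9)))
    rw [Bool.not_eq_true', Bool.or_eq_false_iff] at h10
    rcases h11 with h11 | h11 | h11
    · rw [leq_iff.2 (toF_inj (hT.lb e he) (hT.lb c' hc') (g.injective h11))] at h10
      exact Bool.false_ne_true h10.1.symm
    · have h12 := hT.pos e he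
      rw [g.injective h11] at h12
      exact (hT.rt c' hc').not_pos_neg (hT.pos c' hc') (neg_nonneg.1 h12)
    · rw [C.gcp _ _ (hT.rt c' hc'), hT.cp_b he hc'] at h11
      rw [ieq_iff.2 h11] at h10
      exact Bool.false_ne_true h10.2.symm
  · rw [leq_iff.1 h7] at h6
    exact h6

/-- the check of a minuscule coweight -/
noncomputable def endM (l : ℕ) (d : Dt) (m K : ℤ) (a b θ z : V) : Bool :=
  Nat.beq θ.length l && (Nat.beq z.length l && (!zr 3 (dot z θ) && (an (fun e => ieq (dot e.b θ) 1) d.T &&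
  (al (fun e => ieq (dot e.b θ) 0 || (ieq (dot e.b θ) 1 || ieq (dot e.b θ) (-1))) d.T &&
  (Nat.beq (cnt (fun e => ieq (dot e.b θ) 0) d.T) 20 &&
  (al (fun e => (nz m K (dot e.b a) && nz m K (dot e.b b)) || ieq (dot e.b θ) 0) d.T &&
  al (fun t => an (fun e => (zr m (dot e.b a) || zr m (dot e.b b)) && !ieq (dot e.b t) 0) d.T ||
    (leq t (uv l l) || (leq t θ || leq t (axpy 2 θ θ)))) (pats [0, 1, -1] l)))))))

include hT C hm hc hA hB in
theorem Tab.end_min {θ z : V} (h : endM l d m K a b θ z = true) {ε : ℤˣ} (hz : Cg 3 (g (toF l z)) ((ε : ℤ) • toF l z)) :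
    ∃ θ : Lat l →+ ℤ, (∃ x, Rt hp x ∧ θ x = 1) ∧ (∀ x, Rt hp x → θ x = 0 ∨ θ x = 1 ∨ θ x = -1) ∧
      (∀ x, θ (g x) = (ε : ℤ) * θ x) ∧ (Psi hp θ).ncard = 40 ∧ Psi hp A ∪ Psi hp B ⊆ Psi hp θ := by
  obtain ⟨hl1, h⟩ := Bool.and_eq_true_iff.1 h
  obtain ⟨hl2, h⟩ := Bool.and_eq_true_iff.1 h
  obtain ⟨h1, h⟩ := Bool.and_eq_true_iff.1 h
  obtain ⟨h2, h⟩ := Bool.and_eq_true_iff.1 h
  obtain ⟨h3, h⟩ := Bool.and_eq_true_iff.1 h
  obtain ⟨h4, h⟩ := Bool.and_eq_true_iff.1 h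
  obtain ⟨h5, h6⟩ := Bool.and_eq_true_iff.1 h
  have hl1' := Nat.eq_of_beq_eq_true hl1
  have hl2' := Nat.eq_of_beq_eq_true hl2
  have h7 : ∀ x, Rt hp x → psi (toF l θ) x = 0 ∨ psi (toF l θ) x = 1 ∨ psi (toF l θ) x = -1 := by
    refine hT.of_T (fun x h8 => by rw [map_neg]; omega) fun e he => ?_
    have h8 := al_iff.1 h3 e he
    rw [Bool.or_eq_true_iff, Bool.or_eq_true_iff, ieq_iff, ieq_iff, ieq_iff] at h8
    rw [hT.psi_b he]
    exact h8
  have h8 : ∀ x ∈ Psi hp A ∪ Psi hp B, psi (toF l θ) x = 0 := by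
    refine hT.all_mem C hm hc hA hB (fun x h9 => by rw [map_neg, h9, neg_zero]) fun e he h9 => ?_
    have h10 := al_iff.1 h5 e he
    rw [h9, Bool.false_or] at h10
    rw [hT.psi_b he, ieq_iff.1 h10]
  obtain ⟨e0, he0, h9⟩ := an_iff.1 h2
  have h9' : psi (toF l θ) (toF l e0.b) = 1 := by rw [hT.psi_b he0, ieq_iff.1 h9]
  refine ⟨psi (toF l θ), ⟨_, hT.rt e0 he0, h9'⟩, h7, ?_, ?_,
    fun x hx => ⟨hx.elim (fun h => h.1) fun h => h.1, h8 x hx⟩⟩
  swap
  · rw [hT.ncard_ex (κ := θ) fun _ _ => Iff.rfl, Nat.eq_of_beq_eq_true h4]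
  set f : Fin l → ℤ := fun i => psi (toF l θ) (g (sr i)) with hf
  have h10 : ∀ x, psi (toF l θ) (g x) = psi f x := fun x =>
    (eq_psi ((psi (toF l θ)).comp g.toAddMonoidHom) x).trans (psi_apply f x).symm
  have h11 : List.ofFn f ∈ pats [0, 1, -1] l := mem_pats f fun i => by
    simp only [List.mem_cons, List.not_mem_nil, or_false]
    exact h7 _ ((C.root _).2 (rt_sr hp i))
  have h12 : ¬ (3 : ℤ) ∣ psi (toF l θ) (toF l z) := by
    rw [psi_toF hl2', ← zr_iff]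
    intro h13
    rw [h13] at h1
    exact Bool.false_ne_true h1
  obtain ⟨y, hy⟩ := hz
  have h13 : psi (toF l θ) (g (toF l z)) = ε * psi (toF l θ) (toF l z) + 3 * psi (toF l θ) y := by
    rw [hy, map_add, map_zsmul, map_zsmul]
    rfl
  rcases Bool.or_eq_true_iff.1 (al_iff.1 h6 _ h11) with h14 | h14
  · exfalso
    obtain ⟨e, he, h15⟩ := an_iff.1 h14
    obtain ⟨h16, h17⟩ := Bool.and_eq_true_iff.1 h15
    have h18 := h8 _ (C.g_mem (hT.mem_of_zr hm hA hB he h16))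
    rw [h10, ← toF_ofFn f, hT.psi_b he] at h18
    rw [ieq_iff.2 h18] at h17
    exact Bool.false_ne_true h17
  rcases Bool.or_eq_true_iff.1 h14 with h14 | h14
  · exfalso
    rw [← g.apply_symm_apply (toF l e0.b), h10, ← toF_ofFn f, leq_iff.1 h14, toF_uv_self, psi_apply] at h9'
    simp at h9'
  rcases Bool.or_eq_true_iff.1 h14 with h14 | h14
  · have h15 : ∀ x, psi (toF l θ) (g x) = psi (toF l θ) x := fun x => by rw [h10, ← toF_ofFn f, leq_iff.1 h14]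
    rcases Int.units_eq_one_or ε with rfl | rfl
    · intro x; rw [h15, Units.val_one, one_mul]
    · exfalso
      rw [h15, Units.val_neg, Units.val_one] at h13
      omega
  · have h15 : ∀ x, psi (toF l θ) (g x) = -psi (toF l θ) x := fun x => by
      rw [h10, ← toF_ofFn f, leq_iff.1 h14, toF_axpy _ hl1', psi_sub_smul]; ring
    rcases Int.units_eq_one_or ε with rfl | rfl
    · exfalso
      rw [h15, Units.val_one] at h13
      omega
    · intro x; rw [h15, Units.val_neg, Units.val_one, neg_one_mul]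

end fin

/-! ### transport -/

theorem union_cw {r : ℕ} {A B : Lat l →+ ZMod r} {w : M.Group} {x : Lat l} (hx : x ∈ Psi hp A ∪ Psi hp B) :
    wa hp w⁻¹ x ∈ Psi hp (cw hp A w) ∪ Psi hp (cw hp B w) :=
  hx.imp (fun h => by rw [mem_cw, wa_inv']; exact h) fun h => by rw [mem_cw, wa_inv']; exact h

theorem gw_inv (g : Lat l ≃+ Lat l) (w : M.Group) (x : Lat l) : gw hp g w (wa hp w⁻¹ x) = wa hp w⁻¹ (g x) := by
  rw [gw_apply, wa_inv']

theorem endF4_of {p r : ℕ} {g : Lat 4 ≃+ Lat 4} {A B : Lat 4 →+ ZMod r} {w : CoxeterMatrix.F₄.Group}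
    (h : EndF4 p (gw tF4 g w) (cw tF4 A w) (cw tF4 B w)) : EndF4 p g A B := by
  obtain ⟨h0, θ, h1, h2, h3⟩ := h
  exact ⟨h0, cw tF4 θ w⁻¹, cw_ne tF4 h1 _, fun x => by rw [cw_apply, cw_apply, ← gw_inv, h2],
    fun x hx => (mem_cw tF4).2 (h3 (union_cw hx))⟩

theorem endE6_of {q r : ℕ} {ε : ℤˣ} {g : Lat 6 ≃+ Lat 6} {A B : Lat 6 →+ ZMod r} {w : CoxeterMatrix.E₆.Group}
    (h : EndE6 q ε (gw tE6 g w) (cw tE6 A w) (cw tE6 B w)) : EndE6 q ε g A B := by
  obtain ⟨h0, θ, ⟨x, h1, h2⟩, h3, h4, h5, h6⟩ := h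
  exact ⟨h0, cw tE6 θ w⁻¹, ⟨wa tE6 w x, h1.act w, by rw [cw_apply, wa_inv, h2]⟩, fun x hx => h3 _ (hx.act _),
    fun x => by rw [cw_apply, cw_apply, ← gw_inv, h4], by rw [ncard_cw, h5],
    fun x hx => (mem_cw tE6).2 (h6 (union_cw hx))⟩

theorem endE7_of {q r : ℕ} {g : Lat 7 ≃+ Lat 7} {A B : Lat 7 →+ ZMod r} {w : CoxeterMatrix.E₇.Group}
    (h : EndE7 q (gw tE7 g w) (cw tE7 A w) (cw tE7 B w)) : EndE7 q g A B := by
  obtain ⟨h0, c, h1, h2, h3⟩ := h
  refine ⟨h0, wa tE7 w c, h1.act w, ?_, fun x hx => ?_⟩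
  · rw [gw_apply] at h2
    rcases h2 with h2 | h2
    · left; conv_rhs => rw [← h2, wa_inv']
    · right; rw [← wa_neg, ← h2, wa_inv']
  · rcases h3 _ (union_cw hx) with h4 | h4 | h4
    · left; rw [← h4, wa_inv']
    · right; left; rw [← wa_neg, ← h4, wa_inv']
    · right; right; rw [← cp_wa tE7 w _ h1, wa_inv'] at h4; exact h4

theorem cg_gw {n : ℕ} {z : Lat l} (hz : ∀ j, (n : ℤ) ∣ psi (cartanOf D l j) z) {g : Lat l ≃+ Lat l} {ε : ℤ}
    (h : Cg n (g z) (ε • z)) (w : M.Group) : Cg n (gw hp g w z) (ε • z) := by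
  obtain ⟨y, hy⟩ := h
  obtain ⟨y1, hy1⟩ := cg_wa hp hz w
  obtain ⟨y2, hy2⟩ := cg_wa hp hz w⁻¹
  refine ⟨ε • y2 + wa hp w⁻¹ y + wa hp w⁻¹ (g y1), ?_⟩
  rw [gw_apply, hy1, map_add, map_zsmul, hy, wa_add, wa_add, wa_smul, wa_smul, wa_smul, hy2, smul_add, smul_add,
    smul_add, smul_comm ε (n : ℤ) y2]
  abel

/-! ### a fast form of `pchk` (vectors packed into one natural number) -/

/-- the base -/
def pkQ : ℕ := 4733767197302314441749
/-- the offset -/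
def pkH : ℕ := 1180591620717411303424

/-- the packed value -/
noncomputable def pkv (h : ℤ) (v : V) : ℤ :=
  List.rec (motive := fun _ => ℤ) 0 (fun a _ ih => Int.add (Int.add a h) (Int.mul (Int.ofNat pkQ) ih)) v

theorem pkv_cons (h a : ℤ) (v : V) : pkv h (a :: v) = a + h + (pkQ : ℤ) * pkv h v := rfl

theorem pkv_nonneg {v : V} (hv : ∀ a ∈ v, |a| < (pkH : ℤ)) : 0 ≤ pkv pkH v := by
  induction v with
  | nil => exact le_rfl
  | cons a v ih =>
    have h1 := abs_lt.1 (hv a List.mem_cons_self)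
    have h2 := mul_nonneg (Int.natCast_nonneg pkQ) (ih fun b hb => hv b (List.mem_cons_of_mem _ hb))
    rw [pkv_cons]
    omega

theorem pkv_split {a : ℤ} {v : V} (hv : ∀ b ∈ a :: v, |b| < (pkH : ℤ)) {P : ℕ} (hP : (P : ℤ) = pkv pkH (a :: v)) :
    ((P % pkQ : ℕ) : ℤ) = a + pkH ∧ ((P / pkQ : ℕ) : ℤ) = pkv pkH v := by
  have h1 := abs_lt.1 (hv a List.mem_cons_self)
  rw [pkv_cons] at hP
  generalize pkv pkH v = z at hP ⊢
  have e1 : pkQ = 4733767197302314441749 := rfl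
  have e2 : pkH = 1180591620717411303424 := rfl
  rw [e1, e2] at hP
  rw [e2] at h1
  rw [e1, e2]
  omega

theorem pkv_digit {v : V} (hv : ∀ a ∈ v, |a| < (pkH : ℤ)) {P : ℕ} (hP : (P : ℤ) = pkv pkH v) {j : ℕ}
    (hj : j < v.length) : ((P / pkQ ^ j % pkQ : ℕ) : ℤ) = gt v j + pkH := by
  induction v generalizing P j with
  | nil => exact absurd hj (Nat.not_lt_zero _)
  | cons a v ih =>
    obtain ⟨h1, h2⟩ := pkv_split hv hP
    cases j with
    | zero => rw [pow_zero, Nat.div_one]; exact h1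
    | succ j =>
      rw [pow_succ', ← Nat.div_div_eq_div_mul]
      exact ih (fun b hb => hv b (List.mem_cons_of_mem _ hb)) h2 (Nat.lt_of_succ_lt_succ hj)

theorem pkv_inj {x y : V} (hx : ∀ a ∈ x, |a| < (pkH : ℤ)) (hy : ∀ a ∈ y, |a| < (pkH : ℤ)) (hl : x.length = y.length)
    {P : ℕ} (h1 : (P : ℤ) = pkv pkH x) (h2 : (P : ℤ) = pkv pkH y) : x = y := by
  induction x generalizing y P with
  | nil => exact (List.length_eq_zero_iff.1 hl.symm).symm
  | cons a x ih =>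
    cases y with
    | nil => exact absurd hl (Nat.succ_ne_zero _)
    | cons b y =>
      obtain ⟨h3, h4⟩ := pkv_split hx h1
      obtain ⟨h5, h6⟩ := pkv_split hy h2
      rw [ih (fun b hb => hx b (List.mem_cons_of_mem _ hb)) (fun b hb => hy b (List.mem_cons_of_mem _ hb))
        (Nat.succ.inj hl) h4 h6, add_right_cancel (h3.symm.trans h5)]

theorem pkv_axpy (h c : ℤ) {x y : V} (hl : y.length = x.length) : pkv h (axpy c x y) = pkv h x - c * pkv 0 y := by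
  induction x generalizing y with
  | nil => rw [List.length_eq_zero_iff.1 hl]; exact (sub_zero _).symm.trans (congrArg _ (mul_zero c).symm)
  | cons a x ih =>
    cases y with
    | nil => exact absurd hl.symm (Nat.succ_ne_zero _)
    | cons b y => rw [axpy_cons, pkv_cons, pkv_cons, pkv_cons, ih (Nat.succ.inj hl)]; ring

theorem bd_axpy {B B' c : ℤ} (hc : |c| ≤ B') {x y : V} (hx : ∀ a ∈ x, |a| ≤ B) (hy : ∀ a ∈ y, |a| ≤ 2) :
    ∀ a ∈ axpy c x y, |a| ≤ B + 2 * B' := by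
  have h0 : 0 ≤ B' := (abs_nonneg c).trans hc
  induction x generalizing y with
  | nil => exact fun a ha => absurd ha List.not_mem_nil
  | cons a x ih =>
    cases y with
    | nil => exact fun b hb => (hx b hb).trans (by omega)
    | cons b y =>
      rw [axpy_cons]
      refine List.forall_mem_cons.2 ⟨(abs_sub _ _).trans (add_le_add (hx a List.mem_cons_self) ?_),
        ih (fun b hb => hx b (List.mem_cons_of_mem _ hb)) (fun b hb => hy b (List.mem_cons_of_mem _ hb))⟩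
      rw [abs_mul, mul_comm]
      exact mul_le_mul (hy b List.mem_cons_self) hc (abs_nonneg c) (by norm_num)

/-- the data of a simple reflection -/
noncomputable def pkT (C : List V) (J : List ℕ) : List (ℕ × ℕ × ℕ) :=
  List.rec (motive := fun _ => List (ℕ × ℕ × ℕ)) []
    (fun j _ ih => (Nat.pow pkQ j, Int.toNat (pkv 0 (row C j)), Int.toNat (Int.neg (pkv 0 (row C j)))) :: ih) J

/-- evaluation before the continuation -/
noncomputable def pkF {α : Type} (x : ℕ) (k : ℕ → α) : α :=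
  Nat.casesOn (motive := fun _ => α) x (k 0) (fun y => k (Nat.succ y))

theorem pkF_eq {α : Type} (x : ℕ) (k : ℕ → α) : pkF x k = k x := by cases x <;> rfl

/-- `step` on packed vectors -/
noncomputable def stepF (T : List (ℕ × ℕ × ℕ)) (P : ℕ) (k : ℕ → ℕ) : ℕ :=
  List.rec (motive := fun _ => ℕ) P (fun t _ ih => Nat.casesOn (motive := fun _ => ℕ)
    (Nat.sub (nat_lit 1180591620717411303424) (Nat.mod (Nat.div P t.1) (nat_lit 4733767197302314441749))) ih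
    (fun c => k (Nat.sub (Nat.add P (Nat.mul (Nat.succ c) t.2.1)) (Nat.mul (Nat.succ c) t.2.2)))) T

/-- `dom` on packed vectors -/
noncomputable def domF (T : List (ℕ × ℕ × ℕ)) (n : ℕ) : ℕ → ℕ :=
  Nat.rec (motive := fun _ => ℕ → ℕ) (fun P => P) (fun _ ih P => pkF P fun P => stepF T P ih) n

theorem step_sim {C : List V} {k : V → V} {kF : ℕ → ℕ} {R : V → ℕ → Prop} {v : V} {P : ℕ}
    (hb : ∀ a ∈ v, |a| < (pkH : ℤ)) (hP : (P : ℤ) = pkv pkH v) (h0 : R v P) {J : List ℕ}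
    (hJ : ∀ j ∈ J, j < v.length ∧ (row C j).length = v.length ∧ 0 ≤ pkv pkH (fs C j v) ∧
      ∀ P' : ℕ, (P' : ℤ) = pkv pkH (fs C j v) → R (k (fs C j v)) (kF P')) :
    R (step C J v k) (stepF (pkT C J) P kF) := by
  induction J with
  | nil => exact h0
  | cons j J ih =>
    obtain ⟨h1, h2, h3, h4⟩ := hJ j List.mem_cons_self
    have h5 := pkv_digit hb hP h1
    have h6 : pkv pkH (fs C j v) = pkv pkH v - gt v j * pkv 0 (row C j) := pkv_axpy _ _ h2
    show R (cond (isNeg (gt v j)) (k (fs C j v)) (step C J v k)) (Nat.casesOn (motive := fun _ => ℕ)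
      (pkH - P / pkQ ^ j % pkQ) (stepF (pkT C J) P kF)
      (fun c => kF (P + (c + 1) * (pkv 0 (row C j)).toNat - (c + 1) * (-pkv 0 (row C j)).toNat)))
    generalize P / pkQ ^ j % pkQ = g at h5
    generalize gt v j = c at h5 h6
    cases c with
    | ofNat c =>
      have h7 : pkH - g = 0 := by
        rw [Int.ofNat_eq_natCast] at h5
        omega
      rw [h7]
      exact ih fun j hj => hJ j (List.mem_cons_of_mem _ hj)
    | negSucc c =>
      have h7 : pkH - g = c + 1 := by omega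
      rw [h7]
      refine h4 _ ?_
      have h8 : ((c + 1 : ℕ) : ℤ) = -Int.negSucc c := rfl
      have h9 : (P : ℤ) + ((c + 1) * (pkv 0 (row C j)).toNat : ℕ) - ((c + 1) * (-pkv 0 (row C j)).toNat : ℕ) =
          pkv pkH (fs C j v) := by
        rw [h6, ← hP, Nat.cast_mul, Nat.cast_mul, h8, add_sub_assoc, ← mul_sub, Int.toNat_sub_toNat_neg]
        ring
      generalize (c + 1) * (pkv 0 (row C j)).toNat = x at h9 ⊢
      generalize (c + 1) * (-pkv 0 (row C j)).toNat = y at h9 ⊢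
      omega

theorem dom_sim {C : List V} {J : List ℕ} {l : ℕ}
    (hJ : ∀ j ∈ J, j < l ∧ (row C j).length = l ∧ ∀ a ∈ row C j, |a| ≤ 2) (n : ℕ) {v : V} (hv : v.length = l) {B : ℤ}
    (hb : ∀ a ∈ v, |a| ≤ B) (h0 : 0 ≤ B) (hB : B * 3 ^ n < pkH) {P : ℕ} (hP : (P : ℤ) = pkv pkH v) :
    (∀ a ∈ dom C J n v, |a| < (pkH : ℤ)) ∧ (dom C J n v).length = l ∧
      (domF (pkT C J) n P : ℤ) = pkv pkH (dom C J n v) := by
  induction n generalizing v B P with
  | zero => exact ⟨fun a ha => (hb a ha).trans_lt (by rwa [pow_zero, mul_one] at hB), hv, hP⟩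
  | succ n ih =>
    have h1 : (B + 2 * B) * 3 ^ n < pkH := by rw [pow_succ] at hB; linarith only [hB]
    have h2 : B + 2 * B < pkH :=
      lt_of_le_of_lt (le_mul_of_one_le_right (by omega) (one_le_pow₀ (by norm_num))) h1
    have h3 : ∀ a ∈ v, |a| < (pkH : ℤ) := fun a ha => (hb a ha).trans_lt (by omega)
    rw [show domF (pkT C J) (n + 1) P = stepF (pkT C J) P (domF (pkT C J) n) from
      pkF_eq P fun P => stepF (pkT C J) P (domF (pkT C J) n)]
    refine step_sim (R := fun x Q => (∀ a ∈ x, |a| < (pkH : ℤ)) ∧ x.length = l ∧ (Q : ℤ) = pkv pkH x) h3 hP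
      ⟨h3, hv, hP⟩ fun j hj => ?_
    obtain ⟨h4, h5, h6⟩ := hJ j hj
    have h7 : ∀ a ∈ fs C j v, |a| ≤ B + 2 * B := bd_axpy (hb _ (gt_mem (hv ▸ h4))) hb h6
    exact ⟨hv ▸ h4, hv ▸ h5, pkv_nonneg fun a ha => (h7 a ha).trans_lt h2,
      fun P' hP' => ih ((length_fs C j v).trans hv) h7 (by omega) h1 hP'⟩

/-- small entries -/
noncomputable def sml (B : ℕ) (v : V) : Bool := al (fun a => Nat.ble (Int.natAbs a) B) v

theorem sml_spec {B : ℕ} {v : V} (h : sml B v = true) : ∀ a ∈ v, |a| ≤ (B : ℤ) := fun a ha => by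
  have h1 := Nat.le_of_ble_eq_true (al_iff.1 h a ha)
  rw [Int.abs_eq_natAbs]
  exact Int.ofNat_le.2 h1

/-- the packed list -/
noncomputable def pkL (L : List V) : List ℕ :=
  List.rec (motive := fun _ => List ℕ) [] (fun v _ ih => Int.toNat (pkv (Int.ofNat pkH) v) :: ih) L

theorem mem_pkL {L : List V} {P : ℕ} (h : P ∈ pkL L) : ∃ v ∈ L, P = (pkv pkH v).toNat := by
  induction L with
  | nil => exact absurd h List.not_mem_nil
  | cons v L ih =>
    rcases List.mem_cons.1 (show P ∈ (pkv pkH v).toNat :: pkL L from h) with h1 | h1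
    · exact ⟨v, List.mem_cons_self, h1⟩
    · obtain ⟨w, h2, h3⟩ := ih h1
      exact ⟨w, List.mem_cons_of_mem _ h2, h3⟩

/-- the fast check of the list of the double cosets -/
noncomputable def pchkF (l : ℕ) (d : Dt) (κ μ : V) (J : List ℕ) (L : List V) : Bool :=
  al (fun k => (ieq (gt κ k) 0 && ieq (gt μ k) 0) || ieq (gt κ k) 1) (List.range l) &&
  (al (fun j => ieq (gt κ j) 0) J && (an (leq μ) L && (al (fun v => Nat.beq v.length l) L &&
    (al (fun j => Nat.blt j l && (Nat.beq (row d.C j).length l && sml 2 (row d.C j))) J && (al (sml 8) L &&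
    (al (fun e => Nat.beq e.cv.length l && sml 2 e.cv) d.T &&
    al (fun v => al (fun e => cond (Nat.ble (Int.natAbs (dot e.b v)) 28) (pkF (domF (pkT d.C J) 40
      (Int.toNat (Int.sub (pkv (Int.ofNat pkH) v) (Int.mul (dot e.b v) (pkv 0 e.cv))))) fun P => an (Nat.beq P) (pkL L)) false)
      (fl (fun e => ieq (dot e.b κ) 1 || ieq (dot e.b κ) (-1)) d.T)) L))))))

theorem pchk_of {l : ℕ} {d : Dt} {κ μ : V} {J : List ℕ} {L : List V} (h : pchkF l d κ μ J L = true) :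
    pchk l d κ μ J L = true := by
  obtain ⟨h1, h⟩ := Bool.and_eq_true_iff.1 h
  obtain ⟨h2, h⟩ := Bool.and_eq_true_iff.1 h
  obtain ⟨h3, h⟩ := Bool.and_eq_true_iff.1 h
  obtain ⟨h4, h⟩ := Bool.and_eq_true_iff.1 h
  obtain ⟨h5, h⟩ := Bool.and_eq_true_iff.1 h
  obtain ⟨h6, h⟩ := Bool.and_eq_true_iff.1 h
  obtain ⟨h7, h⟩ := Bool.and_eq_true_iff.1 h
  refine Bool.and_eq_true_iff.2 ⟨h1, Bool.and_eq_true_iff.2 ⟨h2, Bool.and_eq_true_iff.2 ⟨h3,
    Bool.and_eq_true_iff.2 ⟨h4, al_iff.2 fun v hv => al_iff.2 fun e he => ?_⟩⟩⟩⟩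
  have h8 := al_iff.1 (al_iff.1 h v hv) e he
  have hl : ∀ v ∈ L, v.length = l := fun v hv => Nat.eq_of_beq_eq_true (al_iff.1 h4 v hv)
  have hs : ∀ v ∈ L, ∀ a ∈ v, |a| ≤ 8 := fun v hv => sml_spec (al_iff.1 h6 v hv)
  have hH : (64 : ℤ) * 3 ^ 40 < pkH := by decide
  obtain ⟨h9, h10⟩ := Bool.and_eq_true_iff.1 (al_iff.1 h7 e (mem_fl.1 he).1)
  cases h11 : Nat.ble (Int.natAbs (dot e.b v)) 28
  · rw [h11] at h8; exact absurd h8 Bool.false_ne_true
  rw [h11, cond_true, pkF_eq] at h8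
  obtain ⟨P, h12, h13⟩ := an_iff.1 h8
  obtain ⟨w, h14, rfl⟩ := mem_pkL h12
  have h15 : |dot e.b v| ≤ 28 := by
    rw [Int.abs_eq_natAbs]; exact Int.ofNat_le.2 (Nat.le_of_ble_eq_true h11)
  have h16 : ∀ a ∈ axpy (dot e.b v) v e.cv, |a| ≤ 8 + 2 * 28 := bd_axpy h15 (hs v hv) (sml_spec h10)
  have h17 : (64 : ℤ) < pkH := by decide
  have h18 := pkv_axpy pkH (dot e.b v) ((Nat.eq_of_beq_eq_true h9).trans (hl v hv).symm)
  have h19 : ∀ a ∈ w, |a| < (pkH : ℤ) := fun a ha => (hs w h14 a ha).trans_lt (by omega)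
  obtain ⟨h20, h21, h22⟩ := dom_sim (C := d.C) (J := J) (l := l) (fun j hj => by
      obtain ⟨e1, e2⟩ := Bool.and_eq_true_iff.1 (al_iff.1 h5 j hj)
      obtain ⟨e3, e4⟩ := Bool.and_eq_true_iff.1 e2
      exact ⟨Nat.blt_eq.mp e1, Nat.eq_of_beq_eq_true e3, sml_spec e4⟩) 40
    ((length_axpy (dot e.b v) v e.cv).trans (hl v hv)) h16 (by norm_num) hH
    (P := (pkv pkH v - dot e.b v * pkv 0 e.cv).toNat)
    (by rw [← h18]; exact Int.toNat_of_nonneg (pkv_nonneg fun a ha => (h16 a ha).trans_lt h17))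
  refine an_iff.2 ⟨w, h14, leq_iff.2 (pkv_inj h20 h19 (h21.trans (hl w h14).symm) h22 ?_)⟩
  exact (congrArg Nat.cast (Nat.eq_of_beq_eq_true h13)).trans (Int.toNat_of_nonneg (pkv_nonneg h19))

end Cfsg.Agent.Cam.Ex.Cb
end

-- part: Cam/Ex/Cb5
section
set_option linter.all false
open scoped Cfsg.Agent.FastGrp

/-!
# The finite check, part 5: further certificates (helper12)
-/

set_option autoImplicit false
set_option linter.unusedVariables false
set_option linter.unusedSectionVars false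

namespace Cfsg.Agent.Cam.Ex.Cb

open CoxeterSystem Cfsg Cfsg.Lie
open Cfsg.Agent.ChevalleyStructure.CoxeterGeom Cfsg.Agent.ChevalleyStructure.CoxeterGeomTypes
open Cfsg.Agent.Tits.Roots Cfsg.Agent.Nodes.RGDChev Cfsg.Agent.Nodes.Coroot Cfsg.Agent.Nodes.SubComb
open Cfsg.Agent.H931.KC (hr psi psi_apply psi_sr eq_psi)

variable {D : ChevalleyDatum} {l : ℕ} {M : CoxeterMatrix (Fin l)} {hp : IsType D l M} {d : Dt} (hT : Tab hp d)

/-- the elements of `G` are isolated roots -/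
noncomputable def gchk (l : ℕ) (d : Dt) (κ : V) (G : List V) : Bool :=
  al (fun v => an (fun c => leq c.b v && a1chk d κ c) d.T) G

include hT in
theorem Tab.gchk_spec {K : Type} [AddCommGroup K] {φ : Lat l →+ K} {κ : V} (hx : Exa hp φ κ) {G : List V}
    (h : gchk l d κ G = true) {v : V} (hv : v ∈ G) : v.length = l ∧ A1c hp (Psi hp φ) (toF l v) ∧ ∃ c ∈ d.T, c.b = v := by
  obtain ⟨c, hc, h1⟩ := an_iff.1 (al_iff.1 h v hv)
  obtain ⟨h2, h3⟩ := Bool.and_eq_true_iff.1 h1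
  rw [← leq_iff.1 h2]
  exact ⟨hT.lb c hc, hT.a1c hx hc h3, c, hc, rfl⟩

include hT in
theorem Tab.k3G (hc : BoxConn) (hl : l ≤ 7) {p q r : ℕ} {g : Lat l ≃+ Lat l} {A B : Lat l →+ ZMod r}
    (C : Cm hp p q r g A B) {κ : V} (hκ : Exa hp (A + B) κ) {G : List V} (h : gchk l d κ G = true) {w0 : M.Group}
    (hn : Neg hp w0 (A + B)) (hw : ∀ v ∈ G, wa hp w0 (toF l v) = toF l v ∨ wa hp w0 (toF l v) = -toF l v)
    (hq : (q : ZMod r) = 1 ∨ (q : ZMod r) = -1) :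
    ∀ u, cw hp A u + cw hp B u = A + B → ∀ v ∈ G, v.length = l ∧ cw hp A u (toF l v) = 0 := fun u hu v hv =>
  ⟨(hT.gchk_spec hκ h hv).1, C.k3u hc hl (hT.gchk_spec hκ h hv).2.1 hn (hw v hv)
    (four_le C.prime C.five C.two hq) hu⟩

include hT in
theorem Tab.neg_is {r : ℕ} {φ : Lat l →+ ZMod r} {c : ZMod r} {μ : V} (hμ : μ.length = l) (h : Is φ c μ) {ω : List ℕ}
    (h1 : leq (fw d.C ω μ) (axpy 2 μ μ) = true) : Neg hp (wd M ω) φ := by
  intro a
  rw [h, h, ← hT.psi_fw ω hμ, leq_iff.1 h1, toF_axpy _ hμ, psi_sub_smul]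
  push_cast
  ring

include hT in
theorem Tab.wd_vec {ω : List ℕ} {v v' : V} (hv : v.length = l)
    (h : al (fun i => ieq (dot v (fw d.C ω (uv l i))) (gt v' i)) (List.range l) = true) :
    wa hp (wd M ω) (toF l v) = toF l v' := by
  funext i
  rw [hT.wd_apply, psi_toF hv, ieq_iff.1 (al_iff.1 h i (List.mem_range.2 i.2)), toF_apply]

theorem toF_pl {u : V} (hu : u.length = l) (v : V) : toF l (pl u v) = toF l u + toF l v := by
  rw [pl, toF_axpy _ hu, neg_one_smul, sub_neg_eq_add]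

include hT in
/-- `B` is a multiple of a coroot -/
theorem Tab.root_mult {r : ℕ} (hr' : r.Prime) (h5 : 5 ≤ r) {A B : Lat l →+ ZMod r} {κ : V} (hA : Exa hp A κ)
    (hw : ∃ w ∈ WW hp (Psi hp A), Neg hp w B) {u : V} {X : List V}
    (hX : orbS l 0 (fl (fun e => ieq (dot e.b κ) 0) d.T) (u :: X) = true) {Bs : List V}
    (hB : ∀ b ∈ Bs, B (toF l b) = 0) {DT : List (V × V × ℤ × List V)} {Q : V → Bool}
    (h : al (fun v' => an (fun t => rkchk l (pl u v' :: Bs) t.1 t.2.1 t.2.2.1 t.2.2.2 && Q t.1) DT) (u :: X) = true) :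
    ∃ ν c, Q ν = true ∧ Is B c ν := by
  obtain ⟨v', hv', h1⟩ := hT.orb_ex hA hw hX u List.mem_cons_self
  obtain ⟨t, -, h2⟩ := an_iff.1 (al_iff.1 h v' hv')
  obtain ⟨h3, h4⟩ := Bool.and_eq_true_iff.1 h2
  have hu : u.length = l := Nat.eq_of_beq_eq_true (Bool.and_eq_true_iff.1 (al_iff.1 hX u List.mem_cons_self)).1
  refine ⟨t.1, _, h4, is_of_kills hr' h5 (fun b hb => ?_) h3⟩
  rcases List.mem_cons.1 hb with rfl | hb
  · rw [toF_pl hu, map_add, add_comm, h1]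
  · exact hB b hb

/-- triples of orthogonal roots -/
noncomputable def trichk (l : ℕ) (d : Dt) (κ : V) (G : List V) : Bool :=
  al (fun e1 => al (fun e2 => !ieq (dot e1.b e2.cv) 0 || al (fun e3 =>
    !(ieq (dot e1.b e3.cv) 0 && (ieq (dot e2.b e3.cv) 0 &&
      al (fun j => zr 2 (dot e1.b (row d.C j) + dot e2.b (row d.C j) + dot e3.b (row d.C j))) (List.range l))) ||
    al (fun v => leq e1.b v || (leq e2.b v || leq e3.b v)) G)
    (fl (fun e => ieq (dot e.b κ) 0) d.T)) (fl (fun e => ieq (dot e.b κ) 0) d.T)) (fl (fun e => ieq (dot e.b κ) 0) d.T)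

include hT in
theorem Tab.ent {K K' : Type} [AddCommGroup K] [AddCommGroup K'] {A : Lat l →+ K} {B : Lat l →+ K'} {κ : V}
    (hA : Exa hp A κ) {x : Lat l} (hx : Rt hp x) (h1 : A x = 0) (h2 : B x = 0) :
    ∃ e ∈ fl (fun e => ieq (dot e.b κ) 0) d.T, B (toF l e.b) = 0 ∧ (x = toF l e.b ∨ x = -toF l e.b) := by
  obtain ⟨e, he, h3⟩ := hT.sur x hx
  refine ⟨e, mem_fl.2 ⟨he, ?_⟩, ?_, h3⟩
  · rw [ieq_iff, ← hT.psi_b he, ← hA _ (hT.rt e he)]
    rcases h3 with h3 | h3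
    · rw [← h3, h1]
    · rwa [h3, map_neg, neg_eq_zero] at h1
  · rcases h3 with h3 | h3
    · rw [← h3, h2]
    · rwa [h3, map_neg, neg_eq_zero] at h2

include hT in
theorem Tab.cp_zero {e e' : Ent} (he : e ∈ d.T) (he' : e' ∈ d.T) {x y : Lat l}
    (hx : x = toF l e.b ∨ x = -toF l e.b) (hy : y = toF l e'.b ∨ y = -toF l e'.b) :
    cp hp x y = dot e.b e'.cv ∨ cp hp x y = -dot e.b e'.cv := by
  have h1 := hT.rt e' he'
  rcases hx with rfl | rfl <;> rcases hy with rfl | rfl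
  · left; rw [hT.cp_b he he']
  · right; rw [cp_neg_right hp _ h1, hT.cp_b he he']
  · right; rw [cp_neg hp _ h1, hT.cp_b he he']
  · left; rw [cp_neg_right hp _ h1, cp_neg hp _ h1, neg_neg, hT.cp_b he he']

include hT in
theorem Tab.cp_row {e : Ent} (he : e ∈ d.T) {x : Lat l} (hx : x = toF l e.b ∨ x = -toF l e.b) (j : Fin l) :
    cp hp x (sr j) = dot e.b (row d.C j) ∨ cp hp x (sr j) = -dot e.b (row d.C j) := by
  rw [cp_sr, ← hT.car j]
  rcases hx with rfl | rfl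
  · left; rw [hT.psi_b he]
  · right; rw [map_neg, hT.psi_b he]

include hT in
theorem Tab.tri {K K' : Type} [AddCommGroup K] [AddCommGroup K'] {A : Lat l →+ K} {B : Lat l →+ K'} {κ : V}
    (hA : Exa hp A κ) {G : List V} (h : trichk l d κ G = true) {x y z : Lat l} (hx : Rt hp x) (hy : Rt hp y)
    (hz : Rt hp z) (ax : A x = 0) (ay : A y = 0) (az : A z = 0) (bx : B x = 0) (by' : B y = 0) (bz : B z = 0)
    (hxy : cp hp x y = 0) (hxz : cp hp x z = 0) (hyz : cp hp y z = 0)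
    (h2 : ∀ j, (2 : ℤ) ∣ cp hp (x + y + z) (sr j)) : ∀ v ∈ G, B (toF l v) = 0 := by
  obtain ⟨e1, m1, b1, s1⟩ := hT.ent hA hx ax bx
  obtain ⟨e2, m2, b2, s2⟩ := hT.ent hA hy ay by'
  obtain ⟨e3, m3, b3, s3⟩ := hT.ent hA hz az bz
  have t1 := (mem_fl.1 m1).1
  have t2 := (mem_fl.1 m2).1
  have t3 := (mem_fl.1 m3).1
  have h3 := al_iff.1 (al_iff.1 h e1 m1) e2 m2
  have o12 : dot e1.b e2.cv = 0 := by have := hT.cp_zero t1 t2 s1 s2; omega
  have o13 : dot e1.b e3.cv = 0 := by have := hT.cp_zero t1 t3 s1 s3; omega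
  have o23 : dot e2.b e3.cv = 0 := by have := hT.cp_zero t2 t3 s2 s3; omega
  rw [ieq_iff.2 o12, Bool.not_true, Bool.false_or] at h3
  have h4 := al_iff.1 h3 e3 m3
  have h5 : al (fun j => zr 2 (dot e1.b (row d.C j) + dot e2.b (row d.C j) + dot e3.b (row d.C j)))
      (List.range l) = true := by
    refine al_iff.2 fun j hj => zr_iff.2 ?_
    have h6 := h2 ⟨j, List.mem_range.1 hj⟩
    rw [cp_add hp _ _ (rt_sr hp _), cp_add hp _ _ (rt_sr hp _)] at h6
    have k1 := hT.cp_row t1 s1 ⟨j, List.mem_range.1 hj⟩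
    have k2 := hT.cp_row t2 s2 ⟨j, List.mem_range.1 hj⟩
    have k3 := hT.cp_row t3 s3 ⟨j, List.mem_range.1 hj⟩
    simp only at k1 k2 k3
    omega
  rw [ieq_iff.2 o13, ieq_iff.2 o23, h5, Bool.and_self, Bool.and_self, Bool.not_true, Bool.false_or] at h4
  intro v hv
  rcases Bool.or_eq_true_iff.1 (al_iff.1 h4 v hv) with h6 | h6
  · rw [← leq_iff.1 h6, b1]
  rcases Bool.or_eq_true_iff.1 h6 with h6 | h6
  · rw [← leq_iff.1 h6, b2]
  · rw [← leq_iff.1 h6, b3]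

/-- `s ω_i + t ω_j + c ν` kills no `A₂` -/
noncomputable def d4chk (d : Dt) (i j : ℕ) (RR : List (ℤ × ℤ)) (ν : V) : Bool :=
  al (fun e1 => al (fun e2 => !(ieq (dot e1.b e2.cv) 1 || ieq (dot e1.b e2.cv) (-1)) ||
    an (fun n1 => an (fun n2 =>
      (ieq (n1 * dot e1.b ν + n2 * dot e2.b ν) 0 &&
        rowK RR (n1 * gt e1.b i + n2 * gt e2.b i) (n1 * gt e1.b j + n2 * gt e2.b j)) ||
      (ieq (n1 * gt e1.b i + n2 * gt e2.b i) 0 && (ieq (n1 * gt e1.b j + n2 * gt e2.b j) 0 &&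
        zr (n1 * dot e1.b ν + n2 * dot e2.b ν) 46656))) [0, 1, -1, 2, -2]) [1, 0, 2]) d.T) d.T

include hT in
theorem Tab.no_A2 {i j : Fin l} {RR : List (ℤ × ℤ)} (R : RROK hp i j RR) {r : ℕ} (hr' : r.Prime) (h5 : 5 ≤ r)
    {A B : Lat l →+ ZMod r} (hA : Ex2 hp A i j) {c : ZMod r} (hc : c ≠ 0) {ν : V} (hB : Is B c ν)
    (h : d4chk d i j RR ν = true) {x y : Lat l} (hx : x ∈ Psi hp (A + B)) (hy : y ∈ Psi hp (A + B))
    (hxy : cp hp x y = -1) : False := by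
  have := Fact.mk hr'
  obtain ⟨e1, t1, s1⟩ := hT.sur x hx.1
  obtain ⟨e2, t2, s2⟩ := hT.sur y hy.1
  have key : ∀ e ∈ d.T, ∀ x ∈ Psi hp (A + B), (x = toF l e.b ∨ x = -toF l e.b) →
      (gt e.b i : ZMod r) * A (sr i) + (gt e.b j : ZMod r) * A (sr j) + c * (dot e.b ν : ZMod r) = 0 := by
    intro e he x hx hs
    have h1 : (A + B) (toF l e.b) = 0 := by
      rcases hs with hs | hs
      · rw [← hs, hx.2]
      · have := hx.2
        rwa [hs, map_neg, neg_eq_zero] at this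
    rwa [AddMonoidHom.add_apply, hA.eq R.ne, hB, hT.psi_b he] at h1
  have k1 := key e1 t1 x hx s1
  have k2 := key e2 t2 y hy s2
  have h1 : (ieq (dot e1.b e2.cv) 1 || ieq (dot e1.b e2.cv) (-1)) = true := by
    rw [Bool.or_eq_true_iff, ieq_iff, ieq_iff]
    have := hT.cp_zero t1 t2 s1 s2
    omega
  have h2 := al_iff.1 (al_iff.1 h e1 t1) e2 t2
  rw [h1, Bool.not_true, Bool.false_or] at h2
  obtain ⟨n1, -, h3⟩ := an_iff.1 h2
  obtain ⟨n2, -, h4⟩ := an_iff.1 h3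
  rcases Bool.or_eq_true_iff.1 h4 with h6 | h6
  · obtain ⟨h7, h8⟩ := Bool.and_eq_true_iff.1 h6
    have h9 := congrArg (Int.cast : ℤ → ZMod r) (ieq_iff.1 h7)
    refine R.row_ne hr' h5 hA h8 ?_
    push_cast at h9 ⊢
    linear_combination n1 * k1 + n2 * k2 - c * h9
  · obtain ⟨h7, h8⟩ := Bool.and_eq_true_iff.1 h6
    obtain ⟨h8, h10⟩ := Bool.and_eq_true_iff.1 h8
    have h9 := congrArg (Int.cast : ℤ → ZMod r) (ieq_iff.1 h7)
    have h11 := congrArg (Int.cast : ℤ → ZMod r) (ieq_iff.1 h8)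
    refine mul_ne_zero hc (un6 hr' h5 (zr_iff.1 h10)) ?_
    push_cast at h9 h11 ⊢
    linear_combination n1 * k1 + n2 * k2 - A (sr i) * h9 - A (sr j) * h11

theorem md_cases {r : ℕ} (hr' : r.Prime) (h5 : 5 ≤ r) : r = 5 ∨ r = 7 ∨ 8 ≤ r := by
  have : r ≠ 6 := by rintro rfl; exact absurd hr' (by decide)
  omega

theorem md5 : Md 5 5 1 := Or.inr ⟨rfl, by norm_num⟩
theorem md7 : Md 7 7 1 := Or.inr ⟨rfl, by norm_num⟩

theorem Exa.cw_add {r : ℕ} {A B : Lat l →+ ZMod r} {w : M.Group} {κ : V} (h : Exa hp (cw hp (A + B) w) κ) :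
    Exa hp (cw hp A w + cw hp B w) κ := h

theorem Ex1.eig {p q r : ℕ} {g : Lat l ≃+ Lat l} {A B : Lat l →+ ZMod r} (C : Cm hp p q r g A B) {φ : Lat l →+ ZMod r}
    {j : Fin l} (h : Ex1 hp φ j) (he : ∀ a, φ (g a) = (q : ZMod r) * φ a) : (q : ZMod r) = 1 ∨ (q : ZMod r) = -1 := by
  have := Fact.mk C.prime
  exact (h.res g C.root he).imp (fun h => h.1) fun h => h.1

end Cfsg.Agent.Cam.Ex.Cb

private theorem dce_3fcfbbe6bedb : _root_.True := by
  try have : _root_.True := by simp only [_root_.Cfsg.Agent.Cam.Ex.cp.congr_simp]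
  exact _root_.True.intro
end

-- part: Cam/Ex/CbW
section
set_option linter.all false

/-!
# The finite check: the words for the types (helper12, generated by `tools/cam12/gen_data.py`)
-/

set_option autoImplicit false
set_option linter.unusedVariables false
set_option linter.style.longLine false
set_option maxRecDepth 100000

namespace Cfsg.Agent.Cam.Ex.Cb

open Cfsg Cfsg.Lie

/-- patterns, words, types -/
def wtG2 : List (V × List ℕ × V) := [
]

theorem tyG2 : al (fun P => tchk 2 dG2 wtG2 0 P && tchk 2 dG2 wtG2 1 P) (pats [0, 1] 2) = true := by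
  decide +kernel

/-- patterns, words, types -/
def wtD4 : List (V × List ℕ × V) := [
  ([0, 0, 0, 1, 1], [3, 1, 0], [1, 0, 0, 0]),
  ([0, 1, 0, 0, 1], [3, 1, 2], [0, 0, 1, 0]),
  ([0, 1, 0, 1, 0], [0, 1, 3], [0, 0, 0, 1]),
  ([0, 1, 0, 1, 1], [0, 1, 2, 3], [0, 0, 1, 1]),
  ([1, 0, 0, 0, 1], [], [0, 0, 0, 1]),
  ([1, 0, 0, 1, 0], [], [0, 0, 1, 0]),
  ([1, 0, 0, 1, 1], [], [0, 0, 1, 1]),
  ([1, 1, 0, 0, 0], [], [1, 0, 0, 0]),
  ([1, 1, 0, 0, 1], [0, 1, 2], [0, 0, 1, 1]),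
  ([1, 1, 0, 1, 0], [0, 1, 3], [0, 0, 1, 1])]

theorem tyD4 : al (fun P => tchk 4 dD4 wtD4 0 P && tchk 4 dD4 wtD4 1 P) (pats [0, 1] 4) = true := by
  decide +kernel

theorem tyD4' : ∀ t ∈ wtD4, t.2.2 ∈ ([[1, 0, 0, 0], [0, 0, 1, 0], [0, 0, 0, 1], [0, 0, 1, 1]] : List V) := by
  decide +kernel

/-- patterns, words, types -/
def wtF4 : List (V × List ℕ × V) := [
  ([0, 0, 0, 1, 1], [3, 2, 1, 0, 2, 1, 2], [0, 0, 1, 0]),
  ([0, 0, 1, 1, 0], [2, 1, 0, 3, 2, 1, 0, 2, 1], [0, 1, 0, 0]),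
  ([0, 1, 0, 1, 0], [2, 1, 2, 3, 2, 1, 0, 2, 1], [0, 1, 0, 0]),
  ([1, 0, 0, 1, 0], [], [0, 0, 1, 0]),
  ([1, 0, 1, 0, 0], [], [0, 1, 0, 0]),
  ([1, 1, 0, 0, 0], [], [1, 0, 0, 0])]

theorem tyF4 : al (fun P => tchk 4 dF4 wtF4 0 P && tchk 4 dF4 wtF4 1 P) (pats [0, 1] 4) = true := by
  decide +kernel

theorem tyF4' : ∀ t ∈ wtF4, t.2.2 ∈ ([[1, 0, 0, 0], [0, 1, 0, 0], [0, 0, 1, 0]] : List V) := by
  decide +kernel

/-- patterns, words, types -/
def wtE6 : List (V × List ℕ × V) := [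
  ([0, 0, 0, 0, 1, 0, 1], [5, 4, 3, 1, 2, 0, 3, 2, 4, 3, 1, 5, 4, 3], [0, 0, 0, 1, 0, 0]),
  ([0, 0, 0, 0, 1, 1, 0], [3, 1, 2, 0, 3, 2, 4, 3, 1, 5, 4, 3], [0, 0, 0, 1, 0, 0]),
  ([0, 0, 0, 1, 0, 0, 1], [2, 0, 3, 1, 2, 3, 4, 3, 1, 2, 0, 3, 2], [0, 0, 1, 0, 0, 0]),
  ([0, 0, 0, 1, 1, 0, 0], [3, 1, 4, 3, 2, 0, 5, 4, 3, 1, 2, 3], [0, 0, 0, 1, 0, 0]),
  ([0, 0, 0, 1, 1, 0, 1], [2, 0, 3, 1, 2, 3, 4, 3, 1, 2, 0, 3, 2, 5, 4], [0, 0, 1, 0, 1, 0]),
  ([0, 0, 0, 1, 1, 1, 0], [3, 1, 2, 0, 3, 2, 4, 3, 2, 0, 5, 4, 3, 2], [0, 0, 1, 0, 1, 0]),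
  ([0, 0, 1, 0, 0, 0, 1], [5, 4, 3, 1, 2, 0, 3, 2, 4, 3, 1, 5, 4, 3, 2], [0, 0, 1, 0, 0, 0]),
  ([0, 0, 1, 0, 1, 0, 0], [1, 3, 2, 0, 4, 3, 2, 5, 4, 3], [0, 0, 0, 1, 0, 0]),
  ([0, 0, 1, 0, 1, 0, 1], [1, 3, 2, 0, 4, 3, 1, 2, 3, 4], [0, 0, 1, 0, 1, 0]),
  ([0, 0, 1, 0, 1, 1, 0], [1, 4, 3, 2, 0, 5, 4, 3, 1, 2, 3, 4], [0, 0, 1, 0, 1, 0]),
  ([0, 0, 1, 1, 0, 0, 1], [5, 4, 3, 1, 2, 0, 3, 2, 4, 3, 1, 5, 4, 3, 2], [0, 0, 1, 0, 1, 0]),
  ([0, 0, 1, 1, 1, 0, 0], [1, 2, 0, 3, 2, 4, 3, 1, 5, 4, 3, 2], [0, 0, 1, 0, 1, 0]),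
  ([0, 1, 0, 0, 0, 0, 1], [0, 2, 3, 1, 4, 3, 2, 0], [1, 0, 0, 0, 0, 0]),
  ([0, 1, 0, 0, 0, 1, 0], [0, 2, 3, 1, 4, 3, 2, 0, 5, 4, 3, 2], [0, 0, 1, 0, 0, 0]),
  ([0, 1, 0, 0, 1, 0, 0], [0, 2, 3, 1, 4, 3, 2, 0, 5, 4, 3, 1, 2, 3], [0, 0, 0, 1, 0, 0]),
  ([0, 1, 0, 0, 1, 0, 1], [3, 1, 2, 3, 4, 3, 1, 2, 0, 3, 2, 5, 4], [0, 0, 1, 0, 1, 0]),
  ([0, 1, 0, 0, 1, 1, 0], [4, 3, 1, 2, 3, 4, 5, 4, 3, 1, 2, 0, 3, 2, 4], [0, 0, 1, 0, 1, 0]),
  ([0, 1, 1, 0, 0, 0, 0], [1, 3, 2, 4, 3, 1, 5, 4, 3, 2], [0, 0, 1, 0, 0, 0]),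
  ([0, 1, 1, 0, 0, 1, 0], [0, 2, 3, 1, 4, 3, 2, 0, 5, 4, 3, 1, 2, 3, 4], [0, 0, 1, 0, 1, 0]),
  ([0, 1, 1, 0, 1, 0, 0], [1, 3, 2, 4, 3, 1, 5, 4, 3, 2], [0, 0, 1, 0, 1, 0]),
  ([1, 0, 0, 0, 0, 0, 1], [5, 4, 3, 1, 2, 0, 3, 2, 4, 3, 1, 5, 4, 3, 2, 0], [1, 0, 0, 0, 0, 0]),
  ([1, 0, 0, 0, 0, 1, 0], [4, 3, 1, 2, 0, 3, 2, 4, 3, 1, 5, 4, 3, 1, 2, 0, 3, 2, 4, 3, 1, 5, 4, 3, 2], [0, 0, 1, 0, 0, 0]),
  ([1, 0, 0, 0, 1, 0, 0], [], [0, 0, 0, 1, 0, 0]),
  ([1, 0, 0, 0, 1, 0, 1], [5, 4, 3, 1, 2, 0, 3, 2], [0, 0, 1, 0, 1, 0]),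
  ([1, 0, 0, 0, 1, 1, 0], [3, 1, 2, 0, 3, 2], [0, 0, 1, 0, 1, 0]),
  ([1, 0, 0, 1, 0, 0, 0], [], [0, 0, 1, 0, 0, 0]),
  ([1, 0, 0, 1, 0, 1, 0], [], [0, 0, 1, 0, 1, 0]),
  ([1, 0, 0, 1, 1, 0, 0], [3, 1, 4, 3, 5, 4], [0, 0, 1, 0, 1, 0]),
  ([1, 1, 0, 0, 0, 0, 0], [], [1, 0, 0, 0, 0, 0]),
  ([1, 1, 0, 0, 0, 0, 1], [], [1, 0, 0, 0, 0, 1]),
  ([1, 1, 0, 0, 1, 0, 0], [0, 2, 3, 1, 4, 3, 5, 4], [0, 0, 1, 0, 1, 0])]

private noncomputable def _root_.Cfsg.Agent.LsF.f8fcc34_0 : {f // @Cfsg.Agent.Cam.Ex.Cb.al = f} := ⟨_, by first | (delta Cfsg.Agent.Cam.Ex.Cb.al; rewrite [Cfsg.Agent.LsF.cond_eq]; exact rfl) | exact rfl⟩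
private noncomputable def _root_.Cfsg.Agent.LsF.f8fcc34_1 : {f // @Cfsg.Agent.Cam.Ex.Cb.ieq = f} := ⟨_, by first | (delta Cfsg.Agent.Cam.Ex.Cb.ieq; rewrite [Cfsg.Agent.LsF.instIDecEq_eq, Cfsg.Agent.LsF.decide_eq]; exact rfl) | exact rfl⟩
private noncomputable def _root_.Cfsg.Agent.LsF.f8fcc34_2 : {f // @Cfsg.Agent.Cam.Ex.Cb.zr = f} := ⟨_, by first | (delta Cfsg.Agent.Cam.Ex.Cb.zr; rewrite [Cfsg.Agent.LsF.f8fcc34_1.2, Cfsg.Agent.LsF.emod_eq]; exact rfl) | exact rfl⟩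
private noncomputable def _root_.Cfsg.Agent.LsF.f8fcc34_3 : {f // @Cfsg.Agent.Cam.Ex.Cb.dot = f} := ⟨_, by first | (delta Cfsg.Agent.Cam.Ex.Cb.dot; rewrite [Cfsg.Agent.LsF.iadd_eq, Cfsg.Agent.LsF.imul_eq]; (try delta List.casesOn); exact rfl) | exact rfl⟩
private noncomputable def _root_.Cfsg.Agent.LsF.f8fcc34_4 : {f // @Cfsg.Agent.Cam.Ex.Cb.an = f} := ⟨_, by first | (delta Cfsg.Agent.Cam.Ex.Cb.an; rewrite [Cfsg.Agent.LsF.cond_eq]; exact rfl) | exact rfl⟩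
private noncomputable def _root_.Cfsg.Agent.LsF.f8fcc34_5 : {f // @Cfsg.Agent.Cam.Ex.Cb.leq = f} := ⟨_, by first | (delta Cfsg.Agent.Cam.Ex.Cb.leq; rewrite [Cfsg.Agent.LsF.f8fcc34_1.2, Cfsg.Agent.LsF.cond_eq]; (try delta List.casesOn); exact rfl) | exact rfl⟩
private noncomputable def _root_.Cfsg.Agent.LsF.f8fcc34_6 : {f // @Cfsg.Agent.Cam.Ex.Cb.axpy = f} := ⟨_, by first | (delta Cfsg.Agent.Cam.Ex.Cb.axpy; rewrite [Cfsg.Agent.LsF.imul_eq, Cfsg.Agent.LsF.isub_eq]; (try delta List.casesOn); exact rfl) | exact rfl⟩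
private noncomputable def _root_.Cfsg.Agent.LsF.f8fcc34_7 : {f // @Cfsg.Agent.Cam.Ex.Cb.fs = f} := ⟨_, by first | (delta Cfsg.Agent.Cam.Ex.Cb.fs; rewrite [Cfsg.Agent.LsF.f8fcc34_6.2]; exact rfl) | exact rfl⟩
private noncomputable def _root_.Cfsg.Agent.LsF.f8fcc34_8 : {f // @Cfsg.Agent.Cam.Ex.Cb.fw = f} := ⟨_, by first | (delta Cfsg.Agent.Cam.Ex.Cb.fw; rewrite [Cfsg.Agent.LsF.f8fcc34_7.2]; exact rfl) | exact rfl⟩
private noncomputable def _root_.Cfsg.Agent.LsF.f8fcc34_9 : {f // @Cfsg.Agent.Cam.Ex.Cb.far = f} := ⟨_, by first | (delta Cfsg.Agent.Cam.Ex.Cb.far; rewrite [Cfsg.Agent.LsF.f8fcc34_1.2, Cfsg.Agent.LsF.f8fcc34_3.2, Cfsg.Agent.LsF.cond_eq, Cfsg.Agent.LsF.iadd_eq, Cfsg.Agent.LsF.idecLt_eq, Cfsg.Agent.LsF.decide_eq]; exact rfl) | exact rfl⟩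
private noncomputable def _root_.Cfsg.Agent.LsF.f8fcc34_10 : {f // @Cfsg.Agent.Cam.Ex.Cb.fl = f} := ⟨_, by first | (delta Cfsg.Agent.Cam.Ex.Cb.fl; rewrite [Cfsg.Agent.LsF.cond_eq]; exact rfl) | exact rfl⟩
private noncomputable def _root_.Cfsg.Agent.LsF.f8fcc34_11 : {f // @Cfsg.Agent.Cam.Ex.Cb.tchk = f} := ⟨_, by first | (delta Cfsg.Agent.Cam.Ex.Cb.tchk; rewrite [Cfsg.Agent.LsF.f8fcc34_1.2, Cfsg.Agent.LsF.f8fcc34_0.2, Cfsg.Agent.LsF.f8fcc34_2.2, Cfsg.Agent.LsF.f8fcc34_3.2, Cfsg.Agent.LsF.f8fcc34_4.2, Cfsg.Agent.LsF.f8fcc34_5.2, Cfsg.Agent.LsF.f8fcc34_8.2, Cfsg.Agent.LsF.f8fcc34_9.2, Cfsg.Agent.LsF.f8fcc34_10.2, Cfsg.Agent.LsF.iadd_pat, Cfsg.Agent.LsF.imul_pat, Cfsg.Agent.LsF.bbeq_pat, Cfsg.Agent.LsF.and_eq, Cfsg.Agent.LsF.or_eq, Cfsg.Agent.LsF.range_eq, Cfsg.Agent.LsF.idecLt_eq, Cfsg.Agent.LsF.decide_eq]; exact rfl) | exact rfl⟩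
private noncomputable def _root_.Cfsg.Agent.LsF.f8fcc34_12 : {f // @Cfsg.Agent.Cam.Ex.Cb.pats = f} := ⟨_, by first | (delta Cfsg.Agent.Cam.Ex.Cb.pats; rewrite [Cfsg.Agent.LsF.map_eq, Cfsg.Agent.LsF.flatMap_eq]; exact rfl) | exact rfl⟩
theorem tyE6 : al (fun P => tchk 6 dE6 wtE6 0 P && tchk 6 dE6 wtE6 1 P) (pats [0, 1] 6) = true := by
  ((try (rewrite [Cfsg.Agent.LsF.f8fcc34_0.2, Cfsg.Agent.LsF.f8fcc34_11.2, Cfsg.Agent.LsF.f8fcc34_12.2, Cfsg.Agent.LsF.and_eq])); decide +kernel)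

theorem tyE6' : ∀ t ∈ wtE6, t.2.2 ∈ ([[1, 0, 0, 0, 0, 0], [0, 0, 1, 0, 0, 0], [0, 0, 0, 1, 0, 0], [1, 0, 0, 0, 0, 1], [0, 0, 1, 0, 1, 0]] : List V) := by
  decide +kernel

/-- patterns, words, types -/
def wtE7 : List (V × List ℕ × V) := [
  ([0, 0, 0, 0, 0, 1, 0, 1], [6, 5, 4, 3, 1, 2, 0, 3, 2, 4, 3, 1, 5, 4, 3, 2, 0, 6, 5, 4, 3, 2], [0, 0, 1, 0, 0, 0, 0]),
  ([0, 0, 0, 0, 0, 1, 1, 0], [4, 3, 1, 2, 0, 3, 2, 4, 3, 1, 5, 4, 3, 2, 0, 6, 5, 4, 3, 2], [0, 0, 1, 0, 0, 0, 0]),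
  ([0, 0, 0, 0, 1, 0, 0, 1], [6, 5, 4, 3, 1, 2, 0, 3, 2, 4, 3, 1, 5, 4, 3, 2, 0, 6, 5, 4, 3, 1, 2, 3], [0, 0, 0, 1, 0, 0, 0]),
  ([0, 0, 0, 0, 1, 1, 0, 0], [3, 1, 2, 0, 3, 2, 4, 3, 1, 5, 4, 3, 2, 0, 6, 5, 4, 3, 1, 2, 3], [0, 0, 0, 1, 0, 0, 0]),
  ([0, 0, 0, 1, 0, 0, 0, 1], [6, 5, 4, 3, 1, 2, 0, 3, 2, 4, 3, 1, 5, 4, 3, 2, 0, 6, 5, 4, 3, 1, 2, 3, 4], [0, 0, 0, 0, 1, 0, 0]),
  ([0, 0, 0, 1, 0, 0, 1, 0], [2, 0, 3, 1, 2, 3, 4, 3, 1, 2, 0, 3, 2, 5, 4, 3, 1, 6, 5, 4, 3], [0, 0, 0, 1, 0, 0, 0]),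
  ([0, 0, 0, 1, 0, 1, 0, 1], [2, 0, 3, 1, 2, 3, 4, 5, 6, 5, 4, 3, 1, 2, 0, 3, 2, 4, 3, 1, 5, 4, 3], [0, 0, 0, 1, 0, 0, 1]),
  ([0, 0, 0, 1, 0, 1, 1, 0], [2, 0, 3, 1, 2, 3, 4, 3, 1, 2, 0, 3, 2, 5, 4, 3, 1, 6, 5, 4, 3], [0, 0, 0, 1, 0, 0, 1]),
  ([0, 0, 0, 1, 1, 0, 0, 0], [2, 0, 3, 1, 2, 3, 4, 3, 1, 2, 3, 5, 4, 3, 1, 2, 3, 6, 5, 4, 3, 1, 2, 3], [0, 0, 0, 1, 0, 0, 0]),
  ([0, 0, 0, 1, 1, 0, 0, 1], [2, 0, 6, 5, 4, 3, 1, 2, 0, 3, 2, 4, 3, 1, 5, 4, 3, 2, 0, 6, 5, 4, 3, 1, 2, 3], [0, 0, 0, 1, 0, 0, 1]),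
  ([0, 0, 0, 1, 1, 0, 1, 0], [2, 0, 3, 1, 2, 3, 4, 3, 1, 2, 0, 3, 2, 5, 4, 3, 1, 6, 5, 4, 3], [0, 0, 0, 1, 0, 1, 0]),
  ([0, 0, 0, 1, 1, 1, 0, 0], [2, 0, 3, 1, 2, 0, 3, 2, 4, 3, 1, 5, 4, 3, 2, 0, 6, 5, 4, 3, 1, 2, 3], [0, 0, 0, 1, 0, 0, 1]),
  ([0, 0, 1, 0, 0, 0, 0, 1], [1, 3, 2, 0, 4, 3, 1, 2, 3, 4, 5, 4, 3, 1, 2, 0, 3, 2, 4, 3, 1], [0, 1, 0, 0, 0, 0, 0]),
  ([0, 0, 1, 0, 0, 1, 0, 0], [4, 3, 2, 0, 5, 4, 3, 1, 2, 3, 4, 5, 6, 5, 4, 3, 1, 2, 0, 3, 2, 4, 3, 5, 4], [0, 0, 0, 0, 1, 0, 0]),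
  ([0, 0, 1, 0, 0, 1, 0, 1], [4, 3, 2, 0, 5, 4, 3, 1, 2, 3, 4, 5, 6, 5, 4, 3, 1, 2, 0, 3, 2, 4, 3, 5, 4], [0, 0, 0, 0, 1, 0, 1]),
  ([0, 0, 1, 0, 0, 1, 1, 0], [1, 3, 2, 0, 4, 3, 1, 2, 3, 4, 5, 4, 3, 1, 2, 3, 4, 6, 5, 4, 3, 1, 2, 3, 4], [0, 0, 0, 0, 1, 0, 1]),
  ([0, 0, 1, 1, 0, 0, 0, 0], [2, 0, 3, 2, 4, 3, 1, 5, 4, 3, 2, 0, 6, 5, 4, 3, 1, 2, 3, 4], [0, 0, 0, 0, 1, 0, 0]),
  ([0, 0, 1, 1, 0, 0, 1, 0], [1, 2, 0, 3, 1, 2, 0, 3, 4, 3, 1, 2, 0, 3, 2, 4, 5, 4, 3, 1, 6, 5, 4, 3], [0, 0, 0, 1, 0, 0, 1]),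
  ([0, 0, 1, 1, 0, 1, 0, 0], [2, 0, 3, 1, 2, 3, 4, 3, 1, 5, 4, 3, 2, 0, 6, 5, 4, 3, 1, 2, 3], [0, 0, 0, 1, 0, 0, 1]),
  ([0, 1, 0, 0, 0, 0, 0, 1], [0, 2, 3, 1, 4, 3, 2, 0, 5, 4, 3, 1, 2, 3, 4, 5], [0, 0, 0, 0, 0, 1, 0]),
  ([0, 1, 0, 0, 0, 1, 0, 0], [0, 2, 3, 1, 4, 3, 2, 0, 5, 4, 3, 2, 6, 5, 4, 3], [0, 0, 0, 1, 0, 0, 0]),
  ([0, 1, 0, 0, 1, 0, 0, 1], [0, 2, 3, 1, 4, 3, 2, 0, 5, 4, 3, 1, 2, 3, 4, 5], [0, 0, 0, 1, 0, 1, 0]),
  ([0, 1, 0, 0, 1, 1, 0, 0], [0, 2, 3, 1, 4, 3, 2, 0, 5, 4, 3, 2, 6, 5, 4, 3], [0, 0, 0, 1, 0, 1, 0]),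
  ([0, 1, 0, 1, 0, 0, 0, 0], [0, 2, 3, 1, 4, 3, 2, 5, 4, 3, 1, 6, 5, 4, 3, 2], [0, 0, 1, 0, 0, 0, 0]),
  ([0, 1, 0, 1, 0, 0, 0, 1], [0, 6, 5, 4, 3, 1, 2, 0, 3, 2, 4, 3, 1, 5, 4, 3, 2, 0, 6, 5, 4, 3, 1, 2, 3, 4], [0, 0, 0, 0, 1, 0, 1]),
  ([0, 1, 0, 1, 0, 1, 0, 0], [0, 2, 0, 3, 1, 2, 3, 4, 3, 2, 0, 5, 4, 3, 2, 6, 5, 4, 3], [0, 0, 0, 1, 0, 0, 1]),
  ([0, 1, 1, 0, 0, 0, 0, 1], [0, 2, 3, 1, 4, 3, 2, 0, 5, 4, 3, 1, 2, 3, 4, 6], [0, 0, 0, 0, 1, 0, 1]),
  ([0, 1, 1, 0, 0, 1, 0, 0], [0, 2, 3, 1, 4, 3, 2, 0, 5, 4, 3, 2, 6, 5, 4, 3], [0, 0, 0, 1, 0, 0, 1]),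
  ([0, 1, 1, 1, 0, 0, 0, 0], [0, 2, 0, 3, 2, 4, 3, 1, 5, 4, 3, 2, 0, 6, 5, 4, 3, 1, 2, 3, 4], [0, 0, 0, 0, 1, 0, 1]),
  ([1, 0, 0, 0, 0, 0, 0, 1], [], [0, 0, 0, 0, 0, 0, 1]),
  ([1, 0, 0, 0, 0, 0, 1, 0], [], [0, 0, 0, 0, 0, 1, 0]),
  ([1, 0, 0, 0, 0, 1, 0, 0], [], [0, 0, 0, 0, 1, 0, 0]),
  ([1, 0, 0, 0, 0, 1, 0, 1], [], [0, 0, 0, 0, 1, 0, 1]),
  ([1, 0, 0, 0, 0, 1, 1, 0], [5, 6], [0, 0, 0, 0, 1, 0, 1]),
  ([1, 0, 0, 0, 1, 0, 0, 0], [], [0, 0, 0, 1, 0, 0, 0]),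
  ([1, 0, 0, 0, 1, 0, 0, 1], [], [0, 0, 0, 1, 0, 0, 1]),
  ([1, 0, 0, 0, 1, 0, 1, 0], [], [0, 0, 0, 1, 0, 1, 0]),
  ([1, 0, 0, 0, 1, 1, 0, 0], [4, 5, 6], [0, 0, 0, 1, 0, 0, 1]),
  ([1, 0, 0, 1, 0, 0, 0, 0], [], [0, 0, 1, 0, 0, 0, 0]),
  ([1, 0, 0, 1, 0, 0, 0, 1], [2, 0, 3, 1, 2, 3, 4, 3, 1, 2, 0, 3, 2, 5, 4, 3, 1, 2, 0, 3, 2, 4, 3, 5, 4], [0, 0, 0, 0, 1, 0, 1]),
  ([1, 0, 0, 1, 0, 1, 0, 0], [2, 0, 3, 1, 2, 3, 4, 5, 6], [0, 0, 0, 1, 0, 0, 1]),
  ([1, 0, 1, 0, 0, 0, 0, 0], [], [0, 1, 0, 0, 0, 0, 0]),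
  ([1, 0, 1, 0, 0, 0, 1, 0], [1, 3, 2, 0, 4, 3, 1, 2, 3, 4, 5, 6], [0, 0, 0, 0, 1, 0, 1]),
  ([1, 0, 1, 1, 0, 0, 0, 0], [2, 0, 3, 2, 4, 3, 1, 5, 4, 3, 2, 0, 6, 5, 4, 3, 1, 2, 3, 4, 5, 6], [0, 0, 0, 0, 1, 0, 1])]

theorem tyE7 : al (fun P => tchk 7 dE7 wtE7 0 P && tchk 7 dE7 wtE7 1 P) (pats [0, 1] 7) = true := by
  ((try (rewrite [Cfsg.Agent.LsF.f8fcc34_0.2, Cfsg.Agent.LsF.f8fcc34_11.2, Cfsg.Agent.LsF.f8fcc34_12.2, Cfsg.Agent.LsF.and_eq])); decide +kernel)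

theorem tyE7' : ∀ t ∈ wtE7, t.2.2 ∈ ([[0, 0, 0, 0, 0, 0, 1], [0, 0, 0, 0, 0, 1, 0], [0, 1, 0, 0, 0, 0, 0], [0, 0, 1, 0, 0, 0, 0], [0, 0, 0, 0, 1, 0, 0], [0, 0, 0, 1, 0, 0, 0], [0, 0, 0, 0, 1, 0, 1], [0, 0, 0, 1, 0, 0, 1], [0, 0, 0, 1, 0, 1, 0]] : List V) := by
  decide +kernel

theorem negF4 : negchk 4 dF4 [0, 1, 0, 2, 1, 0, 2, 1, 2, 3, 2, 1, 0, 2, 1, 2, 3, 2, 1, 0, 2, 1, 2, 3] = true := by
  decide +kernel

theorem negE7 : negchk 7 dE7 [0, 1, 2, 0, 3, 1, 2, 0, 3, 2, 4, 3, 1, 2, 0, 3, 2, 4, 3, 1, 5, 4, 3, 1, 2, 0, 3, 2, 4, 3, 1, 5, 4, 3, 2, 0, 6, 5, 4, 3, 1, 2, 0, 3, 2, 4, 3, 1, 5, 4, 3, 2, 0, 6, 5, 4, 3, 1, 2, 3, 4, 5, 6] = true := by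
  decide +kernel

end Cfsg.Agent.Cam.Ex.Cb
end

-- part: Cam/Ex/CbP6
section
set_option linter.all false
open scoped Cfsg.Agent.FastGrp

/-!
# The finite check: double cosets and certificates (helper12, generated by `tools/cam12/gen_data.py`)
-/

set_option autoImplicit false
set_option linter.unusedVariables false
set_option linter.style.longLine false
set_option maxRecDepth 100000

namespace Cfsg.Agent.Cam.Ex.Cb

open Cfsg Cfsg.Lie

/-- double cosets -/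
def LE6_100001 : List V := [
  ([-2, 0, 0, 0, 0, 1] : V), ([-2, 0, 0, 0, 1, -1] : V), ([-2, 0, 1, 0, 1, -2] : V), ([-2, 0, 2, 0, 0, -1] : V),
  ([-2, 1, 0, 0, 0, 1] : V), ([-2, 1, 0, 0, 1, -1] : V), ([-2, 1, 1, 0, 0, 0] : V), ([-1, 0, 0, 0, 0, -1] : V),
  ([-1, 0, 0, 0, 0, 2] : V), ([-1, 0, 0, 0, 2, -2] : V), ([-1, 0, 1, 0, 0, -2] : V), ([-1, 0, 1, 0, 0, 1] : V),
  ([-1, 0, 1, 0, 1, -1] : V), ([-1, 1, 1, 0, 0, -2] : V), ([-1, 2, 0, 0, 0, -1] : V), ([0, 1, 0, 0, 1, -2] : V),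
  ([1, 0, 0, 0, 0, -2] : V), ([1, 0, 0, 0, 0, 1] : V), ([1, 0, 0, 0, 1, -1] : V), ([1, 1, 0, 0, 0, -2] : V),
  ([2, 0, 0, 0, 0, -1] : V)]

theorem pE6_100001 : pchk 6 dE6 [1, 0, 0, 0, 0, 1] [1, 0, 0, 0, 0, 1] [1, 2, 3, 4] LE6_100001 = true :=
  pchk_of (by decide +kernel)

/-- certificates -/
def CE6_100001_0 : List (V × Bool × List V) := [(([-2, 0, 0, 0, 0, 1] : V), false, [([2, 1, 2, 2, 1, 0] : V)]),
  (([-2, 1, 0, 0, 1, -1] : V), true, [([-2, -1, -1, 0, 2, 0] : V)]),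
  (([-1, 1, 1, 0, 0, -2] : V), true, [([-2, 3, 0, 2, 1, 0] : V)]),
  (([1, 0, 0, 0, 0, -2] : V), false, [([-4, -1, -3, -2, 0, 2] : V)])]

/-- survivors -/
def SE6_100001_0 : List V := [([-2, 0, 1, 0, 1, -2] : V), ([-1, 0, 1, 0, 1, -1] : V)]

theorem kE6_100001_0 : kchk 6 dE6 0 85766121000000 [1, 0, 0, 0, 0, 1] [1, 0, 0, 0, 0, 1] [] CE6_100001_0 LE6_100001 SE6_100001_0 = true := by
  decide +kernel

private noncomputable def _root_.Cfsg.Agent.KO04de08f.k0 : (by first | exact type_of% @Cfsg.Agent.Cam.Ex.Cb.al | exact Unit : Sort _) := by first | (refine @Subtype.val _ (fun g => @Cfsg.Agent.Cam.Ex.Cb.al = @g) (@Subtype.mk _ _ (@(fun x0 x1 x2 => @List.rec.{1, 0} @x0 @(fun x3 => @Bool) @Bool.true @(fun x3 x4 x5 => @Bool.rec.{1} @(fun x6 => @Bool) @Bool.false @x5 (@x1 @x3)) @x2)) ?_); rfl') | exact @Cfsg.Agent.Cam.Ex.Cb.al | exact ()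
private theorem _root_.Cfsg.Agent.KO04de08f.e0 : (by first | exact @Cfsg.Agent.Cam.Ex.Cb.al = @_root_.Cfsg.Agent.KO04de08f.k0 | exact True : Prop) := by first | (delta _root_.Cfsg.Agent.KO04de08f.k0; exact @Subtype.property _ (fun g => @Cfsg.Agent.Cam.Ex.Cb.al = @g) _) | rfl | trivial
private noncomputable def _root_.Cfsg.Agent.KO04de08f.k4 : type_of% @Int.add := @(fun x0 x1 => @Int.rec.{1} @(fun x2 => ℤ) @(fun x2 => @Int.rec.{1} @(fun x3 => ℤ) @(fun x3 => @Int.ofNat (@Nat.add @x2 @x3)) @(fun x3 => @Nat.rec.{1} @(fun x4 => ℤ) (@Int.ofNat (@Nat.sub @x2 (@Nat.succ @x3))) @(fun x4 x5 => @Int.negSucc @x4) (@Nat.sub (@Nat.succ @x3) @x2)) @x1) @(fun x2 => @Int.rec.{1} @(fun x3 => ℤ) @(fun x3 => @Nat.rec.{1} @(fun x4 => ℤ) (@Int.ofNat (@Nat.sub @x3 (@Nat.succ @x2))) @(fun x4 x5 => @Int.negSucc @x4) (@Nat.sub (@Nat.succ @x2) @x3)) @(fun x3 => @Int.negSucc (@Nat.succ (@Nat.add @x2 @x3))) @x1) @x0)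
private theorem _root_.Cfsg.Agent.KO04de08f.e4 : @Int.add = @_root_.Cfsg.Agent.KO04de08f.k4 := by delta _root_.Cfsg.Agent.KO04de08f.k4; rfl'
private noncomputable def _root_.Cfsg.Agent.KO04de08f.k5 : type_of% @Int.mul := @(fun x0 x1 => @Int.rec.{1} @(fun x2 => ℤ) @(fun x2 => @Int.rec.{1} @(fun x3 => ℤ) @(fun x3 => @Int.ofNat (@Nat.mul @x2 @x3)) @(fun x3 => @Nat.rec.{1} @(fun x4 => ℤ) (@Int.ofNat (nat_lit 0)) @(fun x4 x5 => @Int.negSucc @x4) (@Nat.mul @x2 (@Nat.succ @x3))) @x1) @(fun x2 => @Int.rec.{1} @(fun x3 => ℤ) @(fun x3 => @Nat.rec.{1} @(fun x4 => ℤ) (@Int.ofNat (nat_lit 0)) @(fun x4 x5 => @Int.negSucc @x4) (@Nat.mul (@Nat.succ @x2) @x3)) @(fun x3 => @Int.ofNat (@Nat.mul (@Nat.succ @x2) (@Nat.succ @x3))) @x1) @x0)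
private theorem _root_.Cfsg.Agent.KO04de08f.e5 : @Int.mul = @_root_.Cfsg.Agent.KO04de08f.k5 := by delta _root_.Cfsg.Agent.KO04de08f.k5; rfl'
private noncomputable def _root_.Cfsg.Agent.KO04de08f.k9 : (by first | exact type_of% @Cfsg.Agent.Cam.Ex.Cb.dot | exact Unit : Sort _) := by first | (refine @Subtype.val _ (fun g => @Cfsg.Agent.Cam.Ex.Cb.dot = @g) (@Subtype.mk _ _ (@(fun x0 => @List.rec.{1, 0} ℤ @(fun x1 => @Cfsg.Agent.Cam.Ex.Cb.V → ℤ) @(fun x1 => @Int.ofNat (nat_lit 0)) @(fun x1 x2 x3 x4 => @List.rec.{1, 0} ℤ @(fun x5 => ℤ) (@Int.ofNat (nat_lit 0)) @(fun x5 x6 x7 => @Cfsg.Agent.KO04de08f.k4 (@Cfsg.Agent.KO04de08f.k5 @x1 @x5) (@x3 @x6)) @x4) @x0)) ?_); rewrite [← Cfsg.Agent.KO04de08f.e5, ← Cfsg.Agent.KO04de08f.e4]; rfl') | exact @Cfsg.Agent.Cam.Ex.Cb.dot | exact ()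
private theorem _root_.Cfsg.Agent.KO04de08f.e9 : (by first | exact @Cfsg.Agent.Cam.Ex.Cb.dot = @_root_.Cfsg.Agent.KO04de08f.k9 | exact True : Prop) := by first | (delta _root_.Cfsg.Agent.KO04de08f.k9; exact @Subtype.property _ (fun g => @Cfsg.Agent.Cam.Ex.Cb.dot = @g) _) | rfl | trivial
private noncomputable def _root_.Cfsg.Agent.KO04de08f.k10 : (by first | exact type_of% @Cfsg.Agent.Cam.Ex.Cb.an | exact Unit : Sort _) := by first | (refine @Subtype.val _ (fun g => @Cfsg.Agent.Cam.Ex.Cb.an = @g) (@Subtype.mk _ _ (@(fun x0 x1 x2 => @List.rec.{1, 0} @x0 @(fun x3 => @Bool) @Bool.false @(fun x3 x4 x5 => @Bool.rec.{1} @(fun x6 => @Bool) @x5 @Bool.true (@x1 @x3)) @x2)) ?_); rfl') | exact @Cfsg.Agent.Cam.Ex.Cb.an | exact ()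
private theorem _root_.Cfsg.Agent.KO04de08f.e10 : (by first | exact @Cfsg.Agent.Cam.Ex.Cb.an = @_root_.Cfsg.Agent.KO04de08f.k10 | exact True : Prop) := by first | (delta _root_.Cfsg.Agent.KO04de08f.k10; exact @Subtype.property _ (fun g => @Cfsg.Agent.Cam.Ex.Cb.an = @g) _) | rfl | trivial
private noncomputable def _root_.Cfsg.Agent.KO04de08f.k13 : type_of% @Nat.decEq := @(fun x0 x1 => @Bool.rec.{1} @(fun x2 => (@Eq.{1} _ (@Nat.beq @x0 @x1) @x2) → @Decidable (@Eq.{1} _ @x0 @x1)) @(fun x2 => @Decidable.isFalse _ (@Nat.ne_of_beq_eq_false _ _ @x2)) @(fun x2 => @Decidable.isTrue _ (@Nat.eq_of_beq_eq_true _ _ @x2)) (@Nat.beq @x0 @x1) (@Eq.refl.{1} _ (@Nat.beq @x0 @x1)))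
private theorem _root_.Cfsg.Agent.KO04de08f.e13 : @Nat.decEq = @_root_.Cfsg.Agent.KO04de08f.k13 := by delta _root_.Cfsg.Agent.KO04de08f.k13; rfl'
private noncomputable def _root_.Cfsg.Agent.KO04de08f.k14 : type_of% @Int.decEq := @(fun x0 x1 => @Int.rec.{1} @(fun x2 => @Decidable (@Eq.{1} _ @x2 @x1)) @(fun x2 => @Int.rec.{1} @(fun x3 => @Decidable (@Eq.{1} _ (@Int.ofNat @x2) @x3)) @(fun x3 => @Decidable.rec.{1} _ @(fun x4 => @Decidable (@Eq.{1} _ (@Int.ofNat @x2) (@Int.ofNat @x3))) @(fun x4 => @Decidable.isFalse _ (@Int.decEq._proof_2 @x2 @x3 @x4)) @(fun x4 => @Decidable.isTrue _ (@Int.decEq._proof_1 @x2 @x3 @x4)) (@Cfsg.Agent.KO04de08f.k13 @x2 @x3)) @(fun x3 => @Decidable.isFalse _ (@Int.decEq._proof_3 @x2 @x3)) @x1) @(fun x2 => @Int.rec.{1} @(fun x3 => @Decidable (@Eq.{1} _ (@Int.negSucc @x2) @x3)) @(fun x3 => @Decidable.isFalse _ (@Int.decEq._proof_4 @x2 @x3)) @(fun x3 => @Decidable.rec.{1} _ @(fun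 x4 => @Decidable (@Eq.{1} _ (@Int.negSucc @x2) (@Int.negSucc @x3))) @(fun x4 => @Decidable.isFalse _ (@Int.decEq._proof_6 @x2 @x3 @x4)) @(fun x4 => @Decidable.isTrue _ (@Int.decEq._proof_5 @x2 @x3 @x4)) (@Cfsg.Agent.KO04de08f.k13 @x2 @x3)) @x1) @x0)
private theorem _root_.Cfsg.Agent.KO04de08f.e14 : @Int.decEq = @_root_.Cfsg.Agent.KO04de08f.k14 := by delta _root_.Cfsg.Agent.KO04de08f.k14; rewrite [← Cfsg.Agent.KO04de08f.e13]; rfl'
private noncomputable def _root_.Cfsg.Agent.KO04de08f.k15 : (by first | exact type_of% @Cfsg.Agent.Cam.Ex.Cb.ieq | exact Unit : Sort _) := by first | (refine @Subtype.val _ (fun g => @Cfsg.Agent.Cam.Ex.Cb.ieq = @g) (@Subtype.mk _ _ (@(fun x0 x1 => @Decidable.rec.{1} _ @(fun x2 => @Bool) @(fun x2 => @Bool.false) @(fun x2 => @Bool.true) (@Cfsg.Agent.KO04de08f.k14 @x0 @x1))) ?_); rewrite [← Cfsg.Agent.KO04de08f.e14]; rfl') | exact @Cfsg.Agent.Cam.Ex.Cb.ieq | exact ()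
private theorem _root_.Cfsg.Agent.KO04de08f.e15 : (by first | exact @Cfsg.Agent.Cam.Ex.Cb.ieq = @_root_.Cfsg.Agent.KO04de08f.k15 | exact True : Prop) := by first | (delta _root_.Cfsg.Agent.KO04de08f.k15; exact @Subtype.property _ (fun g => @Cfsg.Agent.Cam.Ex.Cb.ieq = @g) _) | rfl | trivial
private theorem _root_.Cfsg.Agent.KO04de08f.e16.{ku, kv} {α : Type kv} {M : List α → Sort ku} (φ : ∀ l, M l) {z : M List.nil} {s : ∀ a l, M l → M (List.cons a l)} (h0 : φ List.nil = z) (hs : ∀ a l, φ (List.cons a l) = s a l (φ l)) (l : List α) : φ l = @List.rec α M z s l := List.rec h0 (fun a l ih => (hs a l).trans (congrArg (s a l) ih)) l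
private noncomputable def _root_.Cfsg.Agent.KO04de08f.k17.{ku0} : type_of% @List.length.{ku0} := @(fun x0 x1 => @List.rec.{1, ku0} @x0 @(fun x2 => ℕ) (nat_lit 0) @(fun x2 x3 x4 => @Nat.add @x4 (nat_lit 1)) @x1)
private theorem _root_.Cfsg.Agent.KO04de08f.e17.{ku0} : @List.length.{ku0} = @_root_.Cfsg.Agent.KO04de08f.k17.{ku0} := by delta _root_.Cfsg.Agent.KO04de08f.k17; funext a0 a1; refine (_root_.Cfsg.Agent.KO04de08f.e16 (fun a1 => @List.length.{ku0} a0 a1) ?_ (fun c0 c1 => ?_) a1 :) <;> (rfl')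
private noncomputable def _root_.Cfsg.Agent.KO04de08f.k19 : (by first | exact type_of% @Cfsg.Agent.Cam.Ex.Cb.leq | exact Unit : Sort _) := by first | (refine @Subtype.val _ (fun g => @Cfsg.Agent.Cam.Ex.Cb.leq = @g) (@Subtype.mk _ _ (@(fun x0 => @List.rec.{1, 0} ℤ @(fun x1 => @Cfsg.Agent.Cam.Ex.Cb.V → @Bool) @(fun x1 => @List.rec.{1, 0} ℤ @(fun x2 => @Bool) @Bool.true @(fun x2 x3 x4 => @Bool.false) @x1) @(fun x1 x2 x3 x4 => @List.rec.{1, 0} ℤ @(fun x5 => @Bool) @Bool.false @(fun x5 x6 x7 => @Bool.rec.{1} @(fun x8 => @Bool) @Bool.false (@x3 @x6) (@Cfsg.Agent.KO04de08f.k15 @x1 @x5)) @x4) @x0)) ?_); rewrite [← Cfsg.Agent.KO04de08f.e15]; (try delta Cfsg.Agent.Cam.Ex.Cb.leq); (try generalize @Cfsg.Agent.Cam.Ex.Cb.ieq = g0); rfl') | exact @Cfsg.Agent.Cam.Ex.Cb.leq | exact ()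
private theorem _root_.Cfsg.Agent.KO04de08f.e19 : (by first | exact @Cfsg.Agent.Cam.Ex.Cb.leq = @_root_.Cfsg.Agent.KO04de08f.k19 | exact True : Prop) := by first | (delta _root_.Cfsg.Agent.KO04de08f.k19; exact @Subtype.property _ (fun g => @Cfsg.Agent.Cam.Ex.Cb.leq = @g) _) | rfl | trivial
private theorem _root_.Cfsg.Agent.KO04de08f.e21.{ku} {M : Nat → Sort ku} (φ : ∀ n, M n) {z : M Nat.zero} {s : ∀ n, M n → M (Nat.succ n)} (h0 : φ Nat.zero = z) (hs : ∀ n, φ (Nat.succ n) = s n (φ n)) (n : Nat) : φ n = @Nat.rec M z s n := Nat.rec h0 (fun n ih => (hs n).trans (congrArg (s n) ih)) n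
private noncomputable def _root_.Cfsg.Agent.KO04de08f.k22 : type_of% @List.range.loop := @(fun x0 x1 => @Nat.rec.{1} @(fun x2 => (@List.{0} ℕ) → @List.{0} ℕ) @(fun x2 => @x2) @(fun x2 x3 x4 => @x3 (@x2 :: @x4)) @x0 @x1)
private theorem _root_.Cfsg.Agent.KO04de08f.e22 : @List.range.loop = @_root_.Cfsg.Agent.KO04de08f.k22 := by delta _root_.Cfsg.Agent.KO04de08f.k22; funext a0 a1; refine (congrFun (_root_.Cfsg.Agent.KO04de08f.e21 (fun a0 a1 => @List.range.loop a0 a1) ?_ (fun c0 => ?_) a0) a1 :) <;> (rfl')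
private noncomputable def _root_.Cfsg.Agent.KO04de08f.k24 : (by first | exact type_of% @Cfsg.Agent.Cam.Ex.Cb.nz | exact Unit : Sort _) := by first | (refine @Subtype.val _ (fun g => @Cfsg.Agent.Cam.Ex.Cb.nz = @g) (@Subtype.mk _ _ (@(fun x0 x1 x2 => @Bool.rec.{1} @(fun x3 => @Bool) (@Bool.rec.{1} @(fun x3 => @Bool) @Bool.true @Bool.false (@Cfsg.Agent.KO04de08f.k15 (@Int.rec.{1} @(fun x3 => ℤ) @(fun x3 => @Int.ofNat (@Nat.mod @x3 (@Int.rec.{1} @(fun x4 => ℕ) @(fun x4 => @x4) @(fun x4 => @Nat.succ @x4) @x0))) @(fun x3 => @Nat.rec.{1} @(fun x4 => ℤ) (@Int.ofNat (@Nat.sub (@Int.rec.{1} @(fun x4 => ℕ) @(fun x4 => @x4) @(fun x4 => @Nat.succ @x4) @x0) (@Nat.succ (@Nat.mod @x3 (@Int.rec.{1} @(fun x4 => ℕ) @(fun x4 => @x4) @(fun x4 => @Nat.succ @x4) @x0))))) @(fun x4 x5 => @Int.negSucc @x4) (@Nat.sub (@Nat.succ (@Nat.mod @x3 (@Int.rec.{1} @(fun x4 => ℕ) @(fun x4 => @x4) @(fun x4 => @Nat.succ @x4) @x0))) (@Int.rec.{1}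 @(fun x4 => ℕ) @(fun x4 => @x4) @(fun x4 => @Nat.succ @x4) @x0))) @x2) (@Int.ofNat (nat_lit 0)))) (@Cfsg.Agent.KO04de08f.k15 (@Int.rec.{1} @(fun x3 => ℤ) @(fun x3 => @Int.ofNat (@Nat.mod @x3 (@Int.rec.{1} @(fun x4 => ℕ) @(fun x4 => @x4) @(fun x4 => @Nat.succ @x4) @x2))) @(fun x3 => @Nat.rec.{1} @(fun x4 => ℤ) (@Int.ofNat (@Nat.sub (@Int.rec.{1} @(fun x4 => ℕ) @(fun x4 => @x4) @(fun x4 => @Nat.succ @x4) @x2) (@Nat.succ (@Nat.mod @x3 (@Int.rec.{1} @(fun x4 => ℕ) @(fun x4 => @x4) @(fun x4 => @Nat.succ @x4) @x2))))) @(fun x4 x5 => @Int.negSucc @x4) (@Nat.sub (@Nat.succ (@Nat.mod @x3 (@Int.rec.{1} @(fun x4 => ℕ) @(fun x4 => @x4) @(fun x4 => @Nat.succ @x4) @x2))) (@Int.rec.{1} @(fun x4 => ℕ) @(fun x4 => @x4) @(fun x4 => @Nat.succ @x4) @x2))) @x1) (@Int.ofNat (nat_lit 0))) (@Cfsg.Agent.KO04de08f.k15 @x0 (@Int.ofNat (nat_lit 0))))) ?_); rewrite [← Cfsg.Agent.KO04de08f.e15]; (try delta Cfsg.Agent.Cam.Ex.Cb.nz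 Cfsg.Agent.Cam.Ex.Cb.zr); (try generalize @Cfsg.Agent.Cam.Ex.Cb.ieq = g0); rfl') | exact @Cfsg.Agent.Cam.Ex.Cb.nz | exact ()
private theorem _root_.Cfsg.Agent.KO04de08f.e24 : (by first | exact @Cfsg.Agent.Cam.Ex.Cb.nz = @_root_.Cfsg.Agent.KO04de08f.k24 | exact True : Prop) := by first | (delta _root_.Cfsg.Agent.KO04de08f.k24; exact @Subtype.property _ (fun g => @Cfsg.Agent.Cam.Ex.Cb.nz = @g) _) | rfl | trivial
private noncomputable def _root_.Cfsg.Agent.KO04de08f.k26 : (by first | exact type_of% @Cfsg.Agent.Cam.Ex.Cb.axpy | exact Unit : Sort _) := by first | (refine @Subtype.val _ (fun g => @Cfsg.Agent.Cam.Ex.Cb.axpy = @g) (@Subtype.mk _ _ (@(fun x0 x1 => @List.rec.{1, 0} ℤ @(fun x2 => @Cfsg.Agent.Cam.Ex.Cb.V → @Cfsg.Agent.Cam.Ex.Cb.V) @(fun x2 => []) @(fun x2 x3 x4 x5 => @List.rec.{1, 0} ℤ @(fun x6 => @Cfsg.Agent.Cam.Ex.Cb.V) (@x2 :: @x3) @(fun x6 x7 x8 => (@Cfsg.Agent.KO04de08f.k4 @x2 (@Int.rec.{1}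 @(fun x9 => ℤ) @(fun x9 => @Nat.rec.{1} @(fun x10 => ℤ) (@Int.ofNat (nat_lit 0)) @(fun x10 x11 => @Int.negSucc @x10) @x9) @(fun x9 => @Int.ofNat (@Nat.succ @x9)) (@Cfsg.Agent.KO04de08f.k5 @x0 @x6))) :: (@x4 @x7)) @x5) @x1)) ?_); rewrite [← Cfsg.Agent.KO04de08f.e5, ← Cfsg.Agent.KO04de08f.e4]; rfl') | exact @Cfsg.Agent.Cam.Ex.Cb.axpy | exact ()
private theorem _root_.Cfsg.Agent.KO04de08f.e26 : (by first | exact @Cfsg.Agent.Cam.Ex.Cb.axpy = @_root_.Cfsg.Agent.KO04de08f.k26 | exact True : Prop) := by first | (delta _root_.Cfsg.Agent.KO04de08f.k26; exact @Subtype.property _ (fun g => @Cfsg.Agent.Cam.Ex.Cb.axpy = @g) _) | rfl | trivial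
private noncomputable def _root_.Cfsg.Agent.KO04de08f.k30 : (by first | exact type_of% @Cfsg.Agent.Cam.Ex.Cb.cnt | exact Unit : Sort _) := by first | (refine @Subtype.val _ (fun g => @Cfsg.Agent.Cam.Ex.Cb.cnt = @g) (@Subtype.mk _ _ (@(fun x0 x1 x2 => @List.rec.{1, 0} @x0 @(fun x3 => ℕ) (nat_lit 0) @(fun x3 x4 x5 => @Bool.rec.{1} @(fun x6 => ℕ) @x5 (@Nat.succ @x5) (@x1 @x3)) @x2)) ?_); rfl') | exact @Cfsg.Agent.Cam.Ex.Cb.cnt | exact ()
private theorem _root_.Cfsg.Agent.KO04de08f.e30 : (by first | exact @Cfsg.Agent.Cam.Ex.Cb.cnt = @_root_.Cfsg.Agent.KO04de08f.k30 | exact True : Prop) := by first | (delta _root_.Cfsg.Agent.KO04de08f.k30; exact @Subtype.property _ (fun g => @Cfsg.Agent.Cam.Ex.Cb.cnt = @g) _) | rfl | trivial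
private noncomputable def _root_.Cfsg.Agent.KO04de08f.oEq.{ku} (α : Sort ku) (a b : Nat) (f t : α) : α := @Decidable.rec (a = b) (fun _ => α) (fun _ => f) (fun _ => t) (Nat.decEq a b)
private noncomputable def _root_.Cfsg.Agent.KO04de08f.k33.{ku} (α : Sort ku) (a b : Nat) (f t : α) : α := @Bool.rec (fun _ => α) f t (Nat.beq a b)
private theorem _root_.Cfsg.Agent.KO04de08f.e33.{ku} : @_root_.Cfsg.Agent.KO04de08f.oEq.{ku} = @_root_.Cfsg.Agent.KO04de08f.k33.{ku} := funext fun α => funext fun a => funext fun b => funext fun f => funext fun t => by delta _root_.Cfsg.Agent.KO04de08f.oEq _root_.Cfsg.Agent.KO04de08f.k33; cases h : Nat.beq a b <;> cases Nat.decEq a b <;> rename_i g <;> first | rfl | exact absurd g (Nat.ne_of_beq_eq_false h) | exact absurd (Nat.eq_of_beq_eq_true h) g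
private noncomputable def _root_.Cfsg.Agent.KO04de08f.k34.{ku0, ku1} : type_of% @List.map.{ku0, ku1} := @(fun x0 x1 x2 x3 => @List.rec.{(ku1+1), ku0} @x0 @(fun x4 => @List.{ku1} @x1) [] @(fun x4 x5 x6 => (@x2 @x4) :: @x6) @x3)
private theorem _root_.Cfsg.Agent.KO04de08f.e34.{ku0, ku1} : @List.map.{ku0, ku1} = @_root_.Cfsg.Agent.KO04de08f.k34.{ku0, ku1} := by delta _root_.Cfsg.Agent.KO04de08f.k34; funext a0 a1 a2 a3; refine (_root_.Cfsg.Agent.KO04de08f.e16 (fun a3 => @List.map.{ku0, ku1} a0 a1 a2 a3) ?_ (fun c0 c1 => ?_) a3 :) <;> (rfl')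
private noncomputable def _root_.Cfsg.Agent.KO04de08f.k35 : (by first | exact type_of% @Cfsg.Agent.Cam.Ex.Cb.uv | exact Unit : Sort _) := by first | (refine @Subtype.val _ (fun g => @Cfsg.Agent.Cam.Ex.Cb.uv = @g) (@Subtype.mk _ _ (@(fun x0 x1 => @Cfsg.Agent.KO04de08f.k34.{0, 0} _ _ @(fun x2 => @Cfsg.Agent.KO04de08f.k33.{1} ℤ @x2 @x1 (@Int.ofNat (nat_lit 0)) (@Int.ofNat (nat_lit 1))) (@Cfsg.Agent.KO04de08f.k22 @x0 []))) ?_); rewrite [← Cfsg.Agent.KO04de08f.e22, ← Cfsg.Agent.KO04de08f.e33.{1}, ← Cfsg.Agent.KO04de08f.e34.{0, 0}]; rfl') | exact @Cfsg.Agent.Cam.Ex.Cb.uv | exact ()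
private theorem _root_.Cfsg.Agent.KO04de08f.e35 : (by first | exact @Cfsg.Agent.Cam.Ex.Cb.uv = @_root_.Cfsg.Agent.KO04de08f.k35 | exact True : Prop) := by first | (delta _root_.Cfsg.Agent.KO04de08f.k35; exact @Subtype.property _ (fun g => @Cfsg.Agent.Cam.Ex.Cb.uv = @g) _) | rfl | trivial
private noncomputable def _root_.Cfsg.Agent.KO04de08f.k36.{ku0} : type_of% @List.append.{ku0} := @(fun x0 x1 x2 => @List.rec.{(ku0+1), ku0} @x0 @(fun x3 => (@List.{ku0} @x0) → @List.{ku0} @x0) @(fun x3 => @x3) @(fun x3 x4 x5 x6 => @x3 :: (@x5 @x6)) @x1 @x2)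
private theorem _root_.Cfsg.Agent.KO04de08f.e36.{ku0} : @List.append.{ku0} = @_root_.Cfsg.Agent.KO04de08f.k36.{ku0} := by delta _root_.Cfsg.Agent.KO04de08f.k36; funext a0 a1 a2; refine (congrFun (_root_.Cfsg.Agent.KO04de08f.e16 (fun a1 a2 => @List.append.{ku0} a0 a1 a2) ?_ (fun c0 c1 => ?_) a1) a2 :) <;> (rfl')
private noncomputable def _root_.Cfsg.Agent.KO04de08f.k37.{ku0} : type_of% @List.flatten.{ku0} := @(fun x0 x1 => @List.rec.{(ku0+1), ku0} (@List.{ku0} @x0) @(fun x2 => @List.{ku0} @x0) [] @(fun x2 x3 x4 => @Cfsg.Agent.KO04de08f.k36.{ku0} _ @x2 @x4) @x1)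
private theorem _root_.Cfsg.Agent.KO04de08f.e37.{ku0} : @List.flatten.{ku0} = @_root_.Cfsg.Agent.KO04de08f.k37.{ku0} := by delta _root_.Cfsg.Agent.KO04de08f.k37; rewrite [← Cfsg.Agent.KO04de08f.e36.{ku0}]; funext a0 a1; refine (_root_.Cfsg.Agent.KO04de08f.e16 (fun a1 => @List.flatten.{ku0} a0 a1) ?_ (fun c0 c1 => ?_) a1 :) <;> (rfl')
private noncomputable def _root_.Cfsg.Agent.KO04de08f.k38 : (by first | exact type_of% @Cfsg.Agent.Cam.Ex.Cb.pats | exact Unit : Sort _) := by first | (refine @Subtype.val _ (fun g => @Cfsg.Agent.Cam.Ex.Cb.pats = @g) (@Subtype.mk _ _ (@(fun x0 x1 => @Nat.rec.{1} @(fun x2 => @List.{0} @Cfsg.Agent.Cam.Ex.Cb.V) ([] :: []) @(fun x2 x3 => @Cfsg.Agent.KO04de08f.k37.{0} _ (@Cfsg.Agent.KO04de08f.k34.{0, 0} _ _ @(fun x4 => @Cfsg.Agent.KO04de08f.k34.{0, 0} _ _ @(fun x5 => @x4 :: @x5) @x3) @x0)) @x1)) ?_); rewrite [← Cfsg.Agent.KO04de08f.e34.{0, 0}, ← Cfsg.Agent.KO04de08f.e37.{0}];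 rfl') | exact @Cfsg.Agent.Cam.Ex.Cb.pats | exact ()
private theorem _root_.Cfsg.Agent.KO04de08f.e38 : (by first | exact @Cfsg.Agent.Cam.Ex.Cb.pats = @_root_.Cfsg.Agent.KO04de08f.k38 | exact True : Prop) := by first | (delta _root_.Cfsg.Agent.KO04de08f.k38; exact @Subtype.property _ (fun g => @Cfsg.Agent.Cam.Ex.Cb.pats = @g) _) | rfl | trivial
private noncomputable def _root_.Cfsg.Agent.KO04de08f.k39 : (by first | exact type_of% @Cfsg.Agent.Cam.Ex.Cb.endM | exact Unit : Sort _) := by first | (refine @Subtype.val _ (fun g => @Cfsg.Agent.Cam.Ex.Cb.endM = @g) (@Subtype.mk _ _ (@(fun x0 x1 x2 x3 x4 x5 x6 x7 => @Bool.rec.{1} @(fun x8 => @Bool) @Bool.false (@Bool.rec.{1} @(fun x8 => @Bool) @Bool.false (@Bool.rec.{1} @(fun x8 => @Bool) @Bool.false (@Bool.rec.{1} @(fun x8 => @Bool) @Bool.false (@Bool.rec.{1} @(fun x8 => @Bool) @Bool.false (@Bool.rec.{1} @(fun x8 => @Bool) @Bool.false (@Bool.rec.{1} @(fun x8 =>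 @Bool) @Bool.false (@Cfsg.Agent.KO04de08f.k0 _ @(fun x8 => @Bool.rec.{1} @(fun x9 => @Bool) (@Bool.rec.{1} @(fun x9 => @Bool) (@Bool.rec.{1} @(fun x9 => @Bool) (@Cfsg.Agent.KO04de08f.k19 @x8 (@Cfsg.Agent.KO04de08f.k26 (@Int.ofNat (nat_lit 2)) @x6 @x6)) @Bool.true (@Cfsg.Agent.KO04de08f.k19 @x8 @x6)) @Bool.true (@Cfsg.Agent.KO04de08f.k19 @x8 (@Cfsg.Agent.KO04de08f.k35 @x0 @x0))) @Bool.true (@Cfsg.Agent.KO04de08f.k10 _ @(fun x9 => @Bool.rec.{1} @(fun x10 => @Bool) @Bool.false (@Bool.rec.{1} @(fun x10 => @Bool) @Bool.true @Bool.false (@Cfsg.Agent.KO04de08f.k15 (@Cfsg.Agent.KO04de08f.k9 (@Cfsg.Agent.Cam.Ex.Cb.Ent.b @x9) @x8) (@Int.ofNat (nat_lit 0)))) (@Bool.rec.{1} @(fun x10 => @Bool) (@Cfsg.Agent.KO04de08f.k15 (@Int.rec.{1} @(fun x10 => ℤ) @(fun x10 => @Int.ofNat (@Nat.mod @x10 (@Int.rec.{1} @(fun x11 => ℕ) @(fun x11 => @x11) @(fun x11 => @Nat.succ @x11) @x2))) @(fun x10 => @Nat.rec.{1} @(fun x11 => ℤ)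 (@Int.ofNat (@Nat.sub (@Int.rec.{1} @(fun x11 => ℕ) @(fun x11 => @x11) @(fun x11 => @Nat.succ @x11) @x2) (@Nat.succ (@Nat.mod @x10 (@Int.rec.{1} @(fun x11 => ℕ) @(fun x11 => @x11) @(fun x11 => @Nat.succ @x11) @x2))))) @(fun x11 x12 => @Int.negSucc @x11) (@Nat.sub (@Nat.succ (@Nat.mod @x10 (@Int.rec.{1} @(fun x11 => ℕ) @(fun x11 => @x11) @(fun x11 => @Nat.succ @x11) @x2))) (@Int.rec.{1} @(fun x11 => ℕ) @(fun x11 => @x11) @(fun x11 => @Nat.succ @x11) @x2))) (@Cfsg.Agent.KO04de08f.k9 (@Cfsg.Agent.Cam.Ex.Cb.Ent.b @x9) @x5)) (@Int.ofNat (nat_lit 0))) @Bool.true (@Cfsg.Agent.KO04de08f.k15 (@Int.rec.{1} @(fun x10 => ℤ) @(fun x10 => @Int.ofNat (@Nat.mod @x10 (@Int.rec.{1} @(fun x11 => ℕ) @(fun x11 => @x11) @(fun x11 => @Nat.succ @x11) @x2))) @(fun x10 => @Nat.rec.{1} @(fun x11 => ℤ) (@Int.ofNat (@Nat.sub (@Int.rec.{1} @(fun x11 => ℕ) @(fun x11 => @x11) @(fun x11 => @Nat.succ @x11) @x2) (@Nat.succ (@Nat.mod @x10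 (@Int.rec.{1} @(fun x11 => ℕ) @(fun x11 => @x11) @(fun x11 => @Nat.succ @x11) @x2))))) @(fun x11 x12 => @Int.negSucc @x11) (@Nat.sub (@Nat.succ (@Nat.mod @x10 (@Int.rec.{1} @(fun x11 => ℕ) @(fun x11 => @x11) @(fun x11 => @Nat.succ @x11) @x2))) (@Int.rec.{1} @(fun x11 => ℕ) @(fun x11 => @x11) @(fun x11 => @Nat.succ @x11) @x2))) (@Cfsg.Agent.KO04de08f.k9 (@Cfsg.Agent.Cam.Ex.Cb.Ent.b @x9) @x4)) (@Int.ofNat (nat_lit 0))))) (@Cfsg.Agent.Cam.Ex.Cb.Dt.T @x1))) (@Cfsg.Agent.KO04de08f.k38 ((@Int.ofNat (nat_lit 0)) :: ((@Int.ofNat (nat_lit 1)) :: ((@Nat.rec.{1} @(fun x8 => ℤ) (@Int.ofNat (nat_lit 0)) @(fun x8 x9 => @Int.negSucc @x8) (nat_lit 1)) :: []))) @x0)) (@Cfsg.Agent.KO04de08f.k0 _ @(fun x8 => @Bool.rec.{1} @(fun x9 => @Bool) (@Cfsg.Agent.KO04de08f.k15 (@Cfsg.Agent.KO04de08f.k9 (@Cfsg.Agent.Cam.Ex.Cb.Ent.b @x8) @x6) (@Int.ofNat (nat_lit 0))) @Bool.true (@Bool.rec.{1} @(fun x9 => @Bool) @Bool.false (@Cfsg.Agent.KO04de08f.k24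 @x2 @x3 (@Cfsg.Agent.KO04de08f.k9 (@Cfsg.Agent.Cam.Ex.Cb.Ent.b @x8) @x5)) (@Cfsg.Agent.KO04de08f.k24 @x2 @x3 (@Cfsg.Agent.KO04de08f.k9 (@Cfsg.Agent.Cam.Ex.Cb.Ent.b @x8) @x4)))) (@Cfsg.Agent.Cam.Ex.Cb.Dt.T @x1))) (@Nat.beq (@Cfsg.Agent.KO04de08f.k30 _ @(fun x8 => @Cfsg.Agent.KO04de08f.k15 (@Cfsg.Agent.KO04de08f.k9 (@Cfsg.Agent.Cam.Ex.Cb.Ent.b @x8) @x6) (@Int.ofNat (nat_lit 0))) (@Cfsg.Agent.Cam.Ex.Cb.Dt.T @x1)) (nat_lit 20))) (@Cfsg.Agent.KO04de08f.k0 _ @(fun x8 => @Bool.rec.{1} @(fun x9 => @Bool) (@Bool.rec.{1} @(fun x9 => @Bool) (@Cfsg.Agent.KO04de08f.k15 (@Cfsg.Agent.KO04de08f.k9 (@Cfsg.Agent.Cam.Ex.Cb.Ent.b @x8) @x6) (@Nat.rec.{1} @(fun x9 => ℤ) (@Int.ofNat (nat_lit 0)) @(fun x9 x10 => @Int.negSucc @x9) (nat_lit 1))) @Bool.true (@Cfsg.Agent.KO04de08f.k15 (@Cfsg.Agent.KO04de08f.k9 (@Cfsg.Agent.Cam.Ex.Cb.Ent.b @x8) @x6) (@Int.ofNat (nat_lit 1)))) @Bool.true (@Cfsg.Agent.KO04de08f.k15 (@Cfsg.Agent.KO04de08f.k9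 (@Cfsg.Agent.Cam.Ex.Cb.Ent.b @x8) @x6) (@Int.ofNat (nat_lit 0)))) (@Cfsg.Agent.Cam.Ex.Cb.Dt.T @x1))) (@Cfsg.Agent.KO04de08f.k10 _ @(fun x8 => @Cfsg.Agent.KO04de08f.k15 (@Cfsg.Agent.KO04de08f.k9 (@Cfsg.Agent.Cam.Ex.Cb.Ent.b @x8) @x6) (@Int.ofNat (nat_lit 1))) (@Cfsg.Agent.Cam.Ex.Cb.Dt.T @x1))) (@Bool.rec.{1} @(fun x8 => @Bool) @Bool.true @Bool.false (@Cfsg.Agent.KO04de08f.k15 (@Int.rec.{1} @(fun x8 => ℤ) @(fun x8 => @Int.ofNat (@Nat.mod @x8 (nat_lit 3))) @(fun x8 => @Nat.rec.{1} @(fun x9 => ℤ) (@Int.ofNat (@Nat.sub (nat_lit 3) (@Nat.succ (@Nat.mod @x8 (nat_lit 3))))) @(fun x9 x10 => @Int.negSucc @x9) (@Nat.sub (@Nat.succ (@Nat.mod @x8 (nat_lit 3))) (nat_lit 3))) (@Cfsg.Agent.KO04de08f.k9 @x7 @x6)) (@Int.ofNat (nat_lit 0))))) (@Nat.beq (@Cfsg.Agent.KO04de08f.k17.{0} _ @x7) @x0)) (@Nat.beq (@Cfsg.Agent.KO04de08f.k17.{0} _ @x6) @x0))) ?_); rewrite [← Cfsg.Agent.KO04de08f.e17.{0}, ← Cfsg.Agent.KO04de08f.e30,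 ← Cfsg.Agent.KO04de08f.e24, ← Cfsg.Agent.KO04de08f.e38, ← Cfsg.Agent.KO04de08f.e9, ← Cfsg.Agent.KO04de08f.e15, ← Cfsg.Agent.KO04de08f.e10, ← Cfsg.Agent.KO04de08f.e35, ← Cfsg.Agent.KO04de08f.e26, ← Cfsg.Agent.KO04de08f.e19, ← Cfsg.Agent.KO04de08f.e0]; (try delta Cfsg.Agent.Cam.Ex.Cb.endM Cfsg.Agent.Cam.Ex.Cb.zr); (try generalize @Cfsg.Agent.Cam.Ex.Cb.al = g0); (try generalize @Cfsg.Agent.Cam.Ex.Cb.leq = g1); (try generalize @Cfsg.Agent.Cam.Ex.Cb.axpy = g2); (try generalize @Cfsg.Agent.Cam.Ex.Cb.uv = g3); (try generalize @Cfsg.Agent.Cam.Ex.Cb.an = g4); (try generalize @Cfsg.Agent.Cam.Ex.Cb.ieq = g5); (try generalize @Cfsg.Agent.Cam.Ex.Cb.dot = g6); (try generalize @Cfsg.Agent.Cam.Ex.Cb.pats = g7); (try generalize @Cfsg.Agent.Cam.Ex.Cb.nz = g8); (try generalize @Cfsg.Agent.Cam.Ex.Cb.cnt = g9); rfl') | exact @Cfsg.Agent.Cam.Ex.Cb.endM | exact ()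
private theorem _root_.Cfsg.Agent.KO04de08f.e39 : (by first | exact @Cfsg.Agent.Cam.Ex.Cb.endM = @_root_.Cfsg.Agent.KO04de08f.k39 | exact True : Prop) := by first | (delta _root_.Cfsg.Agent.KO04de08f.k39; exact @Subtype.property _ (fun g => @Cfsg.Agent.Cam.Ex.Cb.endM = @g) _) | rfl | trivial
private noncomputable def _root_.Cfsg.Agent.KO04de08f.k40 : (by first | exact type_of% @Cfsg.Agent.Cam.Ex.Cb.pl | exact Unit : Sort _) := by first | (refine @Subtype.val _ (fun g => @Cfsg.Agent.Cam.Ex.Cb.pl = @g) (@Subtype.mk _ _ (@(fun x0 x1 => @Cfsg.Agent.KO04de08f.k26 (@Nat.rec.{1} @(fun x2 => ℤ) (@Int.ofNat (nat_lit 0)) @(fun x2 x3 => @Int.negSucc @x2) (nat_lit 1)) @x0 @x1)) ?_); rewrite [← Cfsg.Agent.KO04de08f.e26]; (try delta Cfsg.Agent.Cam.Ex.Cb.pl); (try generalize @Cfsg.Agent.Cam.Ex.Cb.axpy = g0); rfl') | exact @Cfsg.Agent.Cam.Ex.Cb.pl | exact ()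
private theorem _root_.Cfsg.Agent.KO04de08f.e40 : (by first | exact @Cfsg.Agent.Cam.Ex.Cb.pl = @_root_.Cfsg.Agent.KO04de08f.k40 | exact True : Prop) := by first | (delta _root_.Cfsg.Agent.KO04de08f.k40; exact @Subtype.property _ (fun g => @Cfsg.Agent.Cam.Ex.Cb.pl = @g) _) | rfl | trivial
private noncomputable def _root_.Cfsg.Agent.KO04de08f.k41 : (by first | exact type_of% @Cfsg.Agent.Cam.Ex.Cb.mi | exact Unit : Sort _) := by first | (refine @Subtype.val _ (fun g => @Cfsg.Agent.Cam.Ex.Cb.mi = @g) (@Subtype.mk _ _ (@(fun x0 x1 => @Cfsg.Agent.KO04de08f.k26 (@Int.ofNat (nat_lit 1)) @x0 @x1)) ?_); rewrite [← Cfsg.Agent.KO04de08f.e26]; (try delta Cfsg.Agent.Cam.Ex.Cb.mi); (try generalize @Cfsg.Agent.Cam.Ex.Cb.axpy = g0); rfl') | exact @Cfsg.Agent.Cam.Ex.Cb.mi | exact ()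
private theorem _root_.Cfsg.Agent.KO04de08f.e41 : (by first | exact @Cfsg.Agent.Cam.Ex.Cb.mi = @_root_.Cfsg.Agent.KO04de08f.k41 | exact True : Prop) := by first | (delta _root_.Cfsg.Agent.KO04de08f.k41; exact @Subtype.property _ (fun g => @Cfsg.Agent.Cam.Ex.Cb.mi = @g) _) | rfl | trivial

theorem eE6_100001_0 : al (fun lam => an (fun θ => endM 6 dE6 0 85766121000000 (pl [1, 0, 0, 0, 0, 1] lam) (mi [1, 0, 0, 0, 0, 1] lam) θ [1, 0, -1, 0, 1, -1])
    [[-1, 0, 1, 0, -1, 1], [0, 0, -1, 0, 1, 0]]) SE6_100001_0 = true := by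
  (first | (rewrite [Cfsg.Agent.KO04de08f.e0, Cfsg.Agent.KO04de08f.e10, Cfsg.Agent.KO04de08f.e39, Cfsg.Agent.KO04de08f.e40, Cfsg.Agent.KO04de08f.e41]; decide +kernel) | decide +kernel)

/-- certificates -/
def CE6_100001_7 : List (V × Bool × List V) := [(([-2, 0, 0, 0, 0, 1] : V), false, [([2, 1, 2, 2, 1, 0] : V)]),
  (([-2, 1, 0, 0, 1, -1] : V), true, [([6, 3, 3, 0, 1, 0] : V)]),
  (([-1, 1, 1, 0, 0, -2] : V), true, [([5, 3, 0, 2, 1, 0] : V)]),
  (([1, 0, 0, 0, 0, -2] : V), false, [([5, 3, 2, 6, 0, 1] : V)])]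

/-- survivors -/
def SE6_100001_7 : List V := [([-2, 0, 1, 0, 1, -2] : V), ([-1, 0, 1, 0, 1, -1] : V)]

theorem kE6_100001_7 : kchk 6 dE6 7 1 [1, 0, 0, 0, 0, 1] [1, 0, 0, 0, 0, 1] [] CE6_100001_7 LE6_100001 SE6_100001_7 = true := by
  decide +kernel

theorem eE6_100001_7 : al (fun lam => an (fun θ => endM 6 dE6 7 1 (pl [1, 0, 0, 0, 0, 1] lam) (mi [1, 0, 0, 0, 0, 1] lam) θ [1, 0, -1, 0, 1, -1])
    [[-1, 0, 1, 0, -1, 1], [0, 0, -1, 0, 1, 0]]) SE6_100001_7 = true := by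
  (first | (rewrite [Cfsg.Agent.KO04de08f.e0, Cfsg.Agent.KO04de08f.e10, Cfsg.Agent.KO04de08f.e39, Cfsg.Agent.KO04de08f.e40, Cfsg.Agent.KO04de08f.e41]; decide +kernel) | decide +kernel)

/-- double cosets -/
def LE6_200001 : List V := [
  ([-2, 0, 0, 0, 0, 1] : V), ([-2, 0, 0, 0, 1, -1] : V), ([-2, 0, 1, 0, 1, -2] : V), ([-2, 0, 2, 0, 0, -1] : V),
  ([-2, 1, 0, 0, 0, 1] : V), ([-2, 1, 0, 0, 1, -1] : V), ([-2, 1, 1, 0, 0, 0] : V), ([-1, 0, 0, 0, 0, -1] : V),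
  ([-1, 0, 0, 0, 0, 2] : V), ([-1, 0, 0, 0, 2, -2] : V), ([-1, 0, 1, 0, 0, -2] : V), ([-1, 0, 1, 0, 0, 1] : V),
  ([-1, 0, 1, 0, 1, -1] : V), ([-1, 1, 1, 0, 0, -2] : V), ([-1, 2, 0, 0, 0, -1] : V), ([0, 1, 0, 0, 1, -2] : V),
  ([1, 0, 0, 0, 0, -2] : V), ([1, 0, 0, 0, 0, 1] : V), ([1, 0, 0, 0, 1, -1] : V), ([1, 1, 0, 0, 0, -2] : V),
  ([2, 0, 0, 0, 0, -1] : V)]

theorem pE6_200001 : pchk 6 dE6 [1, 0, 0, 0, 0, 1] [-2, 0, 0, 0, 0, 1] [1, 2, 3, 4] LE6_200001 = true :=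
  pchk_of (by decide +kernel)

/-- certificates -/
def CE6_200001_0 : List (V × Bool × List V) := [(([-1, 0, 1, 0, 1, -1] : V), true, [([2, 1, 3, 2, 0, 0] : V)]),
  (([-1, 1, 1, 0, 0, -2] : V), true, [([1, -1, 1, 0, 0, 0] : V)]),
  (([1, 0, 0, 0, 0, -2] : V), false, [([2, 1, 2, 2, 1, 0] : V)]),
  (([1, 0, 0, 0, 0, 1] : V), false, [([2, 1, 2, 2, 1, 0] : V)])]

/-- survivors -/
def SE6_200001_0 : List V := [([-2, 1, 0, 0, 1, -1] : V), ([0, 1, 0, 0, 1, -2] : V)]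

theorem kE6_200001_0 : kchk 6 dE6 0 85766121000000 [1, 0, 0, 0, 0, 1] [-2, 0, 0, 0, 0, 1] [] CE6_200001_0 LE6_200001 SE6_200001_0 = true := by
  decide +kernel

theorem eE6_200001_0 : al (fun lam => an (fun θ => endM 6 dE6 0 85766121000000 (pl [-2, 0, 0, 0, 0, 1] lam) (mi [-2, 0, 0, 0, 0, 1] lam) θ [1, 0, -1, 0, 1, -1])
    [[0, -1, 0, 0, 1, 0], [0, 1, 0, 0, -1, 1]]) SE6_200001_0 = true := by
  (first | (rewrite [Cfsg.Agent.KO04de08f.e0, Cfsg.Agent.KO04de08f.e10, Cfsg.Agent.KO04de08f.e39, Cfsg.Agent.KO04de08f.e40, Cfsg.Agent.KO04de08f.e41]; decide +kernel) | decide +kernel)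

/-- certificates -/
def CE6_200001_7 : List (V × Bool × List V) := [(([-1, 0, 1, 0, 1, -1] : V), true, [([1, 4, 5, 1, 0, 0] : V)]),
  (([-1, 1, 1, 0, 0, -2] : V), true, [([1, 6, 1, 0, 0, 0] : V)]),
  (([1, 0, 0, 0, 0, -2] : V), false, [([2, 1, 2, 2, 1, 0] : V)]),
  (([1, 0, 0, 0, 0, 1] : V), false, [([2, 1, 2, 2, 1, 0] : V)])]

/-- survivors -/
def SE6_200001_7 : List V := [([-2, 1, 0, 0, 1, -1] : V), ([0, 1, 0, 0, 1, -2] : V)]

theorem kE6_200001_7 : kchk 6 dE6 7 1 [1, 0, 0, 0, 0, 1] [-2, 0, 0, 0, 0, 1] [] CE6_200001_7 LE6_200001 SE6_200001_7 = true := by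
  decide +kernel

theorem eE6_200001_7 : al (fun lam => an (fun θ => endM 6 dE6 7 1 (pl [-2, 0, 0, 0, 0, 1] lam) (mi [-2, 0, 0, 0, 0, 1] lam) θ [1, 0, -1, 0, 1, -1])
    [[0, -1, 0, 0, 1, 0], [0, 1, 0, 0, -1, 1]]) SE6_200001_7 = true := by
  (first | (rewrite [Cfsg.Agent.KO04de08f.e0, Cfsg.Agent.KO04de08f.e10, Cfsg.Agent.KO04de08f.e39, Cfsg.Agent.KO04de08f.e40, Cfsg.Agent.KO04de08f.e41]; decide +kernel) | decide +kernel)

/-- double cosets -/
def LE6_100002 : List V := [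
  ([-2, 0, 0, 0, 0, 1] : V), ([-2, 0, 0, 0, 1, -1] : V), ([-2, 0, 1, 0, 1, -2] : V), ([-2, 0, 2, 0, 0, -1] : V),
  ([-2, 1, 0, 0, 0, 1] : V), ([-2, 1, 0, 0, 1, -1] : V), ([-2, 1, 1, 0, 0, 0] : V), ([-1, 0, 0, 0, 0, -1] : V),
  ([-1, 0, 0, 0, 0, 2] : V), ([-1, 0, 0, 0, 2, -2] : V), ([-1, 0, 1, 0, 0, -2] : V), ([-1, 0, 1, 0, 0, 1] : V),
  ([-1, 0, 1, 0, 1, -1] : V), ([-1, 1, 1, 0, 0, -2] : V), ([-1, 2, 0, 0, 0, -1] : V), ([0, 1, 0, 0, 1, -2] : V),
  ([1, 0, 0, 0, 0, -2] : V), ([1, 0, 0, 0, 0, 1] : V), ([1, 0, 0, 0, 1, -1] : V), ([1, 1, 0, 0, 0, -2] : V),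
  ([2, 0, 0, 0, 0, -1] : V)]

theorem pE6_100002 : pchk 6 dE6 [1, 0, 0, 0, 0, 1] [1, 0, 0, 0, 0, -2] [1, 2, 3, 4] LE6_100002 = true :=
  pchk_of (by decide +kernel)

/-- certificates -/
def CE6_100002_0 : List (V × Bool × List V) := [(([-2, 0, 0, 0, 0, 1] : V), false, [([2, 1, 2, 2, 1, 0] : V)]),
  (([-2, 1, 0, 0, 1, -1] : V), true, [([-1, 2, 0, 1, 0, 0] : V)]),
  (([-1, 0, 1, 0, 1, -1] : V), true, [([1, 1, 3, 2, 0, 0] : V)]),
  (([1, 0, 0, 0, 0, 1] : V), false, [([-4, -1, -3, -2, 0, 2] : V)])]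

/-- survivors -/
def SE6_100002_0 : List V := [([-2, 1, 1, 0, 0, 0] : V), ([-1, 1, 1, 0, 0, -2] : V)]

theorem kE6_100002_0 : kchk 6 dE6 0 85766121000000 [1, 0, 0, 0, 0, 1] [1, 0, 0, 0, 0, -2] [] CE6_100002_0 LE6_100002 SE6_100002_0 = true := by
  decide +kernel

theorem eE6_100002_0 : al (fun lam => an (fun θ => endM 6 dE6 0 85766121000000 (pl [1, 0, 0, 0, 0, -2] lam) (mi [1, 0, 0, 0, 0, -2] lam) θ [1, 0, -1, 0, 1, -1])
    [[-1, -1, 1, 0, 0, 0], [0, -1, 1, 0, 0, 0]]) SE6_100002_0 = true := by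
  (first | (rewrite [Cfsg.Agent.KO04de08f.e0, Cfsg.Agent.KO04de08f.e10, Cfsg.Agent.KO04de08f.e39, Cfsg.Agent.KO04de08f.e40, Cfsg.Agent.KO04de08f.e41]; decide +kernel) | decide +kernel)

/-- certificates -/
def CE6_100002_7 : List (V × Bool × List V) := [(([-2, 0, 0, 0, 0, 1] : V), false, [([2, 1, 2, 2, 1, 0] : V)]),
  (([-2, 1, 0, 0, 1, -1] : V), true, [([6, 2, 0, 1, 0, 0] : V)]),
  (([-1, 0, 1, 0, 1, -1] : V), true, [([4, 4, 5, 1, 0, 0] : V)]),
  (([1, 0, 0, 0, 0, 1] : V), false, [([5, 3, 2, 6, 0, 1] : V)])]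

/-- survivors -/
def SE6_100002_7 : List V := [([-2, 1, 1, 0, 0, 0] : V), ([-1, 1, 1, 0, 0, -2] : V)]

theorem kE6_100002_7 : kchk 6 dE6 7 1 [1, 0, 0, 0, 0, 1] [1, 0, 0, 0, 0, -2] [] CE6_100002_7 LE6_100002 SE6_100002_7 = true := by
  decide +kernel

theorem eE6_100002_7 : al (fun lam => an (fun θ => endM 6 dE6 7 1 (pl [1, 0, 0, 0, 0, -2] lam) (mi [1, 0, 0, 0, 0, -2] lam) θ [1, 0, -1, 0, 1, -1])
    [[-1, -1, 1, 0, 0, 0], [0, -1, 1, 0, 0, 0]]) SE6_100002_7 = true := by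
  (first | (rewrite [Cfsg.Agent.KO04de08f.e0, Cfsg.Agent.KO04de08f.e10, Cfsg.Agent.KO04de08f.e39, Cfsg.Agent.KO04de08f.e40, Cfsg.Agent.KO04de08f.e41]; decide +kernel) | decide +kernel)

/-- double cosets -/
def LE6_000100 : List V := [
  ([0, 0, 0, -2, 3, 0] : V), ([0, 0, 0, -1, 0, 0] : V), ([0, 0, 0, -1, 0, 3] : V), ([0, 0, 0, 1, 0, 0] : V),
  ([0, 0, 1, -2, 0, 2] : V), ([0, 0, 1, -2, 2, 1] : V), ([0, 0, 2, -3, 2, 0] : V), ([0, 0, 2, -1, 0, 1] : V),
  ([0, 0, 3, -2, 0, 0] : V), ([0, 1, 1, -3, 2, 1] : V), ([0, 1, 1, -1, 1, 0] : V), ([0, 1, 2, -3, 2, 0] : V),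
  ([0, 2, 1, -3, 1, 0] : V), ([0, 2, 1, -2, 0, 2] : V), ([0, 2, 2, -3, 0, 1] : V), ([0, 3, 0, -2, 0, 0] : V),
  ([0, 3, 0, -1, 0, 0] : V), ([0, 3, 1, -3, 1, 0] : V), ([1, 0, 0, -2, 1, 2] : V), ([1, 0, 0, -1, 2, 0] : V),
  ([1, 0, 2, -2, 1, 0] : V), ([1, 1, 0, -2, 0, 1] : V), ([1, 1, 0, -2, 1, 2] : V), ([1, 1, 1, -3, 1, 1] : V),
  ([1, 1, 1, -2, 1, 1] : V), ([1, 1, 2, -3, 1, 0] : V), ([1, 2, 0, -3, 2, 0] : V), ([1, 2, 0, -1, 0, 1] : V),
  ([1, 2, 1, -3, 1, 1] : V), ([1, 3, 0, -2, 0, 1] : V), ([2, 0, 0, -2, 1, 0] : V), ([2, 0, 0, -1, 0, 2] : V),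
  ([2, 0, 1, -2, 0, 1] : V), ([2, 1, 0, -2, 0, 2] : V), ([2, 1, 1, -2, 0, 1] : V), ([2, 2, 0, -2, 1, 0] : V),
  ([3, 0, 0, -1, 0, 0] : V)]

theorem pE6_000100 : pchk 6 dE6 [0, 0, 0, 1, 0, 0] [0, 0, 0, 1, 0, 0] [0, 1, 2, 4, 5] LE6_000100 = true :=
  pchk_of (by decide +kernel)

/-- certificates -/
def CE6_000100_0 : List (V × Bool × List V) := [(([0, 0, 0, -2, 3, 0] : V), false, [([2, 3, 4, 6, 0, 0] : V)]),
  (([0, 0, 3, -2, 0, 0] : V), false, [([1, 0, 2, 0, 0, 0] : V)])]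

/-- survivors -/
def SE6_000100_0 : List V := []

theorem kE6_000100_0 : kchk 6 dE6 0 85766121000000 [0, 0, 0, 1, 0, 0] [0, 0, 0, 1, 0, 0] [[0, 1, 0, 0, 0, 0]] CE6_000100_0 LE6_000100 SE6_000100_0 = true := by
  decide +kernel

theorem eE6_000100_0 : al (fun lam => an (fun θ => endM 6 dE6 0 85766121000000 (pl [0, 0, 0, 1, 0, 0] lam) (mi [0, 0, 0, 1, 0, 0] lam) θ [1, 0, -1, 0, 1, -1])
    []) SE6_000100_0 = true := by
  decide +kernel

/-- certificates -/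
def CE6_000100_7 : List (V × Bool × List V) := [(([0, 0, 0, -2, 3, 0] : V), false, [([5, 4, 3, 1, 0, 0] : V)]),
  (([0, 0, 3, -2, 0, 0] : V), false, [([4, 0, 1, 0, 0, 0] : V)])]

/-- survivors -/
def SE6_000100_7 : List V := []

theorem kE6_000100_7 : kchk 6 dE6 7 1 [0, 0, 0, 1, 0, 0] [0, 0, 0, 1, 0, 0] [[0, 1, 0, 0, 0, 0]] CE6_000100_7 LE6_000100 SE6_000100_7 = true := by
  decide +kernel

theorem eE6_000100_7 : al (fun lam => an (fun θ => endM 6 dE6 7 1 (pl [0, 0, 0, 1, 0, 0] lam) (mi [0, 0, 0, 1, 0, 0] lam) θ [1, 0, -1, 0, 1, -1])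
    []) SE6_000100_7 = true := by
  decide +kernel

/-- certificates -/
def CE6_000100_5 : List (V × Bool × List V) := [(([0, 0, 0, -2, 3, 0] : V), false, [([2, 3, 4, 1, 0, 0] : V)]),
  (([0, 0, 3, -2, 0, 0] : V), false, [([3, 0, 1, 0, 0, 0] : V)])]

/-- survivors -/
def SE6_000100_5 : List V := []

theorem kE6_000100_5 : kchk 6 dE6 5 1 [0, 0, 0, 1, 0, 0] [0, 0, 0, 1, 0, 0] [[0, 1, 0, 0, 0, 0]] CE6_000100_5 LE6_000100 SE6_000100_5 = true := by
  decide +kernel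

/-- double cosets -/
def LE6_001010 : List V := [
  ([0, 0, -4, 2, 0, 1] : V), ([0, 0, -4, 3, -1, 0] : V), ([0, 0, -3, 1, 0, 0] : V), ([0, 0, -3, 1, 0, 3] : V),
  ([0, 0, -3, 4, -3, 0] : V), ([0, 0, -2, 0, 1, 3] : V), ([0, 0, -2, 1, -1, 4] : V), ([0, 0, -2, 4, -4, 1] : V),
  ([0, 0, -1, 0, -1, 0] : V), ([0, 0, -1, 2, -3, 4] : V), ([0, 0, -1, 3, -4, 0] : V), ([0, 0, -1, 3, -4, 3] : V),
  ([0, 0, 0, 1, -3, 0] : V), ([0, 0, 0, 2, -3, 3] : V), ([0, 0, 1, 0, 1, 0] : V), ([0, 0, 1, 1, -4, 1] : V),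
  ([0, 0, 1, 1, -4, 4] : V), ([0, 0, 1, 1, -1, 1] : V), ([0, 0, 2, 0, -4, 3] : V), ([0, 1, -4, 2, 0, 1] : V),
  ([0, 1, -4, 3, -1, 0] : V), ([0, 1, -2, 0, -1, 1] : V), ([0, 1, -2, 0, -1, 4] : V), ([0, 1, -2, 0, 2, 1] : V),
  ([0, 1, -2, 2, -2, 3] : V), ([0, 1, -2, 3, -4, 1] : V), ([0, 1, -2, 3, -3, 2] : V), ([0, 1, -1, 0, 2, 0] : V),
  ([0, 1, -1, 2, -2, 2] : V), ([0, 1, -1, 3, -4, 0] : V), ([0, 1, 1, 0, -4, 4] : V), ([0, 1, 2, 0, -4, 3] : V),
  ([0, 1, 2, 0, -1, 0] : V), ([0, 2, -2, 0, -2, 3] : V), ([0, 2, -2, 1, -3, 2] : V), ([0, 2, -1, 0, -3, 4] : V),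
  ([0, 2, -1, 1, -4, 3] : V), ([0, 2, 1, 1, -4, 1] : V), ([0, 2, 2, 0, -3, 1] : V), ([0, 3, -3, 1, 0, 0] : V),
  ([0, 3, -2, 0, -2, 3] : V), ([0, 3, -2, 0, 1, 0] : V), ([0, 3, -2, 1, -3, 2] : V), ([0, 3, -2, 1, -1, 1] : V),
  ([0, 3, 0, 1, -3, 0] : V), ([0, 3, 1, 0, -2, 0] : V), ([0, 4, -2, 0, -1, 1] : V), ([0, 4, -1, 0, -1, 0] : V),
  ([1, 0, -4, 1, 1, 0] : V), ([1, 0, -4, 2, -1, 1] : V), ([1, 0, -4, 2, 0, 2] : V), ([1, 0, -4, 4, -2, 0] : V),
  ([1, 0, -3, 1, 1, 2] : V), ([1, 0, -3, 2, -1, 3] : V), ([1, 0, -3, 4, -3, 1] : V), ([1, 0, -1, 1, 1, 0] : V),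
  ([1, 0, -1, 2, -4, 1] : V), ([1, 0, -1, 2, -4, 4] : V), ([1, 0, -1, 2, -1, 1] : V), ([1, 0, 0, 1, -3, 4] : V),
  ([1, 0, 0, 2, -4, 0] : V), ([1, 0, 0, 2, -4, 3] : V), ([1, 1, -4, 1, 0, 2] : V), ([1, 1, -4, 3, -2, 0] : V),
  ([1, 1, -3, 1, -2, 2] : V), ([1, 1, -2, 0, -2, 4] : V), ([1, 1, -2, 1, -2, 4] : V), ([1, 1, -2, 2, -4, 2] : V),
  ([1, 1, -2, 3, -4, 2] : V), ([1, 1, -1, 0, -2, 0] : V), ([1, 1, -1, 1, -4, 4] : V), ([1, 1, 0, 1, -2, 2] : V),
  ([1, 1, 0, 2, -4, 0] : V), ([1, 1, 1, 0, -4, 2] : V), ([1, 1, 1, 1, -4, 2] : V), ([1, 1, 2, 0, -2, 0] : V),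
  ([1, 2, -4, 1, 1, 0] : V), ([1, 2, -4, 2, -1, 1] : V), ([1, 2, -3, 0, -1, 3] : V), ([1, 2, -3, 0, 2, 0] : V),
  ([1, 2, -3, 2, -3, 1] : V), ([1, 2, -3, 2, -2, 2] : V), ([1, 2, -2, 0, -2, 1] : V), ([1, 2, -2, 0, -2, 4] : V),
  ([1, 2, -2, 0, 1, 1] : V), ([1, 2, -2, 1, -1, 2] : V), ([1, 2, -2, 2, -4, 2] : V), ([1, 2, -2, 2, -2, 1] : V),
  ([1, 2, -1, 2, -4, 1] : V), ([1, 2, 0, 0, -4, 3] : V), ([1, 2, 1, 0, -4, 2] : V), ([1, 2, 1, 0, -2, 1] : V),
  ([1, 3, -3, 1, -2, 2] : V), ([1, 3, -1, 1, -2, 0] : V), ([1, 4, -2, 0, -2, 1] : V), ([1, 4, -1, 0, -2, 0] : V),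
  ([2, 0, -3, 1, -2, 3] : V), ([2, 0, -3, 2, -3, 2] : V), ([2, 0, -2, 1, -3, 4] : V), ([2, 0, -2, 2, -4, 3] : V),
  ([2, 0, 0, 2, -4, 1] : V), ([2, 0, 1, 1, -3, 1] : V), ([2, 1, -4, 0, 1, 1] : V), ([2, 1, -4, 1, -1, 2] : V),
  ([2, 1, -4, 1, 1, 1] : V), ([2, 1, -4, 2, -2, 1] : V), ([2, 1, -4, 2, -1, 2] : V), ([2, 1, -4, 3, -2, 1] : V),
  ([2, 1, -3, 1, 0, 2] : V), ([2, 1, -3, 3, -2, 0] : V), ([2, 1, -2, 1, -3, 1] : V), ([2, 1, -2, 1, -3, 4] : V),
  ([2, 1, -2, 1, 0, 1] : V), ([2, 1, -2, 2, -4, 3] : V), ([2, 1, -2, 2, -1, 0] : V), ([2, 1, -1, 0, -2, 4] : V),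
  ([2, 1, -1, 1, -4, 2] : V), ([2, 1, -1, 2, -4, 2] : V), ([2, 1, 0, 0, -2, 3] : V), ([2, 1, 0, 1, -4, 1] : V),
  ([2, 1, 0, 1, -3, 2] : V), ([2, 2, -4, 0, 1, 1] : V), ([2, 2, -4, 1, -1, 2] : V), ([2, 2, -4, 2, -2, 1] : V),
  ([2, 2, -3, 1, -2, 0] : V), ([2, 2, -3, 1, -2, 3] : V), ([2, 2, -3, 2, -3, 2] : V), ([2, 2, -2, 0, -1, 3] : V),
  ([2, 2, -2, 2, -3, 1] : V), ([2, 2, -1, 0, -1, 2] : V), ([2, 2, -1, 1, -4, 2] : V), ([2, 2, -1, 1, -2, 1] : V),
  ([2, 3, -3, 1, -2, 0] : V), ([2, 3, -2, 1, -3, 1] : V), ([3, 0, -4, 0, 2, 0] : V), ([3, 0, -4, 2, -2, 2] : V),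
  ([3, 0, -4, 2, 0, 1] : V), ([3, 0, -4, 3, -1, 0] : V), ([3, 0, -3, 2, -3, 3] : V), ([3, 0, -3, 2, 0, 0] : V),
  ([3, 0, -2, 0, -2, 3] : V), ([3, 0, -2, 1, -3, 2] : V), ([3, 0, -1, 0, -1, 3] : V), ([3, 0, -1, 2, -3, 1] : V),
  ([3, 0, 0, 1, -3, 0] : V), ([3, 0, 1, 0, -2, 0] : V), ([3, 1, -4, 0, 2, 0] : V), ([3, 1, -4, 2, -2, 2] : V),
  ([3, 1, -2, 0, 0, 2] : V), ([3, 1, -2, 2, -2, 0] : V), ([3, 2, -4, 0, 0, 1] : V), ([3, 2, -4, 1, -1, 0] : V),
  ([3, 2, -2, 0, -2, 0] : V), ([3, 2, -2, 0, -2, 3] : V), ([3, 2, -2, 1, -3, 2] : V), ([3, 2, -1, 0, -3, 1] : V),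
  ([3, 2, -1, 0, -2, 2] : V), ([3, 3, -2, 0, -2, 0] : V), ([4, 0, -4, 1, 1, 0] : V), ([4, 0, -4, 2, -1, 1] : V),
  ([4, 0, -3, 1, -2, 2] : V), ([4, 0, -3, 1, 0, 1] : V), ([4, 0, -3, 2, -1, 0] : V), ([4, 0, -1, 1, -2, 0] : V),
  ([4, 1, -4, 0, 1, 0] : V), ([4, 1, -4, 1, -1, 1] : V), ([4, 1, -3, 1, -2, 2] : V), ([4, 1, -2, 0, -2, 1] : V),
  ([4, 1, -2, 0, -1, 2] : V), ([4, 1, -2, 1, -2, 1] : V), ([4, 1, -1, 0, -2, 0] : V), ([4, 2, -3, 0, -1, 0] : V),
  ([4, 2, -2, 0, -2, 1] : V)]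

private noncomputable def _root_.Cfsg.Agent.KO04de08f.k1 : (by first | exact type_of% @Cfsg.Agent.Cam.Ex.Cb.pkF | exact Unit : Sort _) := by first | (refine @Subtype.val _ (fun g => @Cfsg.Agent.Cam.Ex.Cb.pkF = @g) (@Subtype.mk _ _ (@(fun x0 x1 x2 => @Nat.rec.{1} @(fun x3 => @x0) (@x2 (nat_lit 0)) @(fun x3 x4 => @x2 (@Nat.succ @x3)) @x1)) ?_); rfl') | exact @Cfsg.Agent.Cam.Ex.Cb.pkF | exact ()
private theorem _root_.Cfsg.Agent.KO04de08f.e1 : (by first | exact @Cfsg.Agent.Cam.Ex.Cb.pkF = @_root_.Cfsg.Agent.KO04de08f.k1 | exact True : Prop) := by first | (delta _root_.Cfsg.Agent.KO04de08f.k1; exact @Subtype.property _ (fun g => @Cfsg.Agent.Cam.Ex.Cb.pkF = @g) _) | rfl | trivial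
private noncomputable def _root_.Cfsg.Agent.KO04de08f.k2 : (by first | exact type_of% @Cfsg.Agent.Cam.Ex.Cb.stepF | exact Unit : Sort _) := by first | (refine @Subtype.val _ (fun g => @Cfsg.Agent.Cam.Ex.Cb.stepF = @g) (@Subtype.mk _ _ (@(fun x0 x1 x2 => @List.rec.{1, 0} (ℕ × (ℕ × ℕ)) @(fun x3 => ℕ) @x1 @(fun x3 x4 x5 => @Nat.rec.{1} @(fun x6 => ℕ) @x5 @(fun x6 x7 => @x2 (@Nat.sub (@Nat.add @x1 (@Nat.mul (@Nat.succ @x6) (@Prod.fst.{0, 0} _ _ (@Prod.snd.{0, 0} _ _ @x3)))) (@Nat.mul (@Nat.succ @x6) (@Prod.snd.{0, 0} _ _ (@Prod.snd.{0, 0} _ _ @x3))))) (@Nat.sub (nat_lit 1180591620717411303424) (@Nat.mod (@Nat.div @x1 (@Prod.fst.{0, 0} _ _ @x3)) (nat_lit 4733767197302314441749)))) @x0)) ?_); rfl') | exact @Cfsg.Agent.Cam.Ex.Cb.stepF | exact ()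
private theorem _root_.Cfsg.Agent.KO04de08f.e2 : (by first | exact @Cfsg.Agent.Cam.Ex.Cb.stepF = @_root_.Cfsg.Agent.KO04de08f.k2 | exact True : Prop) := by first | (delta _root_.Cfsg.Agent.KO04de08f.k2; exact @Subtype.property _ (fun g => @Cfsg.Agent.Cam.Ex.Cb.stepF = @g) _) | rfl | trivial
private noncomputable def _root_.Cfsg.Agent.KO04de08f.k3 : (by first | exact type_of% @Cfsg.Agent.Cam.Ex.Cb.domF | exact Unit : Sort _) := by first | (refine @Subtype.val _ (fun g => @Cfsg.Agent.Cam.Ex.Cb.domF = @g) (@Subtype.mk _ _ (@(fun x0 x1 => @Nat.rec.{1} @(fun x2 => ℕ → ℕ) @(fun x2 => @x2) @(fun x2 x3 x4 => @Cfsg.Agent.KO04de08f.k1 _ @x4 @(fun x5 => @Cfsg.Agent.KO04de08f.k2 @x0 @x5 @x3)) @x1)) ?_); rewrite [← Cfsg.Agent.KO04de08f.e2, ← Cfsg.Agent.KO04de08f.e1]; (try delta Cfsg.Agent.Cam.Ex.Cb.domF); (try generalize @Cfsg.Agent.Cam.Ex.Cb.pkF = g0); (try generalize @Cfsg.Agent.Cam.Ex.Cb.stepF = g1); rfl') | exact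 @Cfsg.Agent.Cam.Ex.Cb.domF | exact ()
private theorem _root_.Cfsg.Agent.KO04de08f.e3 : (by first | exact @Cfsg.Agent.Cam.Ex.Cb.domF = @_root_.Cfsg.Agent.KO04de08f.k3 | exact True : Prop) := by first | (delta _root_.Cfsg.Agent.KO04de08f.k3; exact @Subtype.property _ (fun g => @Cfsg.Agent.Cam.Ex.Cb.domF = @g) _) | rfl | trivial
private noncomputable def _root_.Cfsg.Agent.KO04de08f.k6 : (by first | exact type_of% @Cfsg.Agent.Cam.Ex.Cb.pkv | exact Unit : Sort _) := by first | (refine @Subtype.val _ (fun g => @Cfsg.Agent.Cam.Ex.Cb.pkv = @g) (@Subtype.mk _ _ (@(fun x0 x1 => @List.rec.{1, 0} ℤ @(fun x2 => ℤ) (@Int.ofNat (nat_lit 0)) @(fun x2 x3 x4 => @Cfsg.Agent.KO04de08f.k4 (@Cfsg.Agent.KO04de08f.k4 @x2 @x0) (@Cfsg.Agent.KO04de08f.k5 (@Int.ofNat @Cfsg.Agent.Cam.Ex.Cb.pkQ) @x4)) @x1)) ?_); rewrite [← Cfsg.Agent.KO04de08f.e5, ← Cfsg.Agent.KO04de08f.e4]; (try delta Cfsg.Agent.Cam.Ex.Cb.pkv); (try generalize @Cfsg.Agent.Cam.Ex.Cb.pkQ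 = g0); rfl') | exact @Cfsg.Agent.Cam.Ex.Cb.pkv | exact ()
private theorem _root_.Cfsg.Agent.KO04de08f.e6 : (by first | exact @Cfsg.Agent.Cam.Ex.Cb.pkv = @_root_.Cfsg.Agent.KO04de08f.k6 | exact True : Prop) := by first | (delta _root_.Cfsg.Agent.KO04de08f.k6; exact @Subtype.property _ (fun g => @Cfsg.Agent.Cam.Ex.Cb.pkv = @g) _) | rfl | trivial
private noncomputable def _root_.Cfsg.Agent.KO04de08f.k7 : (by first | exact type_of% @Cfsg.Agent.Cam.Ex.Cb.row | exact Unit : Sort _) := by first | (refine @Subtype.val _ (fun g => @Cfsg.Agent.Cam.Ex.Cb.row = @g) (@Subtype.mk _ _ (@(fun x0 => @List.rec.{1, 0} @Cfsg.Agent.Cam.Ex.Cb.V @(fun x1 => ℕ → @Cfsg.Agent.Cam.Ex.Cb.V) @(fun x1 => []) @(fun x1 x2 x3 x4 => @Nat.rec.{1} @(fun x5 => @Cfsg.Agent.Cam.Ex.Cb.V) @x1 @(fun x5 x6 => @x3 @x5) @x4) @x0)) ?_); rfl') | exact @Cfsg.Agent.Cam.Ex.Cb.row | exact ()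
private theorem _root_.Cfsg.Agent.KO04de08f.e7 : (by first | exact @Cfsg.Agent.Cam.Ex.Cb.row = @_root_.Cfsg.Agent.KO04de08f.k7 | exact True : Prop) := by first | (delta _root_.Cfsg.Agent.KO04de08f.k7; exact @Subtype.property _ (fun g => @Cfsg.Agent.Cam.Ex.Cb.row = @g) _) | rfl | trivial
private noncomputable def _root_.Cfsg.Agent.KO04de08f.k8 : (by first | exact type_of% @Cfsg.Agent.Cam.Ex.Cb.pkT | exact Unit : Sort _) := by first | (refine @Subtype.val _ (fun g => @Cfsg.Agent.Cam.Ex.Cb.pkT = @g) (@Subtype.mk _ _ (@(fun x0 x1 => @List.rec.{1, 0} ℕ @(fun x2 => @List.{0} (ℕ × (ℕ × ℕ))) [] @(fun x2 x3 x4 => ((@Nat.pow @Cfsg.Agent.Cam.Ex.Cb.pkQ @x2, (@Int.rec.{1} @(fun x5 => ℕ) @(fun x5 => @x5) @(fun x5 => nat_lit 0) (@Cfsg.Agent.KO04de08f.k6 (@Int.ofNat (nat_lit 0)) (@Cfsg.Agent.KO04de08f.k7 @x0 @x2)), @Int.rec.{1} @(fun x5 => ℕ) @(fun x5 => @x5) @(fun x5 => nat_lit 0) (@Int.rec.{1} @(fun x5 => ℤ) @(fun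 x5 => @Nat.rec.{1} @(fun x6 => ℤ) (@Int.ofNat (nat_lit 0)) @(fun x6 x7 => @Int.negSucc @x6) @x5) @(fun x5 => @Int.ofNat (@Nat.succ @x5)) (@Cfsg.Agent.KO04de08f.k6 (@Int.ofNat (nat_lit 0)) (@Cfsg.Agent.KO04de08f.k7 @x0 @x2)))))) :: @x4) @x1)) ?_); rewrite [← Cfsg.Agent.KO04de08f.e7, ← Cfsg.Agent.KO04de08f.e6]; (try delta Cfsg.Agent.Cam.Ex.Cb.pkT); (try generalize @Cfsg.Agent.Cam.Ex.Cb.pkQ = g0); (try generalize @Cfsg.Agent.Cam.Ex.Cb.pkv = g1); (try generalize @Cfsg.Agent.Cam.Ex.Cb.row = g2); rfl') | exact @Cfsg.Agent.Cam.Ex.Cb.pkT | exact ()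
private theorem _root_.Cfsg.Agent.KO04de08f.e8 : (by first | exact @Cfsg.Agent.Cam.Ex.Cb.pkT = @_root_.Cfsg.Agent.KO04de08f.k8 | exact True : Prop) := by first | (delta _root_.Cfsg.Agent.KO04de08f.k8; exact @Subtype.property _ (fun g => @Cfsg.Agent.Cam.Ex.Cb.pkT = @g) _) | rfl | trivial
private noncomputable def _root_.Cfsg.Agent.KO04de08f.k11 : (by first | exact type_of% @Cfsg.Agent.Cam.Ex.Cb.pkL | exact Unit : Sort _) := by first | (refine @Subtype.val _ (fun g => @Cfsg.Agent.Cam.Ex.Cb.pkL = @g) (@Subtype.mk _ _ (@(fun x0 => @List.rec.{1, 0} @Cfsg.Agent.Cam.Ex.Cb.V @(fun x1 => @List.{0} ℕ) [] @(fun x1 x2 x3 => (@Int.rec.{1} @(fun x4 => ℕ) @(fun x4 => @x4) @(fun x4 => nat_lit 0) (@Cfsg.Agent.KO04de08f.k6 (@Int.ofNat @Cfsg.Agent.Cam.Ex.Cb.pkH) @x1)) :: @x3) @x0)) ?_); rewrite [← Cfsg.Agent.KO04de08f.e6]; (try delta Cfsg.Agent.Cam.Ex.Cb.pkL); (try generalize @Cfsg.Agent.Cam.Ex.Cb.pkv = g0); (try generalize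 @Cfsg.Agent.Cam.Ex.Cb.pkH = g1); rfl') | exact @Cfsg.Agent.Cam.Ex.Cb.pkL | exact ()
private theorem _root_.Cfsg.Agent.KO04de08f.e11 : (by first | exact @Cfsg.Agent.Cam.Ex.Cb.pkL = @_root_.Cfsg.Agent.KO04de08f.k11 | exact True : Prop) := by first | (delta _root_.Cfsg.Agent.KO04de08f.k11; exact @Subtype.property _ (fun g => @Cfsg.Agent.Cam.Ex.Cb.pkL = @g) _) | rfl | trivial
private noncomputable def _root_.Cfsg.Agent.KO04de08f.k12 : (by first | exact type_of% @Cfsg.Agent.Cam.Ex.Cb.fl | exact Unit : Sort _) := by first | (refine @Subtype.val _ (fun g => @Cfsg.Agent.Cam.Ex.Cb.fl = @g) (@Subtype.mk _ _ (@(fun x0 x1 x2 => @List.rec.{1, 0} @x0 @(fun x3 => @List.{0} @x0) [] @(fun x3 x4 x5 => @Bool.rec.{1} @(fun x6 => @List.{0} @x0) @x5 (@x3 :: @x5) (@x1 @x3)) @x2)) ?_); rfl') | exact @Cfsg.Agent.Cam.Ex.Cb.fl | exact ()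
private theorem _root_.Cfsg.Agent.KO04de08f.e12 : (by first | exact @Cfsg.Agent.Cam.Ex.Cb.fl = @_root_.Cfsg.Agent.KO04de08f.k12 | exact True : Prop) := by first | (delta _root_.Cfsg.Agent.KO04de08f.k12; exact @Subtype.property _ (fun g => @Cfsg.Agent.Cam.Ex.Cb.fl = @g) _) | rfl | trivial
private noncomputable def _root_.Cfsg.Agent.KO04de08f.k18 : (by first | exact type_of% @Cfsg.Agent.Cam.Ex.Cb.sml | exact Unit : Sort _) := by first | (refine @Subtype.val _ (fun g => @Cfsg.Agent.Cam.Ex.Cb.sml = @g) (@Subtype.mk _ _ (@(fun x0 x1 => @Cfsg.Agent.KO04de08f.k0 _ @(fun x2 => @Nat.ble (@Int.rec.{1} @(fun x3 => ℕ) @(fun x3 => @x3) @(fun x3 => @Nat.succ @x3) @x2) @x0) @x1)) ?_); rewrite [← Cfsg.Agent.KO04de08f.e0]; (try delta Cfsg.Agent.Cam.Ex.Cb.sml); (try generalize @Cfsg.Agent.Cam.Ex.Cb.al = g0); rfl') | exact @Cfsg.Agent.Cam.Ex.Cb.sml | exact ()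
private theorem _root_.Cfsg.Agent.KO04de08f.e18 : (by first | exact @Cfsg.Agent.Cam.Ex.Cb.sml = @_root_.Cfsg.Agent.KO04de08f.k18 | exact True : Prop) := by first | (delta _root_.Cfsg.Agent.KO04de08f.k18; exact @Subtype.property _ (fun g => @Cfsg.Agent.Cam.Ex.Cb.sml = @g) _) | rfl | trivial
private noncomputable def _root_.Cfsg.Agent.KO04de08f.k20 : (by first | exact type_of% @Cfsg.Agent.Cam.Ex.Cb.gt | exact Unit : Sort _) := by first | (refine @Subtype.val _ (fun g => @Cfsg.Agent.Cam.Ex.Cb.gt = @g) (@Subtype.mk _ _ (@(fun x0 => @List.rec.{1, 0} ℤ @(fun x1 => ℕ → ℤ) @(fun x1 => @Int.ofNat (nat_lit 0)) @(fun x1 x2 x3 x4 => @Nat.rec.{1} @(fun x5 => ℤ) @x1 @(fun x5 x6 => @x3 @x5) @x4) @x0)) ?_); rfl') | exact @Cfsg.Agent.Cam.Ex.Cb.gt | exact ()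
private theorem _root_.Cfsg.Agent.KO04de08f.e20 : (by first | exact @Cfsg.Agent.Cam.Ex.Cb.gt = @_root_.Cfsg.Agent.KO04de08f.k20 | exact True : Prop) := by first | (delta _root_.Cfsg.Agent.KO04de08f.k20; exact @Subtype.property _ (fun g => @Cfsg.Agent.Cam.Ex.Cb.gt = @g) _) | rfl | trivial
private noncomputable def _root_.Cfsg.Agent.KO04de08f.k23 : (by first | exact type_of% @Cfsg.Agent.Cam.Ex.Cb.pchkF | exact Unit : Sort _) := by first | (refine @Subtype.val _ (fun g => @Cfsg.Agent.Cam.Ex.Cb.pchkF = @g) (@Subtype.mk _ _ (@(fun x0 x1 x2 x3 x4 x5 => @Bool.rec.{1} @(fun x6 => @Bool) @Bool.false (@Bool.rec.{1} @(fun x6 => @Bool) @Bool.false (@Bool.rec.{1} @(fun x6 => @Bool) @Bool.false (@Bool.rec.{1} @(fun x6 => @Bool) @Bool.false (@Bool.rec.{1} @(fun x6 => @Bool) @Bool.false (@Bool.rec.{1} @(fun x6 => @Bool) @Bool.false (@Bool.rec.{1} @(fun x6 => @Bool) @Bool.false (@Cfsg.Agent.KO04de08f.k0 _ @(fun x6 =>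 @Cfsg.Agent.KO04de08f.k0 _ @(fun x7 => @Bool.rec.{1} @(fun x8 => @Bool) @Bool.false (@Cfsg.Agent.KO04de08f.k1 _ (@Cfsg.Agent.KO04de08f.k3 (@Cfsg.Agent.KO04de08f.k8 (@Cfsg.Agent.Cam.Ex.Cb.Dt.C @x1) @x4) (nat_lit 40) (@Int.rec.{1} @(fun x8 => ℕ) @(fun x8 => @x8) @(fun x8 => nat_lit 0) (@Cfsg.Agent.KO04de08f.k4 (@Cfsg.Agent.KO04de08f.k6 (@Int.ofNat @Cfsg.Agent.Cam.Ex.Cb.pkH) @x6) (@Int.rec.{1} @(fun x8 => ℤ) @(fun x8 => @Nat.rec.{1} @(fun x9 => ℤ) (@Int.ofNat (nat_lit 0)) @(fun x9 x10 => @Int.negSucc @x9) @x8) @(fun x8 => @Int.ofNat (@Nat.succ @x8)) (@Cfsg.Agent.KO04de08f.k5 (@Cfsg.Agent.KO04de08f.k9 (@Cfsg.Agent.Cam.Ex.Cb.Ent.b @x7) @x6) (@Cfsg.Agent.KO04de08f.k6 (@Int.ofNat (nat_lit 0)) (@Cfsg.Agent.Cam.Ex.Cb.Ent.cv @x7))))))) @(fun x8 => @Cfsg.Agent.KO04de08f.k10 _ (@Nat.beq @x8) (@Cfsg.Agent.KO04de08f.k11 @x5))) (@Nat.ble (@Int.rec.{1} @(fun x8 => ℕ) @(fun x8 => @x8) @(fun x8 => @Nat.succ @x8) (@Cfsg.Agent.KO04de08f.k9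 (@Cfsg.Agent.Cam.Ex.Cb.Ent.b @x7) @x6)) (nat_lit 28))) (@Cfsg.Agent.KO04de08f.k12 _ @(fun x7 => @Bool.rec.{1} @(fun x8 => @Bool) (@Cfsg.Agent.KO04de08f.k15 (@Cfsg.Agent.KO04de08f.k9 (@Cfsg.Agent.Cam.Ex.Cb.Ent.b @x7) @x2) (@Nat.rec.{1} @(fun x8 => ℤ) (@Int.ofNat (nat_lit 0)) @(fun x8 x9 => @Int.negSucc @x8) (nat_lit 1))) @Bool.true (@Cfsg.Agent.KO04de08f.k15 (@Cfsg.Agent.KO04de08f.k9 (@Cfsg.Agent.Cam.Ex.Cb.Ent.b @x7) @x2) (@Int.ofNat (nat_lit 1)))) (@Cfsg.Agent.Cam.Ex.Cb.Dt.T @x1))) @x5) (@Cfsg.Agent.KO04de08f.k0 _ @(fun x6 => @Bool.rec.{1} @(fun x7 => @Bool) @Bool.false (@Cfsg.Agent.KO04de08f.k0 _ @(fun x7 => @Nat.ble (@Int.rec.{1} @(fun x8 => ℕ) @(fun x8 => @x8) @(fun x8 => @Nat.succ @x8) @x7) (nat_lit 2)) (@Cfsg.Agent.Cam.Ex.Cb.Ent.cv @x6)) (@Nat.beq (@Cfsg.Agent.KO04de08f.k17.{0} _ (@Cfsg.Agent.Cam.Ex.Cb.Ent.cv @x6)) @x0)) (@Cfsg.Agent.Cam.Ex.Cb.Dt.T @x1))) (@Cfsg.Agent.KO04de08f.k0 _ (@Cfsg.Agent.KO04de08f.k18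 (nat_lit 8)) @x5)) (@Cfsg.Agent.KO04de08f.k0 _ @(fun x6 => @Bool.rec.{1} @(fun x7 => @Bool) @Bool.false (@Bool.rec.{1} @(fun x7 => @Bool) @Bool.false (@Cfsg.Agent.KO04de08f.k0 _ @(fun x7 => @Nat.ble (@Int.rec.{1} @(fun x8 => ℕ) @(fun x8 => @x8) @(fun x8 => @Nat.succ @x8) @x7) (nat_lit 2)) (@Cfsg.Agent.KO04de08f.k7 (@Cfsg.Agent.Cam.Ex.Cb.Dt.C @x1) @x6)) (@Nat.beq (@Cfsg.Agent.KO04de08f.k17.{0} _ (@Cfsg.Agent.KO04de08f.k7 (@Cfsg.Agent.Cam.Ex.Cb.Dt.C @x1) @x6)) @x0)) (@Nat.ble (@Nat.succ @x6) @x0)) @x4)) (@Cfsg.Agent.KO04de08f.k0 _ @(fun x6 => @Nat.beq (@Cfsg.Agent.KO04de08f.k17.{0} _ @x6) @x0) @x5)) (@Cfsg.Agent.KO04de08f.k10 _ (@Cfsg.Agent.KO04de08f.k19 @x3) @x5)) (@Cfsg.Agent.KO04de08f.k0 _ @(fun x6 => @Cfsg.Agent.KO04de08f.k15 (@Cfsg.Agent.KO04de08f.k20 @x2 @x6) (@Int.ofNat (nat_lit 0))) @x4)) (@Cfsg.Agent.KO04de08f.k0 _ @(fun x6 => @Bool.rec.{1} @(fun x7 => @Bool) (@Cfsg.Agent.KO04de08f.k15 (@Cfsg.Agent.KO04de08f.k20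 @x2 @x6) (@Int.ofNat (nat_lit 1))) @Bool.true (@Bool.rec.{1} @(fun x7 => @Bool) @Bool.false (@Cfsg.Agent.KO04de08f.k15 (@Cfsg.Agent.KO04de08f.k20 @x3 @x6) (@Int.ofNat (nat_lit 0))) (@Cfsg.Agent.KO04de08f.k15 (@Cfsg.Agent.KO04de08f.k20 @x2 @x6) (@Int.ofNat (nat_lit 0))))) (@Cfsg.Agent.KO04de08f.k22 @x0 [])))) ?_); rewrite [← Cfsg.Agent.KO04de08f.e22, ← Cfsg.Agent.KO04de08f.e20, ← Cfsg.Agent.KO04de08f.e19, ← Cfsg.Agent.KO04de08f.e7, ← Cfsg.Agent.KO04de08f.e18, ← Cfsg.Agent.KO04de08f.e17.{0}, ← Cfsg.Agent.KO04de08f.e15, ← Cfsg.Agent.KO04de08f.e12, ← Cfsg.Agent.KO04de08f.e11, ← Cfsg.Agent.KO04de08f.e10, ← Cfsg.Agent.KO04de08f.e9, ← Cfsg.Agent.KO04de08f.e5, ← Cfsg.Agent.KO04de08f.e6, ← Cfsg.Agent.KO04de08f.e4, ← Cfsg.Agent.KO04de08f.e8, ← Cfsg.Agent.KO04de08f.e3, ← Cfsg.Agent.KO04de08f.e1, ← Cfsg.Agent.KO04de08f.e0]; (try delta Cfsg.Agent.Cam.Ex.Cb.pchkF Cfsg.Agent.Cam.Ex.Cb.sml); (try generalize @Cfsg.Agent.Cam.Ex.Cb.al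 = g0); (try generalize @Cfsg.Agent.Cam.Ex.Cb.pkF = g1); (try generalize @Cfsg.Agent.Cam.Ex.Cb.domF = g2); (try generalize @Cfsg.Agent.Cam.Ex.Cb.pkT = g3); (try generalize @Cfsg.Agent.Cam.Ex.Cb.pkv = g4); (try generalize @Cfsg.Agent.Cam.Ex.Cb.pkH = g5); (try generalize @Cfsg.Agent.Cam.Ex.Cb.dot = g6); (try generalize @Cfsg.Agent.Cam.Ex.Cb.an = g7); (try generalize @Cfsg.Agent.Cam.Ex.Cb.pkL = g8); (try generalize @Cfsg.Agent.Cam.Ex.Cb.fl = g9); (try generalize @Cfsg.Agent.Cam.Ex.Cb.ieq = g10); (try generalize @Cfsg.Agent.Cam.Ex.Cb.row = g11); (try generalize @Cfsg.Agent.Cam.Ex.Cb.leq = g12); (try generalize @Cfsg.Agent.Cam.Ex.Cb.gt = g13); rfl') | exact @Cfsg.Agent.Cam.Ex.Cb.pchkF | exact ()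
private theorem _root_.Cfsg.Agent.KO04de08f.e23 : (by first | exact @Cfsg.Agent.Cam.Ex.Cb.pchkF = @_root_.Cfsg.Agent.KO04de08f.k23 | exact True : Prop) := by first | (delta _root_.Cfsg.Agent.KO04de08f.k23; exact @Subtype.property _ (fun g => @Cfsg.Agent.Cam.Ex.Cb.pchkF = @g) _) | rfl | trivial

theorem pE6_001010 : pchk 6 dE6 [0, 0, 1, 0, 1, 0] [0, 0, 1, 0, 1, 0] [0, 1, 3, 5] LE6_001010 = true :=
  pchk_of (by (first | (rewrite [Cfsg.Agent.KO04de08f.e23]; decide +kernel) | decide +kernel))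

/-- certificates -/
def CE6_001010_0 : List (V × Bool × List V) := [(([0, 0, -2, 0, 1, 3] : V), true, [([-3, -5, -6, -7, -3, 1] : V), ([-6, -5, -9, -10, -6, -2] : V), ([-3, -5, -9, -10, -6, -2] : V), ([-3, -2, -6, -7, -3, 1] : V), ([-3, -2, -6, -4, -3, 1] : V), ([-3, -2, -6, -4, 0, 1] : V)]),
  (([1, 1, -2, 1, -2, 4] : V), true, [([-1, 1, -4, 0, 0, 2] : V)]),
  (([2, 1, -4, 1, -1, 2] : V), false, [([2, 3, 5, 2, 1, 0] : V)]),
  (([2, 1, -1, 1, -4, 2] : V), false, [([-1, 0, -1, -1, 1, 0] : V)]),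
  (([3, 0, 1, 0, -2, 0] : V), true, [([1, 1, 3, 5, 6, 3] : V), ([-2, 1, 0, 2, 3, 0] : V), ([-2, 1, 0, 2, 3, 3] : V), ([1, 4, 3, 5, 6, 3] : V), ([1, 4, 3, 8, 6, 3] : V), ([1, 4, 6, 8, 6, 3] : V)]),
  (([4, 1, -2, 1, -2, 1] : V), true, [([1, 1, 1, 2, 0, 0] : V)])]

/-- survivors -/
def SE6_001010_0 : List V := [([1, 2, -3, 2, -3, 1] : V), ([3, 0, -2, 0, -2, 3] : V)]

private noncomputable def _root_.Cfsg.Agent.KO04de08f.k25 : (by first | exact type_of% @Cfsg.Agent.Cam.Ex.Cb.zr | exact Unit : Sort _) := by first | (refine @Subtype.val _ (fun g => @Cfsg.Agent.Cam.Ex.Cb.zr = @g) (@Subtype.mk _ _ (@(fun x0 x1 => @Cfsg.Agent.KO04de08f.k15 (@Int.rec.{1} @(fun x2 => ℤ) @(fun x2 => @Int.ofNat (@Nat.mod @x2 (@Int.rec.{1} @(fun x3 => ℕ) @(fun x3 => @x3) @(fun x3 => @Nat.succ @x3) @x0))) @(fun x2 => @Nat.rec.{1} @(fun x3 => ℤ) (@Int.ofNat (@Nat.sub (@Int.rec.{1} @(fun x3 => ℕ) @(fun x3 => @x3) @(fun x3 => @Nat.succ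 @x3) @x0) (@Nat.succ (@Nat.mod @x2 (@Int.rec.{1} @(fun x3 => ℕ) @(fun x3 => @x3) @(fun x3 => @Nat.succ @x3) @x0))))) @(fun x3 x4 => @Int.negSucc @x3) (@Nat.sub (@Nat.succ (@Nat.mod @x2 (@Int.rec.{1} @(fun x3 => ℕ) @(fun x3 => @x3) @(fun x3 => @Nat.succ @x3) @x0))) (@Int.rec.{1} @(fun x3 => ℕ) @(fun x3 => @x3) @(fun x3 => @Nat.succ @x3) @x0))) @x1) (@Int.ofNat (nat_lit 0)))) ?_); rewrite [← Cfsg.Agent.KO04de08f.e15]; (try delta Cfsg.Agent.Cam.Ex.Cb.zr); (try generalize @Cfsg.Agent.Cam.Ex.Cb.ieq = g0); rfl') | exact @Cfsg.Agent.Cam.Ex.Cb.zr | exact ()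
private theorem _root_.Cfsg.Agent.KO04de08f.e25 : (by first | exact @Cfsg.Agent.Cam.Ex.Cb.zr = @_root_.Cfsg.Agent.KO04de08f.k25 | exact True : Prop) := by first | (delta _root_.Cfsg.Agent.KO04de08f.k25; exact @Subtype.property _ (fun g => @Cfsg.Agent.Cam.Ex.Cb.zr = @g) _) | rfl | trivial
private noncomputable def _root_.Cfsg.Agent.KO04de08f.k27 : (by first | exact type_of% @Cfsg.Agent.Cam.Ex.Cb.orbS | exact Unit : Sort _) := by first | (refine @Subtype.val _ (fun g => @Cfsg.Agent.Cam.Ex.Cb.orbS = @g) (@Subtype.mk _ _ (@(fun x0 x1 x2 x3 => @Cfsg.Agent.KO04de08f.k0 _ @(fun x4 => @Bool.rec.{1} @(fun x5 => @Bool) @Bool.false (@Cfsg.Agent.KO04de08f.k0 _ @(fun x5 => @Cfsg.Agent.KO04de08f.k10 _ @(fun x6 => @Cfsg.Agent.KO04de08f.k0 _ (@Cfsg.Agent.KO04de08f.k25 @x1) (@Cfsg.Agent.KO04de08f.k26 (@Int.ofNat (nat_lit 1)) (@Cfsg.Agent.KO04de08f.k26 (@Cfsg.Agent.KO04de08f.k9 @x4 (@Cfsg.Agent.Cam.Ex.Cb.Ent.cv @x5))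 @x4 (@Cfsg.Agent.Cam.Ex.Cb.Ent.b @x5)) @x6)) @x3) @x2) (@Nat.beq (@Cfsg.Agent.KO04de08f.k17.{0} _ @x4) @x0)) @x3)) ?_); rewrite [← Cfsg.Agent.KO04de08f.e17.{0}, ← Cfsg.Agent.KO04de08f.e9, ← Cfsg.Agent.KO04de08f.e26, ← Cfsg.Agent.KO04de08f.e25, ← Cfsg.Agent.KO04de08f.e10, ← Cfsg.Agent.KO04de08f.e0]; (try delta Cfsg.Agent.Cam.Ex.Cb.orbS); (try generalize @Cfsg.Agent.Cam.Ex.Cb.al = g0); (try generalize @Cfsg.Agent.Cam.Ex.Cb.an = g1); (try generalize @Cfsg.Agent.Cam.Ex.Cb.zr = g2); (try generalize @Cfsg.Agent.Cam.Ex.Cb.axpy = g3); (try generalize @Cfsg.Agent.Cam.Ex.Cb.dot = g4); rfl') | exact @Cfsg.Agent.Cam.Ex.Cb.orbS | exact ()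
private theorem _root_.Cfsg.Agent.KO04de08f.e27 : (by first | exact @Cfsg.Agent.Cam.Ex.Cb.orbS = @_root_.Cfsg.Agent.KO04de08f.k27 | exact True : Prop) := by first | (delta _root_.Cfsg.Agent.KO04de08f.k27; exact @Subtype.property _ (fun g => @Cfsg.Agent.Cam.Ex.Cb.orbS = @g) _) | rfl | trivial
private noncomputable def _root_.Cfsg.Agent.KO04de08f.k28 : (by first | exact type_of% @Cfsg.Agent.Cam.Ex.Cb.orbK | exact Unit : Sort _) := by first | (refine @Subtype.val _ (fun g => @Cfsg.Agent.Cam.Ex.Cb.orbK = @g) (@Subtype.mk _ _ (@(fun x0 x1 x2 x3 x4 x5 x6 => @Bool.rec.{1} @(fun x7 => @Bool) @Bool.false (@Cfsg.Agent.KO04de08f.k10 _ @(fun x7 => @Cfsg.Agent.KO04de08f.k0 _ @(fun x8 => @Cfsg.Agent.KO04de08f.k24 @x2 @x3 (@Cfsg.Agent.KO04de08f.k4 (@Cfsg.Agent.KO04de08f.k9 @x8 @x4) (@Cfsg.Agent.KO04de08f.k9 @x7 @x4))) @x6) @x6) (@Cfsg.Agent.KO04de08f.k27 @x0 @x2 (@Cfsg.Agent.KO04de08f.k12 _ @(fun x7 => @Bool.rec.{1}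 @(fun x8 => @Bool) @Bool.true @Bool.false (@Cfsg.Agent.KO04de08f.k24 @x2 @x3 (@Cfsg.Agent.KO04de08f.k9 (@Cfsg.Agent.Cam.Ex.Cb.Ent.b @x7) @x5))) (@Cfsg.Agent.Cam.Ex.Cb.Dt.T @x1)) @x6))) ?_); rewrite [← Cfsg.Agent.KO04de08f.e12, ← Cfsg.Agent.KO04de08f.e27, ← Cfsg.Agent.KO04de08f.e9, ← Cfsg.Agent.KO04de08f.e4, ← Cfsg.Agent.KO04de08f.e24, ← Cfsg.Agent.KO04de08f.e0, ← Cfsg.Agent.KO04de08f.e10]; (try delta Cfsg.Agent.Cam.Ex.Cb.orbK); (try generalize @Cfsg.Agent.Cam.Ex.Cb.an = g0); (try generalize @Cfsg.Agent.Cam.Ex.Cb.al = g1); (try generalize @Cfsg.Agent.Cam.Ex.Cb.nz = g2); (try generalize @Cfsg.Agent.Cam.Ex.Cb.dot = g3); (try generalize @Cfsg.Agent.Cam.Ex.Cb.orbS = g4); (try generalize @Cfsg.Agent.Cam.Ex.Cb.fl = g5); rfl') | exact @Cfsg.Agent.Cam.Ex.Cb.orbK | exact ()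
private theorem _root_.Cfsg.Agent.KO04de08f.e28 : (by first | exact @Cfsg.Agent.Cam.Ex.Cb.orbK = @_root_.Cfsg.Agent.KO04de08f.k28 | exact True : Prop) := by first | (delta _root_.Cfsg.Agent.KO04de08f.k28; exact @Subtype.property _ (fun g => @Cfsg.Agent.Cam.Ex.Cb.orbK = @g) _) | rfl | trivial
private noncomputable def _root_.Cfsg.Agent.KO04de08f.k29 : (by first | exact type_of% @Cfsg.Agent.Cam.Ex.Cb.far | exact Unit : Sort _) := by first | (refine @Subtype.val _ (fun g => @Cfsg.Agent.Cam.Ex.Cb.far = @g) (@Subtype.mk _ _ (@(fun x0 x1 x2 => @Bool.rec.{1} @(fun x3 => @Bool) @Bool.false (@Decidable.rec.{1} _ @(fun x3 => @Bool) @(fun x3 => @Bool.false) @(fun x3 => @Bool.true) (@Int.rec.{1} @(fun x3 => @Decidable (@Int.NonNeg @x3)) @(fun x3 => @Decidable.isTrue _ (@Int.NonNeg.mk @x3)) @(fun x3 => @Decidable.isFalse _ (@Int.decNonneg._proof_1 @x3)) (@Int.add (@Int.add (@Cfsg.Agent.Cam.Ex.Cb.Ent.n @x1) (@Cfsg.Agent.Cam.Ex.Cb.Ent.n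 @x2)) (@Int.rec.{1} @(fun x3 => ℤ) @(fun x3 => @Nat.rec.{1} @(fun x4 => ℤ) (@Int.ofNat (nat_lit 0)) @(fun x4 x5 => @Int.negSucc @x4) @x3) @(fun x3 => @Int.ofNat (@Nat.succ @x3)) (@Int.add (@Cfsg.Agent.Cam.Ex.Cb.Dt.mx @x0) (@Int.ofNat (nat_lit 1))))))) (@Cfsg.Agent.KO04de08f.k15 (@Cfsg.Agent.KO04de08f.k9 (@Cfsg.Agent.Cam.Ex.Cb.Ent.b @x1) (@Cfsg.Agent.Cam.Ex.Cb.Ent.cv @x2)) (@Int.ofNat (nat_lit 0))))) ?_); rewrite [← Cfsg.Agent.KO04de08f.e9, ← Cfsg.Agent.KO04de08f.e15]; (try delta Cfsg.Agent.Cam.Ex.Cb.far); (try generalize @Cfsg.Agent.Cam.Ex.Cb.ieq = g0); (try generalize @Cfsg.Agent.Cam.Ex.Cb.dot = g1); rfl') | exact @Cfsg.Agent.Cam.Ex.Cb.far | exact ()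
private theorem _root_.Cfsg.Agent.KO04de08f.e29 : (by first | exact @Cfsg.Agent.Cam.Ex.Cb.far = @_root_.Cfsg.Agent.KO04de08f.k29 | exact True : Prop) := by first | (delta _root_.Cfsg.Agent.KO04de08f.k29; exact @Subtype.property _ (fun g => @Cfsg.Agent.Cam.Ex.Cb.far = @g) _) | rfl | trivial
private noncomputable def _root_.Cfsg.Agent.KO04de08f.k31 : (by first | exact type_of% @Cfsg.Agent.Cam.Ex.Cb.killc | exact Unit : Sort _) := by first | (refine @Subtype.val _ (fun g => @Cfsg.Agent.Cam.Ex.Cb.killc = @g) (@Subtype.mk _ _ (@(fun x0 x1 x2 x3 x4 x5 x6 x7 x8 => @Bool.rec.{1} @(fun x9 => @Bool) (@Bool.rec.{1} @(fun x9 => @Bool) (@Bool.rec.{1} @(fun x9 => @Bool) (@Bool.rec.{1} @(fun x9 => @Bool) (@Bool.rec.{1} @(fun x9 => @Bool) (@Cfsg.Agent.KO04de08f.k10 _ @(fun x9 => @Bool.rec.{1} @(fun x10 => @Bool) @Bool.false (@Bool.rec.{1} @(fun x10 => @Bool) (@Cfsg.Agent.KO04de08f.k28 @x0 @x1 @x2 @x3 (@Cfsg.Agent.KO04de08f.k26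 (@Int.ofNat (nat_lit 1)) @x4 @x8) (@Cfsg.Agent.KO04de08f.k26 (@Nat.rec.{1} @(fun x10 => ℤ) (@Int.ofNat (nat_lit 0)) @(fun x10 x11 => @Int.negSucc @x10) (nat_lit 1)) @x4 @x8) (@Prod.snd.{0, 0} _ _ (@Prod.snd.{0, 0} _ _ @x9))) (@Cfsg.Agent.KO04de08f.k28 @x0 @x1 @x2 @x3 (@Cfsg.Agent.KO04de08f.k26 (@Nat.rec.{1} @(fun x10 => ℤ) (@Int.ofNat (nat_lit 0)) @(fun x10 x11 => @Int.negSucc @x10) (nat_lit 1)) @x4 @x8) (@Cfsg.Agent.KO04de08f.k26 (@Int.ofNat (nat_lit 1)) @x4 @x8) (@Prod.snd.{0, 0} _ _ (@Prod.snd.{0, 0} _ _ @x9))) (@Prod.fst.{0, 0} _ _ (@Prod.snd.{0, 0} _ _ @x9))) (@Cfsg.Agent.KO04de08f.k19 (@Prod.fst.{0, 0} _ _ @x9) @x8)) @x7) @Bool.true (@Cfsg.Agent.KO04de08f.k10 _ @(fun x9 => @Cfsg.Agent.KO04de08f.k0 _ @(fun x10 => @Cfsg.Agent.KO04de08f.k29 @x1 @x10 @x9) (@Cfsg.Agent.KO04de08f.k12 _ @(fun x10 => @Bool.rec.{1} @(fun x11 => @Bool) @Bool.true @Bool.false (@Cfsg.Agent.KO04de08f.k24 @x2 @x3 (@Cfsg.Agent.KO04de08f.k9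 (@Cfsg.Agent.Cam.Ex.Cb.Ent.b @x10) (@Cfsg.Agent.KO04de08f.k26 (@Nat.rec.{1} @(fun x11 => ℤ) (@Int.ofNat (nat_lit 0)) @(fun x11 x12 => @Int.negSucc @x11) (nat_lit 1)) @x4 @x8)))) (@Cfsg.Agent.Cam.Ex.Cb.Dt.T @x1))) (@Cfsg.Agent.Cam.Ex.Cb.Dt.T @x1))) @Bool.true (@Nat.ble (@Nat.succ @x5) (@Cfsg.Agent.KO04de08f.k30 _ @(fun x9 => @Cfsg.Agent.KO04de08f.k15 (@Int.rec.{1} @(fun x10 => ℤ) @(fun x10 => @Int.ofNat (@Nat.mod @x10 (@Int.rec.{1} @(fun x11 => ℕ) @(fun x11 => @x11) @(fun x11 => @Nat.succ @x11) @x2))) @(fun x10 => @Nat.rec.{1} @(fun x11 => ℤ) (@Int.ofNat (@Nat.sub (@Int.rec.{1} @(fun x11 => ℕ) @(fun x11 => @x11) @(fun x11 => @Nat.succ @x11) @x2) (@Nat.succ (@Nat.mod @x10 (@Int.rec.{1} @(fun x11 => ℕ) @(fun x11 => @x11) @(fun x11 => @Nat.succ @x11) @x2))))) @(fun x11 x12 => @Int.negSucc @x11) (@Nat.sub (@Nat.succ (@Nat.mod @x10 (@Int.rec.{1} @(fun x11 => ℕ) @(fun x11 => @x11) @(fun x11 => @Nat.succ @x11)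 @x2))) (@Int.rec.{1} @(fun x11 => ℕ) @(fun x11 => @x11) @(fun x11 => @Nat.succ @x11) @x2))) (@Cfsg.Agent.KO04de08f.k9 (@Cfsg.Agent.Cam.Ex.Cb.Ent.b @x9) (@Cfsg.Agent.KO04de08f.k26 (@Nat.rec.{1} @(fun x10 => ℤ) (@Int.ofNat (nat_lit 0)) @(fun x10 x11 => @Int.negSucc @x10) (nat_lit 1)) @x4 @x8))) (@Int.ofNat (nat_lit 0))) (@Cfsg.Agent.Cam.Ex.Cb.Dt.T @x1)))) @Bool.true (@Cfsg.Agent.KO04de08f.k10 _ @(fun x9 => @Cfsg.Agent.KO04de08f.k24 @x2 @x3 (@Cfsg.Agent.KO04de08f.k9 @x9 (@Cfsg.Agent.KO04de08f.k26 (@Nat.rec.{1} @(fun x10 => ℤ) (@Int.ofNat (nat_lit 0)) @(fun x10 x11 => @Int.negSucc @x10) (nat_lit 1)) @x4 @x8))) @x6)) @Bool.true (@Cfsg.Agent.KO04de08f.k0 _ (@Cfsg.Agent.KO04de08f.k25 @x2) (@Cfsg.Agent.KO04de08f.k26 (@Int.ofNat (nat_lit 1)) @x4 @x8))) @Bool.true (@Cfsg.Agent.KO04de08f.k0 _ (@Cfsg.Agent.KO04de08f.k25 @x2) (@Cfsg.Agent.KO04de08f.k26 (@Nat.rec.{1} @(fun x9 => ℤ) (@Int.ofNat (nat_lit 0)) @(fun x9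 x10 => @Int.negSucc @x9) (nat_lit 1)) @x4 @x8)))) ?_); rewrite [← Cfsg.Agent.KO04de08f.e25, ← Cfsg.Agent.KO04de08f.e15, ← Cfsg.Agent.KO04de08f.e30, ← Cfsg.Agent.KO04de08f.e9, ← Cfsg.Agent.KO04de08f.e24, ← Cfsg.Agent.KO04de08f.e12, ← Cfsg.Agent.KO04de08f.e29, ← Cfsg.Agent.KO04de08f.e0, ← Cfsg.Agent.KO04de08f.e19, ← Cfsg.Agent.KO04de08f.e26, ← Cfsg.Agent.KO04de08f.e28, ← Cfsg.Agent.KO04de08f.e10]; (try delta Cfsg.Agent.Cam.Ex.Cb.killc Cfsg.Agent.Cam.Ex.Cb.pl Cfsg.Agent.Cam.Ex.Cb.mi Cfsg.Agent.Cam.Ex.Cb.zr); (try generalize @Cfsg.Agent.Cam.Ex.Cb.an = g0); (try generalize @Cfsg.Agent.Cam.Ex.Cb.orbK = g1); (try generalize @Cfsg.Agent.Cam.Ex.Cb.axpy = g2); (try generalize @Cfsg.Agent.Cam.Ex.Cb.leq = g3); (try generalize @Cfsg.Agent.Cam.Ex.Cb.al = g4); (try generalize @Cfsg.Agent.Cam.Ex.Cb.far = g5); (try generalize @Cfsg.Agent.Cam.Ex.Cb.fl = g6); (try generalize @Cfsg.Agent.Cam.Ex.Cb.nz = g7); (try generalize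 @Cfsg.Agent.Cam.Ex.Cb.dot = g8); (try generalize @Cfsg.Agent.Cam.Ex.Cb.cnt = g9); (try generalize @Cfsg.Agent.Cam.Ex.Cb.ieq = g10); rfl') | exact @Cfsg.Agent.Cam.Ex.Cb.killc | exact ()
private theorem _root_.Cfsg.Agent.KO04de08f.e31 : (by first | exact @Cfsg.Agent.Cam.Ex.Cb.killc = @_root_.Cfsg.Agent.KO04de08f.k31 | exact True : Prop) := by first | (delta _root_.Cfsg.Agent.KO04de08f.k31; exact @Subtype.property _ (fun g => @Cfsg.Agent.Cam.Ex.Cb.killc = @g) _) | rfl | trivial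
private noncomputable def _root_.Cfsg.Agent.KO04de08f.k32 : (by first | exact type_of% @Cfsg.Agent.Cam.Ex.Cb.kchk | exact Unit : Sort _) := by first | (refine @Subtype.val _ (fun g => @Cfsg.Agent.Cam.Ex.Cb.kchk = @g) (@Subtype.mk _ _ (@(fun x0 x1 x2 x3 x4 x5 x6 x7 x8 x9 => @Cfsg.Agent.KO04de08f.k0 _ @(fun x10 => @Bool.rec.{1} @(fun x11 => @Bool) (@Cfsg.Agent.KO04de08f.k31 @x0 @x1 @x2 @x3 @x5 (@Cfsg.Agent.KO04de08f.k30 _ @(fun x11 => @Cfsg.Agent.KO04de08f.k15 (@Cfsg.Agent.KO04de08f.k9 (@Cfsg.Agent.Cam.Ex.Cb.Ent.b @x11) @x4) (@Int.ofNat (nat_lit 0))) (@Cfsg.Agent.Cam.Ex.Cb.Dt.T @x1)) @x6 @x7 @x10) @Bool.true (@Cfsg.Agent.KO04de08f.k10 _ (@Cfsg.Agent.KO04de08f.k19 @x10) @x9)) @x8)) ?_); rewrite [← Cfsg.Agent.KO04de08f.e19, ← Cfsg.Agent.KO04de08f.e10, ← Cfsg.Agent.KO04de08f.e9, ← Cfsg.Agent.KO04de08f.e15, ← Cfsg.Agent.KO04de08f.e30, ← Cfsg.Agent.KO04de08f.e31, ← Cfsg.Agent.KO04de08f.e0]; (try delta Cfsg.Agent.Cam.Ex.Cb.kchk);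 (try generalize @Cfsg.Agent.Cam.Ex.Cb.al = g0); (try generalize @Cfsg.Agent.Cam.Ex.Cb.killc = g1); (try generalize @Cfsg.Agent.Cam.Ex.Cb.cnt = g2); (try generalize @Cfsg.Agent.Cam.Ex.Cb.ieq = g3); (try generalize @Cfsg.Agent.Cam.Ex.Cb.dot = g4); (try generalize @Cfsg.Agent.Cam.Ex.Cb.an = g5); (try generalize @Cfsg.Agent.Cam.Ex.Cb.leq = g6); rfl') | exact @Cfsg.Agent.Cam.Ex.Cb.kchk | exact ()
private theorem _root_.Cfsg.Agent.KO04de08f.e32 : (by first | exact @Cfsg.Agent.Cam.Ex.Cb.kchk = @_root_.Cfsg.Agent.KO04de08f.k32 | exact True : Prop) := by first | (delta _root_.Cfsg.Agent.KO04de08f.k32; exact @Subtype.property _ (fun g => @Cfsg.Agent.Cam.Ex.Cb.kchk = @g) _) | rfl | trivial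

theorem kE6_001010_0 : kchk 6 dE6 0 85766121000000 [0, 0, 1, 0, 1, 0] [0, 0, 1, 0, 1, 0] [] CE6_001010_0 LE6_001010 SE6_001010_0 = true := by
  (first | (rewrite [Cfsg.Agent.KO04de08f.e32]; decide +kernel) | decide +kernel)

theorem eE6_001010_0 : al (fun lam => an (fun θ => endM 6 dE6 0 85766121000000 (pl [0, 0, 1, 0, 1, 0] lam) (mi [0, 0, 1, 0, 1, 0] lam) θ [1, 0, -1, 0, 1, -1])
    [[-1, 0, 0, 0, 0, 1], [-1, 0, 1, 0, -1, 1]]) SE6_001010_0 = true := by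
  (first | (rewrite [Cfsg.Agent.KO04de08f.e0, Cfsg.Agent.KO04de08f.e10, Cfsg.Agent.KO04de08f.e39, Cfsg.Agent.KO04de08f.e40, Cfsg.Agent.KO04de08f.e41]; decide +kernel) | decide +kernel)

/-- certificates -/
def CE6_001010_7 : List (V × Bool × List V) := [(([0, 0, -2, 0, 1, 3] : V), true, [([4, 2, 1, 0, 4, 1] : V), ([1, 2, 5, 4, 1, 5] : V), ([4, 2, 5, 4, 1, 5] : V), ([4, 5, 1, 0, 4, 1] : V), ([4, 5, 1, 3, 0, 1] : V), ([4, 5, 1, 3, 4, 1] : V)]),
  (([0, 0, 1, 1, -1, 1] : V), true, [([4, 0, 1, 5, 0, 1] : V), ([4, 0, 1, 0, 2, 3] : V), ([4, 0, 3, 0, 2, 3] : V), ([4, 5, 1, 5, 0, 1] : V), ([6, 0, 3, 0, 2, 3] : V), ([6, 2, 5, 4, 4, 3] : V)]),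
  (([0, 1, -2, 3, -3, 2] : V), true, [([1, 2, 2, 1, 0, 0] : V)]),
  (([0, 2, 2, 0, -3, 1] : V), false, [([4, 0, 1, 1, 1, 0] : V)]),
  (([1, 0, -1, 1, 1, 0] : V), true, [([2, 0, 0, 3, 2, 1] : V), ([2, 3, 0, 3, 2, 1] : V), ([6, 0, 4, 0, 2, 1] : V), ([6, 0, 4, 0, 6, 1] : V), ([6, 0, 4, 0, 6, 5] : V), ([6, 4, 1, 1, 3, 5] : V)]),
  (([1, 0, 0, 2, -4, 3] : V), true, [([4, 4, 4, 1, 0, 0] : V)]),
  (([1, 1, -2, 1, -2, 4] : V), true, [([3, 4, 5, 0, 0, 1] : V)]),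
  (([1, 2, -3, 0, 2, 0] : V), false, [([2, 0, 2, 1, 0, 0] : V)]),
  (([2, 1, -4, 1, -1, 2] : V), false, [([2, 3, 5, 2, 1, 0] : V)]),
  (([2, 1, -3, 1, 0, 2] : V), true, [([3, 4, 4, 2, 0, 1] : V)]),
  (([2, 1, -3, 3, -2, 0] : V), true, [([0, 6, 1, 0, 0, 0] : V)]),
  (([2, 1, -1, 1, -4, 2] : V), false, [([6, 0, 6, 6, 1, 0] : V)]),
  (([2, 1, 0, 0, -2, 3] : V), true, [([2, 2, 0, 1, 0, 1] : V)]),
  (([2, 1, 0, 1, -3, 2] : V), true, [([6, 6, 6, 0, 1, 0] : V)]),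
  (([3, 0, -4, 2, 0, 1] : V), true, [([0, 0, 1, 0, 0, 0] : V)]),
  (([3, 0, 1, 0, -2, 0] : V), true, [([5, 5, 1, 4, 2, 1] : V), ([4, 5, 0, 3, 1, 0] : V), ([4, 5, 0, 3, 1, 1] : V), ([5, 6, 1, 4, 2, 1] : V), ([5, 6, 1, 5, 2, 1] : V), ([5, 6, 2, 5, 2, 1] : V)]),
  (([3, 1, -2, 0, 0, 2] : V), true, [([4, 4, 3, 0, 0, 1] : V)]),
  (([4, 1, -2, 1, -2, 1] : V), true, [([4, 4, 4, 1, 0, 0] : V)])]

/-- survivors -/
def SE6_001010_7 : List V := [([1, 2, -3, 2, -3, 1] : V), ([3, 0, -2, 0, -2, 3] : V)]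

theorem kE6_001010_7 : kchk 6 dE6 7 1 [0, 0, 1, 0, 1, 0] [0, 0, 1, 0, 1, 0] [] CE6_001010_7 LE6_001010 SE6_001010_7 = true := by
  (first | (rewrite [Cfsg.Agent.KO04de08f.e32]; decide +kernel) | decide +kernel)

theorem eE6_001010_7 : al (fun lam => an (fun θ => endM 6 dE6 7 1 (pl [0, 0, 1, 0, 1, 0] lam) (mi [0, 0, 1, 0, 1, 0] lam) θ [1, 0, -1, 0, 1, -1])
    [[-1, 0, 0, 0, 0, 1], [-1, 0, 1, 0, -1, 1]]) SE6_001010_7 = true := by
  (first | (rewrite [Cfsg.Agent.KO04de08f.e0, Cfsg.Agent.KO04de08f.e10, Cfsg.Agent.KO04de08f.e39, Cfsg.Agent.KO04de08f.e40, Cfsg.Agent.KO04de08f.e41]; decide +kernel) | decide +kernel)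

end Cfsg.Agent.Cam.Ex.Cb
end

-- part: Cam/Ex/CbE6
section
set_option linter.all false
open scoped Cfsg.Agent.FastGrp

/-!
# The finite check: `E₆` (helper12)
-/

set_option autoImplicit false
set_option linter.unusedVariables false
set_option maxRecDepth 100000

namespace Cfsg.Agent.Cam.Ex.Cb

open CoxeterSystem Cfsg Cfsg.Lie
open Cfsg.Agent.ChevalleyStructure.CoxeterGeom Cfsg.Agent.ChevalleyStructure.CoxeterGeomTypes
open Cfsg.Agent.Tits.Roots Cfsg.Agent.Nodes.RGDChev Cfsg.Agent.Nodes.Coroot Cfsg.Agent.Nodes.SubComb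
open Cfsg.Agent.H931.KC (hr psi psi_apply psi_sr eq_psi)

section gen

variable {D : ChevalleyDatum} {l : ℕ} {M : CoxeterMatrix (Fin l)} {hp : IsType D l M} {d : Dt} (hT : Tab hp d)

/-- the candidates with the eigenvector `(s, t)` fix `(u, v)` up to the sign `ε` -/
noncomputable def chkT (d : Dt) (i j : ℕ) (RR : List (ℤ × ℤ)) (z : V) (s t u v : ℤ) : Bool :=
  al (fun ε => al (fun p => al (fun q => !cand d i j RR p q ||
    (!(zr 3 (gt z i * p.1 + gt z j * q.1 - ε * gt z i) && zr 3 (gt z i * p.2 + gt z j * q.2 - ε * gt z j)) ||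
    (zr ((p.1 * s + p.2 * t) * t - (q.1 * s + q.2 * t) * s) 46656 ||
    (ieq (u * p.1 + v * p.2) (ε * u) && ieq (u * q.1 + v * q.2) (ε * v))))) RR) RR) [1, -1]

include hT in
theorem Tab.clsT {i j : Fin l} {RR : List (ℤ × ℤ)} (R : RROK hp i j RR) {z : V} {s t u v : ℤ}
    (hc : chkT d i j RR z s t u v = true) {r : ℕ} (hr' : r.Prime) (h5 : 5 ≤ r) {φ : Lat l →+ ZMod r}
    (hx : Ex2 hp φ i j) (e1 : (t : ZMod r) * φ (sr i) = s * φ (sr j)) (h : Lat l ≃+ Lat l)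
    (hr : ∀ a, Rt hp (h a) ↔ Rt hp a) {e : ZMod r} (he : ∀ a, φ (h a) = e * φ a) {ε : ℤˣ}
    (hz : Cg 3 (h (toF l z)) ((ε : ℤ) • toF l z)) (a : Lat l) :
    u * h a i + v * h a j = ε * (u * a i + v * a j) := by
  have := Fact.mk hr'
  obtain ⟨p, hp', q, hq, h1, h2, h3, h4⟩ := hT.res2 R hx h hr he
  have hε : (ε : ℤ) ∈ ([1, -1] : List ℤ) := by rcases Int.units_eq_one_or ε with rfl | rfl <;> simp
  have h6 := al_iff.1 (al_iff.1 (al_iff.1 hc _ hε) p hp') q hq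
  obtain ⟨y, hy⟩ := hz
  have h7 : zr 3 (gt z i * p.1 + gt z j * q.1 - ε * gt z i) = true := by
    have h8 := (h2 (toF l z)).1
    rw [hy, Pi.add_apply, Pi.smul_apply, Pi.smul_apply, smul_eq_mul, smul_eq_mul] at h8
    exact zr_iff.2 ⟨y i, by simp only [toF_apply] at h8; push_cast at h8; linear_combination -h8⟩
  have h8 : zr 3 (gt z i * p.2 + gt z j * q.2 - ε * gt z j) = true := by
    have h8 := (h2 (toF l z)).2
    rw [hy, Pi.add_apply, Pi.smul_apply, Pi.smul_apply, smul_eq_mul, smul_eq_mul] at h8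
    exact zr_iff.2 ⟨y j, by simp only [toF_apply] at h8; push_cast at h8; linear_combination -h8⟩
  rw [h1, h7, h8, Bool.not_true, Bool.false_or, Bool.and_self, Bool.not_true, Bool.false_or] at h6
  rcases Bool.or_eq_true_iff.1 h6 with h6 | h6
  · have h9 : (p.1 : ZMod r) * s + p.2 * t = e * s := by
      refine mul_right_cancel₀ hx.ne1 ?_
      linear_combination s * h3 + p.2 * e1
    have h10 : (q.1 : ZMod r) * s + q.2 * t = e * t := by
      refine mul_right_cancel₀ hx.ne1 ?_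
      linear_combination s * h4 + (q.2 - e) * e1
    exact absurd (by push_cast; linear_combination t * h9 - s * h10) (un6 hr' h5 (zr_iff.1 h6))
  · obtain ⟨h9, h10⟩ := Bool.and_eq_true_iff.1 h6
    rw [(h2 a).1, (h2 a).2]
    linear_combination a i * ieq_iff.1 h9 + a j * ieq_iff.1 h10

theorem not_real {r : ℕ} (hr' : r.Prime) (h5 : 5 ≤ r) {φ : Lat l →+ ZMod r} {j : Fin l} (hx : Ex1 hp φ j) {z : Lat l}
    (hz : ∀ k, (3 : ℤ) ∣ psi (cartanOf D l k) z) (hj : z j = 1 ∨ z j = -1) : ¬ ∃ w, Neg hp w φ := by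
  have := Fact.mk hr'
  rintro ⟨w, hw⟩
  rcases hx.res (BpExc.Fr.repAut M.toCoxeterSystem hp.isCartan w) (rt_wa hp w) (e := -1)
    (fun a => by rw [neg_one_mul]; exact hw a) with h | h
  · exact un6 hr' h5 (n := 2) (by norm_num) (by push_cast; linear_combination -h.1)
  · obtain ⟨y, hy⟩ := cg_wa hp (n := 3) hz w
    have h1 : wa hp w z j = -z j := h.2 z
    rw [hy, Pi.add_apply, Pi.smul_apply, smul_eq_mul] at h1
    push_cast at h1
    omega

end gen

/-- the generator of the centre -/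
def zE6 : V := [1, 0, -1, 0, 1, -1]

theorem zE6_dvd (k : Fin 6) : (3 : ℤ) ∣ psi (cartanOf chevE6 6 k) (toF 6 zE6) := by
  rw [← tabE6.car, psi_toF (by rfl), ← zr_iff]
  revert k
  decide +kernel

/-- restricted roots, type `D₄` -/
def r05 : List (ℤ × ℤ) := [(-1, -1), (-1, 0), (0, -1), (0, 1), (1, 0), (1, 1)]

/-- restricted roots, type `A₂ A₁ A₁` -/
def r24 : List (ℤ × ℤ) :=
  [(-2, -2), (-2, -1), (-1, -2), (-1, -1), (-1, 0), (0, -1), (0, 1), (1, 0), (1, 1), (1, 2), (2, 1), (2, 2)]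

theorem R05 : RROK tE6 0 5 r05 := tabE6.rrok (by decide) (by decide +kernel)
theorem R24 : RROK tE6 2 4 r24 := tabE6.rrok (by decide) (by decide +kernel)
theorem k05 : toF 6 [1, 0, 0, 0, 0, 1] = sr 0 + sr 5 := by decide +kernel
theorem k24 : toF 6 [0, 0, 1, 0, 1, 0] = sr 2 + sr 4 := by decide +kernel

/-- the types of real elements of `E₆` -/
theorem typesE6 {r : ℕ} (hr' : r.Prime) (h5 : 5 ≤ r) {p : ℕ} {φ : Lat 6 →+ ZMod r} (h0 : φ ≠ 0)
    (hK : K1 tE6 p (Psi tE6 φ)) (hn : ∃ w, Neg tE6 w φ) : ∃ w, Exa tE6 (cw tE6 φ w) [0, 0, 0, 1, 0, 0] ∨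
      (Exa tE6 (cw tE6 φ w) [1, 0, 0, 0, 0, 1] ∧ ∃ μ ∈ ([(1, 1), (-2, 1), (1, -2)] : List (ℤ × ℤ)),
        (μ.2 : ZMod r) * cw tE6 φ w (sr 0) = μ.1 * cw tE6 φ w (sr 5)) ∨
      (Exa tE6 (cw tE6 φ w) [0, 0, 1, 0, 1, 0] ∧
        ((1 : ℤ) : ZMod r) * cw tE6 φ w (sr 2) = (1 : ℤ) * cw tE6 φ w (sr 4)) := by
  obtain ⟨w, t, ht, h⟩ := tabE6.types tyE6 hr' h5 h0 hK
  have h1 := tyE6' t ht
  simp only [List.mem_cons, List.not_mem_nil, or_false] at h1
  have hn' : ∃ v, Neg tE6 v (cw tE6 φ w) := hn.elim fun v hv => ⟨_, neg_conj tE6 hv w⟩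
  refine ⟨w, ?_⟩
  rcases h1 with h1 | h1 | h1 | h1 | h1 <;> rw [h1] at h
  · exact absurd hn' (not_real hr' h5 (h.ex1 (toF_uv (l := 6) 0)) zE6_dvd (Or.inl rfl))
  · exact absurd hn' (not_real hr' h5 (h.ex1 (toF_uv (l := 6) 2)) zE6_dvd (Or.inr rfl))
  · exact Or.inl h
  · exact Or.inr (Or.inl ⟨h, tabE6.clsW R05 (z := zE6) (by decide +kernel) zE6_dvd hr' h5 (h.ex2 k05) hn'⟩)
  · obtain ⟨μ, hμ, h2⟩ := tabE6.clsW R24 (z := zE6) (Mu := [(1, 1)]) (by decide +kernel) zE6_dvd hr' h5 (h.ex2 k24) hn'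
    rw [List.mem_singleton.1 hμ] at h2
    exact Or.inr (Or.inr ⟨h, h2⟩)

theorem cg_E6 {p q r : ℕ} {ε : ℤˣ} {g : Lat 6 ≃+ Lat 6} {A B : Lat 6 →+ ZMod r} (C : Cmb tE6 p q r (sg 6 ε) g A B) :
    Cg 3 (g (toF 6 zE6)) ((ε : ℤ) • toF 6 zE6) := by
  obtain ⟨w, hw⟩ := C.gr
  obtain ⟨y, hy⟩ := cg_wa tE6 (n := 3) zE6_dvd w
  exact ⟨(ε : ℤ) • y, by rw [hw, sg_apply, wa_smul, hy, smul_add, smul_comm]⟩

theorem e6_of {κ μ : V} {J : List ℕ} {L : List V} (h : pchk 6 dE6 κ μ J L = true) {G : List V} {m K : ℤ}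
    {CT : List (V × Bool × List V)} {SV TH : List V} (hk : kchk 6 dE6 m K κ μ G CT L SV = true)
    (he : al (fun lam => an (fun θ => endM 6 dE6 m K (pl μ lam) (mi μ lam) θ zE6) TH) SV = true) {p q r : ℕ}
    (hm : Md r m K) {g : Lat 6 ≃+ Lat 6} {A B : Lat 6 →+ ZMod r} (C : Cm tE6 p q r g A B) (hκ : Exa tE6 (A + B) κ)
    (hx : ∃ c, Is (A + B) c μ)
    (hG : ∀ u, cw tE6 A u + cw tE6 B u = A + B → ∀ v ∈ G, v.length = 6 ∧ cw tE6 A u (toF 6 v) = 0)
    (hq : (q : ZMod r) = 1 ∨ (q : ZMod r) = -1) {ε : ℤˣ} (hz : Cg 3 (g (toF 6 zE6)) ((ε : ℤ) • toF 6 zE6)) :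
    EndE6 q ε g A B := by
  obtain ⟨c, hx⟩ := hx
  obtain ⟨u, -, lam, hlam, c, hc0, hA, hB⟩ := tabE6.surv h hk hm C hκ hx hG
  obtain ⟨θ, -, h1⟩ := an_iff.1 (al_iff.1 he lam hlam)
  exact endE6_of (w := u) ⟨hq, tabE6.end_min (C.act u) hm hc0 hA hB h1 (cg_gw zE6_dvd hz u)⟩

theorem k3E6 (hc : BoxConn) {p q r : ℕ} {g : Lat 6 ≃+ Lat 6} {A B : Lat 6 →+ ZMod r} (C : Cm tE6 p q r g A B)
    (h : Exa tE6 (A + B) [0, 0, 0, 1, 0, 0]) : ∀ u, cw tE6 A u + cw tE6 B u = A + B →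
      ∀ v ∈ ([[0, 1, 0, 0, 0, 0]] : List V), v.length = 6 ∧ cw tE6 A u (toF 6 v) = 0 := by
  have j3 : toF 6 [0, 0, 0, 1, 0, 0] = sr 3 := toF_uv (l := 6) 3
  refine tabE6.k3G hc (by norm_num) C h (by decide +kernel) (tabE6.neg_is (μ := [0, 0, 0, 1, 0, 0]) rfl
    ((h.ex1 j3).is j3) (ω := [3, 1, 2, 0, 3, 2, 4, 3, 1, 2, 0, 3, 2, 4, 3, 5, 4, 3, 1, 2, 0, 3, 2, 4, 3, 1, 5, 4, 3])
    (by decide +kernel)) (fun v hv => Or.inl ?_) ((h.ex1 j3).eig C C.frX)
  rw [List.mem_singleton.1 hv]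
  exact tabE6.wd_vec rfl (by decide +kernel)

theorem nilG {r : ℕ} {A B : Lat 6 →+ ZMod r} : ∀ u, cw tE6 A u + cw tE6 B u = A + B →
    ∀ v ∈ ([] : List V), v.length = 6 ∧ cw tE6 A u (toF 6 v) = 0 := fun _ _ _ hv => absurd hv List.not_mem_nil

theorem finE6 (hc : BoxConn) (p q r : ℕ) (ε : ℤˣ) (g : Lat 6 ≃+ Lat 6) (A B : Lat 6 →+ ZMod r) (h7 : 7 ≤ r)
    (C0 : Cmb tE6 p q r (sg 6 ε) g A B) : EndE6 q ε g A B := by
  obtain ⟨w, h⟩ := typesE6 C0.prime C0.five C0.x0 C0.k1x (cm_of C0).exists_neg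
  have C := (cm_of C0).act w
  have hz := cg_gw (hp := tE6) zE6_dvd (cg_E6 C0) w
  refine endE6_of (w := w) ?_
  have h8 : r = 7 ∨ 8 ≤ r := by omega
  have j3 : toF 6 [0, 0, 0, 1, 0, 0] = sr 3 := toF_uv (l := 6) 3
  rcases h with h | ⟨h, μ, hμ, h1⟩ | ⟨h, h1⟩
  · rcases h8 with rfl | h8
    · exact e6_of pE6_000100 kE6_000100_7 eE6_000100_7 md7 C h.cw_add ⟨_, (h.ex1 j3).is j3⟩ (k3E6 hc C h.cw_add)
        ((h.ex1 j3).eig C C.frX) hz
    · exact e6_of pE6_000100 kE6_000100_0 eE6_000100_0 (md210 C.prime h8) C h.cw_add ⟨_, (h.ex1 j3).is j3⟩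
        (k3E6 hc C h.cw_add) ((h.ex1 j3).eig C C.frX) hz
  · simp only [List.mem_cons, List.not_mem_nil, or_false] at hμ
    rcases hμ with rfl | rfl | rfl
    · have h2 := (h.ex2 k05).is C.prime C.five (by decide) (by norm_num) h1 (μ := [1, 0, 0, 0, 0, 1])
        (by decide +kernel)
      have h3 := tabE6.clsG R05 (by decide +kernel) C.prime C.five (h.ex2 k05) h1 _ C.root C.frX
      rcases h8 with rfl | h8
      · exact e6_of pE6_100001 kE6_100001_7 eE6_100001_7 md7 C h.cw_add h2 nilG h3 hz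
      · exact e6_of pE6_100001 kE6_100001_0 eE6_100001_0 (md210 C.prime h8) C h.cw_add h2 nilG h3 hz
    · have h2 := (h.ex2 k05).is C.prime C.five (by decide) (by norm_num) h1 (μ := [-2, 0, 0, 0, 0, 1])
        (by decide +kernel)
      have h3 := tabE6.clsG R05 (by decide +kernel) C.prime C.five (h.ex2 k05) h1 _ C.root C.frX
      rcases h8 with rfl | h8
      · exact e6_of pE6_200001 kE6_200001_7 eE6_200001_7 md7 C h.cw_add h2 nilG h3 hz
      · exact e6_of pE6_200001 kE6_200001_0 eE6_200001_0 (md210 C.prime h8) C h.cw_add h2 nilG h3 hz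
    · have h2 := (h.ex2 k05).is C.prime C.five (by decide) (by norm_num) h1 (μ := [1, 0, 0, 0, 0, -2])
        (by decide +kernel)
      have h3 := tabE6.clsG R05 (by decide +kernel) C.prime C.five (h.ex2 k05) h1 _ C.root C.frX
      rcases h8 with rfl | h8
      · exact e6_of pE6_100002 kE6_100002_7 eE6_100002_7 md7 C h.cw_add h2 nilG h3 hz
      · exact e6_of pE6_100002 kE6_100002_0 eE6_100002_0 (md210 C.prime h8) C h.cw_add h2 nilG h3 hz
  · have h2 := (h.ex2 k24).is C.prime C.five (by decide) (by norm_num) h1 (μ := [0, 0, 1, 0, 1, 0])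
      (by decide +kernel)
    have h3 := tabE6.clsG R24 (by decide +kernel) C.prime C.five (h.ex2 k24) h1 _ C.root C.frX
    rcases h8 with rfl | h8
    · exact e6_of pE6_001010 kE6_001010_7 eE6_001010_7 md7 C h.cw_add h2 nilG h3 hz
    · exact e6_of pE6_001010 kE6_001010_0 eE6_001010_0 (md210 C.prime h8) C h.cw_add h2 nilG h3 hz

/-! ### `r = 5` -/

/-- the conclusion for `r = 5` -/
def Th6 {r : ℕ} (ε : ℤˣ) (g : Lat 6 ≃+ Lat 6) (X : Lat 6 →+ ZMod r) : Prop :=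
  ∃ θ : Lat 6 →+ ℤ, (∃ a, Rt tE6 a ∧ θ a = 1) ∧ Psi tE6 X ⊆ Psi tE6 θ ∧
    (∀ w, Neg tE6 w X → Fixs tE6 w θ) ∧ ∀ a, θ (g a) = (ε : ℤ) * θ a

theorem th6_of {r : ℕ} {ε : ℤˣ} {g : Lat 6 ≃+ Lat 6} {X : Lat 6 →+ ZMod r} {w : CoxeterMatrix.E₆.Group}
    (h : Th6 ε (gw tE6 g w) (cw tE6 X w)) : Th6 ε g X := by
  obtain ⟨θ, ⟨x, h1, h2⟩, h3, h4, h5⟩ := h
  refine ⟨cw tE6 θ w⁻¹, ⟨wa tE6 w x, h1.act w, by rw [cw_apply, wa_inv, h2]⟩, fun a ha => (mem_cw tE6).2 (h3 ?_),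
    fun v hv a => ?_, fun x => by rw [cw_apply, cw_apply, ← gw_inv, h5]⟩
  · rw [mem_cw, wa_inv']
    exact ha
  · have h6 := h4 _ (neg_conj tE6 hv w) (wa tE6 w⁻¹ a)
    rw [wa_mul, wa_mul, wa_inv'] at h6
    exact h6

theorem th6_mk {i j : Fin 6} {RR : List (ℤ × ℤ)} (R : RROK tE6 i j RR) {s t u v : ℤ}
    (hc : chkT dE6 i j RR zE6 s t u v = true) (huv : u = 1 ∨ v = 1) {r : ℕ} (hr' : r.Prime) (h5 : 5 ≤ r)
    {X : Lat 6 →+ ZMod r} (hx : Ex2 tE6 X i j) (e1 : (t : ZMod r) * X (sr i) = s * X (sr j)) {g : Lat 6 ≃+ Lat 6}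
    (hr : ∀ a, Rt tE6 (g a) ↔ Rt tE6 a) {e : ZMod r} (he : ∀ a, X (g a) = e * X a) {ε : ℤˣ}
    (hz : Cg 3 (g (toF 6 zE6)) ((ε : ℤ) • toF 6 zE6)) : Th6 ε g X := by
  have e2 : ∀ a : Lat 6, (u • psi (sr i) + v • psi (sr j)) a = u * a i + v * a j := fun a => by
    rw [AddMonoidHom.add_apply, AddMonoidHom.smul_apply, AddMonoidHom.smul_apply, psi_sr', psi_sr']
    rfl
  refine ⟨u • psi (sr i) + v • psi (sr j), ?_, fun a ha => ⟨ha.1, ?_⟩, fun w hw a => ?_, fun a => ?_⟩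
  · rcases huv with h | h
    · exact ⟨sr i, rt_sr tE6 i, by rw [e2, sr_self, sr_ne R.ne.symm, h]; ring⟩
    · exact ⟨sr j, rt_sr tE6 j, by rw [e2, sr_self, sr_ne R.ne, h]; ring⟩
  · rw [e2, ((hx a ha.1).1 ha.2).1, ((hx a ha.1).1 ha.2).2]
    ring
  · have h1 := tabE6.clsT R hc hr' h5 hx e1 (BpExc.Fr.repAut _ tE6.isCartan w) (rt_wa tE6 w) (e := -1)
      (fun a => by rw [neg_one_mul]; exact hw a) (ε := 1)
      (by rw [Units.val_one, one_smul]; exact cg_wa tE6 (n := 3) zE6_dvd w) a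
    rw [Units.val_one, one_mul] at h1
    rw [e2, e2]
    exact h1
  · rw [e2, e2]
    exact tabE6.clsT R hc hr' h5 hx e1 g hr he hz a

theorem finE6_five (hc : BoxConn) (p q : ℕ) (ε : ℤˣ) (g : Lat 6 ≃+ Lat 6) (A B : Lat 6 →+ ZMod 5)
    (C0 : Cmb tE6 p q 5 (sg 6 ε) g A B) : ((q : ZMod 5) = 1 ∨ (q : ZMod 5) = -1) ∧ Th6 ε g (A + B) := by
  obtain ⟨w, h⟩ := typesE6 C0.prime C0.five C0.x0 C0.k1x (cm_of C0).exists_neg
  have C := (cm_of C0).act w
  have hz := cg_gw (hp := tE6) zE6_dvd (cg_E6 C0) w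
  have j3 : toF 6 [0, 0, 0, 1, 0, 0] = sr 3 := toF_uv (l := 6) 3
  rcases h with h | ⟨h, μ, hμ, h1⟩ | ⟨h, h1⟩
  · obtain ⟨u, -, lam, hlam, -⟩ := tabE6.surv pE6_000100 kE6_000100_5 md5 C h.cw_add ((h.ex1 j3).is j3)
      (k3E6 hc C h.cw_add)
    exact absurd hlam List.not_mem_nil
  · simp only [List.mem_cons, List.not_mem_nil, or_false] at hμ
    rcases hμ with rfl | rfl | rfl
    · exact ⟨tabE6.clsG R05 (by decide +kernel) C.prime C.five (h.ex2 k05) h1 _ C.root C.frX, th6_of (w := w)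
        (th6_mk R05 (u := 1) (v := -1) (by decide +kernel) (Or.inl rfl) C.prime C.five (h.ex2 k05) h1 C.root C.frX hz)⟩
    · exact ⟨tabE6.clsG R05 (by decide +kernel) C.prime C.five (h.ex2 k05) h1 _ C.root C.frX, th6_of (w := w)
        (th6_mk R05 (u := 0) (v := 1) (by decide +kernel) (Or.inr rfl) C.prime C.five (h.ex2 k05) h1 C.root C.frX hz)⟩
    · exact ⟨tabE6.clsG R05 (by decide +kernel) C.prime C.five (h.ex2 k05) h1 _ C.root C.frX, th6_of (w := w)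
        (th6_mk R05 (u := 1) (v := 0) (by decide +kernel) (Or.inl rfl) C.prime C.five (h.ex2 k05) h1 C.root C.frX hz)⟩
  · exact ⟨tabE6.clsG R24 (by decide +kernel) C.prime C.five (h.ex2 k24) h1 _ C.root C.frX, th6_of (w := w)
      (th6_mk R24 (u := 1) (v := -1) (by decide +kernel) (Or.inl rfl) C.prime C.five (h.ex2 k24) h1 C.root C.frX hz)⟩

end Cfsg.Agent.Cam.Ex.Cb
end
end
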